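import Mathlib
import Cfsg.Prelude.Def_FusionSystem
import Cfsg.Agent.H28.FusSimple

/-!
Criteria for simplicity of the fusion system of a group: self-normalizing Sylow subgroup and no
proper nontrivial strongly closed subgroup.
-/

set_option autoImplicit false
open Cfsg Cfsg.FusionSystem

namespace Cfsg.Agent.H28

variable {G : Type*} [Group G] {p : ℕ}

/-- The fusion system of `G` on a self-normalizing Sylow `p`-subgroup without proper nontrivial strongly
closed subgroups is simple. -/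
theorem group_simple_of [Finite G] [Fact p.Prime] (S : Sylow p G) (hne : (S : Subgroup G) ≠ ⊥)
    (hN : ∀ n : G, (∀ s ∈ (S : Subgroup G), n * s * n⁻¹ ∈ (S : Subgroup G)) → n ∈ (S : Subgroup G))
    (hT : ∀ T : Subgroup G, T ≤ S → T ≠ ⊥ →
      (∀ t ∈ T, ∀ g : G, g * t * g⁻¹ ∈ (S : Subgroup G) → g * t * g⁻¹ ∈ T) →
      (S : Subgroup G) ≤ T) :
    (groupFusionSystem (S : Subgroup G)).IsSimple p := by
  refine ⟨group_saturated S, hne, fun T E hE => ?_⟩
  have hsc : (groupFusionSystem (S : Subgroup G)).StronglyClosed T := hE.1.2.2.2.1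
  by_cases hT0 : T = ⊥
  · exact Or.inl hT0
  right
  have hST : (S : Subgroup G) ≤ T := by
    refine hT T hsc.1 hT0 fun t ht g hg => ?_
    have hm : Mor (groupFusionSystem (S : Subgroup G)) (Subgroup.zpowers t)
        (fun x => g * x * g⁻¹) := by
      refine mor_group_conj (by rw [Subgroup.zpowers_le]; exact hsc.1 ht) fun x hx => ?_
      obtain ⟨k, rfl⟩ := Subgroup.mem_zpowers_iff.1 hx
      rw [← conj_zpow]
      exact zpow_mem hg k
    exact sc_apply (f := fun x => g * x * g⁻¹) hsc hm (Subgroup.mem_zpowers t) ht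
  obtain rfl : T = (S : Subgroup G) := le_antisymm hsc.1 hST
  have hinv : E.IsInvariantIn (groupFusionSystem (S : Subgroup G)) := hE.1.2.2
  suffices h : (groupFusionSystem (S : Subgroup G)).autGroup (S : Subgroup G) ≤
      E.autGroup (S : Subgroup G) by
    have := inv_eq_of_top hinv h
    exact ⟨rfl, fun P => by rw [this]⟩
  rw [autGroup_group le_rfl]
  intro α hα
  obtain ⟨g, -, hg⟩ := mem_autInducedBy'.1 hα
  have hgS : g ∈ (S : Subgroup G) := hN g fun s hs => by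
    rw [← hg s hs]; exact autFun_mem α hs
  exact autInducedBy_le (F := E) le_rfl le_rfl (mem_autInducedBy'.2 ⟨g, hgS, hg⟩)

/-- The version for a subgroup `G` of an ambient group with an explicit Sylow subgroup `S₀`. -/
theorem group_simple_of_subgroup {Γ : Type*} [Group Γ] [Fact p.Prime] (G S₀ : Subgroup Γ)
    [Finite G] (hle : S₀ ≤ G) (hp : IsPGroup p S₀) (hidx : ¬ p ∣ S₀.relIndex G) (hne : S₀ ≠ ⊥)
    (hN : ∀ n ∈ G, (∀ s ∈ S₀, n * s * n⁻¹ ∈ S₀) → n ∈ S₀)
    (hT : ∀ T : Subgroup Γ, T ≤ S₀ → T ≠ ⊥ →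
      (∀ t ∈ T, ∀ g ∈ G, g * t * g⁻¹ ∈ S₀ → g * t * g⁻¹ ∈ T) → S₀ ≤ T) (S : Sylow p G) :
    (groupFusionSystem (S : Subgroup G)).IsSimple p := by
  have hP : IsPGroup p (S₀.subgroupOf G) :=
    hp.comap_of_injective G.subtype (Subgroup.subtype_injective _)
  let P : Sylow p G := hP.toSylow hidx
  have hPc : (P : Subgroup G) = S₀.subgroupOf G := rfl
  have hmP : ∀ x : G, x ∈ (P : Subgroup G) ↔ (x : Γ) ∈ S₀ := fun x => by
    rw [hPc, Subgroup.mem_subgroupOf]
  obtain ⟨g, hg⟩ := MulAction.exists_smul_eq G P S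
  have hmS : ∀ x : G, x ∈ (S : Subgroup G) ↔ g⁻¹ * x * g ∈ (P : Subgroup G) := fun x => by
    rw [← hg, Sylow.coe_subgroup_smul, Subgroup.mem_pointwise_smul_iff_inv_smul_mem]
    simp [MulAut.smul_def, MulAut.conj_inv_apply, MulAut.conj_symm_apply]
  have hmS' : ∀ x : G, g * x * g⁻¹ ∈ (S : Subgroup G) ↔ (x : Γ) ∈ S₀ := fun x => by
    rw [hmS, ← hmP]
    have : g⁻¹ * (g * x * g⁻¹) * g = x := by group
    rw [this]
  have hSx : ∀ x : G, x ∈ (S : Subgroup G) ↔ ((g⁻¹ * x * g : G) : Γ) ∈ S₀ := fun x => by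
    rw [hmS, hmP]
  apply group_simple_of S
  · intro h
    apply hne
    rw [eq_bot_iff]
    intro x hx
    have h1 : g * (⟨x, hle hx⟩ : G) * g⁻¹ ∈ (S : Subgroup G) := (hmS' _).2 hx
    rw [h, Subgroup.mem_bot] at h1
    have h2 : (⟨x, hle hx⟩ : G) = 1 := by
      have : (⟨x, hle hx⟩ : G) = g⁻¹ * (g * (⟨x, hle hx⟩ : G) * g⁻¹) * g := by group
      rw [this, h1]; group
    rw [Subgroup.mem_bot]
    exact congrArg Subtype.val h2
  · intro n hn
    rw [hSx]
    apply hN _ (g⁻¹ * n * g : G).2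
    intro s hs
    have h1 : g * (⟨s, hle hs⟩ : G) * g⁻¹ ∈ (S : Subgroup G) := (hmS' _).2 hs
    have h2 := (hSx _).1 (hn _ h1)
    have h3 : g⁻¹ * (n * (g * (⟨s, hle hs⟩ : G) * g⁻¹) * n⁻¹) * g =
        (g⁻¹ * n * g) * (⟨s, hle hs⟩ : G) * (g⁻¹ * n * g)⁻¹ := by group
    rw [h3] at h2
    exact h2
  · intro T hTS hT0 hTsc
    let T' : Subgroup Γ := (T.comap (MulAut.conj g).toMonoidHom).map G.subtype
    have hmT' : ∀ x : G, (x : Γ) ∈ T' ↔ g * x * g⁻¹ ∈ T := fun x => by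
      constructor
      · rintro ⟨y, hy, hxy⟩
        have : y = x := Subtype.ext hxy
        subst this
        exact hy
      · intro h; exact ⟨x, h, rfl⟩
    have hT'G : T' ≤ G := by
      rintro _ ⟨y, -, rfl⟩; exact y.2
    have hT'S : T' ≤ S₀ := by
      intro x hx
      have h1 := (hmT' ⟨x, hT'G hx⟩).1 hx
      exact (hmS' ⟨x, hT'G hx⟩).1 (hTS h1)
    have key : S₀ ≤ T' := by
      apply hT T' hT'S
      · intro h
        apply hT0
        rw [eq_bot_iff]
        intro x hx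
        have h1 : ((g⁻¹ * x * g : G) : Γ) ∈ T' := (hmT' _).2 (by
          have : g * (g⁻¹ * x * g) * g⁻¹ = x := by group
          rwa [this])
        rw [h, Subgroup.mem_bot] at h1
        have h2 : g⁻¹ * x * g = 1 := Subtype.ext h1
        have h3 : x = g * (g⁻¹ * x * g) * g⁻¹ := by group
        rw [Subgroup.mem_bot, h3, h2]; group
      · intro t ht k hk hkt
        have htG := hT'G ht
        have h1 := (hmT' ⟨t, htG⟩).1 ht
        have h2 : ((⟨k, hk⟩ * ⟨t, htG⟩ * ⟨k, hk⟩⁻¹ : G) : Γ) ∈ S₀ := hkt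
        have h3 := (hmS' _).2 h2
        have h4 : g * ((⟨k, hk⟩ : G) * ⟨t, htG⟩ * (⟨k, hk⟩ : G)⁻¹) * g⁻¹ =
          (g * ⟨k, hk⟩ * g⁻¹) * (g * ⟨t, htG⟩ * g⁻¹) * (g * ⟨k, hk⟩ * g⁻¹)⁻¹ := by group
        rw [h4] at h3
        have h5 := hTsc _ h1 _ h3
        rw [← h4] at h5
        exact (hmT' _).2 h5
    intro x hx
    have h1 := key ((hSx x).1 hx)
    have h2 := (hmT' _).1 h1
    have : g * (g⁻¹ * x * g) * g⁻¹ = x := by group
    rwa [this] at h2

end Cfsg.Agent.H28
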