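import Mathlib
import Cfsg.Prelude.Def_FusionSystem
import Cfsg.Prelude.Def_FusionReduction
import Cfsg.Agent.H28.Mach8
import Cfsg.Agent.H28.PIdx1

/-!
A general reduction machine for statements of the form `F ≤ E`.
-/

set_option autoImplicit false
open Cfsg Cfsg.FusionSystem

namespace Cfsg.Agent.H28

universe u v w

section
variable {Ω : Type u} [Group Ω] {S T : Subgroup Ω} {F E D : FusionSystem S} {P Q R V U X : Subgroup Ω}
  {f g k χ : Ω → Ω} {x y s t : Ω} {p : ℕ}

/-- Restriction of a fusion system to a subgroup. -/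
def restrT (E : FusionSystem S) (T : Subgroup Ω) (hTS : T ≤ S) : FusionSystem T :=
  restrSys E T hTS (fun _ _ => True) ⟨fun _ _ _ _ _ _ => trivial, fun _ _ _ _ => trivial,
    fun _ _ _ _ _ _ _ _ _ _ _ => trivial, fun _ _ _ _ _ _ _ _ _ _ => trivial⟩

theorem mor_restrT {hTS : T ≤ S} : Mor (restrT E T hTS) P f ↔ P ≤ T ∧ (∀ x ∈ P, f x ∈ T) ∧ Mor E P f := by
  unfold restrT
  rw [mor_restrSys]
  exact ⟨fun h => ⟨h.1, h.2.1, h.2.2.1⟩, fun h => ⟨h.1, h.2.1, h.2.2, trivial⟩⟩

/-- The maps of `N_F(U)` that extend to `V` and normalize it. -/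
def NNMor (D : FusionSystem T) (V X : Subgroup Ω) (f : Ω → Ω) : Prop :=
  Mor D X f ∧ ∃ g, Mor D (X ⊔ V) g ∧ (∀ x ∈ X, g x = f x) ∧ img V g = V

/-- Local control. -/
theorem le_of_local2 [Fact p.Prime] [Finite S] (hS : IsPGroup p S) (hF : F.IsSaturated p)
    (hSne : S ≠ ⊥)
    (h1 : ∀ V (hV : V ≤ S) (hn : S ≤ Subgroup.normalizer (V : Set Ω)), V ≠ ⊥ → normS F V hV hn ≤ E)
    (h2 : ∀ U (hU : F.IsFullyNormalized U), U ≠ ⊥ → normalizerIn S U < S →
      ∃ V ≤ normalizerIn S U, V ≠ ⊥ ∧ (V.subgroupOf (normalizerIn S U)).Characteristic ∧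
        ((∀ X f, NNMor (normSys F U hU.1) V X f → Mor E X f) →
          ∀ X f, Mor (normSys F U hU.1) X f → Mor E X f)) : F ≤ E := by
  refine alperin_ind hS hF fun P₀ hP₀ hE => ?_
  obtain ⟨hP₀n, hP₀c⟩ := fn_of_essential_or_top hP₀
  have hP₀S := hP₀n.1
  have hP₀ne : P₀ ≠ ⊥ := by
    rintro rfl
    apply hSne
    rw [eq_bot_iff]
    intro s hs
    apply centric_centralizer hP₀c
    refine mem_centralizerIn.2 ⟨hs, fun y hy => ?_⟩
    rw [Subgroup.mem_bot] at hy
    rw [hy]; simp
  have claim : ∀ (n : ℕ) (U : Subgroup Ω) (hU : F.IsFullyNormalized U), U ≠ ⊥ →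
      (normalizerIn S U = S ∨ Nat.card P₀ ≤ Nat.card (normalizerIn S U)) →
      Nat.card S - Nat.card (normalizerIn S U) ≤ n →
      ∀ X f, Mor (normSys F U hU.1) X f → Mor E X f := by
    intro n
    induction n with
    | zero =>
      intro U hU hne _ hn X f hf
      have h3 : normalizerIn S U = S := eq_of_le_of_card normalizerIn_le (by omega)
      have h4 : S ≤ Subgroup.normalizer (U : Set Ω) := fun s hs => by
        rw [← h3] at hs; exact hs.2
      obtain ⟨hX, hfX, g, hg⟩ := mor_normSys.1 hf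
      exact le_iff_mor.1 (h1 U hU.1 h4 hne) X f
        (mor_normS.2 ⟨hX.trans normalizerIn_le, g, hg⟩)
    | succ n ih =>
      intro U hU hne hcard hn
      rcases eq_or_lt_of_le (normalizerIn_le (S := S) (P := U)) with h3 | hlt
      · intro X f hf
        have h4 : S ≤ Subgroup.normalizer (U : Set Ω) := fun s hs => by
          rw [← h3] at hs; exact hs.2
        obtain ⟨hX, hfX, g, hg⟩ := mor_normSys.1 hf
        exact le_iff_mor.1 (h1 U hU.1 h4 hne) X f
          (mor_normS.2 ⟨hX.trans normalizerIn_le, g, hg⟩)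
      have hcard' : Nat.card P₀ ≤ Nat.card (normalizerIn S U) := by
        rcases hcard with h | h
        · exact absurd h hlt.ne
        · exact h
      obtain ⟨V, hV, hVne, hch, hfin⟩ := h2 U hU hne hlt
      refine hfin ?_
      rintro X f ⟨hf, f', hf', h5, h6⟩
      have hVS : V ≤ S := hV.trans normalizerIn_le
      have hTV : normalizerIn S U ≤ Subgroup.normalizer (V : Set Ω) := char_le_normalizerIn hV hch
      have hTV' : normalizerIn S U ≤ normalizerIn S V := fun s hs => ⟨normalizerIn_le hs, hTV hs⟩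
      obtain ⟨V', hVV', hV'n⟩ := exists_fullyNormalized (F := F) hVS
      obtain ⟨χ, hχ, hχV⟩ := FN.exists_map hS hF hV'n hVV'
      have hlt' : normalizerIn S U < normalizerIn S (normalizerIn S U) := lt_normalizerIn hS hlt
      have hle' : normalizerIn S (normalizerIn S U) ≤ normalizerIn S V := by
        rintro s ⟨hs, hs'⟩
        exact ⟨hs, char_normal hV hch hs'⟩
      haveI : Finite (normalizerIn S (normalizerIn S U)) := finite_of_le normalizerIn_le
      haveI : Finite (normalizerIn S V) := finite_of_le normalizerIn_le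
      haveI : Finite (normalizerIn S V') := finite_of_le normalizerIn_le
      have hc1 := card_lt_of_lt' hlt'
      have hc2 := card_le_of_le hle'
      have hc3 : Nat.card (normalizerIn S V) ≤ Nat.card (normalizerIn S V') := by
        haveI : Finite (normalizerIn S (img V χ)) := finite_of_le normalizerIn_le
        have h5 := card_le_of_le (img_normalizerIn_le hχ hVS)
        rwa [hχ.card_img, hχV] at h5
      have hc4 := card_le_of_le (normalizerIn_le (S := S) (P := V'))
      have hI := ih V' hV'n (ne_bot_of_isConj hVV' hVne) (Or.inr (by omega)) (by omega)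
      obtain ⟨hXV, hfX, -⟩ := mor_normSys.1 hf'
      have hf'F := mor_norm_sub hf'
      obtain ⟨m, hm, hm1, hm2, hm3, hm4⟩ := norm_transport hVS hχ hχV le_sup_right
        (hXV.trans hTV') hf'F h6 (fun x hx => hTV' (hfX x hx))
      have hmE : Mor E (img (X ⊔ V) χ) m := by
        refine hI _ _ (mor_normSys.2 ⟨hm2, fun y hy => ?_, m, ?_, fun _ _ => rfl, hm3⟩)
        · obtain ⟨x, hx, rfl⟩ := (hχ.mono (hXV.trans hTV')).mem_img.1 hy
          rw [hm4 x hx]
          have := img_normalizerIn_le hχ hVS (mem_img_of_mem (hTV' (hfX x hx)))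
          rwa [hχV] at this
        · rw [sup_eq_left.2 hm1]; exact hm
      have hχE : Mor E (normalizerIn S V) χ := hE _ _ (by omega) hχ
      obtain ⟨i, hi, hi1, -, -⟩ := hχE.inverse
      have hcomp : Mor E (X ⊔ V) (fun x => i (m (χ x))) :=
        ((hχE.mono (hXV.trans hTV')).comp hmE fun x hx => mem_img_of_mem hx).comp hi fun x hx => by
          rw [hm4 x hx]; exact mem_img_of_mem (hTV' (hfX x hx))
      refine (hcomp.mono le_sup_left).congr fun x hx => ?_
      have hx' : x ∈ X ⊔ V := le_sup_left (b := V) hx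
      rw [hm4 x hx', hi1 _ (hTV' (hfX x hx')), h5 x hx]
  intro α hα
  have hα' := mor_autFun hP₀S hα
  have hN : Mor (normSys F P₀ hP₀n.1) P₀ (autFun α) := by
    refine mor_normSys.2 ⟨le_normalizerIn hP₀S, fun x hx => le_normalizerIn hP₀S (autFun_mem α hx),
      autFun α, by rw [sup_idem]; exact hα', fun _ _ => rfl, img_autFun α⟩
  have h3 := claim _ P₀ hP₀n hP₀ne (by
    haveI : Finite (normalizerIn S P₀) := finite_of_le normalizerIn_le
    exact Or.inr (card_le_of_le (le_normalizerIn hP₀S))) le_rfl P₀ (autFun α) hN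
  exact (mor_autFun_iff hP₀S).1 h3

/-- `Q C_S(Q)` is normalized by `S`. -/
theorem normalizer_sup_centralizerIn [Finite S] (hQS : Q ≤ S) (hN : S ≤ Subgroup.normalizer (Q : Set Ω)) :
    S ≤ Subgroup.normalizer ((Q ⊔ centralizerIn S Q : Subgroup Ω) : Set Ω) := by
  have hRS : Q ⊔ centralizerIn S Q ≤ S := sup_le hQS centralizerIn_le
  intro s hs
  haveI : Finite (Q ⊔ centralizerIn S Q : Subgroup Ω) := finite_of_le hRS
  apply mem_normalizer_of_finite
  have h3 : (Q ⊔ centralizerIn S Q) ≤
      (Q ⊔ centralizerIn S Q).comap (MulAut.conj s).toMonoidHom := by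
    refine sup_le (fun t ht => ?_) (fun c hc => ?_)
    · exact Subgroup.mem_comap.2 (le_sup_left (b := centralizerIn S Q)
        ((Subgroup.mem_normalizer_iff.1 (hN hs) t).1 ht))
    · refine Subgroup.mem_comap.2 (le_sup_right (a := Q) ?_)
      show s * c * s⁻¹ ∈ centralizerIn S Q
      obtain ⟨hcS, hc'⟩ := mem_centralizerIn.1 hc
      refine mem_centralizerIn.2 ⟨mul_mem (mul_mem hs hcS) (inv_mem hs), fun y hy => ?_⟩
      have h4 : s⁻¹ * y * s ∈ Q := by
        have := (Subgroup.mem_normalizer_iff.1 (hN (inv_mem hs)) y).1 hy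
        rwa [inv_inv] at this
      have h5 := hc' _ h4
      calc s * c * s⁻¹ * y = s * (c * (s⁻¹ * y * s)) * s⁻¹ := by group
        _ = y * (s * c * s⁻¹) := by rw [h5]; group
  exact fun x hx => h3 hx

/-- The hypotheses of the general machine. -/
structure GM (p : ℕ) (C : ∀ (Ω : Type u) [Group Ω] (S : Subgroup Ω), FusionSystem S → FusionSystem S → Prop) :
    Prop where
  mono : ∀ (Ω : Type u) [Group Ω] (S : Subgroup Ω) [Finite S] (F E D : FusionSystem S), IsPGroup p S →
    F.IsSaturated p → D ≤ F → D.IsSaturated p → C Ω S F E → C Ω S D E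
  loc : ∀ (Ω : Type u) [Group Ω] (S : Subgroup Ω) [Finite S] (F E : FusionSystem S), IsPGroup p S →
    F.IsSaturated p → C Ω S F E → ∀ U (hU : F.IsFullyNormalized U), U ≠ ⊥ → normalizerIn S U < S →
      ∃ V ≤ normalizerIn S U, V ≠ ⊥ ∧ (V.subgroupOf (normalizerIn S U)).Characteristic ∧
        ((∀ X f, NNMor (normSys F U hU.1) V X f → Mor E X f) →
          C Ω (normalizerIn S U) (normSys F U hU.1) (restrT E (normalizerIn S U) normalizerIn_le))
  con : ∀ (Ω : Type u) [Group Ω] (S : Subgroup Ω) [Finite S] (F E : FusionSystem S), IsPGroup p S →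
    F.IsConstrained p → F.core ≠ ⊥ → (∀ (Ω' : Type u) [Group Ω'] (S' : Subgroup Ω') [Finite S'] (F' E' : FusionSystem S'),
      Nat.card S' < Nat.card S → IsPGroup p S' → F'.IsSaturated p → C Ω' S' F' E' → F' ≤ E') →
    (∀ D : FusionSystem S, D ≤ F → D ≠ F → D.IsSaturated p → D ≤ E) → C Ω S F E → F ≤ E
  inn : ∀ (Ω : Type u) [Group Ω] (S : Subgroup Ω) [Finite S] (F E : FusionSystem S), IsPGroup p S →
    F.IsSaturated p → F.core ≠ ⊥ → ¬ centralizerIn S F.core ≤ F.core →
    (∀ g, Mor F F.core g → ∃ s ∈ S, ∀ x ∈ F.core, g x = s * x * s⁻¹) →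
    (∀ (Ω' : Type u) [Group Ω'] (S' : Subgroup Ω') [Finite S'] (F' E' : FusionSystem S'),
      Nat.card S' < Nat.card S → IsPGroup p S' → F'.IsSaturated p → C Ω' S' F' E' → F' ≤ E') →
    (∀ D : FusionSystem S, D ≤ F → D ≠ F → D.IsSaturated p → D ≤ E) → C Ω S F E → F ≤ E

/-- The general machine. -/
theorem gmach {p : ℕ} [Fact p.Prime]
    {C : ∀ (Ω : Type u) [Group Ω] (S : Subgroup Ω), FusionSystem S → FusionSystem S → Prop}
    (hM : GM p C) : ∀ (n : ℕ) (Ω : Type u) [Group Ω] (S : Subgroup Ω) [Finite S]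
      (F E : FusionSystem S), Nat.card S ≤ n → IsPGroup p S → F.IsSaturated p → C Ω S F E → F ≤ E := by
  intro n
  induction n with
  | zero =>
    intro Ω _ S _ F E hn
    exact absurd (Nat.card_pos (α := S)) (by omega)
  | succ n ih =>
    intro Ω _ S _
    suffices h : ∀ (m : ℕ) (F E : FusionSystem S), fsCard F ≤ m → Nat.card S ≤ n + 1 → IsPGroup p S →
        F.IsSaturated p → C Ω S F E → F ≤ E from
      fun F E h1 h2 h3 h4 => h _ F E le_rfl h1 h2 h3 h4
    intro m
    induction m using Nat.strong_induction_on with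
    | _ m ihm =>
    intro F E hm hn hS hF hC
    have IH1 : ∀ (Ω' : Type u) [Group Ω'] (S' : Subgroup Ω') [Finite S'] (F' E' : FusionSystem S'),
        Nat.card S' < Nat.card S → IsPGroup p S' → F'.IsSaturated p → C Ω' S' F' E' → F' ≤ E' := by
      intro Ω' _ S' _ F' E' hlt hS' hF' hC'
      exact ih Ω' S' F' E' (by omega) hS' hF' hC'
    have IH2 : ∀ D : FusionSystem S, D ≤ F → D ≠ F → D.IsSaturated p → D ≤ E := by
      intro D hD hDF hDs
      have h1 := fsCard_lt hD hDF
      exact ihm _ (lt_of_lt_of_le h1 hm) D E le_rfl hn hS hDs (hM.mono Ω S F E D hS hF hD hDs hC)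
    have hnot : ∀ V (hV : V ≤ S) (hSV : S ≤ Subgroup.normalizer (V : Set Ω)), ¬ F.IsNormal V →
        normS F V hV hSV ≤ E := fun V hV hSV hVn =>
      IH2 _ normS_le (fun h => hVn (normS_eq_iff.1 h)) (normS_saturated hS hF)
    by_cases hSne : S = ⊥
    · subst hSne
      rw [le_iff_mor]
      intro P f hf
      have hP : P = ⊥ := le_bot_iff.1 hf.le
      refine (mor_id hf.le).congr fun x hx => ?_
      rw [hP, Subgroup.mem_bot] at hx
      rw [hx, hf.one]; rfl
    by_cases hcore : F.core = ⊥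
    · refine le_of_local2 hS hF hSne (fun V hV hSV hVne => hnot V hV hSV fun hVn => hVne ?_)
        (fun U hU hUne hlt => ?_)
      · rw [eq_bot_iff, ← hcore]; exact le_core hVn
      · obtain ⟨V, hV, hVne, hch, hfin⟩ := hM.loc Ω S F E hS hF hC U hU hUne hlt
        refine ⟨V, hV, hVne, hch, fun hN X f hf => ?_⟩
        haveI : Finite (normalizerIn S U) := finite_of_le normalizerIn_le
        have hcard := card_lt_of_lt' hlt
        have hTp := isPGroup_of_le hS (normalizerIn_le (S := S) (P := U))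
        have h1 := IH1 Ω (normalizerIn S U) _ _ hcard hTp (normSys_saturated hS hF hU) (hfin hN)
        exact (mor_restrT.1 (le_iff_mor.1 h1 X f hf)).2.2
    have hQ : F.IsNormal F.core := core_normal
    by_cases hcen : centralizerIn S F.core ≤ F.core
    · refine hM.con Ω S F E hS ⟨hF, F.core, hQ, ?_⟩ hcore IH1 IH2 hC
      exact centric_of_fullyCentralized
        (FN.fc hS hF (fullyNormalized_of_normal hQ.1 (normal_normalizer hQ))) hcen
    have hQS := hQ.1
    have hN := normal_normalizer hQ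
    have hRS : F.core ⊔ centralizerIn S F.core ≤ S := sup_le hQS centralizerIn_le
    have hRn := normalizer_sup_centralizerIn hQS hN
    have hnotn : ¬ F.IsNormal (F.core ⊔ centralizerIn S F.core) := fun h =>
      hcen (le_sup_right.trans (le_core h))
    have hR := hnot _ hRS hRn hnotn
    by_cases hsceq : scSys F F.core hQS hN = F
    · refine hM.inn Ω S F E hS hF hcore hcen ?_ IH1 IH2 hC
      intro g hg
      have hg' : Mor (scSys F F.core hQS hN) F.core g := by rw [hsceq]; exact hg
      obtain ⟨-, g', -, h1, s, hs, h2⟩ := mor_scSys'.1 hg'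
      exact ⟨s, hs, fun x hx => by rw [← h1 x hx, h2 x hx]⟩
    · have h1 := IH2 _ scSys_le hsceq (scSys_saturated hS hF)
      rw [le_iff_mor]
      intro P f hf
      obtain ⟨τ, c, hτ, h3, h4, hc, h5, h6⟩ := factorization hS hF hQ hf
      have h7 : Mor E P τ := by
        apply le_iff_mor.1 hR
        refine mor_normS.2 ⟨hf.le, τ, hτ, fun _ _ => rfl, h4⟩
      have h8 : F.core ≤ img (P ⊔ F.core) τ := by
        conv_lhs => rw [← h3]
        exact img_mono le_sup_right
      have h9 : Mor E (img (P ⊔ F.core) τ) c := by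
        apply le_iff_mor.1 h1
        refine mor_scSys'.2 ⟨hc.le, c, by rw [sup_eq_left.2 h8]; exact hc, fun _ _ => rfl, 1,
          S.one_mem, fun x hx => by rw [h5 x hx]; simp⟩
      exact (h7.comp h9 fun x hx => mem_img_of_mem (le_sup_left (b := F.core) hx)).congr
        fun x hx => (h6 x hx).symm

end
end Cfsg.Agent.H28
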