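import Mathlib
import Cfsg.Prelude.Def_FusionSystem
import Cfsg.Prelude.Def_FusionReduction
import Cfsg.Agent.H28.GMach1

/-!
The reduction machine for invariant relations.
-/

set_option autoImplicit false
open Cfsg Cfsg.FusionSystem

namespace Cfsg.Agent.H28

universe u v w

section
variable {Ω : Type u} [Group Ω] {S T : Subgroup Ω} {F E D : FusionSystem S} {P Q R V U X : Subgroup Ω}
  {f g k χ : Ω → Ω} {x y s t : Ω} {p : ℕ} {ρ : Ω → Ω → Prop}

/-- An equivalence relation on `S` compatible with conjugation. -/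
structure RelOK (S : Subgroup Ω) (ρ : Ω → Ω → Prop) : Prop where
  trans : ∀ x ∈ S, ∀ y ∈ S, ∀ z ∈ S, ρ x y → ρ y z → ρ x z
  symm : ∀ x ∈ S, ∀ y ∈ S, ρ x y → ρ y x
  conj : ∀ s ∈ S, ∀ x ∈ S, ρ x (s * x * s⁻¹)

theorem RelOK.refl (h : RelOK S ρ) (hx : x ∈ S) : ρ x x := by
  have := h.conj 1 S.one_mem x hx
  rwa [one_mul, inv_one, mul_one] at this

theorem RelOK.mono (h : RelOK S ρ) (hT : T ≤ S) : RelOK T ρ :=
  ⟨fun x hx y hy z hz => h.trans x (hT hx) y (hT hy) z (hT hz),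
    fun x hx y hy => h.symm x (hT hx) y (hT hy), fun s hs x hx => h.conj s (hT hs) x (hT hx)⟩

/-- All maps of `F` preserve `ρ`. -/
def RSat (F : FusionSystem S) (ρ : Ω → Ω → Prop) : Prop := ∀ P f, Mor F P f → ∀ x ∈ P, ρ x (f x)

/-- All maps of `N_F(V)` preserve `ρ`. -/
def NSat (F : FusionSystem S) (V : Subgroup Ω) (ρ : Ω → Ω → Prop) : Prop :=
  ∀ X f, NNMor F V X f → ∀ x ∈ X, ρ x (f x)

theorem RelOK.prop (h : RelOK S ρ) : MapProp F (fun P f => ∀ x ∈ P, ρ x (f x)) where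
  congr := by
    intro P f g _ hfg hf x hx
    rw [← hfg x hx]; exact hf x hx
  conj := by
    intro P s hP hs x hx
    exact h.conj s hs x (hP hx)
  comp := by
    intro P Q f g hf hg hm h1 h2 x hx
    exact h.trans x (hf.le hx) _ (hf.mem hx) _ (hg.mem (hm x hx)) (h1 x hx) (h2 _ (hm x hx))
  inv := by
    intro P f i hf hi h1 h2 h3 y hy
    obtain ⟨x, hx, rfl⟩ := hf.mem_img.1 hy
    rw [h1 x hx]
    exact h.symm _ (hf.le hx) _ (hf.mem hx) (h3 x hx)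

theorem NNMor.mono_sys {V : Subgroup Ω} (hD : D ≤ F) (h : NNMor D V X f) : NNMor F V X f := by
  obtain ⟨h1, g, h2, h3, h4⟩ := h
  exact ⟨le_iff_mor.1 hD _ _ h1, g, le_iff_mor.1 hD _ _ h2, h3, h4⟩

/-- The data of a control theorem for relations. -/
structure RelCls (p : ℕ) (W : ∀ (Ω : Type u) [Group Ω], Subgroup Ω → Subgroup Ω)
    (𝓡 : ∀ (Ω : Type u) [Group Ω] (_ : Subgroup Ω), (Ω → Ω → Prop) → Prop) : Prop where
  W1 : ∀ (Ω : Type u) [Group Ω] (S : Subgroup Ω) [Finite S], IsPGroup p S → S ≠ ⊥ → W Ω S ≠ ⊥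
  W2 : ∀ (Ω : Type u) [Group Ω] (S : Subgroup Ω), W Ω S ≤ S
  W3 : ∀ (Ω : Type u) [Group Ω] (S : Subgroup Ω) [Finite S], IsPGroup p S →
    ((W Ω S).subgroupOf S).Characteristic
  ok : ∀ (Ω : Type u) [Group Ω] (S : Subgroup Ω) ρ, 𝓡 Ω S ρ → RelOK S ρ
  sub : ∀ (Ω : Type u) [Group Ω] (S : Subgroup Ω) ρ, 𝓡 Ω S ρ → ∀ U ≤ S, 𝓡 Ω (normalizerIn S U) ρ
  con : ∀ (Ω : Type u) [Group Ω] (S : Subgroup Ω) [Finite S] (F : FusionSystem S) ρ, IsPGroup p S →
    F.IsConstrained p → F.core ≠ ⊥ → 𝓡 Ω S ρ → NSat F (W Ω S) ρ →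
    (∀ (Ω' : Type u) [Group Ω'] (S' : Subgroup Ω') [Finite S'] (F' : FusionSystem S') ρ',
      Nat.card S' < Nat.card S → IsPGroup p S' → F'.IsSaturated p → 𝓡 Ω' S' ρ' →
        NSat F' (W Ω' S') ρ' → RSat F' ρ') →
    (∀ D : FusionSystem S, D ≤ F → D ≠ F → D.IsSaturated p → RSat D ρ) → RSat F ρ
  inn : ∀ (Ω : Type u) [Group Ω] (S : Subgroup Ω) [Finite S] (F : FusionSystem S) ρ, IsPGroup p S →
    F.IsSaturated p → F.core ≠ ⊥ → ¬ centralizerIn S F.core ≤ F.core →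
    (∀ g, Mor F F.core g → ∃ s ∈ S, ∀ x ∈ F.core, g x = s * x * s⁻¹) →
    𝓡 Ω S ρ → NSat F (W Ω S) ρ →
    (∀ (Ω' : Type u) [Group Ω'] (S' : Subgroup Ω') [Finite S'] (F' : FusionSystem S') ρ',
      Nat.card S' < Nat.card S → IsPGroup p S' → F'.IsSaturated p → 𝓡 Ω' S' ρ' →
        NSat F' (W Ω' S') ρ' → RSat F' ρ') →
    (∀ D : FusionSystem S, D ≤ F → D ≠ F → D.IsSaturated p → RSat D ρ) → RSat F ρ

/-- The condition used in the machine. -/
def RCond (W : ∀ (Ω : Type u) [Group Ω], Subgroup Ω → Subgroup Ω)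
    (𝓡 : ∀ (Ω : Type u) [Group Ω] (_ : Subgroup Ω), (Ω → Ω → Prop) → Prop)
    (Ω : Type u) [Group Ω] (S : Subgroup Ω) (F E : FusionSystem S) : Prop :=
  ∃ ρ, 𝓡 Ω S ρ ∧ (∀ P f, Mor F P f → (Mor E P f ↔ ∀ x ∈ P, ρ x (f x))) ∧ NSat F (W Ω S) ρ

theorem RelCls.rsat {W : ∀ (Ω : Type u) [Group Ω], Subgroup Ω → Subgroup Ω}
    {𝓡 : ∀ (Ω : Type u) [Group Ω] (_ : Subgroup Ω), (Ω → Ω → Prop) → Prop}
    (hM : RelCls p W 𝓡) {F' : FusionSystem S} (h : 𝓡 Ω S ρ) (hN : NSat F' (W Ω S) ρ)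
    (hall : ∀ E', RCond W 𝓡 Ω S F' E' → F' ≤ E') : RSat F' ρ := by
  have hok := hM.ok Ω S ρ h
  have h1 := hall (propSys F' _ (hok.prop (F := F'))) ⟨ρ, h, fun P f hf => ⟨fun h => (mor_propSys.1 h).2,
    fun h => mor_propSys.2 ⟨hf, h⟩⟩, hN⟩
  intro P f hf
  exact (mor_propSys.1 (le_iff_mor.1 h1 P f hf)).2

/-- The machine for relations. -/
theorem rel_gm {p : ℕ} [Fact p.Prime] {W : ∀ (Ω : Type u) [Group Ω], Subgroup Ω → Subgroup Ω}
    {𝓡 : ∀ (Ω : Type u) [Group Ω] (_ : Subgroup Ω), (Ω → Ω → Prop) → Prop}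
    (hM : RelCls p W 𝓡) : GM p (RCond W 𝓡) := by
  constructor
  · rintro Ω _ S _ F E D hS hF hD hDs ⟨ρ, h, h1, h2⟩
    exact ⟨ρ, h, fun P f hf => h1 P f (le_iff_mor.1 hD P f hf), fun X f hf => h2 X f (hf.mono_sys hD)⟩
  · rintro Ω _ S _ F E hS hF ⟨ρ, h, h1, h2⟩ U hU hUne hlt
    have hTp := isPGroup_of_le hS (normalizerIn_le (S := S) (P := U))
    haveI : Finite (normalizerIn S U) := finite_of_le normalizerIn_le
    have hTne : normalizerIn S U ≠ ⊥ := by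
      intro h
      apply hUne
      rw [eq_bot_iff, ← h]
      exact le_normalizerIn hU.1
    refine ⟨W Ω (normalizerIn S U), hM.W2 _ _, hM.W1 _ _ hTp hTne, hM.W3 _ _ hTp, fun h3 =>
      ⟨ρ, hM.sub Ω S ρ h U hU.1, fun P f hf => ?_, fun X f hf => ?_⟩⟩
    · have hf' := mor_norm_sub hf
      rw [mor_restrT, ← h1 P f hf']
      exact ⟨fun h => h.2.2, fun h => ⟨hf.le, fun x hx => hf.mem hx, h⟩⟩
    · exact (h1 X f (mor_norm_sub hf.1)).1 (h3 X f hf)
  · rintro Ω _ S _ F E hS hF hcore IH1 IH2 ⟨ρ, h, h1, h2⟩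
    have key : RSat F ρ := by
      refine hM.con Ω S F ρ hS hF hcore h h2 ?_ ?_
      · intro Ω' _ S' _ F' ρ' hc hS' hF' hR' hN'
        exact hM.rsat hR' hN' fun E' hE' => IH1 Ω' S' F' E' hc hS' hF' hE'
      · intro D hD hne hDs P f hf
        exact (h1 P f (le_iff_mor.1 hD P f hf)).1 (le_iff_mor.1 (IH2 D hD hne hDs) P f hf)
    rw [le_iff_mor]
    intro P f hf
    exact (h1 P f hf).2 (key P f hf)
  · rintro Ω _ S _ F E hS hF hcore hcen hin IH1 IH2 ⟨ρ, h, h1, h2⟩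
    have key : RSat F ρ := by
      refine hM.inn Ω S F ρ hS hF hcore hcen hin h h2 ?_ ?_
      · intro Ω' _ S' _ F' ρ' hc hS' hF' hR' hN'
        exact hM.rsat hR' hN' fun E' hE' => IH1 Ω' S' F' E' hc hS' hF' hE'
      · intro D hD hne hDs P f hf
        exact (h1 P f (le_iff_mor.1 hD P f hf)).1 (le_iff_mor.1 (IH2 D hD hne hDs) P f hf)
    rw [le_iff_mor]
    intro P f hf
    exact (h1 P f hf).2 (key P f hf)

theorem rel_machine {p : ℕ} [Fact p.Prime] {W : ∀ (Ω : Type u) [Group Ω], Subgroup Ω → Subgroup Ω}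
    {𝓡 : ∀ (Ω : Type u) [Group Ω] (_ : Subgroup Ω), (Ω → Ω → Prop) → Prop}
    (hM : RelCls p W 𝓡) {Ω : Type u} [Group Ω] {S : Subgroup Ω} [Finite S] {F : FusionSystem S}
    {ρ : Ω → Ω → Prop} (hS : IsPGroup p S) (hF : F.IsSaturated p) (h : 𝓡 Ω S ρ)
    (hN : NSat F (W Ω S) ρ) : RSat F ρ :=
  hM.rsat h hN fun E' hE' => gmach (rel_gm hM) _ Ω S F E' le_rfl hS hF hE'

/-- Existence of factor systems modulo normal subgroups. -/
theorem exists_factor [Fact p.Prime] [Finite S] (hS : IsPGroup p S) (hF : F.IsSaturated p)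
    (hQ : F.IsNormal Q) : ∃ (Ω' : Type u) (_ : Group Ω') (S' : Subgroup Ω') (θ : S →* Ω')
      (E : FusionSystem S'), F.IsFactorSystem Q θ E ∧ E.IsSaturated p ∧ IsPGroup p S' ∧ Finite S' ∧
        Nat.card S = Nat.card Q * Nat.card S' := by
  have hQS := hQ.1
  have hN := normal_normalizer hQ
  have hsc := normal_stronglyClosed hQ
  haveI hQn : (Q.subgroupOf S).Normal := ⟨fun q hq s =>
    (Subgroup.mem_normalizer_iff.1 (hN s.2) (q : Ω)).1 hq⟩
  have hk : ∀ x ∈ S, tf (QuotientGroup.mk' (Q.subgroupOf S)) x = 1 ↔ x ∈ Q := by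
    intro x hx
    rw [tf_apply _ hx]
    exact (QuotientGroup.eq_one_iff _)
  have hE := factorSys_isFactor (F := F) hsc hk
  set θ := QuotientGroup.mk' (Q.subgroupOf S) with hθdef
  set E := factorSys F Q hsc θ hk with hEdef
  have hr := hE.2.2.1
  haveI : Finite θ.range := Finite.of_surjective θ.rangeRestrict θ.rangeRestrict_surjective
  have hS' : IsPGroup p θ.range := hS.of_surjective θ.rangeRestrict θ.rangeRestrict_surjective
  have hE' : E.IsSaturated p := surj_saturated hS hF (factor_surj hS hF hsc hE)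
  have hcard := card_preimageAlong hk hE.1 hE.2.2.1 (le_refl θ.range)
  have hpre : preimageAlong θ θ.range = S := by
    apply le_antisymm preimageAlong_le
    intro x hx
    exact mem_preimageAlong.2 ⟨hx, tf_mem_range hx⟩
  rw [hpre] at hcard
  exact ⟨_, inferInstance, θ.range, θ, E, hE, hE', hS', inferInstance, hcard⟩

/-- The quotient step. -/
theorem quot_step [Fact p.Prime] {W : ∀ (Ω : Type u) [Group Ω], Subgroup Ω → Subgroup Ω}
    {𝓡 : ∀ (Ω : Type u) [Group Ω] (_ : Subgroup Ω), (Ω → Ω → Prop) → Prop}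
    (W1 : ∀ (Ω : Type u) [Group Ω] (S : Subgroup Ω) [Finite S], IsPGroup p S → S ≠ ⊥ → W Ω S ≠ ⊥)
    (W2 : ∀ (Ω : Type u) [Group Ω] (S : Subgroup Ω), W Ω S ≤ S)
    (W3 : ∀ (Ω : Type u) [Group Ω] (S : Subgroup Ω) [Finite S], IsPGroup p S →
      ((W Ω S).subgroupOf S).Characteristic)
    (ok : ∀ (Ω : Type u) [Group Ω] (S : Subgroup Ω) ρ, 𝓡 Ω S ρ → RelOK S ρ)
    [Finite S] (hS : IsPGroup p S) (hF : F.IsSaturated p) (hQ : F.IsNormal Q) (hQne : Q ≠ ⊥)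
    (hmax : ∀ V, F.IsNormal V → V ≤ Q)
    (IH1 : ∀ (Ω' : Type u) [Group Ω'] (S' : Subgroup Ω') [Finite S'] (F' : FusionSystem S') ρ',
      Nat.card S' < Nat.card S → IsPGroup p S' → F'.IsSaturated p → 𝓡 Ω' S' ρ' →
        NSat F' (W Ω' S') ρ' → RSat F' ρ')
    (IH2 : ∀ D : FusionSystem S, D ≤ F → D ≠ F → D.IsSaturated p → RSat D ρ)
    {Ω' : Type u} [Group Ω'] {S' : Subgroup Ω'} [Finite S'] {θ : S →* Ω'} {E : FusionSystem S'}
    (hE : F.IsFactorSystem Q θ E) (hEs : E.IsSaturated p) (hS' : IsPGroup p S')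
    (hcard : Nat.card S = Nat.card Q * Nat.card S') {ρ' : Ω' → Ω' → Prop} (hR' : 𝓡 Ω' S' ρ')
    (hρ : ∀ Y g, Mor F Y g → preimageAlong θ (W Ω' S') ≤ Y → (∀ x ∈ Y, ρ x (g x)) →
      ∀ x ∈ Y, ρ' (tf θ x) (tf θ (g x))) :
    ∀ P f, Mor F P f → ∀ x ∈ P, ρ' (tf θ x) (tf θ (f x)) := by
  have hok := ok _ _ _ hR'
  have hr := hE.2.2.1
  have hsc := normal_stronglyClosed hQ
  have hQS := hQ.1
  haveI : Finite Q := finite_of_le hQS
  suffices key : RSat E ρ' by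
    intro P f hf x hx
    obtain ⟨g, hg, h1, h2⟩ := (isNormal_iff.1 hQ).2 P f hf
    obtain ⟨f', hf', h3⟩ := factor_induced hE hsc hg le_sup_right
    have hx' : x ∈ P ⊔ Q := le_sup_left (b := Q) hx
    have h4 := key _ f' hf' _ (tf_mem_imageAlong hg.le hx')
    rwa [h3 x hx', h1 x hx] at h4
  by_cases hS'ne : S' = ⊥
  · intro P f hf x hx
    have h1 : x = 1 := by
      have := hf.le hx
      rwa [hS'ne, Subgroup.mem_bot] at this
    rw [h1, hf.one]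
    exact hok.refl S'.one_mem
  have h2 : 1 < Nat.card Q := by
    rw [← Nat.card_unique (α := (⊥ : Subgroup Ω))]
    exact card_lt_of_lt' (bot_lt_iff_ne_bot.2 hQne)
  have hS'pos : 0 < Nat.card S' := Nat.card_pos
  have hlt : Nat.card S' < Nat.card S := by
    rw [hcard]; nlinarith
  refine IH1 Ω' S' E ρ' hlt hS' hEs hR' ?_
  rintro X' f' ⟨hf', g', hg', h3, h4⟩ y hy
  have hW'ne := W1 Ω' S' hS' hS'ne
  have hW'S := W2 Ω' S'
  have hRn : S ≤ Subgroup.normalizer ((preimageAlong θ (W Ω' S') : Subgroup Ω) : Set Ω) := by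
    have h5 := normalizer_preimage hE hW'S
    have h6 : normalizerIn S' (W Ω' S') = S' := normalizerIn_eq (char_le_normalizerIn hW'S (W3 _ _ hS'))
    have hpre : preimageAlong θ S' = S := by
      apply le_antisymm preimageAlong_le
      intro x hx
      refine mem_preimageAlong.2 ⟨hx, ?_⟩
      rw [← hr]; exact tf_mem_range hx
    rw [h6, hpre] at h5
    intro s hs
    have : s ∈ normalizerIn S (preimageAlong θ (W Ω' S')) := by rw [h5]; exact hs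
    exact this.2
  have hRnn : ¬ F.IsNormal (preimageAlong θ (W Ω' S')) := by
    intro h
    apply hW'ne
    rw [eq_bot_iff]
    intro z hz
    obtain ⟨x, hx, rfl⟩ := exists_preimage hr hW'S hz
    rw [Subgroup.mem_bot]
    exact (factor_ker hE (preimageAlong_le hx)).2 (hmax _ h hx)
  have h5 := IH2 (normS F _ preimageAlong_le hRn) normS_le (fun h => hRnn (normS_eq_iff.1 h))
    (normS_saturated hS hF)
  obtain ⟨hX'S, g, hg, h6⟩ := (factor_mor_iff hE).1 hg'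
  obtain ⟨x, hx, rfl⟩ := exists_preimage hr (hf'.le : X' ≤ S') hy
  have hsub : preimageAlong θ (W Ω' S') ≤ preimageAlong θ (X' ⊔ W Ω' S') := preimage_mono le_sup_right
  have h7 : img (preimageAlong θ (W Ω' S')) g = preimageAlong θ (W Ω' S') := by
    have h8 := factor_img (f' := g') hE hW'S (hg.mono hsub) (fun x hx => h6 x (hsub hx)) hsc
    rwa [h4] at h8
  have hx' : x ∈ preimageAlong θ (X' ⊔ W Ω' S') := preimage_mono le_sup_left hx
  have h8 := h5 (preimageAlong θ (X' ⊔ W Ω' S')) g (mor_normS.2 ⟨hg.le, g, by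
    rw [sup_eq_left.2 hsub]; exact hg, fun _ _ => rfl, h7⟩)
  have h9 := hρ _ g hg hsub h8 x hx'
  rwa [← h6 x hx', h3 _ hy] at h9

end
end Cfsg.Agent.H28
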