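import Mathlib
import Cfsg.Prelude.Def_FusionSystem
import Cfsg.Prelude.Def_FusionReduction
import Cfsg.Agent.H28.GMach2
import Cfsg.Agent.H28.Trf2

/-!
Control of transfer by characteristic functors.
-/

set_option autoImplicit false
open Cfsg Cfsg.FusionSystem
open scoped commutatorElement

namespace Cfsg.Agent.H28

universe u v w

section
variable {Ω : Type u} [Group Ω] {S T : Subgroup Ω} {F E D : FusionSystem S} {P Q R V U X K : Subgroup Ω}
  {f g k χ : Ω → Ω} {x y s t : Ω} {p : ℕ} {ρ : Ω → Ω → Prop}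

theorem exists_model [Fact p.Prime] [Finite S] (hS : IsPGroup p S) (hF : F.IsSaturated p)
    (hQ : F.IsNormal Q) (hc : F.IsCentric Q) :
    ∃ (G : Type u) (_ : Group G) (ι : S →* G), F.IsModel p G ι := by
  have hn := normal_normalizer hQ
  have hfn : F.IsFullyNormalized Q := fullyNormalized_of_normal hQ.1 hn
  obtain ⟨L, _, ι, hL⟩ := norm_model_exists hS hF hfn hc
  have h2 := castSys_prop (fun (T : Subgroup Ω) (E : FusionSystem T) =>
    ∃ (G : Type u) (_ : Group G) (ι : T →* G), E.IsModel p G ι)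
    (normalizerIn_eq hn) (E := normSys F Q hfn.1) ⟨L, inferInstance, ι, hL⟩
  have h3 : normS F Q hQ.1 hn = F := normS_eq_iff.2 hQ
  unfold normS at h3
  rwa [h3] at h2

/-- The functor on subgroups of an arbitrary group. -/
noncomputable def WF (p : ℕ) (W : ∀ (Q : Type u) [Group Q], Subgroup Q) (Ω : Type u) [Group Ω]
    (S : Subgroup Ω) : Subgroup Ω := H2.WA (WExt p W) S

section
variable {W : ∀ (Q : Type u) [Group Q], Subgroup Q}

theorem WF_eq [Finite S] (hS : IsPGroup p S) : WF p W Ω S = (W ↥S).map S.subtype := by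
  show (WExt p W ↥S).map S.subtype = _
  rw [WExt_eq hS]

theorem WF_le (S : Subgroup Ω) : WF p W Ω S ≤ S := H2.WA_le S

theorem WF_ne_bot (hW1 : ∀ (Q : Type u) [Group Q] [Finite Q], IsPGroup p Q → Nontrivial Q → W Q ≠ ⊥)
    (S : Subgroup Ω) [Finite S] (hS : IsPGroup p S) (hne : S ≠ ⊥) : WF p W Ω S ≠ ⊥ := by
  refine WA_ne_bot' (W := WExt p W) ?_
  rw [WExt_eq hS]
  exact hW1 _ hS ((Subgroup.nontrivial_iff_ne_bot S).2 hne)

theorem WF_char (hW2 : ∀ (Q R : Type u) [Group Q] [Group R] [Finite Q], IsPGroup p Q → ∀ φ : Q ≃* R,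
    (W Q).map φ.toMonoidHom = W R) (S : Subgroup Ω) : ((WF p W Ω S).subgroupOf S).Characteristic :=
  WA_characteristic (W := WExt p W) (fun {Q R : Type u} [Group Q] [Group R] (e : Q ≃* R) =>
    WExt_map hW2 e) S

theorem WF_image (hW2 : ∀ (Q R : Type u) [Group Q] [Group R] [Finite Q], IsPGroup p Q → ∀ φ : Q ≃* R,
    (W Q).map φ.toMonoidHom = W R) {G : Type u} [Group G] {ι : S →* G} (hι : Function.Injective ι) :
    imageAlong ι (WF p W Ω S) = WF p W G ι.range :=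
  imageAlong_WA (W := WExt p W) (fun {Q R : Type u} [Group Q] [Group R] (e : Q ≃* R) =>
    WExt_map hW2 e) hι

end

/-- Conjugation by elements normalizing the image of `V`. -/
theorem nnmor_real [Finite S] {G : Type v} [Group G] {ι : S →* G} (hr : F.IsRealizedBy ι)
    (hV : V ≤ S) {g : G} (hg : g ∈ Subgroup.normalizer ((imageAlong ι V : Subgroup G) : Set G))
    (hP : P ≤ S) (hgP : ∀ x ∈ P, g * tf ι x * g⁻¹ ∈ ι.range) :
    ∃ f, NNMor F V P f ∧ ∀ x ∈ P, tf ι (f x) = g * tf ι x * g⁻¹ := by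
  have hι : Function.Injective ι := hr.1
  have h1 : ∀ v ∈ V, g * tf ι v * g⁻¹ ∈ imageAlong ι V := fun v hv =>
    (Subgroup.mem_normalizer_iff.1 hg _).1 (tf_mem_imageAlong hV hv)
  obtain ⟨f, hf, hf'⟩ := real_conj_sup hr g hP hV hgP fun v hv => imageAlong_le_range (h1 v hv)
  refine ⟨f, ⟨hf.mono le_sup_left, f, hf, fun _ _ => rfl, ?_⟩, fun x hx =>
    hf' x (le_sup_left (b := V) hx)⟩
  have hfV := hf.mono (le_sup_right (a := P) (b := V))
  haveI : Finite V := finite_of_le hV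
  refine eq_of_le_of_card (img_le_iff.2 fun v hv => ?_) hfV.card_img.ge
  have h2 := h1 v hv
  rw [← hf' v (le_sup_right (a := P) hv)] at h2
  obtain ⟨w, hw, hw', h3⟩ := mem_imageAlong.1 h2
  have h4 := tf_inj hι hw (hfV.mem hv) h3
  rwa [← h4]

theorem nsat_real [Finite S] {G : Type v} [Group G] {ι : S →* G} (hr : F.IsRealizedBy ι)
    (hV : V ≤ S) (hN : NSat F V ρ) {g : G}
    (hg : g ∈ Subgroup.normalizer ((imageAlong ι V : Subgroup G) : Set G))
    (hx : x ∈ S) (hy : y ∈ S) (h : tf ι y = g * tf ι x * g⁻¹) : ρ x y := by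
  have hz : ∀ n : ℤ, tf ι (x ^ n) = tf ι x ^ n := by
    intro n
    rw [tf_apply _ hx, tf_apply _ (S.zpow_mem hx n)]
    have : (⟨x ^ n, S.zpow_mem hx n⟩ : S) = ⟨x, hx⟩ ^ n := rfl
    rw [this, map_zpow]
  have hz' : ∀ n : ℤ, tf ι (y ^ n) = tf ι y ^ n := by
    intro n
    rw [tf_apply _ hy, tf_apply _ (S.zpow_mem hy n)]
    have : (⟨y ^ n, S.zpow_mem hy n⟩ : S) = ⟨y, hy⟩ ^ n := rfl
    rw [this, map_zpow]
  obtain ⟨f, hf, hf'⟩ := nnmor_real (P := Subgroup.zpowers x) hr hV hg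
    (by rw [Subgroup.zpowers_le]; exact hx) (by
      rintro _ ⟨n, rfl⟩
      show g * tf ι (x ^ n) * g⁻¹ ∈ _
      rw [hz, ← conj_zpow, ← h, ← hz']
      exact tf_mem_range (S.zpow_mem hy n))
  have h1 := hN _ _ hf x (Subgroup.mem_zpowers x)
  have h2 : f x = y := by
    apply tf_inj hr.1 (hf.1.mem (Subgroup.mem_zpowers x)) hy
    rw [hf' x (Subgroup.mem_zpowers x), h]
  rwa [h2] at h1

/-- The relation of being congruent modulo `D`. -/
def relD (D : Subgroup Ω) (x y : Ω) : Prop := x⁻¹ * y ∈ D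

/-- The class of the relations `relD`. -/
def RelD (Ω : Type u) [Group Ω] (S : Subgroup Ω) (ρ : Ω → Ω → Prop) : Prop :=
  ∃ D : Subgroup Ω, ⁅S, S⁆ ≤ D ∧ ρ = relD D

theorem RelD.ok (h : RelD Ω S ρ) : RelOK S ρ := by
  obtain ⟨D, hD, rfl⟩ := h
  refine ⟨fun x _ y _ z _ h1 h2 => ?_, fun x _ y _ h => ?_, fun s hs x hx => ?_⟩
  · have : x⁻¹ * z = (x⁻¹ * y) * (y⁻¹ * z) := by group
    show x⁻¹ * z ∈ D
    rw [this]; exact mul_mem h1 h2
  · have : y⁻¹ * x = (x⁻¹ * y)⁻¹ := by group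
    show y⁻¹ * x ∈ D
    rw [this]; exact inv_mem h
  · show x⁻¹ * (s * x * s⁻¹) ∈ D
    have : x⁻¹ * (s * x * s⁻¹) = ⁅x⁻¹, s⁆ := by rw [commutatorElement_def]; group
    rw [this]
    exact hD (Subgroup.commutator_mem_commutator (inv_mem hx) hs)

theorem RelD.sub (h : RelD Ω S ρ) (U : Subgroup Ω) : RelD Ω (normalizerIn S U) ρ := by
  obtain ⟨D, hD, rfl⟩ := h
  exact ⟨D, (Subgroup.commutator_mono normalizerIn_le normalizerIn_le).trans hD, rfl⟩

theorem tf_derived {Ω' : Type v} [Group Ω'] {θ : S →* Ω'} {S' : Subgroup Ω'} (hr : θ.range = S') :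
    ⁅S', S'⁆ ≤ imageAlong θ ⁅S, S⁆ := by
  rw [Subgroup.commutator_le]
  intro a ha b hb
  obtain ⟨x, hx, rfl⟩ := exists_tf_eq hr ha
  obtain ⟨y, hy, rfl⟩ := exists_tf_eq hr hb
  have h1 : ⁅x, y⁆ ∈ ⁅S, S⁆ := Subgroup.commutator_mem_commutator hx hy
  refine mem_imageAlong.2 ⟨⁅x, y⁆, ?_, h1, ?_⟩
  · rw [commutatorElement_def]
    exact mul_mem (mul_mem (mul_mem hx hy) (inv_mem hx)) (inv_mem hy)
  · rw [commutatorElement_def, commutatorElement_def, tf_mul (mul_mem (mul_mem hx hy) (inv_mem hx))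
      (inv_mem hy), tf_mul (mul_mem hx hy) (inv_mem hx), tf_mul hx hy, tf_inv hx, tf_inv hy]

/-- The focal subgroup step. -/
theorem foc_step [Fact p.Prime] {W : ∀ (Ω : Type u) [Group Ω], Subgroup Ω → Subgroup Ω}
    (W1 : ∀ (Ω : Type u) [Group Ω] (S : Subgroup Ω) [Finite S], IsPGroup p S → S ≠ ⊥ → W Ω S ≠ ⊥)
    (W2 : ∀ (Ω : Type u) [Group Ω] (S : Subgroup Ω), W Ω S ≤ S)
    (W3 : ∀ (Ω : Type u) [Group Ω] (S : Subgroup Ω) [Finite S], IsPGroup p S →
      ((W Ω S).subgroupOf S).Characteristic)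
    [Finite S] (hS : IsPGroup p S) (hF : F.IsSaturated p) (hQ : F.IsNormal Q) (hQne : Q ≠ ⊥)
    (hmax : ∀ V, F.IsNormal V → V ≤ Q)
    (IH1 : ∀ (Ω' : Type u) [Group Ω'] (S' : Subgroup Ω') [Finite S'] (F' : FusionSystem S') ρ',
      Nat.card S' < Nat.card S → IsPGroup p S' → F'.IsSaturated p → RelD Ω' S' ρ' →
        NSat F' (W Ω' S') ρ' → RSat F' ρ')
    (hK : ⁅S, S⁆ ≤ K)
    (IH2 : ∀ D : FusionSystem S, D ≤ F → D ≠ F → D.IsSaturated p → RSat D (relD K))
    (hQK : ∀ q ∈ Q, q ∈ F.focalSubgroup → q ∈ K) : RSat F (relD K) := by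
  obtain ⟨Ω', _, S', θ, E, hE, hEs, hS', hfin, hcard⟩ := exists_factor hS hF hQ
  have hr := hE.2.2.1
  have h1 := quot_step (ρ := relD (K ⊓ F.focalSubgroup)) (𝓡 := RelD) W1 W2 W3
    (fun Ω _ S ρ h => RelD.ok h) hS hF hQ hQne hmax IH1
    (fun D hD hne hDs P f hf x hx => ⟨IH2 D hD hne hDs P f hf x hx,
      foc_mem (le_iff_mor.1 hD P f hf) hx⟩) hE hEs hS' hcard
    (ρ' := relD (imageAlong θ (K ⊓ F.focalSubgroup)))
    ⟨_, (tf_derived hr).trans (by
      rintro _ h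
      obtain ⟨x, hx, hx', rfl⟩ := mem_imageAlong.1 h
      exact mem_imageAlong.2 ⟨x, hx, ⟨hK hx', derived_le_foc hx'⟩, rfl⟩), rfl⟩
    (fun Y g hg _ h x hx => by
      show (tf θ x)⁻¹ * tf θ (g x) ∈ _
      have hx' := hg.le hx
      rw [← tf_inv hx', ← tf_mul (inv_mem hx') (hg.mem hx)]
      exact mem_imageAlong.2 ⟨_, mul_mem (inv_mem hx') (hg.mem hx), h x hx, rfl⟩)
  intro P f hf x hx
  have h2 := h1 P f hf x hx
  have hxS := hf.le hx
  have hfS := hf.mem hx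
  change (tf θ x)⁻¹ * tf θ (f x) ∈ _ at h2
  rw [← tf_inv hxS, ← tf_mul (inv_mem hxS) hfS] at h2
  obtain ⟨d, hd, ⟨hdK, hdf⟩, h3⟩ := mem_imageAlong.1 h2
  have h4 := (factor_eq hE hd (mul_mem (inv_mem hxS) hfS)).1 h3
  have h5 := hQK _ h4 (mul_mem (inv_mem hdf) (foc_mem hf hx))
  show x⁻¹ * f x ∈ K
  have h6 : x⁻¹ * f x = d * (d⁻¹ * (x⁻¹ * f x)) := by group
  rw [h6]
  exact mul_mem hdK h5

/-- The inner case: by transfer, `Q ∩ foc(F) ≤ [S, S]`. -/
theorem foc_inner_inf [Fact p.Prime] [Finite S] (hS : IsPGroup p S) (hF : F.IsSaturated p)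
    (hQ : F.IsNormal Q) (hin : ∀ g, Mor F Q g → ∃ s ∈ S, ∀ x ∈ Q, g x = s * x * s⁻¹)
    (hx : x ∈ Q) (hxf : x ∈ F.focalSubgroup) : x ∈ ⁅S, S⁆ := by
  obtain ⟨n, hn, hT⟩ := transfer_exists.{u, u} hS hF
  obtain ⟨T, hT1, hT2, -⟩ := hT (Abelianization S) Abelianization.of
  have hxS : x ∈ S := hQ.1 hx
  have hsc := normal_stronglyClosed hQ
  have h1 := hT2 (Q.subgroupOf S) (Abelianization.of.comp (Subgroup.subtype _)) (by
    rintro ⟨h, hh⟩ t ⟨P, f, hf, ht, hft⟩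
    have hhQ : (h : Ω) ∈ Q := Subgroup.mem_subgroupOf.1 hh
    obtain ⟨i, hi, hi1, -⟩ := hf.inverse
    have h3 : (t : Ω) = i h := by rw [← hft, hi1 _ ht]
    obtain ⟨g, hg, h4, h5⟩ := (isNormal_iff.1 hQ).2 _ _ hi
    have hhP : (h : Ω) ∈ img P f := by rw [← hft]; exact mem_img_of_mem ht
    obtain ⟨s, hs, h6⟩ := hin g (hg.mono le_sup_right)
    have h7 : (t : Ω) = s * h * s⁻¹ := by rw [h3, ← h4 _ hhP, h6 _ hhQ]
    have h8 : t = ⟨s, hs⟩ * h * ⟨s, hs⟩⁻¹ := Subtype.ext h7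
    show Abelianization.of h = Abelianization.of t
    rw [h8, map_mul, map_mul, map_inv]
    rw [mul_comm (Abelianization.of _) (Abelianization.of h), mul_assoc, mul_inv_cancel, mul_one])
    ⟨⟨x, hxS⟩, Subgroup.mem_subgroupOf.2 hx⟩
  rw [stable_kills hT1 (by exact hxf)] at h1
  have h2 : Abelianization.of (⟨x, hxS⟩ : S) = 1 := eq_one_of_pow_pgroup hS Abelianization.of hn h1.symm
  have h3 : (⟨x, hxS⟩ : S) ∈ commutator S := by
    have : (⟨x, hxS⟩ : S) ∈ (Abelianization.of (G := S)).ker := h2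
    rwa [Abelianization.ker_of] at this
  have h4 := Subgroup.mem_map_of_mem S.subtype h3
  rwa [Subgroup.map_subtype_commutator] at h4

/-- Control of transfer. -/
theorem relCls_transfer [Fact p.Prime] (W : ∀ (Q : Type u) [Group Q], Subgroup Q)
    (hW1 : ∀ (Q : Type u) [Group Q] [Finite Q], IsPGroup p Q → Nontrivial Q → W Q ≠ ⊥)
    (hW2 : ∀ (Q R : Type u) [Group Q] [Group R] [Finite Q], IsPGroup p Q → ∀ φ : Q ≃* R,
      (W Q).map φ.toMonoidHom = W R)
    (hT : ∀ (G : Type u) [Group G] [Finite G] (P : Sylow p G),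
      Subgroup.centralizer ((Cfsg.pCore p G : Subgroup G) : Set G) ≤ Cfsg.pCore p G →
      Cfsg.pCore p G ⊓ commutator G ≤
        (commutator ↥(Subgroup.normalizer (((W ↥(P : Subgroup G)).map (P : Subgroup G).subtype : Subgroup G) : Set G))).map
          (Subgroup.normalizer (((W ↥(P : Subgroup G)).map (P : Subgroup G).subtype : Subgroup G) : Set G)).subtype) :
    RelCls.{u} p (fun (Ω : Type u) [Group Ω] S => WF p W Ω S) RelD := by
  have W1 := fun (Ω : Type u) [Group Ω] (S : Subgroup Ω) [Finite S] => WF_ne_bot (Ω := Ω) hW1 S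
  have W2 := fun (Ω : Type u) [Group Ω] (S : Subgroup Ω) => WF_le (p := p) (W := W) S
  have W3 := fun (Ω : Type u) [Group Ω] (S : Subgroup Ω) [Finite S] (_ : IsPGroup p S) =>
    WF_char (p := p) (Ω := Ω) hW2 S
  refine ⟨W1, W2, W3, fun Ω _ S ρ h => RelD.ok h, fun Ω _ S ρ h U _ => h.sub U, ?_, ?_⟩
  · rintro Ω _ S _ F ρ hS ⟨hF, Q', hQ'n, hQ'c⟩ hcore ⟨D, hD, rfl⟩ hN IH1 IH2
    have hQ : F.IsNormal F.core := core_normal
    obtain ⟨G, _, ι, hG⟩ := exists_model hS hF hQ'n hQ'c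
    haveI := hG.1
    obtain ⟨T, hTr⟩ := hG.2.2.1
    have hι : Function.Injective ι := hG.2.1.1
    refine foc_step W1 W2 W3 hS hF hQ hcore (fun V hV => le_core hV) IH1 hD IH2 fun q hq hqf => ?_
    have hqS := hQ.1 hq
    have h1 := le_preimage_pCore hG (isPGroup_of_le hS hQ.1) hQ hq
    have h2 : tf ι q ∈ commutator G := by
      have h3 : F.focalSubgroup ≤ preimageAlong ι (commutator G) := by
        rw [foc_le_iff]
        intro P f hf x hx
        obtain ⟨-, -, g, hg⟩ := (mor_realized hG.2.1).1 hf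
        have hxS := hf.le hx
        refine mem_preimageAlong.2 ⟨mul_mem (inv_mem hxS) (hf.mem hx), ?_⟩
        rw [tf_mul (inv_mem hxS) (hf.mem hx), tf_inv hxS, hg x hx]
        have : (tf ι x)⁻¹ * (g * tf ι x * g⁻¹) = ⁅(tf ι x)⁻¹, g⁆ := by
          rw [commutatorElement_def]; group
        rw [this]
        exact Subgroup.commutator_mem_commutator (Subgroup.mem_top _) (Subgroup.mem_top _)
      exact (mem_preimageAlong.1 (h3 hqf)).2
    have h3 := hT G T hG.2.2.2 ⟨(mem_preimageAlong.1 h1).2, h2⟩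
    have h4 : (W ↥(T : Subgroup G)).map (T : Subgroup G).subtype = imageAlong ι (WF p W Ω S) := by
      rw [WF_image hW2 hι, ← hTr, WF_eq T.isPGroup']
    rw [h4] at h3
    set N : Subgroup G := Subgroup.normalizer ((imageAlong ι (WF p W Ω S) : Subgroup G) : Set G) with hNdef
    have hTN : (T : Subgroup G) ≤ N := by
      rw [hNdef, WF_image hW2 hι, ← hTr]
      exact char_le_normalizerIn (WF_le _) (WF_char hW2 _)
    obtain ⟨y, hy, hy'⟩ := h3
    have hyq : (y : G) = tf ι q := hy'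
    have hyT : y ∈ (T.subtype hTN : Subgroup N) := by
      rw [Sylow.coe_subtype, Subgroup.mem_subgroupOf, hyq, hTr]
      exact tf_mem_range hqS
    have h5 : y ∈ (T.subtype hTN : Subgroup N).focalSubgroup := by
      rw [← Subgroup.commutator_inf_eq_focalSubgroup]
      exact ⟨hy, hyT⟩
    have h6 : (T.subtype hTN : Subgroup N).focalSubgroup ≤ (imageAlong ι (D ⊓ S)).comap N.subtype := by
      rw [Subgroup.focalSubgroup_def, Subgroup.closure_le]
      rintro _ ⟨hg, x, hx, u, rfl⟩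
      have hxT : ((x : N) : G) ∈ (T : Subgroup G) := by
        rwa [Sylow.coe_subtype, Subgroup.mem_subgroupOf] at hx
      have hgT : ((⁅x, u⁆ : N) : G) ∈ (T : Subgroup G) := by
        rwa [Sylow.coe_subtype, Subgroup.mem_subgroupOf] at hg
      rw [hTr] at hxT hgT
      obtain ⟨a, ha⟩ := inv_mem hxT
      have hc : (u : G) * ((x : N) : G)⁻¹ * (u : G)⁻¹ ∈ ι.range := by
        have : (u : G) * ((x : N) : G)⁻¹ * (u : G)⁻¹ = ((x : N) : G)⁻¹ * ((⁅x, u⁆ : N) : G) := by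
          rw [commutatorElement_def]
          push_cast
          group
        rw [this]
        exact mul_mem (inv_mem hxT) hgT
      obtain ⟨b, hb⟩ := hc
      have h7 : relD D (a : Ω) (b : Ω) := by
        refine nsat_real hG.2.1 (WF_le S) hN u.2 a.2 b.2 ?_
        rw [tf_coe, tf_coe, hb, ha]
      refine mem_imageAlong.2 ⟨(a : Ω)⁻¹ * b, mul_mem (S.inv_mem a.2) b.2, ⟨h7,
        mul_mem (S.inv_mem a.2) b.2⟩, ?_⟩
      rw [tf_mul (S.inv_mem a.2) b.2, tf_inv a.2, tf_coe, tf_coe, ha, hb]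
      show _ = ((⁅x, u⁆ : N) : G)
      rw [commutatorElement_def]
      push_cast
      group
    have h7 : (y : G) ∈ imageAlong ι (D ⊓ S) := h6 h5
    rw [hyq] at h7
    obtain ⟨z, hz, ⟨hzD, -⟩, h8⟩ := mem_imageAlong.1 h7
    have h9 := tf_inj hι hz hqS h8
    rwa [← h9]
  · rintro Ω _ S _ F ρ hS hF hcore hcen hin ⟨D, hD, rfl⟩ hN IH1 IH2
    have hQ : F.IsNormal F.core := core_normal
    exact foc_step W1 W2 W3 hS hF hQ hcore (fun V hV => le_core hV) IH1 hD IH2 fun q hq hqf =>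
      hD (foc_inner_inf hS hF hQ hin hq hqf)

end
end Cfsg.Agent.H28
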