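import Mathlib
import Cfsg.Prelude.Def_FusionSystem
import Cfsg.Prelude.Def_FusionReduction
import Cfsg.Agent.H28.GCtl1

/-!
Control of central elements by characteristic functors.
-/

set_option autoImplicit false
open Cfsg Cfsg.FusionSystem
open scoped commutatorElement

namespace Cfsg.Agent.H28

universe u v w

section
variable {Ω : Type u} [Group Ω] {S T : Subgroup Ω} {F E D : FusionSystem S} {P Q R V U X K : Subgroup Ω}
  {f g k χ : Ω → Ω} {x y z s t : Ω} {p : ℕ} {ρ : Ω → Ω → Prop}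

/-- The relation of being both equal or both different from `z`. -/
def relZ (z : Ω) (x y : Ω) : Prop := x = z ↔ y = z

theorem relZ_ok (hz : ∀ s ∈ S, s * z = z * s) : RelOK S (relZ z) := by
  refine ⟨fun x _ y _ w _ h1 h2 => h1.trans h2, fun x _ y _ h => h.symm, fun s hs x hx => ?_⟩
  show x = z ↔ s * x * s⁻¹ = z
  constructor
  · rintro rfl
    rw [hz s hs]; group
  · intro h
    have : s * x = s * z := by rw [hz s hs, ← h]; group
    exact mul_left_cancel this

theorem mem_centric_of_central (hP : F.IsCentric P) (hz : z ∈ S) (hzc : ∀ s ∈ S, s * z = z * s) : z ∈ P :=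
  centric_centralizer hP (mem_centralizerIn.2 ⟨hz, fun y hy => (hzc y (centric_le hP hy)).symm⟩)

theorem le_essential [Fact p.Prime] [Finite S] (hS : IsPGroup p S) (hQ : F.IsNormal Q)
    (hP : P = S ∨ F.IsEssential p P) : Q ≤ P := by
  rcases hP with rfl | hP
  · exact hQ.1
  · exact normal_le_centric_radical hS hQ (fn_of_essential_or_top (Or.inr hP)).2 (essential_radical hS hP)

/-- Central elements fixed by automorphisms of essential subgroups. -/
theorem rsat_relZ_of_aut [Fact p.Prime] [Finite S] (hS : IsPGroup p S) (hF : F.IsSaturated p)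
    (hz : z ∈ S) (hzc : ∀ s ∈ S, s * z = z * s)
    (h : ∀ P, (P = S ∨ F.IsEssential p P) → ∀ α ∈ F.autGroup P, autFun α z = z) :
    RSat F (relZ z) := by
  intro P f hf
  refine alperin_prop hS hF (C := fun P f => ∀ x ∈ P, relZ z x (f x)) (relZ_ok hzc).prop
    (fun P hP α hα x hx => ?_) hf
  have hzP := mem_centric_of_central (fn_of_essential_or_top hP).2 hz hzc
  have h1 := h P hP α hα
  show x = z ↔ autFun α x = z
  constructor
  · rintro rfl; exact h1
  · intro h2
    rw [← autFun_inv_apply α hx, h2]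
    conv_lhs => rw [← h1]
    exact autFun_inv_apply α hzP

/-- The `p'`-automorphisms suffice. -/
theorem rsat_relZ_of_coprime [Fact p.Prime] [Finite S] (hS : IsPGroup p S) (hF : F.IsSaturated p)
    (hz : z ∈ S) (hzc : ∀ s ∈ S, s * z = z * s)
    (h : ∀ P, (P = S ∨ F.IsEssential p P) → ∀ α ∈ F.autGroup P, (orderOf α).Coprime p →
      autFun α z = z) : RSat F (relZ z) := by
  refine rsat_relZ_of_aut hS hF hz hzc fun P hP α hα => ?_
  obtain ⟨hPn, hPc⟩ := fn_of_essential_or_top hP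
  have hzP := mem_centric_of_central hPc hz hzc
  obtain ⟨γ, hγ, s, hs, -, h2⟩ := aut_decomp (FN.fa hS hF hPn) hα
  rw [h2 z hzP, hzc s hs, mul_inv_cancel_right]
  have h3 : pResidual p (F.autGroup P) ≤
      { carrier := {β | autFun (β : MulAut P) z = z}
        one_mem' := autFun_one hzP
        mul_mem' := by
          intro a b ha hb
          show autFun ((a * b : F.autGroup P) : MulAut P) z = z
          rw [Subgroup.coe_mul, autFun_mul _ _ hzP]
          change autFun (b : MulAut P) z = z at hb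
          rw [hb]; exact ha
        inv_mem' := by
          intro a ha
          show autFun ((a⁻¹ : F.autGroup P) : MulAut P) z = z
          change autFun (a : MulAut P) z = z at ha
          rw [Subgroup.coe_inv]
          conv_lhs => rw [← ha]
          exact autFun_inv_apply _ hzP : Subgroup (F.autGroup P)} := by
    unfold pResidual
    rw [Subgroup.closure_le]
    intro β hβ
    have hβ' : (orderOf (β : MulAut P)).Coprime p := by
      rwa [Subgroup.orderOf_coe]
    exact h P hP β β.2 hβ'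
  exact h3 hγ

/-- An element of the centre. -/
theorem mem_center_of_rsat [Fact p.Prime] [Finite S] (hS : IsPGroup p S) (hF : F.IsSaturated p)
    (hz : z ∈ S) (hzc : ∀ s ∈ S, s * z = z * s) (h : RSat F (relZ z)) : z ∈ F.center := by
  have hfix : ∀ P f, Mor F P f → z ∈ P → f z = z := fun P f hf hzP => (h P f hf z hzP).1 rfl
  have hcen : F.IsCentral (Subgroup.zpowers z) := by
    rw [isCentral_iff]
    refine ⟨by rw [Subgroup.zpowers_le]; exact hz, fun P f hf => ?_⟩
    obtain ⟨g, hg, h1, κ, hκ, h2⟩ := extend_of_essential hS hF (⊥ : Subgroup (MulAut (Subgroup.zpowers z)))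
      (by rw [Subgroup.zpowers_le]; exact hz) (fun P hP => by
        have hzP := mem_centric_of_central (fn_of_essential_or_top hP).2 hz hzc
        refine ⟨by rw [Subgroup.zpowers_le]; exact hzP, fun α hα => ⟨1, Subgroup.mem_bot.2 rfl, ?_⟩⟩
        rintro _ ⟨n, rfl⟩
        show autFun α (z ^ n) = autFun 1 (z ^ n)
        rw [autFun_one (Subgroup.zpow_mem _ (Subgroup.mem_zpowers z) n)]
        have hα' := mor_autFun (F := F) (centric_le (fn_of_essential_or_top hP).2) hα
        rw [hα'.zpow hzP, hfix _ _ hα' hzP]) hf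
    refine ⟨g, hg, h1, fun x hx => ?_⟩
    rw [h2 x hx, (Subgroup.mem_bot.1 hκ : κ = 1), autFun_one hx]
  exact le_center hcen (Subgroup.mem_zpowers z)

theorem rsat_of_mem_center [Finite S] (hz : z ∈ F.center) : RSat F (relZ z) := by
  intro P f hf x hx
  show x = z ↔ f x = z
  constructor
  · rintro rfl; exact central_fix' hz hf hx
  · intro h; exact central_fix hz hf hx h

theorem central_comm [Finite S] (hz : z ∈ F.center) : ∀ s ∈ S, s * z = z * s := by
  intro s hs
  have h1 := central_fix' hz (mor_conj (F := F) le_rfl hs) (center_le' hz)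
  change s * z * s⁻¹ = z at h1
  calc s * z = s * z * s⁻¹ * s := by group
    _ = z * s := by rw [h1]

/-- The inner case. -/
theorem center_inn [Fact p.Prime] [Finite S] (hS : IsPGroup p S) (hF : F.IsSaturated p)
    (hQ : F.IsNormal Q) (hin : ∀ g, Mor F Q g → ∃ s ∈ S, ∀ x ∈ Q, g x = s * x * s⁻¹)
    (hz : z ∈ S) (hzc : ∀ s ∈ S, s * z = z * s)
    (hmod : ∀ P f, Mor F P f → z ∈ P → z⁻¹ * f z ∈ Q) : RSat F (relZ z) := by
  refine rsat_relZ_of_coprime hS hF hz hzc fun P hP α hα hco => ?_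
  obtain ⟨hPn, hPc⟩ := fn_of_essential_or_top hP
  have hPS := centric_le hPc
  have hzP := mem_centric_of_central hPc hz hzc
  have hQP := le_essential hS hQ hP
  have hα' := mor_autFun (F := F) hPS hα
  obtain ⟨s, hs, h1⟩ := hin _ (hα'.mono hQP)
  obtain ⟨m, hm⟩ := isPGroup_pow_one hS hs
  have hpowQ : ∀ (n : ℕ), ∀ x ∈ Q, autFun (α ^ n) x = s ^ n * x * (s ^ n)⁻¹ := by
    intro n
    induction n with
    | zero => intro x hx; simp [autFun_one (hQP hx)]
    | succ n ih =>
      intro x hx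
      have h5 : s ^ n * x * (s ^ n)⁻¹ ∈ Q :=
        (Subgroup.mem_normalizer_iff.1 (normal_normalizer hQ (pow_mem hs n)) x).1 hx
      rw [pow_succ', autFun_mul _ _ (hQP hx), ih x hx, h1 _ h5, pow_succ']
      group
  -- `α` is trivial on `Q`
  haveI : Finite P := finite_of_le hPS
  haveI : Finite (MulAut P) := finite_mulAut
  have hord : 0 < orderOf α := orderOf_pos α
  have hfixQ : ∀ x ∈ Q, autFun α x = x := by
    intro x hx
    have hcop : Nat.Coprime (orderOf α) (p ^ m) := Nat.Coprime.pow_right m hco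
    -- α = (α ^ p^m)^k
    obtain ⟨k, hk⟩ : ∃ k, (p ^ m * k) % orderOf α = 1 % orderOf α := by
      obtain ⟨k, hk⟩ := Nat.exists_mul_mod_eq_of_coprime 1 hcop.symm hord.ne'
      exact ⟨k, hk.2⟩
    have h6 : α ^ (p ^ m * k) = α := by
      conv_rhs => rw [← pow_one α]
      exact pow_eq_pow_iff_modEq.2 hk
    have h7 : autFun (α ^ (p ^ m * k)) x = x := by
      rw [hpowQ _ x hx, pow_mul, hm]; simp
    rwa [h6] at h7
  have hc : z⁻¹ * autFun α z ∈ Q := hmod P _ hα' hzP
  have h2 := autFun_pow_of_fix (α := α) hzP (hQP hc) (by group) (hfixQ _ hc) (orderOf α)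
  rw [pow_orderOf_eq_one, autFun_one hzP] at h2
  have h3 : (z⁻¹ * autFun α z) ^ orderOf α = 1 := by
    have : z * (z⁻¹ * autFun α z) ^ orderOf α = z * 1 := by rw [mul_one]; exact h2.symm
    exact mul_left_cancel this
  obtain ⟨j, hj⟩ := isPGroup_pow_one hS (hQ.1 hc)
  have h4 : z⁻¹ * autFun α z = 1 := by
    refine eq_one_of_pow_coprime (p := p) (n := orderOf α) ?_ h3 hj
    intro hdvd
    exact (Nat.Prime.coprime_iff_not_dvd Fact.out).1 hco.symm hdvd
  have : autFun α z = z * (z⁻¹ * autFun α z) := by group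
  rw [this, h4, mul_one]

/-- The classes of relations `relZ`. -/
def RelZ (p j : ℕ) (Ω : Type u) [Group Ω] (S : Subgroup Ω) (ρ : Ω → Ω → Prop) : Prop :=
  ∃ y ∈ S, (∀ s ∈ S, s * y = y * s) ∧ ρ = relZ (y ^ p ^ j)

theorem RelZ.ok {j : ℕ} (h : RelZ p j Ω S ρ) : RelOK S ρ := by
  obtain ⟨y, hy, hc, rfl⟩ := h
  exact relZ_ok fun s hs => (Commute.pow_right (hc s hs : Commute s y) _)

theorem RelZ.sub {j : ℕ} (h : RelZ p j Ω S ρ) (hU : U ≤ S) : RelZ p j Ω (normalizerIn S U) ρ := by
  obtain ⟨y, hy, hc, rfl⟩ := h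
  refine ⟨y, ⟨hy, ?_⟩, fun s hs => hc s hs.1, rfl⟩
  apply Subgroup.centralizer_le_normalizer
  rw [Subgroup.mem_centralizer_iff]
  intro u hu
  exact hc u (hU hu)

/-- The quotient step for central elements. -/
theorem center_step {j : ℕ} [Fact p.Prime] {W : ∀ (Ω : Type u) [Group Ω], Subgroup Ω → Subgroup Ω}
    (W1 : ∀ (Ω : Type u) [Group Ω] (S : Subgroup Ω) [Finite S], IsPGroup p S → S ≠ ⊥ → W Ω S ≠ ⊥)
    (W2 : ∀ (Ω : Type u) [Group Ω] (S : Subgroup Ω), W Ω S ≤ S)
    (W3 : ∀ (Ω : Type u) [Group Ω] (S : Subgroup Ω) [Finite S], IsPGroup p S →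
      ((W Ω S).subgroupOf S).Characteristic)
    (W4 : ∀ (Ω : Type u) [Group Ω] (S : Subgroup Ω) [Finite S], IsPGroup p S →
      ∀ z ∈ S, (∀ s ∈ S, s * z = z * s) → z ∈ W Ω S)
    [Finite S] (hS : IsPGroup p S) (hF : F.IsSaturated p) (hQ : F.IsNormal Q) (hQne : Q ≠ ⊥)
    (hmax : ∀ V, F.IsNormal V → V ≤ Q)
    (IH1 : ∀ (Ω' : Type u) [Group Ω'] (S' : Subgroup Ω') [Finite S'] (F' : FusionSystem S') ρ',
      Nat.card S' < Nat.card S → IsPGroup p S' → F'.IsSaturated p → RelZ p j Ω' S' ρ' →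
        NSat F' (W Ω' S') ρ' → RSat F' ρ')
    (hy : y ∈ S) (hyc : ∀ s ∈ S, s * y = y * s)
    (IH2 : ∀ D : FusionSystem S, D ≤ F → D ≠ F → D.IsSaturated p → RSat D (relZ (y ^ p ^ j))) :
    ∀ P f, Mor F P f → y ^ p ^ j ∈ P → (y ^ p ^ j)⁻¹ * f (y ^ p ^ j) ∈ Q := by
  obtain ⟨Ω', _, S', θ, E, hE, hEs, hS', hfin, hcard⟩ := exists_factor hS hF hQ
  have hr := hE.2.2.1
  have hsc := normal_stronglyClosed hQ
  set z := y ^ p ^ j with hzdef
  have hz : z ∈ S := pow_mem hy _
  have hz' : tf θ z = tf θ y ^ p ^ j := by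
    rw [tf_apply _ hz, tf_apply _ hy]
    have : (⟨z, hz⟩ : S) = ⟨y, hy⟩ ^ p ^ j := rfl
    rw [this, map_pow]
  have hθS : ∀ x ∈ S, tf θ x ∈ S' := fun x hx => by rw [← hr]; exact tf_mem_range hx
  have hyc' : ∀ s ∈ S', s * tf θ y = tf θ y * s := by
    intro s hs
    obtain ⟨x, hx, rfl⟩ := exists_tf_eq hr hs
    rw [← tf_mul hx hy, hyc x hx, tf_mul hy hx]
  have hzW : tf θ z ∈ W Ω' S' := by
    refine W4 Ω' S' hS' _ (hθS z hz) fun s hs => ?_
    rw [hz']
    exact Commute.pow_right (hyc' s hs : Commute s (tf θ y)) _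
  have h1 := quot_step (ρ := relZ z) (𝓡 := RelZ p j) W1 W2 W3
    (fun Ω _ S ρ h => RelZ.ok h) hS hF hQ hQne hmax IH1 IH2 hE hEs hS' hcard
    (ρ' := relZ (tf θ z)) ⟨tf θ y, hθS y hy, hyc', by rw [hz']⟩
    (fun Y g hg hWY h x hx => by
      have hzY : z ∈ Y := hWY (mem_preimageAlong.2 ⟨hz, hzW⟩)
      have hQY : Q ≤ Y := (factor_le_preimage hE).trans hWY
      have hgz : g z = z := (h z hzY).1 rfl
      show tf θ x = tf θ z ↔ tf θ (g x) = tf θ z
      rw [eq_comm, eq_comm (b := tf θ z), factor_eq hE hz (hg.le hx), factor_eq hE hz (hg.mem hx)]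
      have h2 : g (z⁻¹ * x) = z⁻¹ * g x := by
        rw [hg.mul (inv_mem hzY) hx, hg.inv hzY, hgz]
      rw [← h2]
      constructor
      · intro h3; exact sc_apply hsc hg (mul_mem (inv_mem hzY) hx) h3
      · intro h3
        obtain ⟨i, hi, hi1, -⟩ := hg.inverse
        have h4 : z⁻¹ * x ∈ Y := mul_mem (inv_mem hzY) hx
        have h5 := sc_apply hsc hi (mem_img_of_mem h4) h3
        rwa [hi1 _ h4] at h5)
  intro P f hf hzP
  have h2 := (h1 P f hf z hzP).1 rfl
  exact (factor_eq hE hz (hf.mem hzP)).1 h2.symm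

theorem ctr_functor {W : ∀ (Q : Type u) [Group Q], Subgroup Q}
    (hWZ : ∀ (Q : Type u) [Group Q] [Finite Q], IsPGroup p Q → Subgroup.center Q ≤ W Q)
    (Ω : Type u) [Group Ω] (S : Subgroup Ω) [Finite S] (hS : IsPGroup p S) (z : Ω) (hz : z ∈ S)
    (hzc : ∀ s ∈ S, s * z = z * s) : z ∈ WF p W Ω S := by
  rw [WF_eq hS]
  refine ⟨⟨z, hz⟩, hWZ _ hS ?_, rfl⟩
  rw [Subgroup.mem_center_iff]
  intro s
  exact Subtype.ext (hzc s s.2)

end
end Cfsg.Agent.H28
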