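import Mathlib
import Cfsg.Prelude.Def_FusionSystem
import Cfsg.Prelude.Def_FusionReduction
import Cfsg.Agent.H28.GCtl2

/-!
Control of central elements by characteristic functors, constrained case.
-/

set_option autoImplicit false
open Cfsg Cfsg.FusionSystem
open scoped commutatorElement

namespace Cfsg.Agent.H28

universe u v w

/-- A quadratic element gives an element outside `O` centralizing `p`-th powers. -/
theorem quad_pth {G : Type*} [Group G] {p : ℕ} {O Z : Subgroup G} [hZn : Z.Normal]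
    (hZO : ∀ v ∈ Z, ∀ o ∈ O, v * o = o * v) (hZab : ∀ v ∈ Z, ∀ w ∈ Z, v * w = w * v) {g : G} {n : ℕ}
    (hgn : g ^ p ^ n ∈ O) (hgO : g ∉ O)
    (hq : ⁅⁅Z, Subgroup.zpowers g⁆, Subgroup.zpowers g⁆ = ⊥) :
    ∃ h ∈ Subgroup.zpowers g, h ∉ O ∧ ∀ v ∈ Z, h * v ^ p = v ^ p * h := by
  classical
  obtain ⟨m, hm, hmin⟩ : ∃ m, g ^ p ^ m ∈ O ∧ ∀ k < m, g ^ p ^ k ∉ O := by
    have hex : ∃ m, g ^ p ^ m ∈ O := ⟨n, hgn⟩
    exact ⟨Nat.find hex, Nat.find_spec hex, fun k hk => Nat.find_min hex hk⟩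
  have hm0 : m ≠ 0 := by
    rintro rfl
    rw [pow_zero, pow_one] at hm
    exact hgO hm
  obtain ⟨e, rfl⟩ := Nat.exists_eq_succ_of_ne_zero hm0
  set h := g ^ p ^ e with hh
  have hhz : h ∈ Subgroup.zpowers g := Subgroup.pow_mem _ (Subgroup.mem_zpowers g) _
  have hhO : h ∉ O := hmin e (Nat.lt_succ_self e)
  have hhp : h ^ p ∈ O := by
    rw [hh, ← pow_mul, ← pow_succ]; exact hm
  refine ⟨h, hhz, hhO, fun v hv => ?_⟩
  have hcm : ⁅v, h⁆ ∈ ⁅Z, Subgroup.zpowers g⁆ := Subgroup.commutator_mem_commutator hv hhz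
  have hcz : ⁅v, h⁆ ∈ Z := by
    rw [commutatorElement_def]
    have : v * h * v⁻¹ * h⁻¹ = v * (h * v⁻¹ * h⁻¹) := by group
    rw [this]
    exact mul_mem hv (hZn.conj_mem _ (inv_mem hv) h)
  have hch : ⁅v, h⁆ * h = h * ⁅v, h⁆ := by
    have h1 : ⁅⁅v, h⁆, h⁆ ∈ ⁅⁅Z, Subgroup.zpowers g⁆, Subgroup.zpowers g⁆ :=
      Subgroup.commutator_mem_commutator hcm hhz
    rw [hq, Subgroup.mem_bot] at h1
    exact commutatorElement_eq_one_iff_mul_comm.1 h1
  set c := ⁅v, h⁆ with hc
  have h1 : h * v * h⁻¹ = c⁻¹ * v := by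
    have : c⁻¹ * v = h * v * h⁻¹ * (v⁻¹ * v) := by rw [hc, commutatorElement_def]; group
    rw [this]; group
  have h2 : ∀ k : ℕ, h ^ k * v * (h ^ k)⁻¹ = (c⁻¹) ^ k * v := by
    intro k
    induction k with
    | zero => simp
    | succ k ih =>
      have h3 : h * c⁻¹ ^ k * h⁻¹ = c⁻¹ ^ k := by
        have h4 : h * c⁻¹ = c⁻¹ * h := by
          have : c * (h * c⁻¹) * c = c * (c⁻¹ * h) * c := by
            rw [show c * (h * c⁻¹) * c = c * h by group, show c * (c⁻¹ * h) * c = h * c by group, hch]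
          exact mul_left_cancel (mul_right_cancel this)
        have h5 : h * c⁻¹ ^ k = c⁻¹ ^ k * h := (Commute.pow_right (show Commute h c⁻¹ from h4) k)
        rw [h5]; group
      calc h ^ (k + 1) * v * (h ^ (k + 1))⁻¹ = h * (h ^ k * v * (h ^ k)⁻¹) * h⁻¹ := by
            rw [pow_succ']; group
        _ = (h * c⁻¹ ^ k * h⁻¹) * (h * v * h⁻¹) := by rw [ih]; group
        _ = c⁻¹ ^ (k + 1) * v := by rw [h3, h1, pow_succ]; group
  have h3 := h2 p
  have h4 : h ^ p * v * (h ^ p)⁻¹ = v := by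
    rw [← hZO v hv _ hhp]; group
  rw [h4] at h3
  have h5 : c⁻¹ ^ p = 1 := by
    have : 1 * v = c⁻¹ ^ p * v := by rw [one_mul]; exact h3
    exact (mul_right_cancel this).symm
  have h6 : h * v ^ p * h⁻¹ = v ^ p := by
    rw [← conj_pow, h1]
    have h7 : Commute c⁻¹ v := hZab _ (inv_mem hcz) _ hv
    rw [h7.mul_pow, h5, one_mul]
  calc h * v ^ p = h * v ^ p * h⁻¹ * h := by group
    _ = v ^ p * h := by rw [h6]

section
variable {Ω : Type u} [Group Ω] {S T : Subgroup Ω} {F E D : FusionSystem S} {P Q R V U X K : Subgroup Ω}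
  {f g k χ : Ω → Ω} {x y z s t : Ω} {p : ℕ} {ρ : Ω → Ω → Prop}

theorem rsat_of_group_central {G : Type v} [Group G] {ι : S →* G} (hr : F.IsRealizedBy ι)
    (hz : z ∈ S) (h : ∀ g : G, g * tf ι z = tf ι z * g) : RSat F (relZ z) := by
  intro P f hf x hx
  obtain ⟨-, -, g, hg⟩ := (mor_realized hr).1 hf
  have h1 := hg x hx
  show x = z ↔ f x = z
  constructor
  · rintro rfl
    apply tf_inj hr.1 (hf.mem hx) hz
    rw [h1, h]; group
  · intro h2
    apply tf_inj hr.1 (hf.le hx) hz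
    rw [h2] at h1
    have h3 : tf ι x = g⁻¹ * tf ι z * g := by rw [h1]; group
    rw [h3]
    have h4 := h g⁻¹
    rw [h4]; group

theorem le_rsat_of_normal (hV : F.IsNormal V) (hN : NSat F V ρ) : RSat F ρ := by
  intro P f hf
  obtain ⟨g, hg, h1, h2⟩ := (isNormal_iff.1 hV).2 P f hf
  exact hN P f ⟨hf, g, hg, h1, h2⟩

/-- The factorization argument for central elements lying in an abelian normal subgroup `X` with
`C_S(X)` not normal. -/
theorem rsat_relZ_of_factor [Fact p.Prime] [Finite S] (hS : IsPGroup p S) (hF : F.IsSaturated p)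
    (hX : F.IsNormal X) (hXab : ∀ a ∈ X, ∀ b ∈ X, a * b = b * a) (hzX : z ∈ X)
    (hzc : ∀ s ∈ S, s * z = z * s) (hC : ¬ F.IsNormal (centralizerIn S X))
    (IH2 : ∀ D : FusionSystem S, D ≤ F → D ≠ F → D.IsSaturated p → RSat D (relZ z)) :
    RSat F (relZ z) := by
  have hXC : X ≤ centralizerIn S X := fun a ha => mem_centralizerIn.2 ⟨hX.1 ha, fun b hb => hXab a ha b hb⟩
  have hsup : X ⊔ centralizerIn S X = centralizerIn S X := sup_eq_right.2 hXC
  have hn := normalizer_sup_centralizerIn (S := S) hX.1 (normal_normalizer hX)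
  rw [hsup] at hn
  have h1 := IH2 (normS F _ centralizerIn_le hn) normS_le (fun h => hC (normS_eq_iff.1 h))
    (normS_saturated hS hF)
  have hok := relZ_ok (S := S) (z := z) hzc
  intro P f hf x hx
  obtain ⟨τ, c, hτ, h3, h4, hc, h5, h6⟩ := factorization hS hF hX hf
  rw [hsup] at hτ h4
  have h7 : relZ z x (τ x) := by
    refine h1 (P ⊔ centralizerIn S X) τ (mor_normS.2 ⟨hτ.le, τ, ?_, fun _ _ => rfl, h4⟩) x
      (le_sup_left (b := centralizerIn S X) hx)
    rw [sup_eq_left.2 le_sup_right]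
    exact hτ
  have h8 : X ≤ img (P ⊔ X) τ := by
    conv_lhs => rw [← h3]
    exact img_mono le_sup_right
  have hτx : τ x ∈ img (P ⊔ X) τ := mem_img_of_mem (le_sup_left (b := X) hx)
  have h9 : relZ z (τ x) (c (τ x)) := by
    show τ x = z ↔ c (τ x) = z
    constructor
    · intro h; rw [h, h5 z hzX]
    · intro h
      refine hc.inj hτx (h8 hzX) ?_
      rw [h, h5 z hzX]
  have h10 := h6 x hx
  show x = z ↔ f x = z
  rw [h10]
  exact h7.trans h9

/-- Control of central elements. -/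
theorem relCls_center [Fact p.Prime] (W : ∀ (Q : Type u) [Group Q], Subgroup Q)
    (hW1 : ∀ (Q : Type u) [Group Q] [Finite Q], IsPGroup p Q → Nontrivial Q → W Q ≠ ⊥)
    (hW2 : ∀ (Q R : Type u) [Group Q] [Group R] [Finite Q], IsPGroup p Q → ∀ φ : Q ≃* R,
      (W Q).map φ.toMonoidHom = W R)
    (hWZ : ∀ (Q : Type u) [Group Q] [Finite Q], IsPGroup p Q → Subgroup.center Q ≤ W Q)
    (hC : ∀ (G : Type u) [Group G] [Finite G] (P : Sylow p G),
      Cfsg.pCore p G ⊓ (Subgroup.center ↥(Subgroup.normalizer (((W ↥(P : Subgroup G)).map (P : Subgroup G).subtype : Subgroup G) : Set G))).map (Subgroup.normalizer (((W ↥(P : Subgroup G)).map (P : Subgroup G).subtype : Subgroup G) : Set G)).subtype ≤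
        Subgroup.center G) :
    RelCls.{u} p (fun (Ω : Type u) [Group Ω] S => WF p W Ω S) (RelZ p 0) := by
  have W1 := fun (Ω : Type u) [Group Ω] (S : Subgroup Ω) [Finite S] => WF_ne_bot (Ω := Ω) hW1 S
  have W2 := fun (Ω : Type u) [Group Ω] (S : Subgroup Ω) => WF_le (p := p) (W := W) S
  have W3 := fun (Ω : Type u) [Group Ω] (S : Subgroup Ω) [Finite S] (_ : IsPGroup p S) =>
    WF_char (p := p) (Ω := Ω) hW2 S
  have W4 := ctr_functor (p := p) hWZ
  refine ⟨W1, W2, W3, fun Ω _ S ρ h => RelZ.ok h, fun Ω _ S ρ h U hU => h.sub hU, ?_, ?_⟩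
  · rintro Ω _ S _ F ρ hS ⟨hF, Q', hQ'n, hQ'c⟩ hcore ⟨z, hz, hzc, rfl⟩ hN IH1 IH2
    rw [pow_zero, pow_one] at hN IH2 ⊢
    have hQ : F.IsNormal F.core := core_normal
    obtain ⟨G, _, ι, hG⟩ := exists_model hS hF hQ'n hQ'c
    haveI := hG.1
    obtain ⟨T, hTr⟩ := hG.2.2.1
    have hι : Function.Injective ι := hG.2.1.1
    have hzV : z ∈ WF p W Ω S := W4 Ω S hS z hz hzc
    refine rsat_of_group_central hG.2.1 hz ?_
    have hzO : tf ι z ∈ pCore p G := by
      have h1 := mem_centric_of_central hQ'c hz hzc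
      exact (mem_preimageAlong.1 (le_preimage_pCore hG (isPGroup_of_le hS hQ'n.1) hQ'n h1)).2
    have h4 : (W ↥(T : Subgroup G)).map (T : Subgroup G).subtype = imageAlong ι (WF p W Ω S) := by
      rw [WF_image hW2 hι, ← hTr, WF_eq T.isPGroup']
    have h5 := hC G T
    rw [h4] at h5
    set N : Subgroup G := Subgroup.normalizer ((imageAlong ι (WF p W Ω S) : Subgroup G) : Set G) with hNdef
    have hTN : (T : Subgroup G) ≤ N := by
      rw [hNdef, WF_image hW2 hι, ← hTr]
      exact char_le_normalizerIn (WF_le _) (WF_char hW2 _)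
    have hzT : tf ι z ∈ (T : Subgroup G) := by rw [hTr]; exact tf_mem_range hz
    have h6 : tf ι z ∈ (Subgroup.center ↥N).map N.subtype := by
      refine ⟨⟨tf ι z, hTN hzT⟩, ?_, rfl⟩
      rw [SetLike.mem_coe, Subgroup.mem_center_iff]
      intro u
      apply Subtype.ext
      show (u : G) * tf ι z = tf ι z * (u : G)
      have h7 : (u : G) * tf ι z * (u : G)⁻¹ ∈ imageAlong ι (WF p W Ω S) :=
        (Subgroup.mem_normalizer_iff.1 u.2 _).1 (tf_mem_imageAlong (WF_le S) hzV)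
      obtain ⟨y, hy, -, hy'⟩ := mem_imageAlong.1 h7
      have h8 := nsat_real hG.2.1 (WF_le S) hN u.2 hz hy hy'
      have h9 : y = z := h8.1 rfl
      rw [h9] at hy'
      conv_rhs => rw [hy']
      group
    have h7 := h5 ⟨hzO, h6⟩
    rw [Subgroup.mem_center_iff] at h7
    exact h7
  · rintro Ω _ S _ F ρ hS hF hcore hcen hin ⟨z, hz, hzc, rfl⟩ hN IH1 IH2
    have hQ : F.IsNormal F.core := core_normal
    have h1 := center_step (j := 0) W1 W2 W3 W4 hS hF hQ hcore (fun V hV => le_core hV) IH1 hz hzc IH2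
    refine center_inn hS hF hQ hin (pow_mem hz _) (fun s hs => ?_) h1
    exact Commute.pow_right (hzc s hs : Commute s z) _

/-- Control of `p`-th powers of central elements. -/
theorem relCls_pth [Fact p.Prime] (W : ∀ (Q : Type u) [Group Q], Subgroup Q)
    (hW1 : ∀ (Q : Type u) [Group Q] [Finite Q], IsPGroup p Q → Nontrivial Q → W Q ≠ ⊥)
    (hW2 : ∀ (Q R : Type u) [Group Q] [Group R] [Finite Q], IsPGroup p Q → ∀ φ : Q ≃* R,
      (W Q).map φ.toMonoidHom = W R)
    (hWZ : ∀ (Q : Type u) [Group Q] [Finite Q], IsPGroup p Q → Subgroup.center Q ≤ W Q)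
    (hq : ∀ (G : Type u) [Group G] [Finite G] (P : Sylow p G),
      Subgroup.centralizer ((Cfsg.pCore p G : Subgroup G) : Set G) ≤ Cfsg.pCore p G →
      ¬ (((W ↥(P : Subgroup G)).map (P : Subgroup G).subtype : Subgroup G)).Normal →
      ∃ g : G, g ∈ (P : Subgroup G) ∧ g ∉ Cfsg.pCore p G ∧
        ⁅⁅Subgroup.center ↥(Cfsg.pCore p G) |>.map (Cfsg.pCore p G).subtype, Subgroup.zpowers g⁆,
          Subgroup.zpowers g⁆ = ⊥) :
    RelCls.{u} p (fun (Ω : Type u) [Group Ω] S => WF p W Ω S) (RelZ p 1) := by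
  have W1 := fun (Ω : Type u) [Group Ω] (S : Subgroup Ω) [Finite S] => WF_ne_bot (Ω := Ω) hW1 S
  have W2 := fun (Ω : Type u) [Group Ω] (S : Subgroup Ω) => WF_le (p := p) (W := W) S
  have W3 := fun (Ω : Type u) [Group Ω] (S : Subgroup Ω) [Finite S] (_ : IsPGroup p S) =>
    WF_char (p := p) (Ω := Ω) hW2 S
  have W4 := ctr_functor (p := p) hWZ
  refine ⟨W1, W2, W3, fun Ω _ S ρ h => RelZ.ok h, fun Ω _ S ρ h U hU => h.sub hU, ?_, ?_⟩
  · rintro Ω _ S _ F ρ hS ⟨hF, Q', hQ'n, hQ'c⟩ hcore ⟨y, hy, hyc, rfl⟩ hN IH1 IH2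
    obtain ⟨G, _, ι, hG⟩ := exists_model hS hF hQ'n hQ'c
    haveI := hG.1
    obtain ⟨T, hTr⟩ := hG.2.2.1
    have hι : Function.Injective ι := hG.2.1.1
    have h4 : (W ↥(T : Subgroup G)).map (T : Subgroup G).subtype = imageAlong ι (WF p W Ω S) := by
      rw [WF_image hW2 hι, ← hTr, WF_eq T.isPGroup']
    by_cases hWn : (((W ↥(T : Subgroup G)).map (T : Subgroup G).subtype : Subgroup G)).Normal
    · refine le_rsat_of_normal (V := WF p W Ω S) ?_ hN
      refine normal_of_real hG.2.1 (WF_le S) fun g x hx => ?_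
      have hxS := WF_le S hx
      have h5 : tf ι x ∈ imageAlong ι (WF p W Ω S) := tf_mem_imageAlong (WF_le S) hx
      rw [← h4] at h5
      have h6 := hWn.conj_mem _ h5 g
      rw [h4] at h6
      obtain ⟨y, -, hy, h7⟩ := mem_imageAlong.1 h6
      exact ⟨y, hy, h7.symm⟩
    obtain ⟨g, hgT, hgO, hgq⟩ := hq G T hG.2.2.2 hWn
    set O : Subgroup G := pCore p G with hO
    set Z : Subgroup G := (Subgroup.center ↥O).map O.subtype with hZ
    have hZO : ∀ v ∈ Z, ∀ o ∈ O, v * o = o * v := by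
      rintro _ ⟨v, hv, rfl⟩ o ho
      rw [SetLike.mem_coe, Subgroup.mem_center_iff] at hv
      exact congrArg Subtype.val (hv ⟨o, ho⟩).symm
    have hZle : Z ≤ O := by rintro _ ⟨v, -, rfl⟩; exact v.2
    have hZab : ∀ v ∈ Z, ∀ w ∈ Z, v * w = w * v := fun v hv w hw => hZO v hv w (hZle hw)
    haveI hOn : O.Normal := by rw [hO]; infer_instance
    haveI hZn : Z.Normal := by rw [hZ]; infer_instance
    obtain ⟨n, hn⟩ := isPGroup_pow_one T.isPGroup' hgT
    obtain ⟨h, hh, hhO, hhc⟩ := quad_pth hZO hZab (n := n) (by rw [hn]; exact O.one_mem) hgO hgq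
    have hhT : h ∈ (T : Subgroup G) := by
      have : Subgroup.zpowers g ≤ (T : Subgroup G) := by rw [Subgroup.zpowers_le]; exact hgT
      exact this hh
    have hOT : O ≤ (T : Subgroup G) := by
      rw [hO]
      exact pCore_le_sylow T
    -- the subgroup of `p`-th powers
    set X : Subgroup G := Subgroup.closure ((fun v => v ^ p) '' (Z : Set G)) with hXdef
    have hXZ : X ≤ Z := by
      rw [hXdef, Subgroup.closure_le]
      rintro _ ⟨v, hv, rfl⟩
      exact pow_mem hv _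
    have hXn : X.Normal := by
      have hc : ∀ g : G, X ≤ X.comap (MulAut.conj g).toMonoidHom := by
        intro g
        conv_lhs => rw [hXdef]
        rw [Subgroup.closure_le]
        rintro _ ⟨v, hv, rfl⟩
        show g * v ^ p * g⁻¹ ∈ X
        rw [← conj_pow]
        exact Subgroup.subset_closure ⟨_, hZn.conj_mem v hv g, rfl⟩
      exact ⟨fun x hx g => hc g hx⟩
    have hhX : ∀ x ∈ X, h * x = x * h := by
      have : X ≤ Subgroup.centralizer {h} := by
        rw [hXdef, Subgroup.closure_le]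
        rintro _ ⟨v, hv, rfl⟩
        exact Subgroup.mem_centralizer_singleton_iff.2 (hhc v hv).symm
      intro x hx
      exact (Subgroup.mem_centralizer_singleton_iff.1 (this hx)).symm
    have hXr : X ≤ ι.range := by
      rw [← hTr]; exact (hXZ.trans hZle).trans hOT
    have hXF : F.IsNormal (preimageAlong ι X) := normal_preimage_of_normal hG.2.1 hXn hXr
    rw [hTr] at hhT
    obtain ⟨h', hh'⟩ := hhT
    have hyO : tf ι y ∈ O := by
      have h1 := mem_centric_of_central hQ'c hy hyc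
      exact (mem_preimageAlong.1 (le_preimage_pCore hG (isPGroup_of_le hS hQ'n.1) hQ'n h1)).2
    have hyZ : tf ι y ∈ Z := by
      refine ⟨⟨tf ι y, hyO⟩, ?_, rfl⟩
      rw [SetLike.mem_coe, Subgroup.mem_center_iff]
      intro u
      apply Subtype.ext
      show (u : G) * tf ι y = tf ι y * (u : G)
      have hu : (u : G) ∈ ι.range := by rw [← hTr]; exact hOT u.2
      obtain ⟨a, ha⟩ := hu
      rw [← ha, ← tf_coe, ← tf_mul a.2 hy, hyc a a.2, tf_mul hy a.2]
    refine rsat_relZ_of_factor hS hF hXF ?_ ?_ ?_ ?_ IH2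
    · intro a ha b hb
      obtain ⟨haS, ha'⟩ := mem_preimageAlong.1 ha
      obtain ⟨hbS, hb'⟩ := mem_preimageAlong.1 hb
      apply tf_inj hι (mul_mem haS hbS) (mul_mem hbS haS)
      rw [tf_mul haS hbS, tf_mul hbS haS]
      exact hZab _ (hXZ ha') _ (hXZ hb')
    · refine mem_preimageAlong.2 ⟨pow_mem hy _, ?_⟩
      have : tf ι (y ^ p ^ 1) = tf ι y ^ p := by
        rw [pow_one, tf_apply _ hy, tf_apply _ (pow_mem hy p)]
        have : (⟨y ^ p, pow_mem hy p⟩ : S) = ⟨y, hy⟩ ^ p := rfl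
        rw [this, map_pow]
      rw [this]
      exact Subgroup.subset_closure ⟨_, hyZ, rfl⟩
    · exact fun s hs => Commute.pow_right (hyc s hs : Commute s y) _
    · intro hC
      have h1 := le_preimage_pCore hG (isPGroup_of_le hS hC.1) hC
      have h2 : (h' : Ω) ∈ centralizerIn S (preimageAlong ι X) := by
        refine mem_centralizerIn.2 ⟨h'.2, fun a ha => ?_⟩
        obtain ⟨haS, ha'⟩ := mem_preimageAlong.1 ha
        apply tf_inj hι (mul_mem h'.2 haS) (mul_mem haS h'.2)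
        rw [tf_mul h'.2 haS, tf_mul haS h'.2, tf_coe, hh']
        exact hhX _ ha'
      have h3 := (mem_preimageAlong.1 (h1 h2)).2
      rw [tf_coe, hh'] at h3
      exact hhO h3
  · rintro Ω _ S _ F ρ hS hF hcore hcen hin ⟨z, hz, hzc, rfl⟩ hN IH1 IH2
    have hQ : F.IsNormal F.core := core_normal
    have h1 := center_step (j := 1) W1 W2 W3 W4 hS hF hQ hcore (fun V hV => le_core hV) IH1 hz hzc IH2
    refine center_inn hS hF hQ hin (pow_mem hz _) (fun s hs => ?_) h1
    exact Commute.pow_right (hzc s hs : Commute s z) _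

end
end Cfsg.Agent.H28
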