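import Mathlib
import Cfsg.Prelude.Def_FusionSystem
import Cfsg.Prelude.Def_FusionReduction
import Cfsg.Prelude.Def_PLocal
import Cfsg.Agent.H28.Mach4

/-!
Sparse systems.
-/

set_option autoImplicit false
open Cfsg Cfsg.FusionSystem

namespace Cfsg.Agent.H28

universe u v w

section
variable {Ω : Type u} [Group Ω] {S T : Subgroup Ω} {F E : FusionSystem S} {P Q R V U X : Subgroup Ω}
  {f g k χ : Ω → Ω} {x y s t : Ω} {p : ℕ}

/-- A non-inner saturated system contains a minimal one. -/
theorem exists_sparse [Fact p.Prime] [Finite S] (hF : F.IsSaturated p)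
    (hne : F ≠ innerFusionSystem S) : ∃ E ≤ F, E.IsSaturated p ∧ E ≠ innerFusionSystem S ∧
      ∀ D ≤ E, D.IsSaturated p → D = E ∨ D = innerFusionSystem S := by
  suffices h : ∀ (m : ℕ) (F : FusionSystem S), fsCard F ≤ m → F.IsSaturated p →
      F ≠ innerFusionSystem S → ∃ E ≤ F, E.IsSaturated p ∧ E ≠ innerFusionSystem S ∧
        ∀ D ≤ E, D.IsSaturated p → D = E ∨ D = innerFusionSystem S from h _ F le_rfl hF hne
  intro m
  induction m using Nat.strong_induction_on with
  | _ m ih =>
    intro F hm hF hne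
    by_cases h : ∀ D ≤ F, D.IsSaturated p → D = F ∨ D = innerFusionSystem S
    · exact ⟨F, le_iff_mor.2 fun _ _ h => h, hF, hne, h⟩
    · push Not at h
      obtain ⟨D, hD, hDs, hDF, hDi⟩ := h
      obtain ⟨E, hE, h1⟩ := ih _ (lt_of_lt_of_le (fsCard_lt hD hDF) hm) D le_rfl hDs hDi
      exact ⟨E, le_iff_mor.2 fun P f hf => le_iff_mor.1 hD P f (le_iff_mor.1 hE P f hf), h1⟩

/-- Sparse systems are constrained, given a criterion. -/
theorem sparse_constrained [Fact p.Prime] [Finite S] (hS : IsPGroup p S) (hF : F.IsSaturated p)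
    (hne : F ≠ innerFusionSystem S)
    (hmin : ∀ D ≤ F, D.IsSaturated p → D = F ∨ D = innerFusionSystem S)
    (hT' : ∀ {Ω' : Type u} [Group Ω'] {S' : Subgroup Ω'} [Finite S'] (Q : Subgroup Ω) (θ : S →* Ω')
      (E : FusionSystem S'), IsPGroup p S' → E.IsSaturated p → F.IsNormal Q → F.IsFactorSystem Q θ E →
      (∀ V ≤ S', V ≠ ⊥ → (V.subgroupOf S').Characteristic → InnerAt E V) →
      E = innerFusionSystem S') : F.IsConstrained p := by
  have hnot : ∀ V ≤ S, S ≤ Subgroup.normalizer (V : Set Ω) → ¬ F.IsNormal V → InnerAt F V := by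
    intro V hV hSV hVn
    rcases hmin _ (normS_le (hQ := hV) (hn := hSV)) (normS_saturated hS hF) with h | h
    · exact absurd (normS_eq_iff.1 h) hVn
    · exact innerAt_of_normS h
  have hQ : F.IsNormal F.core := core_normal
  have hcen : centralizerIn S F.core ≤ F.core := by
    by_contra hcen
    refine hne (key_step hS hF hQ (fun V hV => le_core hV) hcen hnot
      fun {Ω'} _ {S'} θ E hE hW => ?_)
    haveI : Finite S' := by
      rw [← hE.2.2.1]; exact Finite.of_surjective θ.rangeRestrict θ.rangeRestrict_surjective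
    have hS' : IsPGroup p S' := by
      rw [← hE.2.2.1]
      exact hS.of_surjective θ.rangeRestrict θ.rangeRestrict_surjective
    have hE' : E.IsSaturated p :=
      surj_saturated hS hF (factor_surj hS hF (normal_stronglyClosed hQ) hE)
    exact hT' _ θ E hS' hE' hQ hE hW
  exact ⟨hF, F.core, hQ, centric_of_fullyCentralized
    (FN.fc hS hF (fullyNormalized_of_normal hQ.1 (normal_normalizer hQ))) hcen⟩

theorem inner_of_char_odd [Fact p.Prime] (hp2 : p ≠ 2) [Finite S] (hS : IsPGroup p S)
    (hF : F.IsSaturated p)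
    (h : ∀ V ≤ S, V ≠ ⊥ → (V.subgroupOf S).Characteristic → InnerAt F V) :
    F = innerFusionSystem S := by
  by_cases hSne : S = ⊥
  · exact eq_inner_of_bot hF hSne
  · have hW := npcFun_ZJaF.{u} hp2
    refine inner_of_functor hp2 hW hS hF (h _ (H2.WA_le S) (WA_ne_bot' (hW.ne_bot S hS ?_))
      (WA_characteristic hW.equiv S))
    exact (Subgroup.nontrivial_iff_ne_bot S).2 hSne

end
end Cfsg.Agent.H28
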