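import Mathlib
import Cfsg.Prelude.Def_FusionSystem
import Cfsg.Prelude.Def_LocalEven
import Cfsg.Prelude.Def_PLocal
import Cfsg.Agent.H28.FusKNorm
import Cfsg.Agent.L.Invol

/-!
Groups involving a split extension of an abelian `p`-group containing an inverting element: such
a section is seen in the normalizer of a centric `p`-subgroup.
-/

set_option autoImplicit false
open Cfsg Cfsg.FusionSystem

namespace Cfsg.Agent.H28

/-- `H = V ⋊ C`, `V` an abelian self-centralizing `p`-group inverted by `z ∈ C`. -/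
structure QdLike (p : ℕ) {H : Type*} [Group H] (V C : Subgroup H) (z : H) : Prop where
  Vn : V.Normal
  Vp : IsPGroup p V
  Vab : ∀ a ∈ V, ∀ b ∈ V, a * b = b * a
  cent : ∀ h, (∀ v ∈ V, h * v = v * h) → h ∈ V
  inf : V ⊓ C = ⊥
  sup : V ⊔ C = ⊤
  hz : z ∈ C
  hinv : ∀ v ∈ V, z * v * z⁻¹ = v⁻¹

variable {p : ℕ} {G H : Type*} [Group G] [Group H] {V C : Subgroup H} {z : H}

theorem QdLike.uniq (hH : QdLike p V C z) {s s' : H} (hs : s ∈ C) (hs' : s' ∈ C)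
    (h : ∀ v ∈ V, s * v * s⁻¹ = s' * v * s'⁻¹) : s = s' := by
  have h1 : s'⁻¹ * s ∈ V := by
    apply hH.cent
    intro v hv
    have h2 := h v hv
    have h3 : s * v = s' * v * s'⁻¹ * s := by rw [← h2]; group
    rw [mul_assoc, h3]; group
  have h2 : s'⁻¹ * s ∈ V ⊓ C := ⟨h1, mul_mem (C.inv_mem hs') hs⟩
  rw [hH.inf, Subgroup.mem_bot] at h2
  exact (inv_mul_eq_one.1 h2).symm

theorem QdLike.z_sq (hH : QdLike p V C z) : z * z = 1 := by
  apply hH.uniq (mul_mem hH.hz hH.hz) C.one_mem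
  intro v hv
  have h1 := hH.hinv v hv
  have h2 := hH.hinv _ (inv_mem hv)
  calc z * z * v * (z * z)⁻¹ = z * (z * v * z⁻¹) * z⁻¹ := by group
    _ = 1 * v * 1⁻¹ := by rw [h1, h2]; group

theorem QdLike.z_comm (hH : QdLike p V C z) {s : H} (hs : s ∈ C) : s * z * s⁻¹ = z := by
  apply hH.uniq (mul_mem (mul_mem hs hH.hz) (inv_mem hs)) hH.hz
  intro v hv
  have h1 : s⁻¹ * v * s ∈ V := by
    have := hH.Vn.conj_mem v hv s⁻¹
    rwa [inv_inv] at this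
  have h2 := hH.hinv _ h1
  calc s * z * s⁻¹ * v * (s * z * s⁻¹)⁻¹ = s * (z * (s⁻¹ * v * s) * z⁻¹) * s⁻¹ := by group
    _ = v⁻¹ := by rw [h2]; group
    _ = z * v * z⁻¹ := (hH.hinv v hv).symm

theorem qd_step1 [Fact p.Prime] [Finite G] (hH : QdLike p V C z) (h : Involves H G) :
    ∃ (K : Subgroup G) (φ : K →* H) (T : Subgroup G), T ≤ K ∧
      K ≤ Subgroup.normalizer (T : Set G) ∧ IsPGroup p T ∧ Function.Surjective φ ∧
      (∀ x ∈ T, tf φ x ∈ V) ∧ ∀ v ∈ V, ∃ x ∈ T, tf φ x = v := by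
  obtain ⟨K, φ, hφ⟩ := Cfsg.Agent.L.involves_iff.1 h
  haveI := hH.Vn
  have hW : (V.comap φ).Normal := hH.Vn.comap φ
  obtain ⟨T₀⟩ : Nonempty (Sylow p (V.comap φ)) := ⟨default⟩
  -- the image of `T₀` is `V`
  let ψ : V.comap φ →* V :=
    { toFun := fun x => ⟨φ x, x.2⟩
      map_one' := Subtype.ext (map_one φ)
      map_mul' := fun x y => Subtype.ext (map_mul φ _ _) }
  have hψ : Function.Surjective ψ := by
    rintro ⟨v, hv⟩
    obtain ⟨k, rfl⟩ := hφ v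
    exact ⟨⟨k, hv⟩, rfl⟩
  haveI : Finite H := Finite.of_surjective φ hφ
  have h1 : (T₀ : Subgroup (V.comap φ)).map ψ = ⊤ := by
    have h2 : ((T₀.mapSurjective hψ : Sylow p V) : Subgroup V) = (T₀ : Subgroup (V.comap φ)).map ψ :=
      Sylow.coe_mapSurjective hψ T₀
    rw [← h2]
    have h3 : IsPGroup p (⊤ : Subgroup V) := hH.Vp.to_subgroup _
    exact top_le_iff.1 ((T₀.mapSurjective hψ).3 h3 le_top).le
  set TK : Subgroup K := (T₀ : Subgroup (V.comap φ)).map (V.comap φ).subtype with hTK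
  have hfr := Sylow.normalizer_sup_eq_top T₀
  rw [← hTK] at hfr
  set T : Subgroup G := TK.map K.subtype with hT
  have hTK' : T ≤ K := Subgroup.map_subtype_le TK
  have hTp : IsPGroup p T := (T₀.2.map _).map _
  have hmemT : ∀ x : K, (x : G) ∈ T ↔ x ∈ TK := by
    intro x
    rw [hT, Subgroup.mem_map]
    constructor
    · rintro ⟨y, hy, hyx⟩
      rwa [← (Subtype.ext hyx : y = x)]
    · intro hx; exact ⟨x, hx, rfl⟩
  have hTV : ∀ x ∈ T, tf φ x ∈ V := by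
    intro x hx
    rw [tf_apply φ (hTK' hx)]
    have h4 : (⟨x, hTK' hx⟩ : K) ∈ TK := (hmemT _).1 hx
    obtain ⟨y, -, hy⟩ := h4
    rw [← hy]; exact y.2
  have hVT : ∀ v ∈ V, ∃ x ∈ T, tf φ x = v := by
    intro v hv
    have h4 : (⟨v, hv⟩ : V) ∈ (T₀ : Subgroup (V.comap φ)).map ψ := by rw [h1]; trivial
    obtain ⟨y, hy, hyv⟩ := h4
    refine ⟨((y : K) : G), (hmemT _).2 ⟨y, hy, rfl⟩, ?_⟩
    rw [tf_coe]
    exact congrArg Subtype.val hyv
  have hK₁ : K ⊓ Subgroup.normalizer (T : Set G) ≤ K := inf_le_left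
  haveI : Finite T := inferInstance
  refine ⟨K ⊓ Subgroup.normalizer (T : Set G), φ.comp (Subgroup.inclusion hK₁), T,
    le_inf hTK' Subgroup.le_normalizer, inf_le_right, hTp, ?_, ?_, ?_⟩
  · intro h'
    obtain ⟨k, rfl⟩ := hφ h'
    have hk : k ∈ Subgroup.normalizer (TK : Set K) ⊔ V.comap φ := by rw [hfr]; trivial
    obtain ⟨n, hn, w, hw, hnw⟩ := Subgroup.mem_sup_of_normal_right.1 hk
    obtain ⟨t, ht, htw⟩ := hVT (φ w) hw
    have hn' : (n : G) ∈ Subgroup.normalizer (T : Set G) := by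
      apply mem_normalizer_of_finite
      intro x hx
      have h5 := (Subgroup.mem_normalizer_iff.1 hn ⟨x, hTK' hx⟩).1 ((hmemT _).1 hx)
      exact (hmemT _).2 h5
    refine ⟨⟨(n : G) * t, mul_mem ⟨n.2, hn'⟩ ⟨hTK' ht, Subgroup.le_normalizer ht⟩⟩, ?_⟩
    show φ ⟨(n : G) * t, _⟩ = φ k
    have h6 : (⟨(n : G) * t, mul_mem n.2 (hTK' ht)⟩ : K) = n * ⟨t, hTK' ht⟩ := rfl
    rw [h6, map_mul, ← hnw, map_mul, ← htw, tf_apply φ (hTK' ht)]
  · intro x hx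
    have hx' : x ∈ K ⊓ Subgroup.normalizer (T : Set G) := ⟨hTK' hx, Subgroup.le_normalizer hx⟩
    rw [tf_apply _ hx']
    have := hTV x hx
    rwa [tf_apply φ (hTK' hx)] at this
  · intro v hv
    obtain ⟨x, hx, h4⟩ := hVT v hv
    have hx' : x ∈ K ⊓ Subgroup.normalizer (T : Set G) := ⟨hTK' hx, Subgroup.le_normalizer hx⟩
    refine ⟨x, hx, ?_⟩
    rw [tf_apply _ hx', ← h4, tf_apply φ (hTK' hx)]
    rfl

theorem exists_max_pSubgroup (p : ℕ) [Finite G] {U T : Subgroup G} (hTU : T ≤ U)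
    (hT : IsPGroup p T) : ∃ D : Subgroup G, T ≤ D ∧ D ≤ U ∧ IsPGroup p D ∧
      ∀ B ≤ U, IsPGroup p B → D ≤ B → B ≤ D := by
  have hTU' : IsPGroup p (T.subgroupOf U) := hT.comap_of_injective _ (Subgroup.subtype_injective U)
  obtain ⟨D₀, hD₀⟩ := hTU'.exists_le_sylow
  refine ⟨(D₀ : Subgroup U).map U.subtype, ?_, Subgroup.map_subtype_le _, D₀.2.map _, ?_⟩
  · intro x hx
    exact ⟨⟨x, hTU hx⟩, hD₀ hx, rfl⟩
  · intro B hBU hB hDB
    have hB' : IsPGroup p (B.subgroupOf U) := hB.comap_of_injective _ (Subgroup.subtype_injective U)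
    have h1 : (D₀ : Subgroup U) ≤ B.subgroupOf U := fun x hx => hDB ⟨x, hx, rfl⟩
    have h2 := D₀.3 hB' h1
    intro x hx
    have h3 : (⟨x, hBU hx⟩ : U) ∈ B.subgroupOf U := hx
    rw [h2] at h3
    exact ⟨_, h3, rfl⟩

theorem involves_local [Fact p.Prime] (hp2 : p ≠ 2) [Finite G] (hH : QdLike p V C z)
    (h : Involves H G) : ∃ D : Subgroup G, IsPGroup p D ∧
      (∀ A : Subgroup G, IsPGroup p A → (∀ a ∈ A, ∀ d ∈ D, a * d = d * a) → A ≤ D) ∧
      Involves H (Subgroup.normalizer (D : Set G)) := by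
  obtain ⟨K, φ, T, hTK, hKT, hTp, hφ, hTV, hVT⟩ := qd_step1 hH h
  haveI : Finite T := inferInstance
  have hKn : ∀ k ∈ K, ∀ t ∈ T, k * t * k⁻¹ ∈ T := fun k hk t ht =>
    (Subgroup.mem_normalizer_iff.1 (hKT hk) t).1 ht
  set Z := Subgroup.centralizer (T : Set G) with hZ
  have hZc : ∀ c ∈ Z, ∀ t ∈ T, c * t * c⁻¹ = t := fun c hc t ht => by
    rw [← Subgroup.mem_centralizer_iff.1 hc t ht]; group
  -- the subgroup `K Z`
  let KZ : Subgroup G :=
    { carrier := {n | ∃ k ∈ K, ∃ c ∈ Z, n = k * c}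
      mul_mem' := by
        rintro _ _ ⟨k, hk, c, hc, rfl⟩ ⟨k', hk', c', hc', rfl⟩
        refine ⟨k * k', mul_mem hk hk', (k'⁻¹ * c * k') * c', mul_mem ?_ hc', by group⟩
        rw [hZ, Subgroup.mem_centralizer_iff]
        intro t ht
        have h1 := hZc c hc _ (hKn k' hk' t ht)
        have h2 : (k'⁻¹ * c * k') * t * (k'⁻¹ * c * k')⁻¹ = k'⁻¹ * (c * (k' * t * k'⁻¹) * c⁻¹) * k' := by
          group
        rw [h1] at h2
        have h3 : (k'⁻¹ * c * k') * t * (k'⁻¹ * c * k')⁻¹ = t := by rw [h2]; group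
        nth_rw 1 [← h3]; group
      one_mem' := ⟨1, one_mem _, 1, one_mem _, by group⟩
      inv_mem' := by
        rintro _ ⟨k, hk, c, hc, rfl⟩
        refine ⟨k⁻¹, inv_mem hk, k * c⁻¹ * k⁻¹, ?_, by group⟩
        rw [hZ, Subgroup.mem_centralizer_iff]
        intro t ht
        have hk' := hKn k⁻¹ (inv_mem hk) t ht
        have h1 := hZc c⁻¹ (inv_mem hc) _ hk'
        have h2 : (k * c⁻¹ * k⁻¹) * t * (k * c⁻¹ * k⁻¹)⁻¹ =
          k * (c⁻¹ * (k⁻¹ * t * k⁻¹⁻¹) * c⁻¹⁻¹) * k⁻¹ := by group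
        rw [h1] at h2
        have h3 : (k * c⁻¹ * k⁻¹) * t * (k * c⁻¹ * k⁻¹)⁻¹ = t := by rw [h2]; group
        nth_rw 1 [← h3]; group }
  have hKZ : K ≤ KZ := fun k hk => ⟨k, hk, 1, one_mem _, by group⟩
  have hZZ : Z ≤ KZ := fun c hc => ⟨1, one_mem _, c, hc, by group⟩
  have hKZT : ∀ n ∈ KZ, ∀ t ∈ T, n * t * n⁻¹ ∈ T := by
    rintro _ ⟨k, hk, c, hc, rfl⟩ t ht
    have : k * c * t * (k * c)⁻¹ = k * (c * t * c⁻¹) * k⁻¹ := by group
    rw [this, hZc c hc t ht]; exact hKn k hk t ht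
  -- the action on `V`
  obtain ⟨σ, hσ⟩ := exists_hom_of_rel
    (R := fun (n : KZ) (s : C) => ∀ t ∈ T, tf φ ((n : G) * t * (n : G)⁻¹) = s * tf φ t * (s : H)⁻¹)
    (by
      rintro ⟨_, k, hk, c, hc, rfl⟩
      have h1 : tf φ k ∈ V ⊔ C := by rw [hH.sup]; trivial
      haveI := hH.Vn
      obtain ⟨v, hv, s, hs, h2⟩ := Subgroup.mem_sup_of_normal_left.1 h1
      refine ⟨⟨s, hs⟩, fun t ht => ?_⟩
      have h3 : k * c * t * (k * c)⁻¹ = k * (c * t * c⁻¹) * k⁻¹ := by group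
      show tf φ (k * c * t * (k * c)⁻¹) = s * tf φ t * s⁻¹
      rw [h3, hZc c hc t ht, tf_conj hk (hTK ht), ← h2]
      have h4 := hH.Vab v hv _ (hH.Vn.conj_mem _ (hTV t ht) s)
      have h5 : v * s * tf φ t * (v * s)⁻¹ = v * (s * tf φ t * s⁻¹) * v⁻¹ := by group
      rw [h5, h4]; group)
    (by
      intro n s s' h1 h2
      refine Subtype.ext (hH.uniq s.2 s'.2 fun v hv => ?_)
      obtain ⟨t, ht, rfl⟩ := hVT v hv
      rw [← h1 t ht, h2 t ht])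
    (by
      intro n n' s s' h1 h2 t ht
      have h3 : ((n * n' : KZ) : G) * t * ((n * n' : KZ) : G)⁻¹ = n * (n' * t * (n' : G)⁻¹) * (n : G)⁻¹ := by
        rw [Subgroup.coe_mul]; group
      rw [h3, h1 _ (hKZT _ n'.2 t ht), h2 t ht, Subgroup.coe_mul]; group)
  have hσ' : ∀ n ∈ KZ, ∀ t ∈ T, tf φ (n * t * n⁻¹) = (tf σ n : C) * tf φ t * ((tf σ n : C) : H)⁻¹ :=
    fun n hn t ht => by rw [tf_apply σ hn]; exact hσ ⟨n, hn⟩ t ht
  have hσu : ∀ n ∈ KZ, ∀ s : C, (∀ t ∈ T, tf φ (n * t * n⁻¹) = s * tf φ t * (s : H)⁻¹) → tf σ n = s := by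
    intro n hn s hs
    refine Subtype.ext (hH.uniq (tf σ n).2 s.2 fun v hv => ?_)
    obtain ⟨t, ht, rfl⟩ := hVT v hv
    rw [← hσ' n hn t ht, hs t ht]
  have hσZ : ∀ c ∈ Z, tf σ c = 1 := fun c hc => hσu c (hZZ hc) 1 fun t ht => by
    rw [hZc c hc t ht]; simp
  have hσT : ∀ x ∈ T, tf σ x = 1 := fun x hx => hσu x (hKZ (hTK hx)) 1 fun t ht => by
    rw [tf_conj (hTK hx) (hTK ht), hH.Vab _ (hTV x hx) _ (hTV t ht)]; simp
  have hσs : ∀ s : C, ∃ k ∈ K, tf σ k = s := by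
    intro s
    obtain ⟨k, hk⟩ := hφ s
    refine ⟨k, k.2, hσu _ (hKZ k.2) s fun t ht => ?_⟩
    rw [tf_conj k.2 (hTK ht), tf_coe, hk]
  -- the Sylow subgroup `D` of `T Z`
  have hTKZ : T ≤ KZ := hTK.trans hKZ
  have hTZ : T ⊔ Z ≤ KZ := sup_le hTKZ hZZ
  obtain ⟨D, hTD, hDTZ, hDp, hDmax⟩ := exists_max_pSubgroup p (le_sup_left : T ≤ T ⊔ Z) hTp
  have hDcen : ∀ A : Subgroup G, IsPGroup p A → (∀ a ∈ A, ∀ d ∈ D, a * d = d * a) → A ≤ D := by
    intro A hA hAD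
    have hAZ : A ≤ Z := by
      intro a ha
      rw [hZ, Subgroup.mem_centralizer_iff]
      intro t ht
      exact (hAD a ha t (hTD ht)).symm
    have hAn : A ≤ Subgroup.normalizer (D : Set G) := by
      intro a ha
      apply mem_normalizer_of_finite
      intro d hd
      rw [hAD a ha d hd, mul_inv_cancel_right]; exact hd
    have hAD' : IsPGroup p (A ⊔ D : Subgroup G) := by
      have := IsPGroup.to_sup_of_normal_right' hA hDp hAn
      exact this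
    exact le_sup_left.trans (hDmax (A ⊔ D) (sup_le (hAZ.trans le_sup_right) hDTZ) hAD' le_sup_right)
  have hTZn : ∀ n ∈ KZ, ∀ x ∈ T ⊔ Z, n * x * n⁻¹ ∈ T ⊔ Z := by
    intro n hn
    have h1 : (T ⊔ Z) ≤ (T ⊔ Z).comap (MulAut.conj n).toMonoidHom := by
      refine sup_le (fun t ht => ?_) (fun c hc => ?_)
      · exact Subgroup.mem_comap.2 (le_sup_left (b := Z) (hKZT n hn t ht))
      · refine Subgroup.mem_comap.2 (le_sup_right (a := T) ?_)
        show n * c * n⁻¹ ∈ Z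
        rw [hZ, Subgroup.mem_centralizer_iff]
        intro t ht
        have h2 := hKZT n⁻¹ (inv_mem hn) t ht
        have h3 := hZc c hc _ h2
        have h4 : (n * c * n⁻¹) * t * (n * c * n⁻¹)⁻¹ = n * (c * (n⁻¹ * t * n⁻¹⁻¹) * c⁻¹) * n⁻¹ := by group
        rw [h3] at h4
        have h5 : (n * c * n⁻¹) * t * (n * c * n⁻¹)⁻¹ = t := by rw [h4]; group
        nth_rw 1 [← h5]; group
    exact fun x hx => h1 hx
  have hDKZ : D ≤ KZ := hDTZ.trans hTZ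
  -- `N = N_{KZ}(D)` covers `C`
  let N : Subgroup G := KZ ⊓ Subgroup.normalizer (D : Set G)
  have hNs : ∀ s : C, ∃ n ∈ N, tf σ n = s := by
    intro s
    obtain ⟨k, hk, hks⟩ := hσs s
    have hkZ := hKZ hk
    obtain ⟨χ, hχ, h1⟩ := exists_conj_of_maximal hDTZ hDp hDmax
      (B := D.map (MulAut.conj k).toMonoidHom) (by
        rintro _ ⟨d, hd, rfl⟩
        exact hTZn k hkZ d (hDTZ hd)) (hDp.map _)
    have hχσ : tf σ χ = 1 := by
      have h2 : T ⊔ Z ≤ (σ.ker).map KZ.subtype := by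
        refine sup_le (fun t ht => ?_) (fun c hc => ?_)
        · exact ⟨⟨t, hTKZ ht⟩, by rw [SetLike.mem_coe, MonoidHom.mem_ker, ← tf_apply σ (hTKZ ht), hσT t ht], rfl⟩
        · exact ⟨⟨c, hZZ hc⟩, by rw [SetLike.mem_coe, MonoidHom.mem_ker, ← tf_apply σ (hZZ hc), hσZ c hc], rfl⟩
      obtain ⟨y, hy, hyχ⟩ := h2 hχ
      rw [← hyχ]
      show tf σ (y : G) = 1
      rw [tf_coe]; exact hy
    refine ⟨χ * k, ⟨mul_mem (hTZ hχ) hkZ, ?_⟩, ?_⟩
    · apply mem_normalizer_of_finite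
      intro d hd
      have := h1 (k * d * k⁻¹) ⟨d, hd, rfl⟩
      have e : χ * k * d * (χ * k)⁻¹ = χ * (k * d * k⁻¹) * χ⁻¹ := by group
      rw [e]; exact this
    · rw [tf_mul (hTZ hχ) hkZ, hχσ, one_mul, hks]
  have hNKZ : N ≤ KZ := inf_le_left
  have hTN : T ≤ N := le_inf hTKZ (hTD.trans Subgroup.le_normalizer)
  -- the preimage of `⟨z⟩`
  let zC : C := ⟨z, hH.hz⟩
  let Ct : Subgroup G :=
    { carrier := {n | n ∈ N ∧ (tf σ n = 1 ∨ tf σ n = zC)}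
      mul_mem' := by
        have hzz : zC * zC = 1 := Subtype.ext hH.z_sq
        rintro a b ⟨ha, ha'⟩ ⟨hb, hb'⟩
        refine ⟨mul_mem ha hb, ?_⟩
        rw [tf_mul (hNKZ ha) (hNKZ hb)]
        rcases ha' with h1 | h1 <;> rcases hb' with h2 | h2 <;> rw [h1, h2]
        · left; exact one_mul 1
        · right; exact one_mul _
        · right; exact mul_one _
        · left; exact hzz
      one_mem' := ⟨one_mem _, Or.inl tf_one⟩
      inv_mem' := by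
        have hzz : zC⁻¹ = zC := by
          rw [inv_eq_iff_mul_eq_one]; exact Subtype.ext hH.z_sq
        rintro a ⟨ha, ha'⟩
        refine ⟨inv_mem ha, ?_⟩
        rw [tf_inv (hNKZ ha)]
        rcases ha' with h1 | h1 <;> rw [h1]
        · left; exact inv_one
        · right; exact hzz }
  have hCtN : Ct ≤ N := fun x hx => hx.1
  have hzcomm : ∀ s : C, s * zC * s⁻¹ = zC := fun s => Subtype.ext (hH.z_comm s.2)
  have hCtn : ∀ n ∈ N, ∀ x ∈ Ct, n * x * n⁻¹ ∈ Ct := by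
    rintro n hn x ⟨hx, hx'⟩
    refine ⟨mul_mem (mul_mem hn hx) (inv_mem hn), ?_⟩
    rw [tf_conj (hNKZ hn) (hNKZ hx)]
    rcases hx' with h1 | h1 <;> rw [h1]
    · left; group
    · right; exact hzcomm _
  obtain ⟨Z2, -, hZ2C, hZ2p, hZ2max⟩ := exists_max_pSubgroup 2 (bot_le : (⊥ : Subgroup G) ≤ Ct)
    (IsPGroup.of_bot)
  haveI : Fact (Nat.Prime 2) := ⟨Nat.prime_two⟩
  -- an element of `Z2` over `z`
  have hw : ∃ w ∈ Z2, tf σ w = zC := by
    obtain ⟨n, hn, hnz⟩ := hNs zC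
    obtain ⟨a, m, hm, hord⟩ := Nat.exists_eq_two_pow_mul_odd (n := orderOf n) (orderOf_pos n).ne'
    have h1 : IsPGroup 2 (Subgroup.zpowers (n ^ m)) := by
      apply isPGroup_zpowers_of_pow (n := a)
      rw [← pow_mul, mul_comm, ← hord, pow_orderOf_eq_one]
    have hnm : tf σ (n ^ m) = zC := by
      have h2 : ∀ j : ℕ, tf σ (n ^ j) = zC ^ j := by
        intro j
        induction j with
        | zero => rw [pow_zero, pow_zero, tf_one]
        | succ j ih => rw [pow_succ, pow_succ, tf_mul (pow_mem (hNKZ hn) j) (hNKZ hn), ih, hnz]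
      rw [h2]
      obtain ⟨j, rfl⟩ := hm
      rw [pow_add, pow_mul, pow_two, (Subtype.ext hH.z_sq : zC * zC = 1), one_pow, one_mul, pow_one]
    have h3 : Subgroup.zpowers (n ^ m) ≤ Ct := by
      rw [Subgroup.zpowers_le]
      exact ⟨pow_mem hn m, Or.inr hnm⟩
    obtain ⟨χ, hχ, h4⟩ := exists_conj_of_maximal hZ2C hZ2p hZ2max h3 h1
    refine ⟨χ * n ^ m * χ⁻¹, h4 _ (Subgroup.mem_zpowers _), ?_⟩
    rw [tf_conj (hNKZ (hCtN hχ)) (hNKZ (pow_mem hn m)), hnm]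
    exact hzcomm _
  obtain ⟨w, hw, hwz⟩ := hw
  let M : Subgroup G := N ⊓ Subgroup.normalizer (Z2 : Set G)
  have hMN : M ≤ N := inf_le_left
  have hwM : w ∈ M := ⟨hCtN (hZ2C hw), Subgroup.le_normalizer hw⟩
  have hMs : ∀ s : C, ∃ m ∈ M, tf σ m = s := by
    intro s
    obtain ⟨n, hn, hns⟩ := hNs s
    obtain ⟨χ, hχ, h1⟩ := exists_conj_of_maximal hZ2C hZ2p hZ2max
      (B := Z2.map (MulAut.conj n).toMonoidHom) (by
        rintro _ ⟨d, hd, rfl⟩
        exact hCtn n hn d (hZ2C hd)) (hZ2p.map _)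
    have hχn : χ * n ∈ M := by
      refine ⟨mul_mem (hCtN hχ) hn, ?_⟩
      apply mem_normalizer_of_finite
      intro d hd
      have := h1 (n * d * n⁻¹) ⟨d, hd, rfl⟩
      have e : χ * n * d * (χ * n)⁻¹ = χ * (n * d * n⁻¹) * χ⁻¹ := by group
      rw [e]; exact this
    rcases hχ.2 with h2 | h2
    · exact ⟨χ * n, hχn, by rw [tf_mul (hNKZ (hCtN hχ)) (hNKZ hn), h2, one_mul, hns]⟩
    · refine ⟨w * (χ * n), mul_mem hwM hχn, ?_⟩
      rw [tf_mul (hNKZ (hMN hwM)) (hNKZ (hMN hχn)), tf_mul (hNKZ (hCtN hχ)) (hNKZ hn), h2, hwz, hns,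
        ← mul_assoc, (Subtype.ext hH.z_sq : zC * zC = 1), one_mul]
  -- `T ∩ M` is in the kernel of `φ`
  have hTM : ∀ t ∈ T, t ∈ M → tf φ t = 1 := by
    intro t ht htM
    have h1 : t * w * t⁻¹ * w⁻¹ ∈ Z2 :=
      mul_mem ((Subgroup.mem_normalizer_iff.1 htM.2 w).1 hw) (inv_mem hw)
    have h2 : t * w * t⁻¹ * w⁻¹ ∈ T := by
      have := hKZT w (hNKZ (hMN hwM)) t⁻¹ (inv_mem ht)
      have e : t * w * t⁻¹ * w⁻¹ = t * (w * t⁻¹ * w⁻¹) := by group
      rw [e]; exact mul_mem ht this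
    have h3 : t * w * t⁻¹ * w⁻¹ = 1 := by
      have hd := IsPGroup.disjoint_of_ne p 2 hp2 T Z2 hTp hZ2p
      have := (Subgroup.disjoint_def.1 hd) h2 h1
      exact this
    have h4 : w * t * w⁻¹ = t := by
      have : t * w = w * t := by
        have := mul_inv_eq_one.1 h3
        have h5 := mul_inv_eq_iff_eq_mul.1 this
        exact h5
      rw [← this]; group
    have h5 := hσ' w (hNKZ (hMN hwM)) t ht
    rw [h4, hwz] at h5
    change tf φ t = z * tf φ t * z⁻¹ at h5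
    rw [hH.hinv _ (hTV t ht)] at h5
    -- `φ t` has order dividing 2
    have h6 : tf φ t * tf φ t = 1 := by
      nth_rw 1 [h5]; rw [inv_mul_cancel]
    obtain ⟨n, hn⟩ := hH.Vp ⟨tf φ t, hTV t ht⟩
    have hn' : (tf φ t) ^ p ^ n = 1 := congrArg Subtype.val hn
    have h7 : orderOf (tf φ t) ∣ p ^ n := orderOf_dvd_of_pow_eq_one hn'
    have h8 : orderOf (tf φ t) ∣ 2 := orderOf_dvd_of_pow_eq_one (by rw [pow_two]; exact h6)
    have h9 : Nat.Coprime (p ^ n) 2 :=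
      Nat.Coprime.pow_left n ((Nat.coprime_primes (Fact.out : p.Prime) Nat.prime_two).2 hp2)
    exact orderOf_eq_one_iff.1 (Nat.eq_one_of_dvd_coprimes h9 h7 h8)
  have hMT : ∀ m ∈ M, ∀ t ∈ T, m * t * m⁻¹ ∈ T := fun m hm t ht => hKZT m (hNKZ (hMN hm)) t ht
  -- the subgroup `T M`
  let TM : Subgroup G :=
    { carrier := {x | ∃ t ∈ T, ∃ m ∈ M, x = t * m}
      mul_mem' := by
        rintro _ _ ⟨t, ht, m, hm, rfl⟩ ⟨t', ht', m', hm', rfl⟩
        exact ⟨t * (m * t' * m⁻¹), mul_mem ht (hMT m hm t' ht'), m * m', mul_mem hm hm', by group⟩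
      one_mem' := ⟨1, one_mem _, 1, one_mem _, by group⟩
      inv_mem' := by
        rintro _ ⟨t, ht, m, hm, rfl⟩
        exact ⟨m⁻¹ * t⁻¹ * m⁻¹⁻¹, hMT _ (inv_mem hm) _ (inv_mem ht), m⁻¹, inv_mem hm, by group⟩ }
  obtain ⟨ρ, hρ⟩ := exists_hom_of_rel
    (R := fun (x : TM) (y : H) => ∃ t ∈ T, ∃ m ∈ M, (x : G) = t * m ∧ y = tf φ t * (tf σ m : C))
    (by
      rintro ⟨x, t, ht, m, hm, rfl⟩
      exact ⟨_, t, ht, m, hm, rfl, rfl⟩)
    (by
      rintro x y y' ⟨t, ht, m, hm, h1, rfl⟩ ⟨t', ht', m', hm', h1', rfl⟩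
      rw [h1] at h1'
      have h2 : t'⁻¹ * t = m' * m⁻¹ := by
        rw [inv_mul_eq_iff_eq_mul, ← mul_assoc, ← h1']; group
      have h3 : t'⁻¹ * t ∈ T := mul_mem (inv_mem ht') ht
      have h4 : t'⁻¹ * t ∈ M := by rw [h2]; exact mul_mem hm' (inv_mem hm)
      have h5 := hTM _ h3 h4
      rw [tf_mul (inv_mem (hTK ht')) (hTK ht), tf_inv (hTK ht'), inv_mul_eq_one] at h5
      have h6 := hσT _ h3
      rw [h2, tf_mul (hNKZ (hMN hm')) (inv_mem (hNKZ (hMN hm))), tf_inv (hNKZ (hMN hm)),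
        mul_inv_eq_one] at h6
      rw [h5, h6])
    (by
      rintro x x' y y' ⟨t, ht, m, hm, h1, rfl⟩ ⟨t', ht', m', hm', h1', rfl⟩
      refine ⟨t * (m * t' * m⁻¹), mul_mem ht (hMT m hm t' ht'), m * m', mul_mem hm hm', ?_, ?_⟩
      · rw [Subgroup.coe_mul, h1, h1']; group
      · rw [tf_mul (hTK ht) (hTK (hMT m hm t' ht')), hσ' m (hNKZ (hMN hm)) t' ht',
          tf_mul (hNKZ (hMN hm)) (hNKZ (hMN hm')), Subgroup.coe_mul]
        group)
  have hρs : Function.Surjective ρ := by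
    intro y
    have h1 : y ∈ V ⊔ C := by rw [hH.sup]; trivial
    haveI := hH.Vn
    obtain ⟨v, hv, s, hs, h2⟩ := Subgroup.mem_sup_of_normal_left.1 h1
    obtain ⟨t, ht, rfl⟩ := hVT v hv
    obtain ⟨m, hm, hms⟩ := hMs ⟨s, hs⟩
    have hx : t * m ∈ TM := ⟨t, ht, m, hm, rfl⟩
    obtain ⟨t', ht', m', hm', h3, h4⟩ := hρ ⟨t * m, hx⟩
    refine ⟨⟨t * m, hx⟩, ?_⟩
    rw [h4, ← h2]
    change t * m = t' * m' at h3
    have h2' : t'⁻¹ * t = m' * m⁻¹ := by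
      rw [inv_mul_eq_iff_eq_mul, ← mul_assoc, ← h3]; group
    have h3' : t'⁻¹ * t ∈ T := mul_mem (inv_mem ht') ht
    have h4' : t'⁻¹ * t ∈ M := by rw [h2']; exact mul_mem hm' (inv_mem hm)
    have h5 := hTM _ h3' h4'
    rw [tf_mul (inv_mem (hTK ht')) (hTK ht), tf_inv (hTK ht'), inv_mul_eq_one] at h5
    have h6 := hσT _ h3'
    rw [h2', tf_mul (hNKZ (hMN hm')) (inv_mem (hNKZ (hMN hm))), tf_inv (hNKZ (hMN hm)),
      mul_inv_eq_one] at h6
    rw [h5, h6, hms]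
  have hTMD : TM ≤ Subgroup.normalizer (D : Set G) := by
    rintro _ ⟨t, ht, m, hm, rfl⟩
    exact mul_mem (hTD.trans Subgroup.le_normalizer ht) (hMN hm).2
  refine ⟨D, hDp, hDcen, Cfsg.Agent.L.involves_iff.2 ⟨TM.subgroupOf (Subgroup.normalizer (D : Set G)),
    ρ.comp (Subgroup.subgroupOfEquivOfLe hTMD).toMonoidHom, ?_⟩⟩
  intro y
  obtain ⟨x, rfl⟩ := hρs y
  exact ⟨(Subgroup.subgroupOfEquivOfLe hTMD).symm x, by simp⟩

end Cfsg.Agent.H28
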