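import Mathlib
import Cfsg.Prelude.Def_PLocal
import Cfsg.Agent.H28.QdGrp

/-!
`Qd(p)` is `QdLike` for `p` odd.
-/

set_option autoImplicit false
open Cfsg

namespace Cfsg.Agent.H28

open Matrix

variable {p : ℕ}

/-- The matrices whose last row is `(0, 0, 1)`. -/
def affSub (p : ℕ) [Fact p.Prime] : Subgroup (Matrix.SpecialLinearGroup (Fin 3) (ZMod p)) :=
  let S : Submonoid (Matrix.SpecialLinearGroup (Fin 3) (ZMod p)) :=
    { carrier := {M | M.1 2 0 = 0 ∧ M.1 2 1 = 0 ∧ M.1 2 2 = 1}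
      mul_mem' := by
        rintro A B ⟨h1, h2, h3⟩ ⟨g1, g2, g3⟩
        have e : (A * B).1 = A.1 * B.1 := rfl
        show (A * B).1 2 0 = 0 ∧ (A * B).1 2 1 = 0 ∧ (A * B).1 2 2 = 1
        rw [e]
        simp only [Matrix.mul_apply, Fin.sum_univ_three, h1, h2, h3, g1, g2, g3]
        simp
      one_mem' := by
        show (1 : Matrix (Fin 3) (Fin 3) (ZMod p)) 2 0 = 0 ∧ (1 : Matrix (Fin 3) (Fin 3) (ZMod p)) 2 1 = 0 ∧
          (1 : Matrix (Fin 3) (Fin 3) (ZMod p)) 2 2 = 1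
        simp }
  { S with
    inv_mem' := by
      intro x hx
      have h1 : x⁻¹ = x ^ (orderOf x - 1) := by
        rw [inv_eq_iff_mul_eq_one, ← pow_succ']
        rw [Nat.sub_add_cancel (orderOf_pos x), pow_orderOf_eq_one]
      show x⁻¹ ∈ S
      rw [h1]
      exact S.pow_mem hx _ }

theorem mem_qd [Fact p.Prime] {M : Matrix.SpecialLinearGroup (Fin 3) (ZMod p)} :
    M ∈ Cfsg.qd p ↔ M.1 2 0 = 0 ∧ M.1 2 1 = 0 ∧ M.1 2 2 = 1 := by
  constructor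
  · intro h
    have h1 : Cfsg.qd p ≤ affSub p := by
      rw [Cfsg.qd, Subgroup.closure_le]
      intro M hM
      exact hM
    exact h1 h
  · intro h
    exact Subgroup.subset_closure h

/-- The upper left block. -/
def qdBlock (p : ℕ) [Fact p.Prime] : Cfsg.qd p →* Matrix (Fin 2) (Fin 2) (ZMod p) where
  toFun M := !![M.1.1 0 0, M.1.1 0 1; M.1.1 1 0, M.1.1 1 1]
  map_one' := by
    show !![(1 : Matrix (Fin 3) (Fin 3) (ZMod p)) 0 0, (1 : Matrix (Fin 3) (Fin 3) (ZMod p)) 0 1;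
      (1 : Matrix (Fin 3) (Fin 3) (ZMod p)) 1 0, (1 : Matrix (Fin 3) (Fin 3) (ZMod p)) 1 1] = 1
    simp [Matrix.one_fin_two]
  map_mul' := by
    intro A B
    obtain ⟨h1, h2, h3⟩ := mem_qd.1 A.2
    obtain ⟨g1, g2, g3⟩ := mem_qd.1 B.2
    have e : (A * B).1.1 = A.1.1 * B.1.1 := rfl
    rw [e]
    ext i j
    fin_cases i <;> fin_cases j <;>
      simp [Matrix.mul_apply, Fin.sum_univ_three, Fin.sum_univ_two, g1, g2]

theorem qdBlock_eq_one_iff [Fact p.Prime] {M : Cfsg.qd p} : qdBlock p M = 1 ↔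
    M.1.1 0 0 = 1 ∧ M.1.1 0 1 = 0 ∧ M.1.1 1 0 = 0 ∧ M.1.1 1 1 = 1 := by
  show !![M.1.1 0 0, M.1.1 0 1; M.1.1 1 0, M.1.1 1 1] = 1 ↔ _
  rw [Matrix.one_fin_two]
  constructor
  · intro h
    exact ⟨congrFun (congrFun h 0) 0, congrFun (congrFun h 0) 1, congrFun (congrFun h 1) 0,
      congrFun (congrFun h 1) 1⟩
  · rintro ⟨h1, h2, h3, h4⟩
    rw [h1, h2, h3, h4]

/-- The translations. -/
def qdTr (p : ℕ) [Fact p.Prime] (x y : ZMod p) : Cfsg.qd p :=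
  ⟨⟨!![1, 0, x; 0, 1, y; 0, 0, 1], by rw [Matrix.det_fin_three]; simp⟩, mem_qd.2 (by simp)⟩

theorem qdTr_val [Fact p.Prime] (x y : ZMod p) : (qdTr p x y).1.1 = !![1, 0, x; 0, 1, y; 0, 0, 1] := rfl

theorem qd_ext [Fact p.Prime] {A B : Cfsg.qd p} (h : A.1.1 = B.1.1) : A = B :=
  Subtype.ext (Subtype.ext h)

theorem qdTr_mul [Fact p.Prime] (x y x' y' : ZMod p) :
    qdTr p x y * qdTr p x' y' = qdTr p (x + x') (y + y') := by
  apply qd_ext
  have e : (qdTr p x y * qdTr p x' y').1.1 = (qdTr p x y).1.1 * (qdTr p x' y').1.1 := rfl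
  rw [e, qdTr_val, qdTr_val, qdTr_val]
  ext i j
  fin_cases i <;> fin_cases j <;> simp [Matrix.mul_apply, Fin.sum_univ_three, add_comm]

theorem qdTr_zero [Fact p.Prime] : qdTr p 0 0 = 1 := by
  apply qd_ext
  rw [qdTr_val]
  show _ = (1 : Matrix (Fin 3) (Fin 3) (ZMod p))
  ext i j
  fin_cases i <;> fin_cases j <;> simp

theorem qdTr_pow [Fact p.Prime] (x y : ZMod p) (n : ℕ) : qdTr p x y ^ n = qdTr p (n * x) (n * y) := by
  induction n with
  | zero => rw [pow_zero, Nat.cast_zero, zero_mul, zero_mul, qdTr_zero]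
  | succ n ih => rw [pow_succ, ih, qdTr_mul]; push_cast; ring_nf

theorem mem_ker_iff [Fact p.Prime] {M : Cfsg.qd p} : M ∈ (qdBlock p).ker ↔ ∃ x y, M = qdTr p x y := by
  rw [MonoidHom.mem_ker, qdBlock_eq_one_iff]
  obtain ⟨h1, h2, h3⟩ := mem_qd.1 M.2
  constructor
  · rintro ⟨h4, h5, h6, h7⟩
    refine ⟨M.1.1 0 2, M.1.1 1 2, qd_ext ?_⟩
    rw [qdTr_val]
    ext i j
    fin_cases i <;> fin_cases j <;> simp [h1, h2, h3, h4, h5, h6, h7]
  · rintro ⟨x, y, rfl⟩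
    rw [qdTr_val]
    simp

/-- The complement. -/
def qdC (p : ℕ) [Fact p.Prime] : Subgroup (Cfsg.qd p) :=
  let S : Submonoid (Cfsg.qd p) :=
    { carrier := {M | M.1.1 0 2 = 0 ∧ M.1.1 1 2 = 0}
      mul_mem' := by
        rintro A B ⟨h1, h2⟩ ⟨g1, g2⟩
        have e : (A * B).1.1 = A.1.1 * B.1.1 := rfl
        show (A * B).1.1 0 2 = 0 ∧ (A * B).1.1 1 2 = 0
        rw [e]
        simp only [Matrix.mul_apply, Fin.sum_univ_three, h1, h2, g1, g2]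
        simp
      one_mem' := by
        show (1 : Matrix (Fin 3) (Fin 3) (ZMod p)) 0 2 = 0 ∧ (1 : Matrix (Fin 3) (Fin 3) (ZMod p)) 1 2 = 0
        simp }
  { S with
    inv_mem' := by
      intro x hx
      have h1 : x⁻¹ = x ^ (orderOf x - 1) := by
        rw [inv_eq_iff_mul_eq_one, ← pow_succ']
        rw [Nat.sub_add_cancel (orderOf_pos x), pow_orderOf_eq_one]
      show x⁻¹ ∈ S
      rw [h1]
      exact S.pow_mem hx _ }

theorem mem_qdC [Fact p.Prime] {M : Cfsg.qd p} : M ∈ qdC p ↔ M.1.1 0 2 = 0 ∧ M.1.1 1 2 = 0 := Iff.rfl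

def qdZ (p : ℕ) [Fact p.Prime] : Cfsg.qd p :=
  ⟨⟨!![-1, 0, 0; 0, -1, 0; 0, 0, 1], by rw [Matrix.det_fin_three]; simp⟩, mem_qd.2 (by simp)⟩

theorem qdZ_val [Fact p.Prime] : (qdZ p).1.1 = !![-1, 0, 0; 0, -1, 0; 0, 0, 1] := rfl

theorem qd_conj_tr [Fact p.Prime] {M : Cfsg.qd p} {x y : ZMod p} : M * qdTr p x y =
    qdTr p (M.1.1 0 0 * x + M.1.1 0 1 * y) (M.1.1 1 0 * x + M.1.1 1 1 * y) * M := by
  obtain ⟨h1, h2, h3⟩ := mem_qd.1 M.2
  apply qd_ext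
  have e : (M * qdTr p x y).1.1 = M.1.1 * (qdTr p x y).1.1 := rfl
  have e' : ∀ a b, (qdTr p a b * M).1.1 = (qdTr p a b).1.1 * M.1.1 := fun _ _ => rfl
  rw [e, e', qdTr_val, qdTr_val]
  ext i j
  fin_cases i <;> fin_cases j <;>
    simp [Matrix.mul_apply, Fin.sum_univ_three, h1, h2, h3, add_comm]

theorem qdLike_qd [Fact p.Prime] : QdLike p (qdBlock p).ker (qdC p) (qdZ p) where
  Vn := inferInstance
  Vp := by
    rintro ⟨M, hM⟩
    refine ⟨1, Subtype.ext ?_⟩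
    obtain ⟨x, y, rfl⟩ := mem_ker_iff.1 hM
    show (qdTr p x y) ^ p ^ 1 = 1
    rw [pow_one, qdTr_pow, CharP.cast_eq_zero (ZMod p) p, zero_mul, zero_mul, qdTr_zero]
  Vab := by
    intro a ha b hb
    obtain ⟨x, y, rfl⟩ := mem_ker_iff.1 ha
    obtain ⟨x', y', rfl⟩ := mem_ker_iff.1 hb
    rw [qdTr_mul, qdTr_mul, add_comm x, add_comm y]
  cent := by
    intro M hM
    have key : ∀ x y : ZMod p, M.1.1 0 0 * x + M.1.1 0 1 * y = x ∧ M.1.1 1 0 * x + M.1.1 1 1 * y = y := by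
      intro x y
      have h := hM _ (mem_ker_iff.2 ⟨x, y, rfl⟩)
      rw [qd_conj_tr] at h
      have h' := mul_right_cancel h
      have h'' : (qdTr p (M.1.1 0 0 * x + M.1.1 0 1 * y) (M.1.1 1 0 * x + M.1.1 1 1 * y)).1.1 =
        (qdTr p x y).1.1 := by rw [h']
      rw [qdTr_val, qdTr_val] at h''
      exact ⟨congrFun (congrFun h'' 0) 2, congrFun (congrFun h'' 1) 2⟩
    rw [MonoidHom.mem_ker, qdBlock_eq_one_iff]
    have h1 := key 1 0
    have h2 := key 0 1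
    simp only [mul_one, mul_zero, add_zero, zero_add] at h1 h2
    exact ⟨h1.1, h2.1, h1.2, h2.2⟩
  inf := by
    rw [eq_bot_iff]
    rintro M ⟨h1, h2⟩
    obtain ⟨x, y, rfl⟩ := mem_ker_iff.1 h1
    obtain ⟨h3, h4⟩ := mem_qdC.1 h2
    rw [qdTr_val] at h3 h4
    simp only [Matrix.of_apply, Matrix.cons_val', Matrix.cons_val, Matrix.cons_val_zero,
      Matrix.cons_val_one] at h3 h4
    rw [Subgroup.mem_bot, h3, h4, qdTr_zero]
  sup := by
    rw [eq_top_iff]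
    intro M _
    have h1 : qdTr p (-(M.1.1 0 2)) (-(M.1.1 1 2)) * M ∈ qdC p := by
      obtain ⟨g1, g2, g3⟩ := mem_qd.1 M.2
      rw [mem_qdC]
      have e' : ∀ a b, (qdTr p a b * M).1.1 = (qdTr p a b).1.1 * M.1.1 := fun _ _ => rfl
      rw [e', qdTr_val]
      simp [Matrix.mul_apply, Fin.sum_univ_three, g3]
    have h2 : M = (qdTr p (-(M.1.1 0 2)) (-(M.1.1 1 2)))⁻¹ *
      (qdTr p (-(M.1.1 0 2)) (-(M.1.1 1 2)) * M) := by group
    rw [h2]
    exact mul_mem (le_sup_left (b := qdC p) (Subgroup.inv_mem _ (mem_ker_iff.2 ⟨_, _, rfl⟩)))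
      (le_sup_right (a := (qdBlock p).ker) h1)
  hz := by
    rw [mem_qdC, qdZ_val]
    simp
  hinv := by
    intro v hv
    obtain ⟨x, y, rfl⟩ := mem_ker_iff.1 hv
    rw [qd_conj_tr, mul_inv_cancel_right, eq_inv_iff_mul_eq_one, qdTr_mul, qdZ_val]
    simp only [Matrix.of_apply, Matrix.cons_val', Matrix.cons_val, Matrix.cons_val_zero,
      Matrix.cons_val_one]
    simp [qdTr_zero]

end Cfsg.Agent.H28
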