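import Mathlib
import Cfsg.Prelude.Def_FusionSystem
import Cfsg.Prelude.Def_FusionReduction
import Cfsg.Agent.H28.FusFactor3
import Cfsg.Agent.H28.QdLib

/-!
Models of local subsystems of group fusion systems; section-freeness of group fusion systems.
-/

set_option autoImplicit false
open Cfsg Cfsg.FusionSystem

namespace Cfsg.Agent.H28

universe u v w

open Cfsg.Agent.L (SylIn)

variable {G : Type u} [Group G] {p : ℕ} {S P Q R X D : Subgroup G}

theorem normalizerIn_le_normalizer : normalizerIn S Q ≤ Subgroup.normalizer (Q : Set G) := inf_le_right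

theorem norm_group_realized (hQ : Q ≤ S) : (normSys (groupFusionSystem S) Q hQ).IsRealizedBy
    (Subgroup.inclusion (normalizerIn_le_normalizer (S := S) (Q := Q))) := by
  refine ⟨Subgroup.inclusion_injective _, fun X hX φ hφ => ?_⟩
  rw [← mor_toFun_iff, mor_normSys]
  constructor
  · rintro ⟨-, -, g, hg, h1, h2⟩
    obtain ⟨-, -, c, hc⟩ := mor_group.1 hg
    refine ⟨⟨c, ?_⟩, fun x => Subtype.ext ?_⟩
    · rw [Subgroup.mem_normalizer_iff]
      intro y
      constructor
      · intro hy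
        rw [← hc y (le_sup_right (a := X) hy), ← h2]
        exact mem_img_of_mem hy
      · intro hy
        rw [← h2] at hy
        obtain ⟨z, hz, hzy⟩ := (hg.mono (le_sup_right : Q ≤ X ⊔ Q)).mem_img.1 hy
        rw [hc z (le_sup_right (a := X) hz)] at hzy
        have : z = y := by
          have := congrArg (fun w => c⁻¹ * w * c) hzy
          simpa [mul_assoc] using this
        rwa [← this]
    · have h3 := hc x (le_sup_left (b := Q) x.2)
      rw [h1 x x.2, toFun_coe] at h3
      exact h3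
  · rintro ⟨c, hc⟩
    have hc' : ∀ x : X, φ x = c * x * (c : G)⁻¹ := fun x => congrArg Subtype.val (hc x)
    have hcQ : ∀ y ∈ Q, (c : G) * y * (c : G)⁻¹ ∈ Q := fun y hy =>
      (Subgroup.mem_normalizer_iff.1 c.2 y).1 hy
    have hle : X ⊔ Q ≤ S := sup_le (hX.trans normalizerIn_le) hQ
    have hmap : X ⊔ Q ≤ S.comap (MulAut.conj (c : G)).toMonoidHom := by
      refine sup_le (fun x hx => ?_) (fun y hy => hQ (hcQ y hy))
      have := normalizerIn_le (hφ ⟨x, hx⟩)
      rw [hc'] at this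
      exact this
    refine ⟨hX, fun x hx => ?_, fun x => c * x * (c : G)⁻¹, mor_group_conj hle fun x hx => hmap hx,
      fun x hx => ?_, ?_⟩
    · rw [toFun_apply φ hx]; exact hφ _
    · rw [toFun_apply φ hx, hc']
    · rw [img_conj]
      ext y
      constructor
      · rintro ⟨z, hz, rfl⟩; exact hcQ z hz
      · intro hy
        refine ⟨(c : G)⁻¹ * y * c, ?_, by simp [mul_assoc]⟩
        have := (Subgroup.mem_normalizer_iff.1 (inv_mem c.2) y).1 hy
        rwa [inv_inv] at this

theorem norm_group_model [Finite G] [Fact p.Prime] (S : Sylow p G)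
    (hn : (groupFusionSystem (S : Subgroup G)).IsFullyNormalized Q)
    (hc : (groupFusionSystem (S : Subgroup G)).IsCentric Q) :
    (normSys (groupFusionSystem (S : Subgroup G)) Q hn.1).IsModel p
      (↥(Subgroup.normalizer (Q : Set G)) ⧸ pPrimeCore p (Subgroup.normalizer (Q : Set G)))
      ((QuotientGroup.mk' (pPrimeCore p (Subgroup.normalizer (Q : Set G)))).comp
        (Subgroup.inclusion (normalizerIn_le_normalizer (S := (S : Subgroup G)) (Q := Q)))) := by
  have hSp : IsPGroup p (S : Subgroup G) := S.2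
  haveI : Finite (normalizerIn (S : Subgroup G) Q) := finite_of_le normalizerIn_le
  have hQN := le_normalizerIn hn.1
  refine isModel_quotient (isPGroup_of_le hSp normalizerIn_le) (norm_group_realized hn.1) ?_
    (norm_centric hn.1 hc hQN) (fun g x hx => ?_) _ rfl
  · obtain ⟨R, hR⟩ := (sylIn_iff normalizerIn_le_normalizer).1 ((group_fn_iff S hn.1).1 hn)
    refine ⟨R, ?_⟩
    rw [hR, Subgroup.inclusion_range]
  · have hgx : (g : G) * x * (g : G)⁻¹ ∈ Q := (Subgroup.mem_normalizer_iff.1 g.2 x).1 hx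
    refine ⟨_, hgx, Subtype.ext ?_⟩
    rw [tf_apply _ (hQN hx), tf_apply _ (hQN hgx)]
    rfl

theorem involves_of_quotient {X : Type*} [Group X] {H : Type*} [Group H] (K : Subgroup X) [K.Normal]
    (h : Involves H (X ⧸ K)) : Involves H X := by
  have h1 : Involves (X ⧸ K) X := Cfsg.Agent.L.inv_quot (Cfsg.Agent.L.inv_refl X) K
  exact Cfsg.Agent.L.inv_trans h h1

theorem involves_of_subgroup {X : Type*} [Group X] {H : Type*} [Group H] (K : Subgroup X)
    (h : Involves H K) : Involves H X := by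
  have h1 : Involves K X := Cfsg.Agent.L.inv_sub (Cfsg.Agent.L.inv_refl X) K
  exact Cfsg.Agent.L.inv_trans h h1

/-- The fusion system of a group in which `H` is not involved is `H`-free. -/
theorem group_free_of [Finite G] [Fact p.Prime] (S : Sylow p G) {H : Type w} [Group H]
    (h : ¬ Involves H G) : (groupFusionSystem (S : Subgroup G)).IsSectionFree p H := by
  rw [isSectionFree_iff]
  intro Q hn hc hQ L _ ι hL hinv
  have hSp : IsPGroup p (S : Subgroup G) := S.2
  haveI : Finite (normalizerIn (S : Subgroup G) Q) := finite_of_le normalizerIn_le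
  have hm := norm_group_model S hn hc
  have hsat := normSys_saturated hSp (group_saturated S) hn
  have hQN := le_normalizerIn hn.1
  obtain ⟨e, -⟩ := model_unique (isPGroup_of_le hSp normalizerIn_le)
    ⟨hsat, Q, norm_normal hn.1, norm_centric hn.1 hc hQN⟩ hL hm
  apply h
  have h1 : Involves H (↥(Subgroup.normalizer (Q : Set G)) ⧸
      pPrimeCore p (Subgroup.normalizer (Q : Set G))) :=
    Cfsg.Agent.L.inv_trans hinv (Cfsg.Agent.L.inv_surj (Cfsg.Agent.L.inv_refl _) e.symm.toMonoidHom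
      e.symm.surjective)
  exact involves_of_subgroup _ (involves_of_quotient _ h1)

theorem qdLike_coprime {H : Type w} [Group H] [Finite H] [Fact p.Prime] {V C : Subgroup H} {z : H}
    (hH : QdLike p V C z) {W : Subgroup H} (hW : W.Normal) (hWp : (Nat.card W).Coprime p) : W = ⊥ := by
  rw [eq_bot_iff]
  intro w hw
  haveI := hH.Vn
  have hwV : w ∈ V := by
    apply hH.cent
    intro v hv
    have h1 : w * v * w⁻¹ * v⁻¹ ∈ V := mul_mem (hH.Vn.conj_mem v hv w) (inv_mem hv)
    have h2 : w * v * w⁻¹ * v⁻¹ ∈ W := by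
      have : w * v * w⁻¹ * v⁻¹ = w * (v * w⁻¹ * v⁻¹) := by group
      rw [this]
      exact mul_mem hw (hW.conj_mem _ (inv_mem hw) v)
    have h3 := eq_one_of_pgroup_coprime hWp hH.Vp h1 h2
    exact mul_inv_eq_iff_eq_mul.1 (mul_inv_eq_one.1 h3)
  exact eq_one_of_pgroup_coprime hWp hH.Vp hwV hw

theorem involves_quotient_coprime {X : Type v} [Group X] [Finite X] [Fact p.Prime] {H : Type w}
    [Group H] {V C : Subgroup H} {z : H} (hH : QdLike p V C z) (K : Subgroup X) [K.Normal]
    (hK : (Nat.card K).Coprime p) (h : Involves H X) : Involves H (X ⧸ K) := by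
  obtain ⟨A, f, hf⟩ := Cfsg.Agent.L.involves_iff.1 h
  haveI : Finite H := Finite.of_surjective f hf
  have hKA : (K.subgroupOf A).Normal := inferInstance
  have hW : ((K.subgroupOf A).map f).Normal := hKA.map f hf
  have hWc : (Nat.card ((K.subgroupOf A).map f)).Coprime p := by
    have h1 : Nat.card ((K.subgroupOf A).map f) ∣ Nat.card (K.subgroupOf A) := Subgroup.card_map_dvd _ _
    have h2 : Nat.card (K.subgroupOf A) ∣ Nat.card K :=
      Subgroup.card_comap_dvd_of_injective K A.subtype (Subgroup.subtype_injective A)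
    exact Nat.Coprime.coprime_dvd_left (h1.trans h2) hK
  have hbot := qdLike_coprime hH hW hWc
  have hker : ∀ a ∈ A, a ∈ K → tf f a = 1 := by
    intro a ha haK
    have : f ⟨a, ha⟩ ∈ (K.subgroupOf A).map f := ⟨⟨a, ha⟩, haK, rfl⟩
    rw [hbot, Subgroup.mem_bot] at this
    rw [tf_apply f ha, this]
  obtain ⟨ρ, hρ⟩ := exists_hom_of_rel
    (R := fun (y : A.map (QuotientGroup.mk' K)) (h : H) => ∃ a ∈ A, QuotientGroup.mk' K a = y ∧ tf f a = h)
    (by rintro ⟨_, a, ha, rfl⟩; exact ⟨_, a, ha, rfl, rfl⟩)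
    (by
      rintro y h h' ⟨a, ha, h1, rfl⟩ ⟨a', ha', h1', rfl⟩
      have h2 : a⁻¹ * a' ∈ K := (QuotientGroup.eq (s := K)).1 (h1.trans h1'.symm)
      have h3 := hker _ (mul_mem (inv_mem ha) ha') h2
      rw [tf_mul (inv_mem ha) ha', tf_inv ha] at h3
      exact (inv_mul_eq_one.1 h3))
    (by
      rintro y y' h h' ⟨a, ha, h1, rfl⟩ ⟨a', ha', h1', rfl⟩
      exact ⟨a * a', mul_mem ha ha', by rw [map_mul, h1, h1']; rfl, tf_mul ha ha'⟩)
  refine Cfsg.Agent.L.involves_iff.2 ⟨A.map (QuotientGroup.mk' K), ρ, fun h => ?_⟩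
  obtain ⟨⟨a, ha⟩, rfl⟩ := hf h
  refine ⟨⟨QuotientGroup.mk' K a, a, ha, rfl⟩, ?_⟩
  obtain ⟨a', ha', h1, h2⟩ := hρ ⟨QuotientGroup.mk' K a, a, ha, rfl⟩
  rw [← h2]
  have h3 : a'⁻¹ * a ∈ K := (QuotientGroup.eq (s := K)).1 h1
  have h4 := hker _ (mul_mem (inv_mem ha') ha) h3
  rw [tf_mul (inv_mem ha') ha, tf_inv ha', inv_mul_eq_one] at h4
  rw [h4, tf_apply f ha]

theorem group_free_iff [Finite G] [Fact p.Prime] (hp2 : p ≠ 2) (S : Sylow p G) {H : Type w} [Group H]
    {V C : Subgroup H} {z : H} (hH : QdLike p V C z) :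
    (groupFusionSystem (S : Subgroup G)).IsSectionFree p H ↔ ¬ Involves H G := by
  refine ⟨fun hfree hinv => ?_, group_free_of S⟩
  rw [isSectionFree_iff] at hfree
  obtain ⟨D, hDp, hDc, hinvD⟩ := involves_local hp2 hH hinv
  -- move `D` into `S`
  obtain ⟨T, hT⟩ := hDp.exists_le_sylow
  obtain ⟨g, hg⟩ := MulAction.exists_smul_eq G T S
  have hDg : D.map (MulAut.conj g).toMonoidHom ≤ (S : Subgroup G) := by
    rw [← hg]
    exact Subgroup.map_mono hT
  obtain ⟨Q, hQ, hQn⟩ := exists_fullyNormalized (F := groupFusionSystem (S : Subgroup G)) hDg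
  obtain ⟨f, hf, hfQ⟩ := isConj_iff.1 hQ
  obtain ⟨-, -, c, hc⟩ := mor_group.1 hf
  have hQc : Q = D.map (MulAut.conj (c * g)).toMonoidHom := by
    rw [← hfQ, img_congr hc, img_conj, map_mul]
    rw [Subgroup.map_map]; rfl
  -- conjugates of `D`
  have hcen : ∀ (b : G) (A : Subgroup G), IsPGroup p A →
      (∀ a ∈ A, ∀ d ∈ D.map (MulAut.conj b).toMonoidHom, a * d = d * a) →
      A ≤ D.map (MulAut.conj b).toMonoidHom := by
    intro b A hA hAD
    have h1 := hDc (A.map (MulAut.conj b⁻¹).toMonoidHom) (hA.map _) (by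
      rintro _ ⟨a, ha, rfl⟩ d hd
      have h2 := hAD a ha (b * d * b⁻¹) ⟨d, hd, rfl⟩
      show b⁻¹ * a * b⁻¹⁻¹ * d = d * (b⁻¹ * a * b⁻¹⁻¹)
      have h3 : b⁻¹ * a * b⁻¹⁻¹ * d = b⁻¹ * (a * (b * d * b⁻¹)) * b := by group
      rw [h3, h2]; group)
    intro a ha
    refine ⟨b⁻¹ * a * b⁻¹⁻¹, h1 ⟨a, ha, rfl⟩, ?_⟩
    show b * (b⁻¹ * a * b⁻¹⁻¹) * b⁻¹ = a
    group
  have hcentric : (groupFusionSystem (S : Subgroup G)).IsCentric Q := by
    refine ⟨hQn.1, fun R hR => ?_⟩
    obtain ⟨f', hf', hfR⟩ := isConj_iff.1 hR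
    obtain ⟨-, -, c', hc'⟩ := mor_group.1 hf'
    have hRc : R = D.map (MulAut.conj (c' * (c * g))).toMonoidHom := by
      rw [← hfR, img_congr hc', img_conj, hQc, map_mul MulAut.conj c' (c * g), Subgroup.map_map]; rfl
    rw [hRc]
    apply hcen _ _ (isPGroup_of_le S.2 inf_le_left)
    rintro a ⟨-, ha⟩ d hd
    exact (Subgroup.mem_centralizer_iff.1 ha d hd).symm
  have hm := norm_group_model S hQn hcentric
  apply hfree Q hQn hcentric hQn.1 _ _ hm
  apply involves_quotient_coprime hH _ (H1.pPrimeCore_coprime p _)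
  -- transport along conjugation
  have hN : Subgroup.normalizer (Q : Set G) =
      (Subgroup.normalizer (D : Set G)).map (MulAut.conj (c * g)).toMonoidHom := by
    rw [hQc, nz_conj]
  rw [hN]
  have e : ↥(Subgroup.normalizer (D : Set G)) ≃*
      ↥((Subgroup.normalizer (D : Set G)).map (MulAut.conj (c * g)).toMonoidHom) :=
    (Subgroup.normalizer (D : Set G)).equivMapOfInjective _ (MulAut.conj (c * g)).injective
  exact Cfsg.Agent.L.inv_trans hinvD (Cfsg.Agent.L.inv_surj (Cfsg.Agent.L.inv_refl _) e.symm.toMonoidHom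
    e.symm.surjective)

end Cfsg.Agent.H28
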