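import Mathlib
import Cfsg.Prelude.Def_LocalEven
import Cfsg.Agent.H28.S4Sec
import Cfsg.Agent.H18.CharP
import Cfsg.Agent.H1.Coprime2
import Cfsg.Agent.H1.Cores
import Cfsg.Agent.H2.Off
import Cfsg.Agent.H2.ReplProp
import Cfsg.Agent.H2.Timm2

/-!
Thompson factorization for `S₄`-free groups with a Sylow `2`-subgroup as a maximal subgroup.
-/

set_option autoImplicit false
open Cfsg

namespace Cfsg.Agent.H28

universe u

section
variable {G : Type u} [Group G]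

theorem exists_ne_of_ne_bot {H : Subgroup G} (h : H ≠ ⊥) : ∃ x ∈ H, x ≠ 1 := by
  by_contra hc
  push Not at hc
  exact h (eq_bot_iff.2 fun x hx => Subgroup.mem_bot.2 (hc x hx))

/-- The subgroup `[V, s]` of an abelian normal subgroup. -/
def commSub (V : Subgroup G) (hVn : V.Normal) (hV : ∀ x ∈ V, ∀ y ∈ V, x * y = y * x) (s : G) : Subgroup G where
  carrier := {x | ∃ v ∈ V, x = v * (s * v⁻¹ * s⁻¹)}
  one_mem' := ⟨1, V.one_mem, by group⟩
  mul_mem' := by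
    rintro _ _ ⟨v, hv, rfl⟩ ⟨w, hw, rfl⟩
    refine ⟨v * w, mul_mem hv hw, ?_⟩
    have h1 : s * v⁻¹ * s⁻¹ ∈ V := hVn.conj_mem _ (inv_mem hv) s
    have h2 : s * w⁻¹ * s⁻¹ ∈ V := hVn.conj_mem _ (inv_mem hw) s
    calc v * (s * v⁻¹ * s⁻¹) * (w * (s * w⁻¹ * s⁻¹))
        = v * ((s * v⁻¹ * s⁻¹) * w) * (s * w⁻¹ * s⁻¹) := by group
      _ = v * w * ((s * v⁻¹ * s⁻¹) * (s * w⁻¹ * s⁻¹)) := by rw [hV _ h1 _ hw]; group
      _ = v * w * ((s * w⁻¹ * s⁻¹) * (s * v⁻¹ * s⁻¹)) := by rw [hV _ h1 _ h2]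
      _ = _ := by group
  inv_mem' := by
    rintro _ ⟨v, hv, rfl⟩
    refine ⟨v⁻¹, inv_mem hv, ?_⟩
    have h1 : s * v * s⁻¹ ∈ V := hVn.conj_mem _ hv s
    calc (v * (s * v⁻¹ * s⁻¹))⁻¹ = (s * v * s⁻¹) * v⁻¹ := by group
      _ = v⁻¹ * (s * v * s⁻¹) := hV _ h1 _ (inv_mem hv)
      _ = _ := by group

theorem mem_commSub {V : Subgroup G} {hVn : V.Normal} {hV : ∀ x ∈ V, ∀ y ∈ V, x * y = y * x} {s x : G} :
    x ∈ commSub V hVn hV s ↔ ∃ v ∈ V, x = v * (s * v⁻¹ * s⁻¹) := Iff.rfl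

variable {V B : Subgroup G} {s a g : G}

theorem commSub_le (hVn : V.Normal) (hV : ∀ x ∈ V, ∀ y ∈ V, x * y = y * x) :
    commSub V hVn hV s ≤ V := by
  rintro _ ⟨v, hv, rfl⟩
  exact mul_mem hv (hVn.conj_mem _ (inv_mem hv) s)

theorem commSub_conj (hVn : V.Normal) (hV : ∀ x ∈ V, ∀ y ∈ V, x * y = y * x)
    (h : g * s * g⁻¹ * s⁻¹ ∈ Subgroup.centralizer (V : Set G)) {x : G} (hx : x ∈ commSub V hVn hV s) :
    g * x * g⁻¹ ∈ commSub V hVn hV s := by
  obtain ⟨v, hv, rfl⟩ := hx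
  have hw : g * v * g⁻¹ ∈ V := hVn.conj_mem _ hv g
  refine ⟨g * v * g⁻¹, hw, ?_⟩
  have h1 : s * (g * v * g⁻¹)⁻¹ * s⁻¹ ∈ V := hVn.conj_mem _ (inv_mem hw) s
  have h2 := Subgroup.mem_centralizer_iff.1 h _ h1
  calc g * (v * (s * v⁻¹ * s⁻¹)) * g⁻¹
      = (g * v * g⁻¹) * ((g * s * g⁻¹ * s⁻¹) * (s * (g * v * g⁻¹)⁻¹ * s⁻¹)) *
        (g * s * g⁻¹ * s⁻¹)⁻¹ := by group
    _ = (g * v * g⁻¹) * (s * (g * v * g⁻¹)⁻¹ * s⁻¹) := by rw [← h2]; group

theorem commSub_conj' (hVn : V.Normal) (hV : ∀ x ∈ V, ∀ y ∈ V, x * y = y * x)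
    (h : g * s * g⁻¹ * s ∈ Subgroup.centralizer (V : Set G)) {x : G} (hx : x ∈ commSub V hVn hV s) :
    g * x * g⁻¹ ∈ commSub V hVn hV s := by
  obtain ⟨v, hv, rfl⟩ := hx
  have hw : g * v * g⁻¹ ∈ V := hVn.conj_mem _ hv g
  have hw' : s⁻¹ * (g * v * g⁻¹)⁻¹ * s ∈ V := by
    have := hVn.conj_mem _ (inv_mem hw) s⁻¹
    rwa [inv_inv] at this
  refine ⟨s⁻¹ * (g * v * g⁻¹)⁻¹ * s, hw', ?_⟩
  have h2 := Subgroup.mem_centralizer_iff.1 h _ hw'
  have h3 := hV _ hw _ hw'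
  calc g * (v * (s * v⁻¹ * s⁻¹)) * g⁻¹
      = (g * v * g⁻¹) * ((g * s * g⁻¹ * s) * (s⁻¹ * (g * v * g⁻¹)⁻¹ * s)) *
        (g * s * g⁻¹ * s)⁻¹ := by group
    _ = (g * v * g⁻¹) * (s⁻¹ * (g * v * g⁻¹)⁻¹ * s) := by rw [← h2]; group
    _ = _ := by rw [h3]; group

theorem commSub_inf [Finite G] (hVn : V.Normal) (hV : ∀ x ∈ V, ∀ y ∈ V, x * y = y * x)
    (hcop : (orderOf s).Coprime (Nat.card V)) {x : G} (hx : x ∈ commSub V hVn hV s)
    (hs : s * x * s⁻¹ = x) : x = 1 := by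
  haveI : IsMulCommutative V := ⟨⟨fun a b => Subtype.ext (hV a a.2 b b.2)⟩⟩
  obtain ⟨h1, -⟩ := H1.abelian_coprime_decomposition (Subgroup.zpowers s) V
    (fun g _ => Subgroup.mem_normalizer_iff.2 fun y => ⟨fun hy => hVn.conj_mem y hy g, fun hy => by
      have := hVn.conj_mem _ hy g⁻¹
      simpa [mul_assoc] using this⟩) (by rwa [Nat.card_zpowers])
  have h2 : x ∈ (V ⊓ Subgroup.centralizer (Subgroup.zpowers s : Set G)) ⊓ ⁅V, Subgroup.zpowers s⁆ := by
    refine ⟨⟨commSub_le hVn hV hx, ?_⟩, ?_⟩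
    · refine Subgroup.mem_centralizer_iff.2 fun y hy => ?_
      obtain ⟨k, rfl⟩ := Subgroup.mem_zpowers_iff.1 hy
      have h3 : Commute s x := by
        show s * x = x * s
        calc s * x = s * x * s⁻¹ * s := by group
          _ = x * s := by rw [hs]
      exact (h3.zpow_left k).eq
    · obtain ⟨v, hv, rfl⟩ := hx
      have h3 := Subgroup.commutator_mem_commutator hv (Subgroup.mem_zpowers s)
      rw [commutatorElement_def] at h3
      have h4 : v * (s * v⁻¹ * s⁻¹) = v * s * v⁻¹ * s⁻¹ := by group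
      rwa [h4]
  rw [h1] at h2
  exact h2

/-- A transvection inverting an element of odd order gives a section isomorphic to `S₄`. -/
theorem four_of_transvection [Finite G] (hVn : V.Normal) (hV : IsElementaryAbelian 2 V)
    (hB : IsPGroup 2 B) (hs : Odd (orderOf s)) (hsV : s ∉ Subgroup.centralizer (V : Set G))
    (hBs : ∀ b ∈ B, b * s * b⁻¹ * s⁻¹ ∈ Subgroup.centralizer (V : Set G))
    (hBa : ∀ b ∈ B, a * b = b * a) (has : a * s * a⁻¹ * s ∈ Subgroup.centralizer (V : Set G))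
    (hcard : Nat.card (V ⊓ Subgroup.centralizer (B : Set G) : Subgroup G) ≤
      2 * Nat.card ((V ⊓ Subgroup.centralizer (B : Set G)) ⊓ Subgroup.centralizer {a} : Subgroup G)) :
    Involves (Equiv.Perm (Fin 4)) G := by
  classical
  haveI : Fact (Nat.Prime 2) := ⟨Nat.prime_two⟩
  have hVc : ∀ x ∈ V, ∀ y ∈ V, x * y = y * x := fun x hx y hy =>
    congrArg Subtype.val (hV.1.is_comm.comm ⟨x, hx⟩ ⟨y, hy⟩)
  have hVp : IsPGroup 2 V := by
    rintro ⟨v, hv⟩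
    exact ⟨1, Subtype.ext (by simpa using hV.2 v hv)⟩
  have hCn : (Subgroup.centralizer (V : Set G)).Normal := inferInstance
  have hcop : (orderOf s).Coprime (Nat.card V) := by
    obtain ⟨k, hk⟩ := IsPGroup.iff_card.1 hVp
    rw [hk]
    exact (Nat.Coprime.pow_right _ (Nat.coprime_two_right.2 hs))
  set V₁ := commSub V hVn hVc s with hV₁
  have hV₁V : V₁ ≤ V := commSub_le hVn hVc
  have hV₁p : IsPGroup 2 V₁ := hVp.to_le hV₁V
  have hV₁ne : V₁ ≠ ⊥ := by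
    intro h
    apply hsV
    rw [Subgroup.mem_centralizer_iff]
    intro v hv
    have h1 : v * (s * v⁻¹ * s⁻¹) ∈ V₁ := ⟨v, hv, rfl⟩
    rw [h, Subgroup.mem_bot] at h1
    have h2 : s * v⁻¹ * s⁻¹ = v⁻¹ := (inv_eq_of_mul_eq_one_right h1).symm
    have h3 : s * v * s⁻¹ = v := by
      calc s * v * s⁻¹ = (s * v⁻¹ * s⁻¹)⁻¹ := by group
        _ = v := by rw [h2, inv_inv]
    calc v * s = s * v * s⁻¹ * s := by rw [h3]
      _ = s * v := by group
  have hBV₁ : B ≤ Subgroup.normalizer (V₁ : Set G) := by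
    intro b hb
    rw [Subgroup.mem_normalizer_iff]
    intro x
    constructor
    · intro hx; exact commSub_conj hVn hVc (hBs b hb) hx
    · intro hx
      have h1 := commSub_conj hVn hVc (hBs b⁻¹ (inv_mem hb)) hx
      simpa [mul_assoc] using h1
  have hUne := H18.inf_centralizer_ne_bot hV₁p hB hBV₁ hV₁ne
  set U := V₁ ⊓ Subgroup.centralizer (B : Set G) with hU
  have hUp : IsPGroup 2 U := hV₁p.to_le inf_le_left
  -- `s` and `a` normalize `U`
  have hsU : ∀ x ∈ U, s * x * s⁻¹ ∈ U := by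
    rintro x ⟨hx, hxB⟩
    refine ⟨commSub_conj hVn hVc (by
      have : s * s * s⁻¹ * s⁻¹ = 1 := by group
      rw [this]; exact one_mem _) hx, Subgroup.mem_centralizer_iff.2 fun b hb => ?_⟩
    have h1 := Subgroup.mem_centralizer_iff.1 (hBs b hb) (s * x * s⁻¹)
      (hVn.conj_mem _ (hV₁V hx) s)
    have h2 := Subgroup.mem_centralizer_iff.1 hxB b hb
    -- b s x s⁻¹ b⁻¹ = (b s b⁻¹ s⁻¹) s (b x b⁻¹) s⁻¹ (..)⁻¹
    have h3 : b * (s * x * s⁻¹) * b⁻¹ = s * x * s⁻¹ := by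
      calc b * (s * x * s⁻¹) * b⁻¹
          = (b * s * b⁻¹ * s⁻¹) * (s * (b * x * b⁻¹) * s⁻¹) * (b * s * b⁻¹ * s⁻¹)⁻¹ := by group
        _ = (b * s * b⁻¹ * s⁻¹) * (s * x * s⁻¹) * (b * s * b⁻¹ * s⁻¹)⁻¹ := by rw [h2]; group
        _ = s * x * s⁻¹ := by rw [← h1]; group
    calc b * (s * x * s⁻¹) = b * (s * x * s⁻¹) * b⁻¹ * b := by group
      _ = s * x * s⁻¹ * b := by rw [h3]
  have haU : ∀ x ∈ U, a * x * a⁻¹ ∈ U := by
    rintro x ⟨hx, hxB⟩
    refine ⟨commSub_conj' hVn hVc has hx, Subgroup.mem_centralizer_iff.2 fun b hb => ?_⟩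
    have h2 := Subgroup.mem_centralizer_iff.1 hxB b hb
    have h4 := hBa b hb
    have h5 : a⁻¹ * b = b * a⁻¹ := by
      calc a⁻¹ * b = a⁻¹ * (b * a) * a⁻¹ := by group
        _ = b * a⁻¹ := by rw [← h4]; group
    calc b * (a * x * a⁻¹) = (b * a) * x * a⁻¹ := by group
      _ = a * (b * x) * a⁻¹ := by rw [← h4]; group
      _ = a * x * (b * a⁻¹) := by rw [h2]; group
      _ = a * x * a⁻¹ * b := by rw [← h5]; group
  have hsfix : ∀ x ∈ U, s * x * s⁻¹ = x → x = 1 := fun x hx h => commSub_inf hVn hVc hcop hx.1 h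
  -- the index
  set W := V ⊓ Subgroup.centralizer (B : Set G) with hW
  have hUW : U ≤ W := inf_le_inf_right _ hV₁V
  have hrel : (Subgroup.centralizer {a}).relIndex W ≤ 2 := by
    have h1 : Nat.card (W ⊓ Subgroup.centralizer {a} : Subgroup G) *
        (Subgroup.centralizer {a}).relIndex W = Nat.card W := by
      rw [← Subgroup.inf_relIndex_left]
      exact H1.card_mul_relIndex inf_le_left
    have h2 : 0 < Nat.card (W ⊓ Subgroup.centralizer {a} : Subgroup G) := Nat.card_pos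
    rw [← h1, mul_comm 2] at hcard
    exact Nat.le_of_mul_le_mul_left hcard h2
  have hrelU : (Subgroup.centralizer {a}).relIndex U ≤ 2 := by
    refine le_trans ?_ hrel
    exact Subgroup.relIndex_le_of_le_right hUW Subgroup.index_ne_zero_of_finite
  set U₁ := U ⊓ Subgroup.centralizer {a} with hU₁
  have hc1 : Nat.card U ≤ 2 * Nat.card U₁ := by
    have h1 : Nat.card U₁ * (Subgroup.centralizer {a}).relIndex U = Nat.card U := by
      rw [← Subgroup.inf_relIndex_left]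
      exact H1.card_mul_relIndex inf_le_left
    rw [← h1, mul_comm]
    exact Nat.mul_le_mul_right _ hrelU
  have hs2 : ∀ x : G, s * s * x * s⁻¹ * s⁻¹ = x → s * x * s⁻¹ = x := by
    intro x hx
    have h1 : Commute (s ^ 2) x := by
      show s ^ 2 * x = x * s ^ 2
      calc s ^ 2 * x = (s * s * x * s⁻¹ * s⁻¹) * s ^ 2 := by rw [pow_two]; group
        _ = x * s ^ 2 := by rw [hx]
    obtain ⟨k, hk⟩ := hs
    have h2 : s = (s ^ 2) ^ (k + 1) := by
      rw [← pow_mul]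
      have h3 : 2 * (k + 1) = orderOf s + 1 := by omega
      rw [h3, pow_succ, pow_orderOf_eq_one, one_mul]
    have h4 : Commute s x := by rw [h2]; exact h1.pow_left _
    rw [h4.eq]; group
  have hinf : ∀ x ∈ U, a * x * a⁻¹ = x → s⁻¹ * x * s ∈ U → a * (s⁻¹ * x * s) * a⁻¹ = s⁻¹ * x * s → x = 1 := by
    intro x hx h1 h2 h3
    apply hsfix x hx
    apply hs2
    have hxV : s⁻¹ * x * s ∈ V := hV₁V h2.1
    -- a s⁻¹ x s a⁻¹ = (a s⁻¹ a⁻¹) x (a s a⁻¹)
    have h4 : (a * s⁻¹ * a⁻¹) * x * (a * s * a⁻¹) = s⁻¹ * x * s := by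
      calc (a * s⁻¹ * a⁻¹) * x * (a * s * a⁻¹)
          = (a * s⁻¹ * a⁻¹) * (a * x * a⁻¹) * (a * s * a⁻¹) := by rw [h1]
        _ = a * (s⁻¹ * x * s) * a⁻¹ := by group
        _ = s⁻¹ * x * s := h3
    have h5 := Subgroup.mem_centralizer_iff.1 has _ hxV
    -- c = a s a⁻¹ s, so a s a⁻¹ = c s⁻¹
    have h6 : x = (a * s * a⁻¹ * s) * (s⁻¹ * (s⁻¹ * x * s) * s) * (a * s * a⁻¹ * s)⁻¹ := by
      calc x = (a * s * a⁻¹) * ((a * s⁻¹ * a⁻¹) * x * (a * s * a⁻¹)) * (a * s⁻¹ * a⁻¹) := by group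
        _ = (a * s * a⁻¹) * (s⁻¹ * x * s) * (a * s⁻¹ * a⁻¹) := by rw [h4]
        _ = _ := by group
    have hxV' : s⁻¹ * (s⁻¹ * x * s) * s ∈ V := by
      have := hVn.conj_mem _ hxV s⁻¹
      rwa [inv_inv] at this
    have h7 := Subgroup.mem_centralizer_iff.1 has _ hxV'
    have h8 : x = s⁻¹ * (s⁻¹ * x * s) * s := by
      calc x = (a * s * a⁻¹ * s) * (s⁻¹ * (s⁻¹ * x * s) * s) * (a * s * a⁻¹ * s)⁻¹ := h6
        _ = s⁻¹ * (s⁻¹ * x * s) * s := by rw [← h7]; group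
    calc s * s * x * s⁻¹ * s⁻¹ = s * s * (s⁻¹ * (s⁻¹ * x * s) * s) * s⁻¹ * s⁻¹ := by rw [← h8]
      _ = x := by group
  set U₂ := U₁.map (MulAut.conj s).toMonoidHom with hU₂
  have hU₂U : U₂ ≤ U := by
    rintro _ ⟨x, hx, rfl⟩
    exact hsU x hx.1
  have hmem₁ : ∀ x, x ∈ U₁ ↔ x ∈ U ∧ a * x * a⁻¹ = x := by
    intro x
    rw [hU₁, Subgroup.mem_inf, H18.commute_iff_mem_centralizer_singleton]
    refine and_congr_right fun _ => ⟨fun h => by rw [h]; group, fun h => ?_⟩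
    calc a * x = a * x * a⁻¹ * a := by group
      _ = x * a := by rw [h]
  have hinf' : U₁ ⊓ U₂ = ⊥ := by
    rw [eq_bot_iff]
    rintro _ ⟨h1, ⟨x, hx, rfl⟩⟩
    have h1' := (hmem₁ _).1 h1
    have hx' := (hmem₁ _).1 hx
    refine hinf _ h1'.1 h1'.2 ?_ ?_
    · have : s⁻¹ * ((MulAut.conj s).toMonoidHom x) * s = x := by simp [mul_assoc]
      rw [this]; exact hx'.1
    · have : s⁻¹ * ((MulAut.conj s).toMonoidHom x) * s = x := by simp [mul_assoc]
      rw [this]; exact hx'.2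
  have hc2 : Nat.card U₁ * Nat.card U₁ ≤ Nat.card U := by
    have h1 : Nat.card U₂ = Nat.card U₁ := H2.card_map_inj (MulAut.conj s).injective U₁
    have h2 := H2.card_sup_mul_card_inf_of_comm (A := U₁) (B := U₂)
      (fun x hx y hy => hVc x (hV₁V hx.1.1) y (hV₁V (hU₂U hy).1))
    rw [hinf', Subgroup.card_bot, mul_one, h1] at h2
    rw [← h2]
    exact Subgroup.card_le_of_le (sup_le inf_le_left hU₂U)
  have hpos : 0 < Nat.card U₁ := Nat.card_pos
  have hle2 : Nat.card U₁ ≤ 2 := by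
    have h1 : Nat.card U₁ * Nat.card U₁ ≤ 2 * Nat.card U₁ := hc2.trans hc1
    exact Nat.le_of_mul_le_mul_right h1 hpos
  have hU4 : Nat.card U = 4 := by
    obtain ⟨k, hk⟩ := IsPGroup.iff_card.1 hUp
    have h1 : Nat.card U ≤ 4 := by omega
    have hk2 : k ≤ 2 := by
      by_contra h
      have : 2 ^ 3 ≤ 2 ^ k := Nat.pow_le_pow_right (by norm_num) (by omega)
      omega
    interval_cases k
    · exfalso
      apply hUne
      exact Subgroup.eq_bot_of_card_eq U (by simpa using hk)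
    · exfalso
      obtain ⟨x, hxU, hx1⟩ := exists_ne_of_ne_bot hUne
      have h2 : Nat.card U = 2 := by simpa using hk
      have h3 : s * x * s⁻¹ ∈ U := hsU _ hxU
      have h3' : s * x * s⁻¹ ≠ 1 := fun h => hx1 (by
        calc x = s⁻¹ * (s * x * s⁻¹) * s := by group
          _ = 1 := by rw [h]; group)
      have h3'' : s * x * s⁻¹ ≠ x := fun h => hx1 (hsfix x hxU h)
      haveI : Fintype U := Fintype.ofFinite U
      have h5 : Fintype.card U = 2 := by rw [← Nat.card_eq_fintype_card]; exact h2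
      have h6 : ({(1 : U), ⟨x, hxU⟩, ⟨_, h3⟩} : Finset U).card ≤ Fintype.card U := Finset.card_le_univ _
      rw [Finset.card_eq_three.2 ⟨1, ⟨x, hxU⟩, ⟨_, h3⟩, fun h => hx1 (congrArg Subtype.val h).symm,
        fun h => h3' (congrArg Subtype.val h).symm, fun h => h3'' (congrArg Subtype.val h).symm,
        rfl⟩] at h6
      omega
    · simpa using hk
  -- the normalizer of `U`
  have hnorm : ∀ g, (∀ x ∈ U, g * x * g⁻¹ ∈ U) → g ∈ Subgroup.normalizer (U : Set G) := by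
    intro g hg
    have h1 : U.map (MulAut.conj g).toMonoidHom ≤ U := by
      rintro _ ⟨x, hx, rfl⟩; exact hg x hx
    have h2 : U.map (MulAut.conj g).toMonoidHom = U := by
      apply Subgroup.eq_of_le_of_card_ge h1
      rw [H2.card_map_inj (MulAut.conj g).injective]
    rw [Subgroup.mem_normalizer_iff]
    intro x
    refine ⟨hg x, fun hx => ?_⟩
    rw [← h2] at hx
    obtain ⟨y, hy, hyx⟩ := hx
    have : y = x := (MulAut.conj g).injective hyx
    rwa [← this]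
  have hsN := hnorm s hsU
  have haN := hnorm a haU
  set N := Subgroup.normalizer (U : Set G) with hN
  have hUN : U ≤ N := Subgroup.le_normalizer
  haveI : (U.subgroupOf N).Normal := Subgroup.normal_in_normalizer
  have hcN : Nat.card (U.subgroupOf N) = 4 := by
    rw [← hU4]; exact Nat.card_congr (Subgroup.subgroupOfEquivOfLe hUN).toEquiv
  have hcU₁ : 2 ≤ Nat.card U₁ := by omega
  have h1 : Involves (Equiv.Perm (Fin 4)) N := by
    refine involves_four (U.subgroupOf N) hcN ⟨s, hsN⟩ ⟨a, haN⟩ (fun u hu h => ?_) ?_ ?_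
    · exact Subtype.ext (hsfix u hu (congrArg Subtype.val h))
    · have hne : U₁ ≠ ⊥ := by
        intro h; rw [h, Subgroup.card_bot] at hcU₁; omega
      obtain ⟨x, hx, hx1⟩ := exists_ne_of_ne_bot hne
      have hx' := (hmem₁ x).1 hx
      exact ⟨⟨x, hUN hx'.1⟩, hx'.1, fun h => hx1 (congrArg Subtype.val h), Subtype.ext hx'.2⟩
    · by_contra hcon
      push Not at hcon
      have h2 : U₁ = U := le_antisymm inf_le_left fun x hx =>
        (hmem₁ x).2 ⟨hx, congrArg Subtype.val (hcon ⟨x, hUN hx⟩ hx)⟩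
      rw [h2, hU4] at hc2
      omega
  exact L.inv_trans h1 (L.inv_sub (L.inv_refl G) N)

end
end Cfsg.Agent.H28
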