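import Mathlib
import Cfsg.Prelude.Def_LocalEven
import Cfsg.Prelude.Def_Transfer
import Cfsg.Agent.H28.TwoCore
import Cfsg.Agent.H24.CoprimeLift
import Cfsg.Agent.H2.ZJ

/-!
Thompson factorization for `S₄`-free groups with a Sylow `2`-subgroup as a maximal subgroup.
-/

set_option autoImplicit false
open Cfsg

namespace Cfsg.Agent.H28

universe u v

section
variable {G : Type u} [Group G]

/-- The best offender inequality. -/
def OffIneq (V A : Subgroup G) : Prop :=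
  ∀ B : Subgroup G, B ≤ A →
    Nat.card B * Nat.card ↥(V ⊓ Subgroup.centralizer (B : Set G)) ≤
      Nat.card A * Nat.card ↥(V ⊓ Subgroup.centralizer (A : Set G))

theorem offIneq_of_abIn [Finite G] {U V A : Subgroup G} (hA : H2.AbIn U A) (hVU : V ≤ U)
    (hVc : ∀ x ∈ V, ∀ y ∈ V, x * y = y * x) : OffIneq V A := by
  have hAc : ∀ x ∈ A, ∀ y ∈ A, x * y = y * x := H20.isMulCommutative_iff.1 hA.2.1
  intro B hBA
  set W := V ⊓ Subgroup.centralizer (B : Set G) with hW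
  have hc : ∀ a ∈ W, ∀ b ∈ B, a * b = b * a := fun a ha b hb =>
    (H2.comm_of_mem_centralizer ha.2 hb).symm
  have h1 : IsMulCommutative (W ⊔ B : Subgroup G) := by
    rw [H20.isMulCommutative_iff]
    have h2 : W ⊔ B ≤ Subgroup.centralizer ((W ⊔ B : Subgroup G) : Set G) := by
      rw [Subgroup.le_centralizer_iff]
      refine sup_le ?_ ?_
      · rw [Subgroup.le_centralizer_iff]
        refine sup_le (fun x hx => Subgroup.mem_centralizer_iff.2 fun y hy => hVc y hy.1 x hx.1)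
          (fun x hx => Subgroup.mem_centralizer_iff.2 fun y hy => hc y hy x hx)
      · rw [Subgroup.le_centralizer_iff]
        refine sup_le (fun x hx => Subgroup.mem_centralizer_iff.2 fun y hy => (hc x hx y hy).symm)
          (fun x hx => Subgroup.mem_centralizer_iff.2 fun y hy => hAc y (hBA hy) x (hBA hx))
    intro x hx y hy
    exact Subgroup.mem_centralizer_iff.1 (h2 hy) x hx
  have h2 := hA.2.2 _ (sup_le (inf_le_left.trans hVU) (hBA.trans hA.1)) h1
  have h3 := H2.card_sup_mul_card_inf_of_comm hc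
  have h4 : W ⊓ B ≤ V ⊓ Subgroup.centralizer (A : Set G) := by
    refine le_inf (inf_le_left.trans inf_le_left) ?_
    intro x hx
    exact Subgroup.mem_centralizer_iff.2 fun a ha => hAc a ha x (hBA hx.2)
  calc Nat.card B * Nat.card W = Nat.card ↥(W ⊔ B) * Nat.card ↥(W ⊓ B) := by rw [h3, mul_comm]
    _ ≤ _ := Nat.mul_le_mul h2 (Subgroup.card_le_of_le h4)

/-- A quadratic offender. -/
theorem exists_quadratic [Finite G] {V A : Subgroup G} (hVn : V.Normal) (hV : IsElementaryAbelian 2 V)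
    (hAp : IsPGroup 2 A) (hAc : ∀ x ∈ A, ∀ y ∈ A, x * y = y * x) (hoff : OffIneq V A)
    (hne : ¬ A ≤ Subgroup.centralizer (V : Set G)) : ∃ B ≤ A, OffIneq V B ∧
      (¬ B ≤ Subgroup.centralizer (V : Set G)) ∧
      ∀ b ∈ B, b * b ∈ Subgroup.centralizer (V : Set G) := by
  haveI : Fact (Nat.Prime 2) := ⟨Nat.prime_two⟩
  have hVc : ∀ x ∈ V, ∀ y ∈ V, x * y = y * x := H20.isMulCommutative_iff.1 hV.1
  have hAV : A ≤ Subgroup.normalizer (V : Set G) := by
    rw [Subgroup.normalizer_eq_top_iff.2 hVn]; exact le_top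
  have hab : ⁅A, A⁆ ≤ Subgroup.centralizer (V : Set G) := H2.commutator_le_centralizer_of_comm hAc
  obtain ⟨hf, hm⟩ := H2.timmGood_all hVc hAV hab hoff (le_refl V)
  have hVAV : ⁅V, A⁆ ≤ V := H2.commutator_le_left_of_norm le_rfl hAV
  refine ⟨A ⊓ Subgroup.centralizer ((⁅V, A⁆ : Subgroup G) : Set G), inf_le_left, ?_, ?_, ?_⟩
  · intro B hB
    rw [← hm]
    exact hoff B (hB.trans inf_le_left)
  · intro h2
    have h3 : V ⊓ Subgroup.centralizer
      ((A ⊓ Subgroup.centralizer ((⁅V, A⁆ : Subgroup G) : Set G) : Subgroup G) : Set G) = V := by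
      apply inf_eq_left.2
      rwa [Subgroup.le_centralizer_iff]
    rw [h3] at hf
    have h4 : ⁅V, A⁆ ≤ ⁅⁅V, A⁆, A⁆ := by
      have e1 : ⁅V, A⁆ = ⁅⁅V, A⁆ ⊔ (V ⊓ Subgroup.centralizer (A : Set G)), A⁆ := by rw [← hf]
      refine e1.le.trans ?_
      rw [H2.commutator_sup_eq hVc hAV hVAV inf_le_left]
      apply sup_le le_rfl
      have : ⁅V ⊓ Subgroup.centralizer (A : Set G), A⁆ = ⊥ := by
        rw [Subgroup.commutator_eq_bot_iff_le_centralizer]
        exact inf_le_right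
      rw [this]; exact bot_le
    have hVp : IsPGroup 2 V := by
      rintro ⟨v, hv⟩
      exact ⟨1, Subtype.ext (by simpa using hV.2 v hv)⟩
    have h5 : ⁅V, A⁆ = ⊥ := H18.eq_bot_of_commutator_eq (hVp.to_le hVAV) hAp
      (H18.le_normalizer_commutator hAV Subgroup.le_normalizer) h4
    apply hne
    rw [Subgroup.le_centralizer_iff]
    exact Subgroup.commutator_eq_bot_iff_le_centralizer.1 h5
  · rintro b ⟨hb, hb'⟩
    refine Subgroup.mem_centralizer_iff.2 fun v hv => ?_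
    have h1 : v * b * v⁻¹ * b⁻¹ ∈ ⁅V, A⁆ := by
      have := Subgroup.commutator_mem_commutator hv hb
      rwa [commutatorElement_def] at this
    have h2 := Subgroup.mem_centralizer_iff.1 hb' _ h1
    have h3 : (v * b * v⁻¹ * b⁻¹) ^ 2 = 1 := hV.2 _ (hVAV h1)
    have h4 : b * v⁻¹ * b⁻¹ ∈ V := hVn.conj_mem _ (inv_mem hv) b
    -- w = v b v⁻¹ b⁻¹ ; b w b⁻¹ = w
    have h5 : b * (v * b * v⁻¹ * b⁻¹) * b⁻¹ = v * b * v⁻¹ * b⁻¹ := by
      rw [← h2]; group
    -- b v⁻¹ b⁻¹ = v⁻¹ w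
    have h6 : b * v * b⁻¹ = v * (v * b * v⁻¹ * b⁻¹)⁻¹ := by
      have h7 := hVc _ hv _ (hVAV h1)
      calc b * v * b⁻¹ = (v * b * v⁻¹ * b⁻¹)⁻¹ * v := by group
        _ = (v * b * v⁻¹ * b⁻¹)⁻¹ * (v * (v * b * v⁻¹ * b⁻¹)) * (v * b * v⁻¹ * b⁻¹)⁻¹ := by group
        _ = _ := by rw [h7]; group
    have key : ∀ w : G, b * w * b⁻¹ = w → b * v * b⁻¹ = v * w⁻¹ → w ^ 2 = 1 →
        b * b * v * (b * b)⁻¹ = v := by
      intro w e1 e2 e3
      calc b * b * v * (b * b)⁻¹ = b * (b * v * b⁻¹) * b⁻¹ := by group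
        _ = b * (v * w⁻¹) * b⁻¹ := by rw [e2]
        _ = (b * v * b⁻¹) * (b * w * b⁻¹)⁻¹ := by group
        _ = v * w⁻¹ * w⁻¹ := by rw [e1, e2]
        _ = v * (w ^ 2)⁻¹ := by rw [pow_two]; group
        _ = v := by rw [e3]; group
    have h8 := key _ h5 h6 h3
    calc v * (b * b) = b * b * v * (b * b)⁻¹ * (b * b) := by rw [h8]
      _ = b * b * v := by group

/-- An elementary abelian `2`-group acting nontrivially on an abelian group of odd order inverts an
element centralized by a subgroup of index two. -/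
theorem exists_inverted {A : Type u} {H : Type v} [Group A] [Group H] [Finite A] (φ : A →* H)
    (hA : ∀ a b : A, a * b = b * a) (h2 : ∀ a, φ a * φ a = 1) (R : Subgroup H)
    (hR : ∀ x ∈ R, ∀ y ∈ R, x * y = y * x) (hodd : ∀ r ∈ R, r * r = 1 → r = 1)
    (hn : ∀ a, ∀ r ∈ R, φ a * r * (φ a)⁻¹ ∈ R) (hne : ∃ a, ∃ r ∈ R, φ a * r * (φ a)⁻¹ ≠ r) :
    ∃ s ∈ R, s ≠ 1 ∧ ∃ a, φ a * s * (φ a)⁻¹ = s⁻¹ ∧
      ∀ a', φ a' * s * (φ a')⁻¹ = s ∨ φ (a * a') * s * (φ (a * a'))⁻¹ = s := by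
  classical
  let act : A → H → H := fun a r => φ a * r * (φ a)⁻¹
  have act_mul : ∀ a x y, act a (x * y) = act a x * act a y := fun a x y => by
    show φ a * (x * y) * (φ a)⁻¹ = φ a * x * (φ a)⁻¹ * (φ a * y * (φ a)⁻¹); group
  have act_inv : ∀ a x, act a x⁻¹ = (act a x)⁻¹ := fun a x => by
    show φ a * x⁻¹ * (φ a)⁻¹ = (φ a * x * (φ a)⁻¹)⁻¹; group
  have act_comp : ∀ a b x, act (a * b) x = act a (act b x) := fun a b x => by
    show φ (a * b) * x * (φ (a * b))⁻¹ = φ a * (φ b * x * (φ b)⁻¹) * (φ a)⁻¹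
    rw [map_mul]; group
  have act_sq : ∀ a x, act a (act a x) = x := fun a x => by
    rw [← act_comp]
    show φ (a * a) * x * (φ (a * a))⁻¹ = x
    rw [map_mul, h2]; group
  have act_comm : ∀ a b x, act a (act b x) = act b (act a x) := fun a b x => by
    rw [← act_comp, ← act_comp, hA]
  let Fx : H → Set A := fun r => {a | act a r = r}
  -- choose `r` with a maximal stabilizer
  have hex : ∃ n : ℕ, ∃ r ∈ R, (∃ a, act a r ≠ r) ∧ Nat.card A - (Fx r).ncard = n := by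
    obtain ⟨a, r, hr, h⟩ := hne
    exact ⟨_, r, hr, ⟨a, h⟩, rfl⟩
  obtain ⟨r, hr, ⟨a, har⟩, hmin⟩ := Nat.find_spec hex
  have hmax : ∀ x ∈ R, (∃ b, act b x ≠ x) → Fx r ⊆ Fx x → Fx x = Fx r := by
    intro x hx hb hsub
    have h1 : Nat.find hex ≤ Nat.card A - (Fx x).ncard := Nat.find_le ⟨x, hx, hb, rfl⟩
    rw [← hmin] at h1
    have h3 : (Fx x).ncard ≤ Nat.card A := Set.ncard_le_card _
    have h4 : (Fx r).ncard ≤ Nat.card A := Set.ncard_le_card _
    have h5 : (Fx x).ncard ≤ (Fx r).ncard := by omega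
    exact (Set.eq_of_subset_of_ncard_le hsub h5 (Set.toFinite _)).symm
  -- the general construction
  have hcon : ∀ x ∈ R, ∀ b, act b x ≠ x → x⁻¹ * act b x ∈ R ∧ x⁻¹ * act b x ≠ 1 ∧
      act b (x⁻¹ * act b x) = (x⁻¹ * act b x)⁻¹ ∧ Fx x ⊆ Fx (x⁻¹ * act b x) := by
    intro x hx b hb
    refine ⟨mul_mem (inv_mem hx) (hn b x hx), fun h => hb (inv_mul_eq_one.1 h).symm, ?_, ?_⟩
    · rw [act_mul, act_inv, act_sq]; group
    · intro c hc
      have hc' : act c x = x := hc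
      show act c (x⁻¹ * act b x) = x⁻¹ * act b x
      rw [act_mul, act_inv, hc', act_comm, hc']
  obtain ⟨hs, hs1, has, hsub⟩ := hcon r hr a har
  set s := r⁻¹ * act a r with hsdef
  clear_value s
  have hinvne : ∀ x ∈ R, x ≠ 1 → x⁻¹ ≠ x := fun x hx h1 h => h1 (hodd x hx (by
    calc x * x = x⁻¹ * x := by rw [h]
      _ = 1 := inv_mul_cancel x))
  have hass : act a s ≠ s := by rw [has]; exact hinvne s hs hs1
  have hFs := hmax s hs ⟨a, hass⟩ hsub
  refine ⟨s, hs, hs1, a, has, fun a' => ?_⟩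
  by_cases ha' : act a' s = s
  · exact Or.inl ha'
  right
  obtain ⟨ht, ht1, hat, hsub'⟩ := hcon s hs a' ha'
  set t := s⁻¹ * act a' s with htdef
  have hat' : act a t = t⁻¹ := by
    have e1 : act a t = s * (act a' s)⁻¹ := by
      rw [htdef, act_mul, act_inv, act_comm, has, act_inv, inv_inv]
    have e2 : t⁻¹ = (act a' s)⁻¹ * s := by rw [htdef]; group
    rw [e1, e2]
    exact hR _ hs _ (inv_mem (hn a' s hs))
  have hatt : act a t ≠ t := by rw [hat']; exact hinvne t ht ht1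
  have hFt := hmax t ht ⟨a, hatt⟩ (hFs ▸ hsub')
  have h6 : a * a' ∈ Fx t := by
    show act (a * a') t = t
    rw [act_comp, hat, act_inv, hat', inv_inv]
  rw [hFt, ← hFs] at h6
  exact h6

end
end Cfsg.Agent.H28
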