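import Mathlib
import Cfsg.Prelude.Def_LocalEven
import Cfsg.Prelude.Def_Transfer
import Cfsg.Agent.H28.TwoCore2

/-!
Thompson factorization for `S₄`-free groups with a Sylow `2`-subgroup as a maximal subgroup.
-/

set_option autoImplicit false
open Cfsg

namespace Cfsg.Agent.H28

universe u v

section
variable {G : Type u} [Group G]

/-- The elements of order dividing two of `Q ⊓ C(Q)`. -/
def omegaZ (Q : Subgroup G) : Subgroup G where
  carrier := {x | x ∈ Q ⊓ Subgroup.centralizer (Q : Set G) ∧ x ^ 2 = 1}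
  one_mem' := ⟨one_mem _, one_pow 2⟩
  mul_mem' := by
    rintro x y ⟨hx, hx2⟩ ⟨hy, hy2⟩
    refine ⟨mul_mem hx hy, ?_⟩
    have h1 : Commute x y := Subgroup.mem_centralizer_iff.1 hy.2 x hx.1
    rw [h1.mul_pow, hx2, hy2, one_mul]
  inv_mem' := by
    rintro x ⟨hx, hx2⟩
    exact ⟨inv_mem hx, by rw [inv_pow, hx2, inv_one]⟩

theorem omegaZ_elem (Q : Subgroup G) : IsElementaryAbelian 2 (omegaZ Q) := by
  refine ⟨⟨⟨?_⟩⟩, fun a ha => ha.2⟩
  rintro ⟨x, hx⟩ ⟨y, hy⟩
  exact Subtype.ext (Subgroup.mem_centralizer_iff.1 hy.1.2 x hx.1.1)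

theorem center_normal {Q : Subgroup G} (hQ : Q.Normal) :
    (Q ⊓ Subgroup.centralizer (Q : Set G)).Normal := by
  haveI := hQ
  infer_instance

theorem omegaZ_normal {Q : Subgroup G} (hQ : Q.Normal) : (omegaZ Q).Normal := by
  refine ⟨fun x hx g => ⟨(center_normal hQ).conj_mem x hx.1 g, ?_⟩⟩
  rw [conj_pow, hx.2]; group

/-- Odd part of an element. -/
theorem exists_pow_odd (x : G) (hx : IsOfFinOrder x) : ∃ k : ℕ, Odd (orderOf (x ^ 2 ^ k)) := by
  have hpos : orderOf x ≠ 0 := (orderOf_pos_iff.2 hx).ne'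
  obtain ⟨k, m, hm, h⟩ := Nat.exists_eq_two_pow_mul_odd hpos
  refine ⟨k, ?_⟩
  rw [orderOf_pow_of_dvd (by positivity) ⟨m, h⟩, h, Nat.mul_div_cancel_left _ (by positivity)]
  exact hm

theorem centralizer_omegaZ [Finite G] (T : Sylow 2 G)
    (hc : Subgroup.centralizer ((pCore 2 G : Subgroup G) : Set G) ≤ pCore 2 G)
    (hZ : Subgroup.centralizer (((T : Subgroup G) ⊓ Subgroup.centralizer ((T : Subgroup G) : Set G) :
      Subgroup G) : Set G) ≤ T) :
    Subgroup.centralizer ((omegaZ (pCore 2 G) : Subgroup G) : Set G) = pCore 2 G := by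
  haveI : Fact (Nat.Prime 2) := ⟨Nat.prime_two⟩
  set Q := pCore 2 G with hQ
  have hQn : Q.Normal := H1.pCore_normal 2 G
  have hQT : Q ≤ T := H1.pCore_le_sylow T
  set ZQ := Q ⊓ Subgroup.centralizer (Q : Set G) with hZQ
  have hZT : (T : Subgroup G) ⊓ Subgroup.centralizer ((T : Subgroup G) : Set G) ≤ ZQ := by
    intro z hz
    have h1 : z ∈ Subgroup.centralizer (Q : Set G) :=
      Subgroup.centralizer_le (show (Q : Set G) ⊆ (T : Subgroup G) from hQT) hz.2
    exact ⟨hc h1, h1⟩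
  apply le_antisymm
  · have hVn := omegaZ_normal hQn
    have hn : (Subgroup.centralizer ((omegaZ Q : Subgroup G) : Set G)).Normal := inferInstance
    refine H1.le_pCore hn ?_
    rintro ⟨x, hx⟩
    obtain ⟨k, hk⟩ := exists_pow_odd x (isOfFinOrder_of_finite x)
    refine ⟨k, Subtype.ext ?_⟩
    show x ^ 2 ^ k = 1
    set y := x ^ 2 ^ k with hy
    have hyC : y ∈ Subgroup.centralizer ((omegaZ Q : Subgroup G) : Set G) := pow_mem hx _
    haveI : IsMulCommutative ZQ := ⟨⟨fun a b =>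
      Subtype.ext (Subgroup.mem_centralizer_iff.1 b.2.2 a a.2.1)⟩⟩
    have hZQp : IsPGroup 2 ZQ := (H1.pCore_isPGroup 2 G).to_le inf_le_left
    have h1 := H1.abelian_coprime_trivial_of_omega (Subgroup.zpowers y) ZQ
      (by rw [Subgroup.normalizer_eq_top_iff.2 (center_normal hQn)]; exact le_top)
      (by
        obtain ⟨j, hj⟩ := IsPGroup.iff_card.1 hZQp
        rw [Nat.card_zpowers, hj]
        exact Nat.Coprime.pow_right _ (Nat.coprime_two_right.2 hk))
      (fun v hv hprime a ha => by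
        have h2 : orderOf v = 2 := by
          obtain ⟨j, hj⟩ := hZQp ⟨v, hv⟩
          have h3 : orderOf v ∣ 2 ^ j := orderOf_dvd_of_pow_eq_one (congrArg Subtype.val hj)
          have h4 := hprime.dvd_of_dvd_pow h3
          exact (Nat.prime_dvd_prime_iff_eq hprime Nat.prime_two).1 h4
        have h3 : v ∈ omegaZ Q := ⟨hv, by rw [← h2, pow_orderOf_eq_one]⟩
        obtain ⟨j, rfl⟩ := Subgroup.mem_zpowers_iff.1 ha
        exact (Subgroup.mem_centralizer_iff.1 (zpow_mem hyC j) v h3).symm)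
    have h2 : y ∈ Subgroup.centralizer (ZQ : Set G) := h1 (Subgroup.mem_zpowers y)
    have h3 : y ∈ (T : Subgroup G) := hZ (Subgroup.centralizer_le
      (show (((T : Subgroup G) ⊓ Subgroup.centralizer ((T : Subgroup G) : Set G) : Subgroup G) :
        Set G) ⊆ ZQ from hZT) h2)
    obtain ⟨j, hj⟩ := T.isPGroup' ⟨y, h3⟩
    have h4 : orderOf y ∣ 2 ^ j := orderOf_dvd_of_pow_eq_one (congrArg Subtype.val hj)
    have h5 : (orderOf y).Coprime (2 ^ j) := Nat.Coprime.pow_right _ (Nat.coprime_two_right.2 hk)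
    exact orderOf_eq_one_iff.1 (Nat.Coprime.eq_one_of_dvd h5 h4)
  · intro x hx
    refine Subgroup.mem_centralizer_iff.2 fun y hy => ?_
    exact (Subgroup.mem_centralizer_iff.1 hy.1.2 x hx).symm

theorem exists_abIn [Finite G] (T : Sylow 2 G) (hJ : Subgroup.normalizer
    ((thompsonSubgroupAOf (T : Subgroup G) : Subgroup G) : Set G) ≤ T) (hT : (T : Subgroup G) ≠ ⊤) :
    ∃ A, H2.AbIn (T : Subgroup G) A ∧ ¬ A ≤ pCore 2 G := by
  by_contra hcon
  push Not at hcon
  apply hT
  rw [eq_top_iff]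
  refine le_trans ?_ hJ
  rw [H2.thompsonSubgroupAOf_eq]
  have hQT : pCore 2 G ≤ (T : Subgroup G) := H1.pCore_le_sylow T
  have hconj : ∀ (g : G) (A : Subgroup G), H2.AbIn (T : Subgroup G) A →
      H2.AbIn (T : Subgroup G) (A.map (MulAut.conj g).toMonoidHom) := by
    intro g A hA
    refine ⟨?_, (H2.isMulCommutative_map_iff (MulAut.conj g).injective).2 hA.2.1, ?_⟩
    · rintro _ ⟨x, hx, rfl⟩
      exact hQT ((H1.pCore_normal 2 G).conj_mem x (hcon A hA hx) g)
    · intro B hB hBc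
      rw [H2.card_map_inj (MulAut.conj g).injective]
      exact hA.2.2 B hB hBc
  have hle : ∀ g : G, ∀ x ∈ sSup {A : Subgroup G | H2.AbIn (T : Subgroup G) A},
      g * x * g⁻¹ ∈ sSup {A : Subgroup G | H2.AbIn (T : Subgroup G) A} := by
    intro g x hx
    have h1 : (sSup {A : Subgroup G | H2.AbIn (T : Subgroup G) A}) ≤
        (sSup {A : Subgroup G | H2.AbIn (T : Subgroup G) A}).comap (MulAut.conj g).toMonoidHom := by
      refine sSup_le fun A hA y hy => ?_
      exact (le_sSup (show A.map (MulAut.conj g).toMonoidHom ∈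
        {A : Subgroup G | H2.AbIn (T : Subgroup G) A} from hconj g A hA)) ⟨y, hy, rfl⟩
    exact h1 hx
  intro g _
  rw [Subgroup.mem_normalizer_iff]
  intro x
  refine ⟨hle g x, fun hx => ?_⟩
  have := hle g⁻¹ _ hx
  simpa [mul_assoc] using this

theorem core_two [Finite G] (T : Sylow 2 G)
    (hc : Subgroup.centralizer ((pCore 2 G : Subgroup G) : Set G) ≤ pCore 2 G)
    (hS4 : ¬ Involves (Equiv.Perm (Fin 4)) G)
    (hZ : Subgroup.centralizer (((T : Subgroup G) ⊓ Subgroup.centralizer ((T : Subgroup G) : Set G) :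
      Subgroup G) : Set G) ≤ T)
    (hJ : Subgroup.normalizer ((thompsonSubgroupAOf (T : Subgroup G) : Subgroup G) : Set G) ≤ T)
    (hmax : ∀ H : Subgroup G, (T : Subgroup G) ≤ H → H = T ∨ H = ⊤)
    (hnpc : HasNormalPComplement 2 (G ⧸ pCore 2 G)) : (T : Subgroup G) = ⊤ := by
  classical
  by_contra hT
  haveI : Fact (Nat.Prime 2) := ⟨Nat.prime_two⟩
  obtain ⟨A₁, hA₁, hA₁Q⟩ := exists_abIn T hJ hT
  have hCV := centralizer_omegaZ T hc hZ
  set Q := pCore 2 G with hQ
  have hQn : Q.Normal := H1.pCore_normal 2 G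
  have hQT : Q ≤ T := H1.pCore_le_sylow T
  have hQp : IsPGroup 2 Q := H1.pCore_isPGroup 2 G
  set V := omegaZ Q with hV
  have hVn : V.Normal := omegaZ_normal hQn
  have hVe : IsElementaryAbelian 2 V := omegaZ_elem Q
  have hVc : ∀ x ∈ V, ∀ y ∈ V, x * y = y * x := H20.isMulCommutative_iff.1 hVe.1
  have hVT : V ≤ T := fun x hx => hQT hx.1.1
  have hA₁c : ∀ x ∈ A₁, ∀ y ∈ A₁, x * y = y * x := H20.isMulCommutative_iff.1 hA₁.2.1
  obtain ⟨A, hAA₁, hoff, hAV, hsq⟩ := exists_quadratic hVn hVe (T.isPGroup'.to_le hA₁.1) hA₁c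
    (offIneq_of_abIn hA₁ hVT hVc) (by rwa [hCV])
  rw [hCV] at hAV hsq
  have hAT : A ≤ T := hAA₁.trans hA₁.1
  have hAc : ∀ x ∈ A, ∀ y ∈ A, x * y = y * x := fun x hx y hy => hA₁c x (hAA₁ hx) y (hAA₁ hy)
  -- the quotient
  let π : G →* G ⧸ Q := QuotientGroup.mk' Q
  have hπs : Function.Surjective π := QuotientGroup.mk'_surjective Q
  have hπk : ∀ x, π x = 1 ↔ x ∈ Q := fun x => QuotientGroup.eq_one_iff x
  set T' := (T : Subgroup G).map π with hT'
  have hT'p : IsPGroup 2 T' := T.isPGroup'.map π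
  have hcomap : ∀ X : Subgroup (G ⧸ Q), T' ≤ X → X = T' ∨ X = ⊤ := by
    intro X hX
    have h1 : (T : Subgroup G) ≤ X.comap π := Subgroup.map_le_iff_le_comap.1 hX
    rcases hmax _ h1 with h2 | h2
    · left
      rw [hT', ← h2, Subgroup.map_comap_eq_self_of_surjective hπs]
    · right
      rw [← Subgroup.map_comap_eq_self_of_surjective hπs X, h2, Subgroup.map_top_of_surjective π hπs]
  obtain ⟨P', K, hKn, hKc⟩ := hnpc
  have hKcop : ¬ 2 ∣ Nat.card K := by
    have h1 : (P' : Subgroup (G ⧸ Q)).index = Nat.card K := hKc.index_eq_card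
    rw [← h1]; exact P'.not_dvd_index
  have hcard : Nat.card K * Nat.card (P' : Subgroup (G ⧸ Q)) = Nat.card (G ⧸ Q) := hKc.card_mul
  have hTK : (Nat.card T').Coprime (Nat.card K) := by
    obtain ⟨j, hj⟩ := IsPGroup.iff_card.1 hT'p
    rw [hj]
    exact Nat.Coprime.pow_left _ (Nat.coprime_two_left.2 (Nat.not_even_iff_odd.1 (fun h =>
      hKcop h.two_dvd)))
  -- `K` is nontrivial
  have hK1 : Nat.card K ≠ 1 := by
    intro h
    rw [h, one_mul] at hcard
    apply hT
    obtain ⟨j, hj⟩ := IsPGroup.iff_card.1 P'.isPGroup'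
    have h1 : IsPGroup 2 (G ⧸ Q) := IsPGroup.of_card (n := j) (by rw [← hcard, hj])
    have h2 : IsPGroup 2 G := by
      obtain ⟨i, hi⟩ := IsPGroup.iff_card.1 hQp
      obtain ⟨k, hk⟩ := IsPGroup.iff_card.1 h1
      refine IsPGroup.of_card (n := k + i) ?_
      rw [Subgroup.card_eq_card_quotient_mul_card_subgroup Q, hk, hi, pow_add]
    have h3 : IsPGroup 2 (⊤ : Subgroup G) := h2.to_subgroup ⊤
    exact (T.3 h3 le_top).symm
  obtain ⟨q, hq, hqK⟩ := Nat.exists_prime_and_dvd hK1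
  haveI : Fact q.Prime := ⟨hq⟩
  have hq2 : q ≠ 2 := fun h => hKcop (h ▸ hqK)
  obtain ⟨P, hPn⟩ := H1.exists_invariant_sylow T' K
    (by rw [Subgroup.normalizer_eq_top_iff.2 hKn]; exact le_top) hTK
    (Or.inl (by
      haveI := hT'p.isNilpotent
      infer_instance)) q
  set R := (P : Subgroup K).map K.subtype with hR
  have hRp : IsPGroup q R := P.isPGroup'.map _
  have hRne : R ≠ ⊥ := by
    intro h
    have h1 : (P : Subgroup K) = ⊥ := by
      rw [← Subgroup.map_eq_bot_iff_of_injective (P : Subgroup K) K.subtype_injective]; exact h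
    exact P.ne_bot_of_dvd_card hqK h1
  have hinf : ∀ x ∈ T', x ∈ R → x = 1 := by
    intro x hx hxR
    obtain ⟨i, hi⟩ := hT'p ⟨x, hx⟩
    obtain ⟨j, hj⟩ := hRp ⟨x, hxR⟩
    have h1 : orderOf x ∣ 2 ^ i := orderOf_dvd_of_pow_eq_one (congrArg Subtype.val hi)
    have h2 : orderOf x ∣ q ^ j := orderOf_dvd_of_pow_eq_one (congrArg Subtype.val hj)
    have h3 : (2 ^ i).Coprime (q ^ j) :=
      Nat.Coprime.pow _ _ ((Nat.coprime_primes Nat.prime_two hq).2 hq2.symm)
    have h4 := Nat.dvd_gcd h1 h2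
    rw [h3, Nat.dvd_one] at h4
    exact orderOf_eq_one_iff.1 h4
  have hTR : T' ⊔ R = ⊤ := by
    rcases hcomap _ (le_sup_left : T' ≤ T' ⊔ R) with h | h
    · exfalso
      apply hRne
      rw [eq_bot_iff]
      intro x hx
      exact hinf x (h ▸ le_sup_right (a := T') hx) hx
    · exact h
  -- `R` is abelian
  have hRT : T' ≤ Subgroup.normalizer (R : Set (G ⧸ Q)) := hPn
  have hRab : ∀ x ∈ R, ∀ y ∈ R, x * y = y * x := by
    have hlt : ⁅R, R⁆ < R := H18.commutator_lt_of_isPGroup hRp hRp Subgroup.le_normalizer hRne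
    have hTn : T' ≤ Subgroup.normalizer ((⁅R, R⁆ : Subgroup (G ⧸ Q)) : Set (G ⧸ Q)) :=
      H18.le_normalizer_commutator hRT hRT
    rcases hcomap _ (le_sup_right : T' ≤ ⁅R, R⁆ ⊔ T') with h | h
    · have h1 : ⁅R, R⁆ = ⊥ := by
        rw [eq_bot_iff]
        intro x hx
        exact hinf x (h ▸ le_sup_left (b := T') hx) (hlt.le hx)
      intro x hx y hy
      exact Subgroup.mem_centralizer_iff.1 (Subgroup.commutator_eq_bot_iff_le_centralizer.1 h1 hy) x hx
    · exfalso
      apply hlt.not_ge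
      intro x hx
      have h1 : x ∈ ⁅R, R⁆ ⊔ T' := by rw [h]; trivial
      obtain ⟨n, hn, t, ht, rfl⟩ := (H1.mem_sup_iff_of_le_normalizer hTn).1 h1
      have h2 : t ∈ R := by
        have : t = n⁻¹ * (n * t) := by group
        rw [this]; exact mul_mem (inv_mem (hlt.le hn)) hx
      rw [hinf t ht h2, mul_one]
      exact hn
  -- `A` does not centralize `R`
  have hAR : ∃ a : A, ∃ r ∈ R, π a * r * (π a)⁻¹ ≠ r := by
    by_contra hcon
    push Not at hcon
    apply hAV
    set D := T' ⊓ Subgroup.centralizer (R : Set (G ⧸ Q)) with hD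
    have hDn : D.Normal := by
      rw [← Subgroup.normalizer_eq_top_iff, eq_top_iff, ← hTR]
      refine sup_le (fun t ht => ?_) (fun r hr => ?_)
      · rw [Subgroup.mem_normalizer_iff]
        have hle : ∀ t ∈ T', ∀ x ∈ D, t * x * t⁻¹ ∈ D := by
          rintro t ht x ⟨hx, hx'⟩
          refine ⟨show t * x * t⁻¹ ∈ T' from mul_mem (mul_mem ht hx) (inv_mem ht),
            Subgroup.mem_centralizer_iff.2 fun r hr => ?_⟩
          have h1 : t⁻¹ * r * t ∈ R := by
            have := (Subgroup.mem_normalizer_iff.1 (hRT (inv_mem ht)) r).1 hr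
            rwa [inv_inv] at this
          have h2 := Subgroup.mem_centralizer_iff.1 hx' _ h1
          calc r * (t * x * t⁻¹) = t * ((t⁻¹ * r * t) * x) * t⁻¹ := by group
            _ = t * x * t⁻¹ * r := by rw [h2]; group
        intro x
        refine ⟨hle t ht x, fun hx => ?_⟩
        have := hle t⁻¹ (inv_mem ht) _ hx
        simpa [mul_assoc] using this
      · rw [Subgroup.mem_normalizer_iff]
        have hle : ∀ r ∈ R, ∀ x ∈ D, r * x * r⁻¹ = x := by
          rintro r hr x ⟨-, hx'⟩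
          rw [Subgroup.mem_centralizer_iff.1 hx' r hr]; group
        intro x
        refine ⟨fun hx => by rw [hle r hr x hx]; exact hx, fun hx => ?_⟩
        have := hle r⁻¹ (inv_mem hr) _ hx
        have h2 : x = r⁻¹ * (r * x * r⁻¹) * r⁻¹⁻¹ := by group
        rw [h2, this]; exact hx
    have hDp : IsPGroup 2 D := hT'p.to_le inf_le_left
    have hDc : D.comap π ≤ Q := by
      refine H1.le_pCore (hDn.comap π) ?_
      rintro ⟨x, hx⟩
      obtain ⟨i, hi⟩ := hDp ⟨π x, hx⟩
      have h1 : x ^ 2 ^ i ∈ Q := by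
        rw [← hπk, map_pow]; exact congrArg Subtype.val hi
      obtain ⟨j, hj⟩ := hQp ⟨_, h1⟩
      refine ⟨i + j, Subtype.ext ?_⟩
      have h2 : (x ^ 2 ^ i) ^ 2 ^ j = 1 := congrArg Subtype.val hj
      show x ^ 2 ^ (i + j) = 1
      rw [pow_add, pow_mul]; exact h2
    intro a ha
    apply hDc
    refine ⟨⟨a, hAT ha, rfl⟩, Subgroup.mem_centralizer_iff.2 fun r hr => ?_⟩
    have := hcon ⟨a, ha⟩ r hr
    calc r * π a = π a * r * (π a)⁻¹ * π a := by rw [this]
      _ = π a * r := by group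
  have hRodd : ∀ r ∈ R, r * r = 1 → r = 1 := by
    intro r hr h
    obtain ⟨j, hj⟩ := hRp ⟨r, hr⟩
    have h1 : orderOf r ∣ 2 := orderOf_dvd_of_pow_eq_one (by rw [pow_two]; exact h)
    have h2 : orderOf r ∣ q ^ j := orderOf_dvd_of_pow_eq_one (congrArg Subtype.val hj)
    have h3 : Nat.Coprime 2 (q ^ j) :=
      Nat.Coprime.pow_right _ ((Nat.coprime_primes Nat.prime_two hq).2 hq2.symm)
    have h4 := Nat.dvd_gcd h1 h2
    rw [h3, Nat.dvd_one] at h4
    exact orderOf_eq_one_iff.1 h4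
  obtain ⟨s', hs'R, hs'1, a, has', hfix⟩ := exists_inverted (π.comp A.subtype)
    (fun a b => Subtype.ext (hAc a a.2 b b.2))
    (fun a => by
      show π a * π a = 1
      rw [← map_mul, hπk]; exact hsq a a.2) R hRab hRodd
    (fun a r hr => (Subgroup.mem_normalizer_iff.1 (hRT ⟨a, hAT a.2, rfl⟩) r).1 hr) hAR
  have has'' : π a * s' * (π a)⁻¹ = s'⁻¹ := has'
  have hfix' : ∀ b ∈ A, π b * s' * (π b)⁻¹ = s' ∨ π (a * b) * s' * (π (a * b))⁻¹ = s' :=
    fun b hb => hfix ⟨b, hb⟩
  have hos' : Odd (orderOf s') := by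
    obtain ⟨j, hj⟩ := hRp ⟨s', hs'R⟩
    have h2 : orderOf s' ∣ q ^ j := orderOf_dvd_of_pow_eq_one (congrArg Subtype.val hj)
    have h3 : Nat.Coprime 2 (q ^ j) :=
      Nat.Coprime.pow_right _ ((Nat.coprime_primes Nat.prime_two hq).2 hq2.symm)
    exact Nat.coprime_two_left.1 (h3.coprime_dvd_right h2)
  obtain ⟨s, hs, hos⟩ := H24.exists_lift_coprime Q s' (by
    obtain ⟨i, hi⟩ := IsPGroup.iff_card.1 hQp
    rw [hi]; exact Nat.Coprime.pow_right _ (Nat.coprime_two_right.2 hos'))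
  have hs : π s = s' := hs
  -- `B`
  set B := A ⊓ (Subgroup.centralizer ({s'} : Set (G ⧸ Q))).comap π with hB
  have hBmem : ∀ b, b ∈ B ↔ b ∈ A ∧ π b * s' * (π b)⁻¹ = s' := by
    intro b
    rw [hB, Subgroup.mem_inf, Subgroup.mem_comap, H18.commute_iff_mem_centralizer_singleton]
    refine and_congr_right fun _ => ⟨fun h => by rw [← h]; group, fun h => ?_⟩
    calc s' * π b = π b * s' * (π b)⁻¹ * π b := by rw [h]
      _ = π b * s' := by group
  have hcardB : Nat.card A ≤ 2 * Nat.card B := by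
    have h1 : ∀ b : A, (b : G) ∈ B ∨ (a : G) * b ∈ B := by
      intro b
      rcases hfix' b b.2 with h | h
      · exact Or.inl ((hBmem _).2 ⟨b.2, h⟩)
      · exact Or.inr ((hBmem _).2 ⟨mul_mem a.2 b.2, h⟩)
    let f : A → B ⊕ B := fun b => if h : (b : G) ∈ B then Sum.inl ⟨b, h⟩ else
      Sum.inr ⟨(a : G) * b, (h1 b).resolve_left h⟩
    have hf : Function.Injective f := by
      intro b c hbc
      by_cases hb : (b : G) ∈ B <;> by_cases hc : (c : G) ∈ B
      · simp only [f, hb, hc, dif_pos] at hbc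
        have h5 := Sum.inl_injective hbc
        exact Subtype.ext (congrArg (fun z : B => (z : G)) h5)
      · simp only [f, hb, hc, dif_pos, dif_neg, not_false_eq_true] at hbc
        exact absurd hbc (by simp)
      · simp only [f, hb, hc, dif_pos, dif_neg, not_false_eq_true] at hbc
        exact absurd hbc (by simp)
      · simp only [f, hb, hc, dif_neg, not_false_eq_true] at hbc
        have h5 := Sum.inr_injective hbc
        exact Subtype.ext (mul_left_cancel (congrArg (fun z : B => (z : G)) h5))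
    have h2 := Nat.card_le_card_of_injective f hf
    rw [Nat.card_sum] at h2
    omega
  apply hS4
  refine four_of_transvection (V := V) (B := B) (s := s) (a := a) hVn hVe
    (T.isPGroup'.to_le (inf_le_left.trans hAT)) (hos ▸ hos') ?_ ?_ ?_ ?_ ?_
  · rw [hCV, ← hπk, hs]; exact hs'1
  · intro b hb
    rw [hCV, ← hπk]
    have := ((hBmem b).1 hb).2
    rw [map_mul, map_mul, map_mul, map_inv, map_inv, hs, this]; group
  · intro b hb
    exact hAc a a.2 b hb.1
  · rw [hCV, ← hπk, map_mul, map_mul, map_mul, map_inv, hs, has'']; group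
  · have h1 := hoff B inf_le_left
    have h2 : V ⊓ Subgroup.centralizer (A : Set G) ≤
        (V ⊓ Subgroup.centralizer (B : Set G)) ⊓ Subgroup.centralizer {(a : G)} := by
      refine le_inf (inf_le_inf_left _ (Subgroup.centralizer_le
        (show (B : Set G) ⊆ A from fun x hx => hx.1))) (inf_le_right.trans
        (Subgroup.centralizer_le (by
          rintro _ rfl
          exact a.2)))
    have h3 := Subgroup.card_le_of_le h2
    have hpos : 0 < Nat.card B := Nat.card_pos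
    have h4 : Nat.card B * Nat.card ↥(V ⊓ Subgroup.centralizer (B : Set G)) ≤
        Nat.card B * (2 * Nat.card ↥((V ⊓ Subgroup.centralizer (B : Set G)) ⊓
          Subgroup.centralizer {(a : G)})) := by
      calc Nat.card B * Nat.card ↥(V ⊓ Subgroup.centralizer (B : Set G))
          ≤ Nat.card A * Nat.card ↥(V ⊓ Subgroup.centralizer (A : Set G)) := h1
        _ ≤ (2 * Nat.card B) * Nat.card ↥((V ⊓ Subgroup.centralizer (B : Set G)) ⊓
          Subgroup.centralizer {(a : G)}) := Nat.mul_le_mul hcardB h3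
        _ = _ := by ring
    exact Nat.le_of_mul_le_mul_left h4 hpos

end
end Cfsg.Agent.H28
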