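import Mathlib
import Cfsg.Prelude.Def_LocalEven
import Cfsg.Prelude.Def_Transfer
import Cfsg.Agent.H28.TwoCore3
import Cfsg.Agent.H28.Mach4

/-!
Thompson's normal `p`-complement theorem, constrained case.
-/

set_option autoImplicit false
open Cfsg Cfsg.FusionSystem

namespace Cfsg.Agent.H28

universe u v

section
variable {G : Type u} [Group G] {p : ℕ}

theorem WA_map {W : ∀ (S : Type u) [Group S], Subgroup S}
    (hW : ∀ {S S' : Type u} [Group S] [Group S'] (e : S ≃* S'), (W S).map e.toMonoidHom = W S')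
    {G' : Type u} [Group G'] {f : G →* G'} (hf : Function.Injective f) (U : Subgroup G) :
    H2.WA W (U.map f) = (H2.WA W U).map f := by
  have h1 := imageAlong_WA (W := W) hW (ι := f.comp U.subtype) (hf.comp U.subtype_injective)
  have h2 : (f.comp U.subtype).range = U.map f := by
    rw [MonoidHom.range_comp, Subgroup.range_subtype]
  rw [h2] at h1
  rw [← h1]
  ext y
  rw [mem_imageAlong]
  constructor
  · rintro ⟨x, hx, hx', rfl⟩
    exact ⟨x, hx', by rw [tf_apply _ hx]; rfl⟩
  · rintro ⟨x, hx, rfl⟩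
    have hxU : x ∈ U := H2.WA_le U hx
    exact ⟨x, hxU, hx, by rw [tf_apply _ hxU]; rfl⟩

theorem JA_eq_WA (U : Subgroup G) : thompsonSubgroupAOf U =
    H2.WA (fun (S : Type u) [Group S] => thompsonSubgroupA S) U := rfl

theorem JA_map {G' : Type u} [Group G'] {f : G →* G'} (hf : Function.Injective f) (U : Subgroup G) :
    thompsonSubgroupAOf (U.map f) = (thompsonSubgroupAOf U).map f :=
  WA_map (W := fun (S : Type u) [Group S] => thompsonSubgroupA S)
    (fun e => thompsonSubgroupA_map e) hf U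

theorem JA_characteristic (U : Subgroup G) :
    ((thompsonSubgroupAOf U).subgroupOf U).Characteristic :=
  WA_characteristic (W := fun (S : Type u) [Group S] => thompsonSubgroupA S)
    (fun e => thompsonSubgroupA_map e) U

theorem JA_le (U : Subgroup G) : thompsonSubgroupAOf U ≤ U := Subgroup.map_subtype_le _

theorem exists_abIn' [Finite G] (U : Subgroup G) : ∃ A, H2.AbIn U A := by
  classical
  have hfin : ({A : Subgroup G | A ≤ U ∧ IsMulCommutative A} : Set (Subgroup G)).Finite :=
    Set.toFinite _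
  obtain ⟨A, hA, hmax⟩ := Set.exists_max_image _ (fun A : Subgroup G => Nat.card A) hfin
    ⟨⊥, bot_le, ⟨⟨fun a b => by
      apply Subtype.ext
      have ha := Subgroup.mem_bot.1 a.2
      have hb := Subgroup.mem_bot.1 b.2
      show (a : G) * b = b * a
      rw [ha, hb]⟩⟩⟩
  exact ⟨A, hA.1, hA.2, fun B hB hBc => hmax B ⟨hB, hBc⟩⟩

theorem JA_ne_bot [Finite G] {U : Subgroup G} (h : U ≠ ⊥) : thompsonSubgroupAOf U ≠ ⊥ := by
  obtain ⟨x, hx, hx1⟩ := exists_ne_of_ne_bot h
  obtain ⟨A, hA⟩ := exists_abIn' U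
  intro hJ
  rw [H2.thompsonSubgroupAOf_eq] at hJ
  have h1 : A ≤ ⊥ := by rw [← hJ]; exact le_sSup hA
  have h2 : A = ⊥ := le_bot_iff.1 h1
  have h3 := hA.2.2 (Subgroup.zpowers x) (Subgroup.zpowers_le.2 hx) inferInstance
  rw [h2, Subgroup.card_bot] at h3
  have h4 : Subgroup.zpowers x = ⊥ := by
    apply Subgroup.eq_bot_of_card_le _ h3
  exact hx1 (Subgroup.zpowers_eq_bot.1 h4)

theorem JA_eq_of_le [Finite G] {U W : Subgroup G} (h1 : thompsonSubgroupAOf U ≤ W) (h2 : W ≤ U) :
    thompsonSubgroupAOf W = thompsonSubgroupAOf U := by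
  obtain ⟨A, hA⟩ := exists_abIn' U
  rw [H2.thompsonSubgroupAOf_eq] at h1
  have hAW : A ≤ W := (le_sSup hA : A ≤ _).trans h1
  rw [H2.thompsonSubgroupAOf_eq, H2.thompsonSubgroupAOf_eq]
  congr 1
  ext B
  constructor
  · rintro ⟨hB1, hB2, hB3⟩
    exact ⟨hB1.trans h2, hB2, fun C hC hCc => (hA.2.2 C hC hCc).trans (hB3 A hAW hA.2.1)⟩
  · intro hB
    exact ⟨(le_sSup hB : B ≤ _).trans h1, hB.2.1, fun C hC hCc => hB.2.2 C (hC.trans h2) hCc⟩

/-- `Z(U)`. -/
def ctr (U : Subgroup G) : Subgroup G := U ⊓ Subgroup.centralizer (U : Set G)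

theorem ctr_le_abIn [Finite G] {U A : Subgroup G} (hA : H2.AbIn U A) : ctr U ≤ A := by
  have hAc : ∀ x ∈ A, ∀ y ∈ A, x * y = y * x := H20.isMulCommutative_iff.1 hA.2.1
  have h1 : IsMulCommutative (ctr U ⊔ A : Subgroup G) := by
    rw [H20.isMulCommutative_iff]
    have h2 : ctr U ⊔ A ≤ Subgroup.centralizer ((ctr U ⊔ A : Subgroup G) : Set G) := by
      have hz : ctr U ≤ Subgroup.centralizer ((ctr U ⊔ A : Subgroup G) : Set G) := by
        intro z hz
        exact Subgroup.centralizer_le (show ((ctr U ⊔ A : Subgroup G) : Set G) ⊆ U from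
          sup_le inf_le_left hA.1) hz.2
      refine sup_le hz ?_
      rw [Subgroup.le_centralizer_iff]
      refine sup_le (hz.trans (Subgroup.centralizer_le (show (A : Set G) ⊆ _ from
        (le_sup_right : A ≤ ctr U ⊔ A)))) (fun x hx => Subgroup.mem_centralizer_iff.2 fun y hy =>
        hAc y hy x hx)
    intro x hx y hy
    exact Subgroup.mem_centralizer_iff.1 (h2 hy) x hx
  have h3 := hA.2.2 _ (sup_le inf_le_left hA.1) h1
  have h4 : A = ctr U ⊔ A := Subgroup.eq_of_le_of_card_ge le_sup_right h3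
  rw [h4]; exact le_sup_left

theorem ctr_le_JA [Finite G] (U : Subgroup G) : ctr U ≤ thompsonSubgroupAOf U := by
  obtain ⟨A, hA⟩ := exists_abIn' U
  rw [H2.thompsonSubgroupAOf_eq]
  exact (ctr_le_abIn hA).trans (le_sSup hA)

theorem ctr_ne_bot [Finite G] [Fact p.Prime] {U : Subgroup G} (hU : IsPGroup p U) (h : U ≠ ⊥) :
    ctr U ≠ ⊥ := H18.inf_centralizer_ne_bot hU hU Subgroup.le_normalizer h

theorem ctr_characteristic (U : Subgroup G) : ((ctr U).subgroupOf U).Characteristic := by
  have h1 : (ctr U).subgroupOf U = Subgroup.center U := by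
    ext x
    rw [Subgroup.mem_subgroupOf, Subgroup.mem_center_iff]
    constructor
    · intro hx y
      exact Subtype.ext (Subgroup.mem_centralizer_iff.1 hx.2 y y.2)
    · intro hx
      exact ⟨x.2, Subgroup.mem_centralizer_iff.2 fun y hy => congrArg Subtype.val (hx ⟨y, hy⟩)⟩
  rw [h1]; infer_instance

/-- Fusion in a group with a normal complement. -/
theorem npc_control [Finite G] [Fact p.Prime] {T X : Subgroup G} (hT : IsPGroup p T) (hTX : T ≤ X)
    (hidx : ¬ p ∣ T.relIndex X) (h : HasNormalPComplement p X) {x : G} (hx : x ∈ X) {P : Subgroup G}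
    (hP : P ≤ T) (hPx : ∀ y ∈ P, x * y * x⁻¹ ∈ T) : ∃ t ∈ T, ∀ y ∈ P, x * y * x⁻¹ = t * y * t⁻¹ := by
  obtain ⟨K, hK, hpK, k, hk⟩ := H2.hasNormalPComplement_iff.1 h
  haveI := hK
  have hTK : ∀ y : X, (y : G) ∈ T → y ∈ K → y = 1 := by
    intro y hy hyK
    obtain ⟨j, hj⟩ := hT ⟨y, hy⟩
    have h1 : orderOf y ∣ p ^ j := orderOf_dvd_of_pow_eq_one (Subtype.ext (congrArg (fun z : T => (z : G)) hj))
    have h2 : orderOf y ∣ Nat.card K := by
      have := orderOf_dvd_natCard (⟨y, hyK⟩ : K)
      rwa [Subgroup.orderOf_mk] at this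
    have h3 : (p ^ j).Coprime (Nat.card K) :=
      Nat.Coprime.pow_left _ (((Nat.Prime.coprime_iff_not_dvd Fact.out)).2 hpK)
    have h4 := Nat.dvd_gcd h1 h2
    rw [h3, Nat.dvd_one] at h4
    exact orderOf_eq_one_iff.1 h4
  -- `X = K T`
  have hKT : K ⊔ T.subgroupOf X = ⊤ := by
    rw [← Subgroup.index_eq_one]
    have h1 : (K ⊔ T.subgroupOf X).index ∣ K.index := Subgroup.index_dvd_of_le le_sup_left
    have h2 : (K ⊔ T.subgroupOf X).index ∣ (T.subgroupOf X).index :=
      Subgroup.index_dvd_of_le le_sup_right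
    rw [hk] at h1
    have h3 : (p ^ k).Coprime (T.subgroupOf X).index :=
      Nat.Coprime.pow_left _ (((Nat.Prime.coprime_iff_not_dvd Fact.out)).2 hidx)
    have h4 := Nat.dvd_gcd h1 h2
    rwa [h3, Nat.dvd_one] at h4
  have hxt : (⟨x, hx⟩ : X) ∈ K ⊔ T.subgroupOf X := by rw [hKT]; trivial
  obtain ⟨c, hc, t, ht, hct⟩ := Subgroup.mem_sup_of_normal_left.1 hxt
  have hct' : (c : G) * t = x := congrArg Subtype.val hct
  refine ⟨t, ht, fun y hy => ?_⟩
  have hty : (t : G) * y * (t : G)⁻¹ ∈ T := mul_mem (mul_mem ht (hP hy)) (inv_mem ht)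
  have h1 : c * (t * ⟨y, hTX (hP hy)⟩ * t⁻¹) * c⁻¹ * (t * ⟨y, hTX (hP hy)⟩ * t⁻¹)⁻¹ = 1 := by
    apply hTK
    · show (c : G) * (t * y * (t : G)⁻¹) * (c : G)⁻¹ * (t * y * (t : G)⁻¹)⁻¹ ∈ T
      have h2 : (c : G) * (t * y * (t : G)⁻¹) * (c : G)⁻¹ = x * y * x⁻¹ := by rw [← hct']; group
      rw [h2]; exact mul_mem (hPx y hy) (inv_mem hty)
    · have h3 : c * (t * ⟨y, hTX (hP hy)⟩ * t⁻¹) * c⁻¹ * (t * ⟨y, hTX (hP hy)⟩ * t⁻¹)⁻¹ =
          c * ((t * ⟨y, hTX (hP hy)⟩ * t⁻¹) * c⁻¹ * (t * ⟨y, hTX (hP hy)⟩ * t⁻¹)⁻¹) := by group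
      rw [h3]; exact mul_mem hc (hK.conj_mem _ (inv_mem hc) _)
  have h4 := mul_inv_eq_one.1 h1
  have h5 : (c : G) * (t * y * (t : G)⁻¹) * (c : G)⁻¹ = t * y * (t : G)⁻¹ := congrArg Subtype.val h4
  rw [← h5, ← hct']; group

theorem core_ind : ∀ (n : ℕ) (G : Type u) [Group G] [Finite G] (T : Sylow 2 G), Nat.card G ≤ n →
    Subgroup.centralizer ((pCore 2 G : Subgroup G) : Set G) ≤ pCore 2 G →
    ¬ Involves (Equiv.Perm (Fin 4)) G →
    Subgroup.centralizer ((ctr (T : Subgroup G) : Subgroup G) : Set G) ≤ T →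
    Subgroup.normalizer ((thompsonSubgroupAOf (T : Subgroup G) : Subgroup G) : Set G) ≤ T →
    (∀ (X : Type u) [Group X] [Finite X] (T' : Sylow 2 X), Nat.card (T' : Subgroup X) <
      Nat.card (T : Subgroup G) → ¬ Involves (Equiv.Perm (Fin 4)) X →
      Subgroup.centralizer ((ctr (T' : Subgroup X) : Subgroup X) : Set X) ≤ T' →
      Subgroup.normalizer ((thompsonSubgroupAOf (T' : Subgroup X) : Subgroup X) : Set X) ≤ T' →
      HasNormalPComplement 2 X) → (T : Subgroup G) = ⊤ := by
  intro n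
  induction n with
  | zero =>
    intro G _ _ T hn
    exact absurd (Nat.card_pos (α := G)) (by omega)
  | succ n ih =>
    intro G _ _ T hn hc hS4 hZ hJ hIH
    by_contra hT
    haveI : Fact (Nat.Prime 2) := ⟨Nat.prime_two⟩
    have hQT : pCore 2 G ≤ (T : Subgroup G) := H1.pCore_le_sylow T
    have hQp : IsPGroup 2 (pCore 2 G) := H1.pCore_isPGroup 2 G
    haveI hQn : (pCore 2 G).Normal := H1.pCore_normal 2 G
    have hmax : ∀ H : Subgroup G, (T : Subgroup G) ≤ H → H = T ∨ H = ⊤ := by
      intro H hTH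
      by_cases hH : H = ⊤
      · exact Or.inr hH
      left
      have hlt : Nat.card H < Nat.card G := by
        have h1 := card_lt_of_lt' (lt_top_iff_ne_top.2 hH)
        rwa [Subgroup.card_top] at h1
      have hTe : ((T.subtype hTH : Sylow 2 H) : Subgroup H) = (T : Subgroup G).subgroupOf H := rfl
      have hmap : ((T : Subgroup G).subgroupOf H).map H.subtype = T :=
        Subgroup.map_subgroupOf_eq_of_le hTH
      have hQH : pCore 2 G ≤ H := hQT.trans hTH
      have hcardT : Nat.card ((T : Subgroup G).subgroupOf H) = Nat.card (T : Subgroup G) :=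
        Nat.card_congr (Subgroup.subgroupOfEquivOfLe hTH).toEquiv
      have h1 := ih H (T.subtype hTH) (by omega) ?_ ?_ ?_ ?_ ?_
      · refine le_antisymm ?_ hTH
        intro x hx
        have h2 : (⟨x, hx⟩ : H) ∈ ((T.subtype hTH : Sylow 2 H) : Subgroup H) := by rw [h1]; trivial
        exact h2
      · have h2 : (pCore 2 G).subgroupOf H ≤ pCore 2 H := by
          refine H1.le_pCore inferInstance ?_
          exact hQp.of_injective (Subgroup.subgroupOfEquivOfLe hQH).toMonoidHom
            (Subgroup.subgroupOfEquivOfLe hQH).injective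
        intro x hx
        apply h2
        rw [Subgroup.mem_subgroupOf]
        apply hc
        refine Subgroup.mem_centralizer_iff.2 fun y hy => ?_
        exact congrArg Subtype.val (Subgroup.mem_centralizer_iff.1 hx ⟨y, hQH hy⟩ (h2 hy))
      · intro h
        exact hS4 (L.inv_trans h (L.inv_sub (L.inv_refl G) H))
      · intro x hx
        rw [hTe, Subgroup.mem_subgroupOf]
        apply hZ
        refine Subgroup.mem_centralizer_iff.2 fun z hz => ?_
        refine congrArg Subtype.val (Subgroup.mem_centralizer_iff.1 hx ⟨z, hTH hz.1⟩ ?_)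
        rw [hTe]
        exact ⟨hz.1, Subgroup.mem_centralizer_iff.2 fun y hy =>
          Subtype.ext (Subgroup.mem_centralizer_iff.1 hz.2 y hy)⟩
      · intro x hx
        rw [hTe, Subgroup.mem_subgroupOf]
        apply hJ
        rw [hTe] at hx
        have h3 : thompsonSubgroupAOf (T : Subgroup G) =
            (thompsonSubgroupAOf ((T : Subgroup G).subgroupOf H)).map H.subtype := by
          rw [← JA_map H.subtype_injective, hmap]
        rw [h3, Subgroup.mem_normalizer_iff]
        intro y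
        constructor
        · rintro ⟨z, hz, rfl⟩
          exact ⟨x * z * x⁻¹, (Subgroup.mem_normalizer_iff.1 hx z).1 hz, rfl⟩
        · rintro ⟨z, hz, hzy⟩
          have h4 : y = ((x⁻¹ * z * x : H) : G) := by
            show y = (x : G)⁻¹ * z * x
            have h5 : (z : G) = x * y * (x : G)⁻¹ := hzy
            rw [h5]; group
          refine ⟨x⁻¹ * z * x, ?_, h4.symm⟩
          have h6 := (Subgroup.mem_normalizer_iff.1 (inv_mem hx) z).1 hz
          rwa [inv_inv] at h6
      · intro X _ _ T' hT'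
        apply hIH X T'
        rw [hTe, hcardT] at hT'
        exact hT'
    -- the core is nontrivial
    have hQ1 : pCore 2 G ≠ ⊥ := by
      intro h
      rw [h] at hc
      apply hT
      rw [eq_top_iff]
      refine le_trans (fun x _ => ?_) ((hc.trans bot_le : _ ≤ (T : Subgroup G)))
      refine Subgroup.mem_centralizer_iff.2 fun y hy => ?_
      have : y = 1 := Subgroup.mem_bot.1 hy
      rw [this]; simp
    let π : G →* G ⧸ pCore 2 G := QuotientGroup.mk' (pCore 2 G)
    have hπs : Function.Surjective π := QuotientGroup.mk'_surjective _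
    have hπk : π.ker = pCore 2 G := QuotientGroup.ker_mk' _
    let T' : Sylow 2 (G ⧸ pCore 2 G) := T.mapSurjective hπs
    have hT'e : (T' : Subgroup (G ⧸ pCore 2 G)) = (T : Subgroup G).map π := rfl
    have hcard : Nat.card (T' : Subgroup (G ⧸ pCore 2 G)) < Nat.card (T : Subgroup G) := by
      rw [hT'e, ← Subgroup.relIndex_ker, hπk, ← H1.card_mul_relIndex hQT]
      have h1 : 1 < Nat.card (pCore 2 G) := by
        rw [← Subgroup.card_bot (G := G)]
        exact card_lt_of_lt' (bot_lt_iff_ne_bot.2 hQ1)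
      have h2 : 0 < (pCore 2 G).relIndex (T : Subgroup G) :=
        Nat.pos_of_ne_zero Subgroup.index_ne_zero_of_finite
      nlinarith
    have hT'p : IsPGroup 2 (T' : Subgroup (G ⧸ pCore 2 G)) := T'.isPGroup'
    -- normal subgroups of the quotient
    have hnob : ∀ D : Subgroup (G ⧸ pCore 2 G), D.Normal → D ≤ T' → D = ⊥ := by
      intro D hD hDT
      have h1 : D.comap π ≤ pCore 2 G := by
        refine H1.le_pCore (hD.comap π) ?_
        rintro ⟨x, hx⟩
        obtain ⟨i, hi⟩ := hT'p ⟨π x, hDT hx⟩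
        have h1 : x ^ 2 ^ i ∈ pCore 2 G := by
          rw [← hπk, MonoidHom.mem_ker, map_pow]; exact congrArg Subtype.val hi
        obtain ⟨j, hj⟩ := hQp ⟨_, h1⟩
        refine ⟨i + j, Subtype.ext ?_⟩
        have h2 : (x ^ 2 ^ i) ^ 2 ^ j = 1 := congrArg Subtype.val hj
        show x ^ 2 ^ (i + j) = 1
        rw [pow_add, pow_mul]; exact h2
      rw [eq_bot_iff]
      intro y hy
      obtain ⟨x, rfl⟩ := hπs y
      rw [Subgroup.mem_bot, ← MonoidHom.mem_ker, hπk]
      exact h1 hy
    have hloc : ∀ D : Subgroup (G ⧸ pCore 2 G), D ≠ ⊥ → D ≤ T' →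
        (T' : Subgroup (G ⧸ pCore 2 G)) ≤ Subgroup.normalizer (D : Set (G ⧸ pCore 2 G)) →
        Subgroup.normalizer (D : Set (G ⧸ pCore 2 G)) ≤ T' := by
      intro D hD1 hDT hTD
      have h1 : (T : Subgroup G) ≤ (Subgroup.normalizer (D : Set (G ⧸ pCore 2 G))).comap π :=
        Subgroup.map_le_iff_le_comap.1 hTD
      rcases hmax _ h1 with h2 | h2
      · rw [hT'e, ← h2, Subgroup.map_comap_eq_self_of_surjective hπs]
      · exfalso
        apply hD1
        refine hnob D ?_ hDT
        rw [← Subgroup.normalizer_eq_top_iff, ← Subgroup.map_comap_eq_self_of_surjective hπs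
          (Subgroup.normalizer (D : Set (G ⧸ pCore 2 G))), h2, Subgroup.map_top_of_surjective π hπs]
    have hT'1 : (T' : Subgroup (G ⧸ pCore 2 G)) ≠ ⊥ := by
      intro h
      have h1 : (T : Subgroup G) ≤ pCore 2 G := by
        rw [← hπk]
        intro x hx
        rw [MonoidHom.mem_ker, ← Subgroup.mem_bot, ← h]
        exact ⟨x, hx, rfl⟩
      have h2 : (T : Subgroup G) = pCore 2 G := le_antisymm h1 hQT
      apply hT
      rw [eq_top_iff]
      refine le_trans ?_ hJ
      intro g _
      refine char_normal (JA_le _) (JA_characteristic _) ?_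
      rw [h2, Subgroup.normalizer_eq_top_iff.2 hQn]; trivial
    have hnpc : HasNormalPComplement 2 (G ⧸ pCore 2 G) := by
      refine hIH _ T' hcard ?_ ?_ ?_
      · intro h
        exact hS4 (L.inv_trans h (L.inv_quot (L.inv_refl G) _))
      · refine le_trans ?_ (hloc (ctr (T' : Subgroup (G ⧸ pCore 2 G))) (ctr_ne_bot hT'p hT'1)
          inf_le_left (char_le_normalizerIn inf_le_left (ctr_characteristic _)))
        intro x hx
        rw [Subgroup.mem_normalizer_iff]
        have hle : ∀ x ∈ Subgroup.centralizer ((ctr (T' : Subgroup (G ⧸ pCore 2 G)) :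
            Subgroup (G ⧸ pCore 2 G)) : Set (G ⧸ pCore 2 G)), ∀ y ∈ ctr (T' : Subgroup (G ⧸ pCore 2 G)),
            x * y * x⁻¹ = y := by
          intro x hx y hy
          rw [← Subgroup.mem_centralizer_iff.1 hx y hy]; group
        intro y
        refine ⟨fun hy => by rw [hle x hx y hy]; exact hy, fun hy => ?_⟩
        have h1 := hle x⁻¹ (inv_mem hx) _ hy
        have h2 : y = x⁻¹ * (x * y * x⁻¹) * x⁻¹⁻¹ := by group
        rw [h2, h1]; exact hy
      · exact hloc _ (JA_ne_bot hT'1) (JA_le _) (char_le_normalizerIn (JA_le _) (JA_characteristic _))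
    exact hT (core_two T hc hS4 hZ hJ hmax hnpc)

/-- The core theorem for constrained groups. -/
theorem core_group [Finite G] [hp : Fact p.Prime] (T : Sylow p G)
    (hc : Subgroup.centralizer ((pCore p G : Subgroup G) : Set G) ≤ pCore p G)
    (h : p ≠ 2 ∨ ¬ Involves (Equiv.Perm (Fin 4)) G)
    (hZ : Subgroup.centralizer ((ctr (T : Subgroup G) : Subgroup G) : Set G) ≤ T)
    (hJ : Subgroup.normalizer ((thompsonSubgroupAOf (T : Subgroup G) : Subgroup G) : Set G) ≤ T)
    (hIH : ∀ (X : Type u) [Group X] [Finite X] (T' : Sylow p X), Nat.card (T' : Subgroup X) <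
      Nat.card (T : Subgroup G) → ¬ Involves (Equiv.Perm (Fin 4)) X →
      Subgroup.centralizer ((ctr (T' : Subgroup X) : Subgroup X) : Set X) ≤ T' →
      Subgroup.normalizer ((thompsonSubgroupAOf (T' : Subgroup X) : Subgroup X) : Set X) ≤ T' →
      HasNormalPComplement p X) : (T : Subgroup G) = ⊤ := by
  by_cases hp2 : p = 2
  · subst hp2
    exact core_ind _ G T le_rfl hc (h.resolve_left (by simp)) hZ hJ hIH
  · -- `p` odd
    set V := centerThompsonAOf (T : Subgroup G) with hV
    have hJT := JA_le (T : Subgroup G)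
    have hZV : ctr (T : Subgroup G) ≤ V := by
      refine le_inf (ctr_le_JA _) (inf_le_right.trans (Subgroup.centralizer_le hJT))
    have hCV : Subgroup.centralizer (V : Set G) ≤ T := (Subgroup.centralizer_le hZV).trans hZ
    have hJC : thompsonSubgroupAOf (T : Subgroup G) ≤ Subgroup.centralizer (V : Set G) := by
      rw [Subgroup.le_centralizer_iff]
      exact inf_le_right
    have hJe := JA_eq_of_le hJC hCV
    have hN : Subgroup.normalizer (V : Set G) ≤ T := by
      refine le_trans ?_ hJ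
      rw [← hJe]
      intro g hg
      refine char_normal (JA_le _) (JA_characteristic _) ?_
      rw [Subgroup.mem_normalizer_iff]
      have hle : ∀ g ∈ Subgroup.normalizer (V : Set G), ∀ x ∈ Subgroup.centralizer (V : Set G),
          g * x * g⁻¹ ∈ Subgroup.centralizer (V : Set G) := by
        intro g hg x hx
        refine Subgroup.mem_centralizer_iff.2 fun v hv => ?_
        have h1 : g⁻¹ * v * g ∈ V := by
          have := (Subgroup.mem_normalizer_iff.1 (inv_mem hg) v).1 hv
          rwa [inv_inv] at this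
        have h2 := Subgroup.mem_centralizer_iff.1 hx _ h1
        calc v * (g * x * g⁻¹) = g * ((g⁻¹ * v * g) * x) * g⁻¹ := by group
          _ = g * x * g⁻¹ * v := by rw [h2]; group
      intro x
      refine ⟨hle g hg x, fun hx => ?_⟩
      have := hle g⁻¹ (inv_mem hg) _ hx
      simpa [mul_assoc] using this
    have hNnpc : HasNormalPComplement p (Subgroup.normalizer (V : Set G)) :=
      H2.HasNormalPComplement.of_isPGroup (T.isPGroup'.to_le hN)
    have hVe : V = H2.WA (fun (S : Type u) [Group S] => ZJaF S) (T : Subgroup G) := (WA_ZJaF _).symm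
    rw [hVe] at hNnpc
    have h1 := H2.npc_functor hp2 (npcFun_ZJaF hp2) G T hNnpc
    have h2 := H2.isPGroup_of_npc hc le_top (H2.HasNormalPComplement.subgroup h1 ⊤)
    exact (T.3 h2 le_top).symm

end
end Cfsg.Agent.H28
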