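import Mathlib
import Cfsg.Prelude.Def_FusionSystem
import Cfsg.Prelude.Def_FusionReduction
import Cfsg.Agent.H28.Mach5
import Cfsg.Agent.H28.Mach8
import Cfsg.Agent.H28.TwoCore4
import Cfsg.Agent.H28.QdFus

/-!
Thompson's normal `p`-complement theorem for fusion systems.
-/

set_option autoImplicit false
open Cfsg Cfsg.FusionSystem

namespace Cfsg.Agent.H28

universe u v w

structure InnerCls2 (p : ℕ) (A C : ∀ (Ω : Type u) [Group Ω] (S : Subgroup Ω), FusionSystem S → Prop) :
    Prop where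
  A1 : ∀ (Ω : Type u) [Group Ω] (S : Subgroup Ω) (E F : FusionSystem S), A Ω S F → E ≤ F → A Ω S E
  A2 : ∀ (Ω : Type u) [Group Ω] (S : Subgroup Ω) [Finite S] (F : FusionSystem S), IsPGroup p S →
    F.IsSaturated p → S ≠ ⊥ → (∀ V ≤ S, V ≠ ⊥ → (V.subgroupOf S).Characteristic → InnerAt F V) →
    A Ω S F
  C1 : ∀ (Ω : Type u) [Group Ω] (S : Subgroup Ω) [Finite S] (F : FusionSystem S), IsPGroup p S →
    F.IsSaturated p → C Ω S F → ∀ U (hU : F.IsFullyNormalized U),
      C Ω (normalizerIn S U) (normSys F U hU.1)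
  C2 : ∀ (Ω : Type u) [Group Ω] (S : Subgroup Ω) [Finite S] (F : FusionSystem S), IsPGroup p S →
    F.IsSaturated p → C Ω S F → ∀ Q, F.IsNormal Q → ∀ (Ω' : Type u) [Group Ω'] (S' : Subgroup Ω')
      (θ : S →* Ω') (E : FusionSystem S'), F.IsFactorSystem Q θ E → C Ω' S' E
  M : ∀ (Ω : Type u) [Group Ω] (S : Subgroup Ω) [Finite S] (F : FusionSystem S), IsPGroup p S →
    F.IsConstrained p → A Ω S F → C Ω S F →
    (∀ (Ω' : Type u) [Group Ω'] (S' : Subgroup Ω') [Finite S'] (F' : FusionSystem S'),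
      Nat.card S' < Nat.card S → IsPGroup p S' → F'.IsSaturated p → A Ω' S' F' → C Ω' S' F' →
      F' = innerFusionSystem S') → F = innerFusionSystem S

/-- The reduction machine. -/
theorem machine2 {p : ℕ} [Fact p.Prime]
    {A C : ∀ (Ω : Type u) [Group Ω] (S : Subgroup Ω), FusionSystem S → Prop}
    (hM : InnerCls2 p A C) : ∀ (n : ℕ) (Ω : Type u) [Group Ω] (S : Subgroup Ω) [Finite S]
      (F : FusionSystem S), Nat.card S ≤ n → IsPGroup p S → F.IsSaturated p → A Ω S F → C Ω S F →
      F = innerFusionSystem S := by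
  intro n
  induction n with
  | zero =>
    intro Ω _ S _ F hn
    exact absurd (Nat.card_pos (α := S)) (by omega)
  | succ n ih =>
    intro Ω _ S _
    suffices h : ∀ (m : ℕ) (F : FusionSystem S), fsCard F ≤ m → Nat.card S ≤ n + 1 → IsPGroup p S →
        F.IsSaturated p → A Ω S F → C Ω S F → F = innerFusionSystem S from
      fun F h1 h2 h3 h4 h5 => h _ F le_rfl h1 h2 h3 h4 h5
    intro m
    induction m using Nat.strong_induction_on with
    | _ m ihm =>
    intro F hm hn hS hF hA hC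
    by_contra hne
    have hSne : S ≠ ⊥ := fun h => hne (eq_inner_of_bot hF h)
    -- subgroups that are not normal in `F`
    have hnot : ∀ V ≤ S, S ≤ Subgroup.normalizer (V : Set Ω) → ¬ F.IsNormal V → InnerAt F V := by
      intro V hV hSV hVn
      have h1 : normS F V hV hSV ≠ F := fun h => hVn (normS_eq_iff.1 h)
      have h2 := fsCard_lt (normS_le (hQ := hV) (hn := hSV)) h1
      refine innerAt_of_normS (hQ := hV) (hn := hSV) (ihm _ (lt_of_lt_of_le h2 hm) _ le_rfl hn hS
        (normS_saturated hS hF) (hM.A1 Ω S _ F hA normS_le) ?_)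
      exact castSys_prop (C Ω) (normalizerIn_eq hSV)
        (hM.C1 Ω S F hS hF hC V (fullyNormalized_of_normal hV hSV))
    -- a nontrivial normal subgroup
    have hex : ∃ V ≤ S, V ≠ ⊥ ∧ F.IsNormal V := by
      by_contra hno
      apply hne
      refine inner_of_local hS hF (fun V hV hVne hSV => hnot V hV hSV fun hVn =>
        hno ⟨V, hV, hVne, hVn⟩) (fun U hU hUne hlt hch => ?_)
      haveI : Finite (normalizerIn S U) := finite_of_le normalizerIn_le
      have hcard := card_lt_of_lt' hlt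
      have hTp := isPGroup_of_le hS (normalizerIn_le (S := S) (P := U))
      have hsat := normSys_saturated hS hF hU
      have hTne : normalizerIn S U ≠ ⊥ := by
        intro h
        apply hUne
        rw [eq_bot_iff, ← h]
        exact le_normalizerIn hU.1
      rw [innerAt_iff hU.1]
      exact ih Ω (normalizerIn S U) _ (by omega) hTp hsat
        (hM.A2 Ω _ _ hTp hsat hTne hch) (hM.C1 Ω S F hS hF hC U hU)
    obtain ⟨V, hV, hVne, hVn⟩ := hex
    have hQ : F.IsNormal F.core := core_normal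
    have hQne : F.core ≠ ⊥ := fun h => hVne (by rw [eq_bot_iff, ← h]; exact le_core hVn)
    have hcen : ¬ centralizerIn S F.core ≤ F.core := by
      intro h
      apply hne
      refine hM.M Ω S F hS ⟨hF, F.core, hQ, ?_⟩ hA hC
        (fun Ω' _ S' _ F' h1 h2 h3 h4 h5 => ih Ω' S' F' (by omega) h2 h3 h4 h5)
      exact centric_of_fullyCentralized
        (FN.fc hS hF (fullyNormalized_of_normal hQ.1 (normal_normalizer hQ))) h
    refine hne (key_step hS hF hQ (fun V hV => le_core hV) hcen hnot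
      fun {Ω'} _ {S'} θ E hE hW => ?_)
    haveI : Finite S' := by
      rw [← hE.2.2.1]; exact Finite.of_surjective θ.rangeRestrict θ.rangeRestrict_surjective
    have hS' : IsPGroup p S' := by
      rw [← hE.2.2.1]
      exact hS.of_surjective θ.rangeRestrict θ.rangeRestrict_surjective
    have hsc := normal_stronglyClosed hQ
    have hE' : E.IsSaturated p := surj_saturated hS hF (factor_surj hS hF hsc hE)
    have hk : ∀ x ∈ S, tf θ x = 1 ↔ x ∈ F.core := fun x hx => factor_ker hE hx
    have hcard := card_preimageAlong hk hE.1 hE.2.2.1 (le_refl S')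
    have hpre : preimageAlong θ S' = S := by
      apply le_antisymm preimageAlong_le
      intro x hx
      refine mem_preimageAlong.2 ⟨hx, ?_⟩
      rw [← hE.2.2.1]; exact tf_mem_range hx
    rw [hpre] at hcard
    haveI : Finite F.core := finite_of_le hQ.1
    have h2 : 1 < Nat.card F.core := by
      rw [← Nat.card_unique (α := (⊥ : Subgroup Ω))]
      exact card_lt_of_lt' (bot_lt_iff_ne_bot.2 hQne)
    have hS'pos : 0 < Nat.card S' := Nat.card_pos
    have hlt : Nat.card S' < Nat.card S := by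
      rw [hcard]; nlinarith
    have hS'ne : S' ≠ ⊥ := by
      intro h
      apply hcen
      rw [h, Subgroup.card_bot, mul_one] at hcard
      have h3 : F.core = S := eq_of_le_of_card hQ.1 hcard.le
      exact centralizerIn_le.trans h3.ge
    exact ih Ω' S' E (by omega) hS' hE' (hM.A2 Ω' S' E hS' hE' hS'ne hW)
      (hM.C2 Ω S F hS hF hC _ hQ Ω' S' θ E hE)

section
variable {Ω : Type u} [Group Ω] {S T : Subgroup Ω} {F E : FusionSystem S} {P Q R V U X : Subgroup Ω}
  {f g k χ : Ω → Ω} {x y s t : Ω} {p : ℕ} {G : Type v} [Group G] {ι : S →* G}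

/-- `C_F(V)` is inner. -/
def CInnerAt (F : FusionSystem S) (V : Subgroup Ω) : Prop :=
  ∀ P g, Mor F P g → V ≤ P → P ≤ centralizerIn S V → (∀ x ∈ V, g x = x) →
    ∃ s ∈ centralizerIn S V, ∀ x ∈ P, g x = s * x * s⁻¹

theorem CInnerAt.mono (h : CInnerAt F V) (hE : E ≤ F) : CInnerAt E V := fun P g hg h1 h2 h3 =>
  h P g (le_iff_mor.1 hE P g hg) h1 h2 h3

theorem cInnerAt_iff (hV : V ≤ S) (hVc : V ≤ centralizerIn S V) :
    CInnerAt F V ↔ centSys F V hV = innerFusionSystem (centralizerIn S V) := by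
  constructor
  · intro h
    apply fs_le_antisymm
    · rw [le_iff_mor]
      intro P g hg
      obtain ⟨hP, hgP, g', hg', h1, h2⟩ := mor_centSys.1 hg
      obtain ⟨s, hs, h3⟩ := h _ g' hg' le_sup_right (sup_le hP hVc) h2
      exact mor_inner.2 ⟨hP, s, hs, fun x hx => by
        rw [← h1 x hx, h3 x (le_sup_left (b := V) hx)]⟩
    · rw [le_iff_mor]
      intro P g hg
      obtain ⟨hP, s, hs, h1⟩ := mor_inner.1 hg
      obtain ⟨hsS, hsV⟩ := mem_centralizerIn.1 hs
      refine mor_centSys.2 ⟨hP, fun x hx => by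
        rw [h1 x hx]; exact mul_mem (mul_mem hs (hP hx)) (inv_mem hs), fun x => s * x * s⁻¹,
        mor_conj (sup_le (hP.trans centralizerIn_le) hV) hsS, fun x hx => (h1 x hx).symm,
        fun x hx => by
          show s * x * s⁻¹ = x
          rw [hsV x hx]; group⟩
  · intro h P g hg hVP hP h1
    have h2 : Mor (centSys F V hV) P g := by
      refine mor_centSys.2 ⟨hP, fun x hx => mem_centralizerIn.2 ⟨hg.mem hx, fun y hy => ?_⟩, g,
        by rw [sup_eq_left.2 hVP]; exact hg, fun _ _ => rfl, h1⟩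
      have h3 := (mem_centralizerIn.1 (hP hx)).2 y hy
      rw [← h1 y hy, ← hg.mul hx (hVP hy), ← hg.mul (hVP hy) hx, h3]
    rw [h] at h2
    exact (mor_inner.1 h2).2

theorem cInnerAt_iff_forall (hV : V ≤ S) (hVc : V ≤ centralizerIn S V) :
    CInnerAt F V ↔ ∀ C : FusionSystem (centralizerIn S V), F.IsCentralizerSystem V C →
      ∀ P : Subgroup Ω, C.Hom P = (innerFusionSystem (centralizerIn S V)).Hom P := by
  rw [cInnerAt_iff hV hVc]
  constructor
  · intro h C hC P
    rw [eq_centSys hV hC, h]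
  · intro h
    exact fs_ext fun P => h _ (centSys_isCentralizerSystem hV) P

theorem CInnerAt.of_innerAt [Finite S] (h : InnerAt F V) (hV : V ≤ S)
    (hS : S ≤ Subgroup.centralizer (V : Set Ω)) : CInnerAt F V := by
  haveI : Finite V := finite_of_le hV
  intro P g hg hVP hP h1
  have hn : S ≤ Subgroup.normalizer (V : Set Ω) := by
    intro s hs
    apply mem_normalizer_of_finite
    intro x hx
    have := Subgroup.mem_centralizer_iff.1 (hS hs) x hx
    rw [← this]
    simpa using hx
  obtain ⟨s, hs, h2⟩ := h P g hg hVP (by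
    rw [normalizerIn_eq hn]; exact hP.trans centralizerIn_le) (img_id' h1)
  have hsS := normalizerIn_le hs
  exact ⟨s, mem_centralizerIn.2 ⟨hsS, fun y hy =>
    (Subgroup.mem_centralizer_iff.1 (hS hsS) y hy).symm⟩, h2⟩

theorem npc_of_cInnerAt [Fact p.Prime] [Finite S] [Finite G] (hr : F.IsRealizedBy ι)
    (hT : ∃ T : Sylow p G, (T : Subgroup G) = ι.range) (hV : V ≤ S)
    (hn : S ≤ Subgroup.centralizer (V : Set Ω)) (hI : CInnerAt F V) :
    HasNormalPComplement p ↥(Subgroup.centralizer ((imageAlong ι V : Subgroup G) : Set G)) := by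
  obtain ⟨T, hT⟩ := hT
  haveI : Finite V := finite_of_le hV
  have hTX : (T : Subgroup G) ≤ Subgroup.centralizer ((imageAlong ι V : Subgroup G) : Set G) := by
    rw [hT]
    rintro _ ⟨a, rfl⟩
    refine Subgroup.mem_centralizer_iff.2 fun y hy => ?_
    obtain ⟨z, hz, hzV, rfl⟩ := mem_imageAlong.1 hy
    have h1 := Subgroup.mem_centralizer_iff.1 (hn a.2) z hzV
    rw [← tf_coe, ← tf_mul hz a.2, ← tf_mul a.2 hz, h1]
  apply H2.hasNormalPComplement_of_control (T.subtype hTX)
  intro x hx u hu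
  have hx' : (x : G) ∈ ι.range := by rw [← hT]; exact hx
  have hu' : (u : G) * x * (u : G)⁻¹ ∈ ι.range := by rw [← hT]; exact hu
  obtain ⟨a, ha⟩ := hx'
  have hanorm : ∀ z ∈ Subgroup.zpowers (a : Ω), (u : G) * tf ι z * (u : G)⁻¹ ∈ ι.range := by
    rintro _ ⟨j, rfl⟩
    have h1 : tf ι ((a : Ω) ^ j) = (x : G) ^ j := by
      have h2 : ((a ^ j : S) : Ω) = (a : Ω) ^ j := by push_cast; rfl
      rw [← h2, tf_coe, map_zpow, ha]
    have h3 : (u : G) * tf ι ((a : Ω) ^ j) * (u : G)⁻¹ = ((u : G) * x * (u : G)⁻¹) ^ j := by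
      rw [h1, conj_zpow]
    show (u : G) * tf ι ((a : Ω) ^ j) * (u : G)⁻¹ ∈ ι.range
    rw [h3]; exact Subgroup.zpow_mem _ hu' j
  have huV : ∀ z ∈ V, (u : G) * tf ι z * (u : G)⁻¹ = tf ι z := fun z hz => by
    rw [← Subgroup.mem_centralizer_iff.1 u.2 _ (tf_mem_imageAlong hV hz)]; group
  have haS : Subgroup.zpowers (a : Ω) ≤ S := Subgroup.zpowers_le.2 a.2
  obtain ⟨f, hf, hf1⟩ := real_conj_sup hr (u : G) haS hV hanorm fun z hz => by
    rw [huV z hz]; exact tf_mem_range (hV hz)
  have hVle : V ≤ Subgroup.zpowers (a : Ω) ⊔ V := le_sup_right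
  have hid : ∀ z ∈ V, f z = z := fun z hz => by
    apply tf_inj hr.1 (hf.mem (hVle hz)) (hV hz)
    rw [hf1 z (hVle hz), huV z hz]
  obtain ⟨s, hs, hs'⟩ := hI _ f hf hVle (fun z hz => mem_centralizerIn.2
    ⟨sup_le haS hV hz, fun y hy => (Subgroup.mem_centralizer_iff.1 (hn (sup_le haS hV hz)) y hy).symm⟩) hid
  have hsS := centralizerIn_le hs
  have ha' : (a : Ω) ∈ Subgroup.zpowers (a : Ω) ⊔ V :=
    le_sup_left (b := V) (Subgroup.mem_zpowers _)
  have hsT : tf ι s ∈ (T : Subgroup G) := by rw [hT]; exact tf_mem_range hsS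
  refine ⟨⟨tf ι s, hTX hsT⟩, hsT, Subtype.ext ?_⟩
  show tf ι s * x * (tf ι s)⁻¹ = u * x * (u : G)⁻¹
  have h4 := hf1 _ ha'
  rw [hs' _ ha', tf_conj hsS a.2, tf_coe, ha] at h4
  exact h4

theorem imageAlong_ctr (hι : Function.Injective ι) : imageAlong ι (ctr S) = ctr ι.range := by
  ext y
  rw [mem_imageAlong]
  constructor
  · rintro ⟨x, hx, hx', rfl⟩
    refine ⟨tf_mem_range hx, Subgroup.mem_centralizer_iff.2 ?_⟩
    rintro _ ⟨a, rfl⟩
    have h1 := Subgroup.mem_centralizer_iff.1 hx'.2 a a.2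
    rw [← tf_coe, ← tf_mul a.2 hx, ← tf_mul hx a.2, h1]
  · rintro ⟨⟨x, rfl⟩, hx⟩
    refine ⟨x, x.2, ⟨x.2, Subgroup.mem_centralizer_iff.2 fun y hy => ?_⟩, tf_coe _ _⟩
    have h1 := Subgroup.mem_centralizer_iff.1 hx (ι ⟨y, hy⟩) ⟨_, rfl⟩
    have h2 := hι ((map_mul ι _ _).trans (h1.trans (map_mul ι _ _).symm))
    exact congrArg Subtype.val h2

theorem npc_of_inner [Finite G] [Fact p.Prime] (T : Sylow p G)
    (h : groupFusionSystem (T : Subgroup G) = innerFusionSystem (T : Subgroup G)) :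
    HasNormalPComplement p G := by
  apply H2.hasNormalPComplement_of_control T
  intro x hx u hu
  have h1 : Mor (groupFusionSystem (T : Subgroup G)) (Subgroup.zpowers x) (fun y => u * y * u⁻¹) := by
    refine mor_group_conj (Subgroup.zpowers_le.2 hx) ?_
    rintro _ ⟨j, rfl⟩
    show u * x ^ j * u⁻¹ ∈ (T : Subgroup G)
    rw [← conj_zpow]; exact Subgroup.zpow_mem _ hu j
  rw [h] at h1
  obtain ⟨-, s, hs, h2⟩ := mor_inner.1 h1
  exact ⟨s, hs, (h2 x (Subgroup.mem_zpowers x)).symm⟩

end

section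
variable {p : ℕ}

theorem ctr_le_centralizer {Ω : Type*} [Group Ω] (S : Subgroup Ω) :
    S ≤ Subgroup.centralizer ((ctr S : Subgroup Ω) : Set Ω) := by
  rw [Subgroup.le_centralizer_iff]; exact inf_le_right

theorem thompson_cls [hp : Fact p.Prime] : InnerCls2.{u} p
    (fun (Ω : Type u) [Group Ω] (S : Subgroup Ω) F =>
      CInnerAt F (ctr S) ∧ InnerAt F (thompsonSubgroupAOf S))
    (fun (Ω : Type u) [Group Ω] (S : Subgroup Ω) F =>
      p ≠ 2 ∨ F.IsSectionFree p (Equiv.Perm (Fin 4))) where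
  A1 := fun Ω _ S E F h hE => ⟨h.1.mono hE, h.2.mono hE⟩
  A2 := by
    intro Ω _ S _ F hS hF hSne h
    haveI : Finite S := inferInstance
    have hctr : ctr S ≠ ⊥ := by
      intro h0
      have h1 : Subgroup.center S = ⊥ := by
        rw [eq_bot_iff]
        intro x hx
        rw [Subgroup.mem_bot]
        apply Subtype.ext
        have h2 : (x : Ω) ∈ ctr S := ⟨x.2, Subgroup.mem_centralizer_iff.2 fun y hy =>
          congrArg Subtype.val (Subgroup.mem_center_iff.1 hx ⟨y, hy⟩)⟩
        rw [h0] at h2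
        exact h2
      haveI : Nontrivial S := (Subgroup.nontrivial_iff_ne_bot S).2 hSne
      haveI := hS.center_nontrivial
      exact (Subgroup.nontrivial_iff_ne_bot _).1 this h1
    have hJ : thompsonSubgroupAOf S ≠ ⊥ := by
      haveI : Nontrivial S := (Subgroup.nontrivial_iff_ne_bot S).2 hSne
      have h1 := JA_map S.subtype_injective (⊤ : Subgroup S)
      rw [← MonoidHom.range_eq_map, Subgroup.range_subtype] at h1
      rw [h1]
      intro h2
      exact JA_ne_bot (U := (⊤ : Subgroup S)) top_ne_bot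
        ((Subgroup.map_eq_bot_iff_of_injective _ S.subtype_injective).1 h2)
    refine ⟨CInnerAt.of_innerAt (h _ inf_le_left hctr (ctr_characteristic S)) inf_le_left
      (ctr_le_centralizer S), h _ (JA_le S) hJ (JA_characteristic S)⟩
  C1 := by
    intro Ω _ S _ F hS hF hC U hU
    exact hC.imp id fun h => norm_free hS hF h hU
  C2 := by
    intro Ω _ S _ F hS hF hC Q hQ Ω' _ S' θ E hE
    exact hC.imp id fun h => factor_free hS hF hQ h hE
  M := by
    rintro Ω _ S _ F hS ⟨hF, Q, hQ, hc⟩ hA hC hIH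
    obtain ⟨G, _, ι, hG, hfr⟩ : ∃ (G : Type u) (_ : Group G) (ι : S →* G), F.IsModel p G ι ∧
        (p ≠ 2 ∨ ¬ Involves (Equiv.Perm (Fin 4)) G) := by
      rcases hC with hC | hC
      · obtain ⟨G, _, ι, hG⟩ := model_exists hS hF hQ hc
        exact ⟨G, _, ι, hG, Or.inl hC⟩
      · obtain ⟨G, _, ι, hG, hfr⟩ := free_model hS hF hC hQ hc
        exact ⟨G, _, ι, hG, Or.inr hfr⟩
    haveI := hG.1
    obtain ⟨T, hT⟩ := hG.2.2.1
    have hchar := hG.2.2.2
    have hZ0 := npc_of_cInnerAt (V := ctr S) hG.2.1 hG.2.2.1 inf_le_left (ctr_le_centralizer S) hA.1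
    rw [imageAlong_ctr hG.2.1.1, ← hT] at hZ0
    have hTC := ctr_le_centralizer (T : Subgroup G)
    have hZ : Subgroup.centralizer ((ctr (T : Subgroup G) : Subgroup G) : Set G) ≤ T :=
      (T.3 (H2.isPGroup_of_npc hchar ((H1.pCore_le_sylow T).trans hTC) hZ0) hTC).le
    have hJ0 := npc_of_innerAt hG.2.1 hG.2.2.1 (JA_le S)
      (char_le_normalizerIn (JA_le S) (JA_characteristic S)) hA.2
    have hJim : imageAlong ι (thompsonSubgroupAOf S) = thompsonSubgroupAOf (T : Subgroup G) := by
      rw [hT]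
      exact imageAlong_WA (W := fun (S : Type u) [Group S] => thompsonSubgroupA S)
        (fun e => thompsonSubgroupA_map e) hG.2.1.1
    rw [hJim] at hJ0
    have hTJ : (T : Subgroup G) ≤ Subgroup.normalizer
        ((thompsonSubgroupAOf (T : Subgroup G) : Subgroup G) : Set G) :=
      char_le_normalizerIn (JA_le _) (JA_characteristic _)
    have hJ : Subgroup.normalizer
        ((thompsonSubgroupAOf (T : Subgroup G) : Subgroup G) : Set G) ≤ T :=
      (T.3 (H2.isPGroup_of_npc hchar ((H1.pCore_le_sylow T).trans hTJ) hJ0) hTJ).le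
    have hcard : Nat.card (T : Subgroup G) = Nat.card S := by
      rw [hT]
      exact (Nat.card_congr (MonoidHom.ofInjective hG.2.1.1).toEquiv).symm
    have htop := core_group T hchar hfr hZ hJ (fun X _ _ T' hT' hX hZ' hJ' => by
      apply npc_of_inner T'
      refine hIH X (T' : Subgroup X) _ (by omega) T'.2 (group_saturated T') ⟨?_, ?_⟩
        (Or.inr (group_free_of T' hX))
      · intro P g hg hVP hP h1
        obtain ⟨hPT, hgT, c, hc'⟩ := mor_group.1 hg
        have h2 : c ∈ (T' : Subgroup X) := by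
          apply hZ'
          refine Subgroup.mem_centralizer_iff.2 fun z hz => ?_
          have h3 := hc' z (hVP hz)
          rw [h1 z hz] at h3
          calc z * c = c * z * c⁻¹ * c := by rw [← h3]
            _ = c * z := by group
        exact ⟨c, mem_centralizerIn.2 ⟨h2, fun y hy =>
          (Subgroup.mem_centralizer_iff.1 (ctr_le_centralizer _ h2) y hy).symm⟩, hc'⟩
      · intro P g hg hVP hP h1
        obtain ⟨hPT, hgT, c, hc'⟩ := mor_group.1 hg
        have h2 : c ∈ Subgroup.normalizer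
            ((thompsonSubgroupAOf (T' : Subgroup X) : Subgroup X) : Set X) := by
          apply mem_normalizer_of_finite
          intro x hx
          rw [← hc' x (hVP hx)]
          have h9 : g x ∈ img (thompsonSubgroupAOf (T' : Subgroup X)) g := mem_img_of_mem hx
          rwa [h1] at h9
        exact ⟨c, ⟨hJ' h2, h2⟩, hc'⟩)
    refine inner_of_model_pgroup hG ?_
    have h5 : IsPGroup p (⊤ : Subgroup G) := by rw [← htop]; exact T.2
    exact h5.of_equiv Subgroup.topEquiv

/-- Thompson's normal `p`-complement theorem for fusion systems. -/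
theorem inner_of_thompson [hp : Fact p.Prime] {Ω : Type u} [Group Ω] {S : Subgroup Ω} [Finite S]
    (hS : IsPGroup p S) {F : FusionSystem S} (hF : F.IsSaturated p)
    (hp2 : p ≠ 2 ∨ F.IsSectionFree p (Equiv.Perm (Fin 4))) (hC : CInnerAt F (ctr S))
    (hN : InnerAt F (thompsonSubgroupAOf S)) : F = innerFusionSystem S :=
  machine2 thompson_cls _ Ω S F le_rfl hS hF ⟨hC, hN⟩ hp2

/-- Thompson's normal `p`-complement theorem for groups. -/
theorem npc_of_thompson [hp : Fact p.Prime] {G : Type u} [Group G] [Finite G] (T : Sylow p G)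
    (h : p ≠ 2 ∨ ¬ Involves (Equiv.Perm (Fin 4)) G)
    (hZ : HasNormalPComplement p (Subgroup.centralizer ((ctr (T : Subgroup G) : Subgroup G) : Set G)))
    (hJ : HasNormalPComplement p (Subgroup.normalizer
      ((thompsonSubgroupAOf (T : Subgroup G) : Subgroup G) : Set G))) :
    HasNormalPComplement p G := by
  apply npc_of_inner T
  have hTC := ctr_le_centralizer (T : Subgroup G)
  have hTJ : (T : Subgroup G) ≤ Subgroup.normalizer
      ((thompsonSubgroupAOf (T : Subgroup G) : Subgroup G) : Set G) :=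
    char_le_normalizerIn (JA_le _) (JA_characteristic _)
  have hidx : ∀ X : Subgroup G, (T : Subgroup G) ≤ X → ¬ p ∣ (T : Subgroup G).relIndex X := by
    intro X hTX
    exact (T.subtype hTX).not_dvd_index
  refine inner_of_thompson T.2 (group_saturated T) (h.imp id fun h => group_free_of T h) ?_ ?_
  · intro P g hg hVP hP h1
    obtain ⟨hPT, hgT, c, hc'⟩ := mor_group.1 hg
    have h2 : c ∈ Subgroup.centralizer ((ctr (T : Subgroup G) : Subgroup G) : Set G) := by
      refine Subgroup.mem_centralizer_iff.2 fun z hz => ?_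
      have h3 := hc' z (hVP hz)
      rw [h1 z hz] at h3
      calc z * c = c * z * c⁻¹ * c := by rw [← h3]
        _ = c * z := by group
    obtain ⟨t, ht, h3⟩ := npc_control T.2 hTC (hidx _ hTC) hZ h2 hPT fun y hy => by
      rw [← hc' y hy]; exact hgT y hy
    exact ⟨t, mem_centralizerIn.2 ⟨ht, fun y hy =>
      (Subgroup.mem_centralizer_iff.1 (hTC ht) y hy).symm⟩, fun x hx => by rw [hc' x hx, h3 x hx]⟩
  · intro P g hg hVP hP h1
    obtain ⟨hPT, hgT, c, hc'⟩ := mor_group.1 hg
    have h2 : c ∈ Subgroup.normalizer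
        ((thompsonSubgroupAOf (T : Subgroup G) : Subgroup G) : Set G) := by
      apply mem_normalizer_of_finite
      intro x hx
      rw [← hc' x (hVP hx)]
      have h9 : g x ∈ img (thompsonSubgroupAOf (T : Subgroup G)) g := mem_img_of_mem hx
      rwa [h1] at h9
    obtain ⟨t, ht, h3⟩ := npc_control T.2 hTJ (hidx _ hTJ) hJ h2 hPT fun y hy => by
      rw [← hc' y hy]; exact hgT y hy
    exact ⟨t, ⟨ht, hTJ ht⟩, fun x hx => by rw [hc' x hx, h3 x hx]⟩

end
end Cfsg.Agent.H28
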