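import Mathlib
import Cfsg.Prelude.Def_FusionSystem
import Cfsg.Prelude.Def_FusionReduction
import Cfsg.Agent.H28.Mach9

/-!
A criterion for a fusion system to be inner in terms of characteristic subgroups.
-/

set_option autoImplicit false
open Cfsg Cfsg.FusionSystem

namespace Cfsg.Agent.H28

universe u v w

section
variable {Ω : Type u} [Group Ω] {S T : Subgroup Ω} {F E : FusionSystem S} {P Q R V U X : Subgroup Ω}
  {f g k χ : Ω → Ω} {x y s t : Ω} {p : ℕ}

theorem JA_ne_bot' [Finite S] (h : S ≠ ⊥) : thompsonSubgroupAOf S ≠ ⊥ := by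
  haveI : Nontrivial S := (Subgroup.nontrivial_iff_ne_bot S).2 h
  have h1 := JA_map S.subtype_injective (⊤ : Subgroup S)
  rw [← MonoidHom.range_eq_map, Subgroup.range_subtype] at h1
  rw [h1]
  intro h2
  exact JA_ne_bot (U := (⊤ : Subgroup S)) top_ne_bot
    ((Subgroup.map_eq_bot_iff_of_injective _ S.subtype_injective).1 h2)

theorem ctr_ne_bot' [Fact p.Prime] [Finite S] (hS : IsPGroup p S) (h : S ≠ ⊥) : ctr S ≠ ⊥ := by
  intro h0
  have h1 : Subgroup.center S = ⊥ := by
    rw [eq_bot_iff]
    intro x hx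
    rw [Subgroup.mem_bot]
    apply Subtype.ext
    have h2 : (x : Ω) ∈ ctr S := ⟨x.2, Subgroup.mem_centralizer_iff.2 fun y hy =>
      congrArg Subtype.val (Subgroup.mem_center_iff.1 hx ⟨y, hy⟩)⟩
    rw [h0] at h2
    exact h2
  haveI : Nontrivial S := (Subgroup.nontrivial_iff_ne_bot S).2 h
  haveI := hS.center_nontrivial
  exact (Subgroup.nontrivial_iff_ne_bot _).1 this h1

theorem centralizer_JA_top {G : Type u} [Group G] [Finite G] :
    Subgroup.centralizer ((thompsonSubgroupAOf (⊤ : Subgroup G) : Subgroup G) : Set G) ≤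
      thompsonSubgroupAOf (⊤ : Subgroup G) := by
  obtain ⟨A, hA⟩ := exists_abIn' (⊤ : Subgroup G)
  have hAJ : A ≤ thompsonSubgroupAOf (⊤ : Subgroup G) := by
    rw [H2.thompsonSubgroupAOf_eq]; exact le_sSup hA
  refine le_trans ?_ hAJ
  intro x hx
  have hxA : ∀ a ∈ A, a * x = x * a := fun a ha => Subgroup.mem_centralizer_iff.1 hx a (hAJ ha)
  have hAc : ∀ x ∈ A, ∀ y ∈ A, x * y = y * x := H20.isMulCommutative_iff.1 hA.2.1
  have h1 : IsMulCommutative (Subgroup.zpowers x ⊔ A : Subgroup G) := by
    rw [H20.isMulCommutative_iff]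
    have h2 : Subgroup.zpowers x ⊔ A ≤
        Subgroup.centralizer ((Subgroup.zpowers x ⊔ A : Subgroup G) : Set G) := by
      refine sup_le ?_ ?_
      · rw [Subgroup.zpowers_le, ← Subgroup.zpowers_le, Subgroup.le_centralizer_iff]
        refine sup_le ?_ fun a ha => Subgroup.mem_centralizer_iff.2 ?_
        · rw [Subgroup.le_centralizer_iff_isMulCommutative]; infer_instance
        · rintro _ ⟨j, rfl⟩
          exact ((show Commute a x from hxA a ha).zpow_right j).eq.symm
      · rw [Subgroup.le_centralizer_iff]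
        refine sup_le ?_ fun a ha => Subgroup.mem_centralizer_iff.2 fun b hb => hAc b hb a ha
        rw [Subgroup.zpowers_le]
        exact Subgroup.mem_centralizer_iff.2 hxA
    intro x hx y hy
    exact Subgroup.mem_centralizer_iff.1 (h2 hy) x hx
  have h3 := hA.2.2 _ le_top h1
  have h4 : A = Subgroup.zpowers x ⊔ A := Subgroup.eq_of_le_of_card_ge le_sup_right h3
  rw [h4]
  exact le_sup_left (b := A) (Subgroup.mem_zpowers x)

theorem centralizerIn_JA [Finite S] :
    centralizerIn S (thompsonSubgroupAOf S) ≤ thompsonSubgroupAOf S := by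
  have h1 := JA_map S.subtype_injective (⊤ : Subgroup S)
  rw [← MonoidHom.range_eq_map, Subgroup.range_subtype] at h1
  intro x hx
  obtain ⟨hxS, hx'⟩ := mem_centralizerIn.1 hx
  rw [h1] at hx' ⊢
  refine ⟨⟨x, hxS⟩, centralizer_JA_top (Subgroup.mem_centralizer_iff.2 fun y hy => ?_), rfl⟩
  exact Subtype.ext (hx' y ⟨y, hy, rfl⟩).symm

theorem mor_iter (hg : Mor F P g) (him : img P g = P) (n : ℕ) : Mor F P g^[n] := by
  induction n with
  | zero => exact mor_id hg.le
  | succ n ih =>
    have h1 : ∀ x ∈ P, g x ∈ P := fun x hx => by rw [← him]; exact mem_img_of_mem hx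
    exact (hg.comp ih h1).congr fun x _ => by rw [Function.iterate_succ_apply]

theorem innerAt_of_centric_pgroup [Fact p.Prime] [Finite S] (hS : IsPGroup p S)
    (hF : F.IsSaturated p) (hV : F.IsFullyNormalized V) (hc : F.IsCentric V)
    (hA : IsPGroup p (F.autGroup V)) : InnerAt F V := by
  refine innerAt_of_pgroup hS hF hV fun P g hg hVP hP h1 h2 => ?_
  obtain ⟨α, hα, h3⟩ := (hg.mono hVP).exists_aut h1
  obtain ⟨k, hk⟩ := hA ⟨α, hα⟩
  have hk' : α ^ p ^ k = 1 := congrArg Subtype.val hk
  have hgV : ∀ x ∈ V, g x ∈ V := fun x hx => by rw [← h1]; exact mem_img_of_mem hx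
  have h4 : ∀ x ∈ V, g^[p ^ k] x = x := by
    intro x hx
    rw [iter_congr hgV (fun x hx => (h3 x hx).symm) _ hx, ← autFun_pow_iter α _ hx, hk', autFun_one hx]
  have hgk := mor_iter hg h2 (p ^ k)
  obtain ⟨z, hz, -, h5⟩ := agree_on_centric_id hS hF _ V _ hc hVP le_rfl hgk h4
  obtain ⟨j, hj⟩ := isPGroup_pow_one hS (hV.1 hz)
  refine ⟨k + j, fun x hx => ?_⟩
  rw [pow_add, Function.iterate_mul]
  have h6 : ∀ n : ℕ, ∀ x ∈ P, (g^[p ^ k])^[n] x = z ^ n * x * (z ^ n)⁻¹ := by
    intro n
    induction n with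
    | zero => intro x _; simp
    | succ n ih =>
      intro x hx
      rw [Function.iterate_succ_apply, ih _ (iter_mem (fun x hx => by
        rw [← h2]; exact mem_img_of_mem hx) _ hx), h5 x hx, pow_succ]
      group
  rw [h6 _ x hx, hj]; simp

/-- Preimages of characteristic subgroups. -/
theorem char_comap {A : Type*} {B : Type*} [Group A] [Group B] (θ : A →* B)
    (hk : θ.ker.Characteristic) (Q' : Subgroup B) (hQ' : (Q'.subgroupOf θ.range).Characteristic) :
    (Q'.comap θ).Characteristic := by
  rw [Subgroup.characteristic_iff_comap_eq]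
  intro φ
  have hφ : θ.ker.map φ.toMonoidHom = θ.ker := Subgroup.characteristic_iff_map_eq.1 hk φ
  let e := QuotientGroup.quotientKerEquivRange θ
  let φ' : A ⧸ θ.ker ≃* A ⧸ θ.ker := QuotientGroup.congr θ.ker θ.ker φ hφ
  let ψ : θ.range ≃* θ.range := e.symm.trans (φ'.trans e)
  have h1 : ∀ a, ψ ⟨θ a, a, rfl⟩ = ⟨θ (φ a), φ a, rfl⟩ := by
    intro a
    have h2 : e (QuotientGroup.mk a) = ⟨θ a, a, rfl⟩ := rfl
    show e (φ' (e.symm ⟨θ a, a, rfl⟩)) = _
    rw [← h2, e.symm_apply_apply]
    rfl
  have h3 := Subgroup.characteristic_iff_comap_eq.1 hQ' ψ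
  ext a
  have h4 : (⟨θ a, a, rfl⟩ : θ.range) ∈ (Q'.subgroupOf θ.range).comap ψ.toMonoidHom ↔
      (⟨θ a, a, rfl⟩ : θ.range) ∈ Q'.subgroupOf θ.range := by rw [h3]
  rw [Subgroup.mem_comap, Subgroup.mem_comap, Subgroup.mem_comap]
  have h5 : (ψ.toMonoidHom ⟨θ a, a, rfl⟩ : θ.range) = ⟨θ (φ a), φ a, rfl⟩ := h1 a
  rw [Subgroup.mem_comap, h5, Subgroup.mem_subgroupOf, Subgroup.mem_subgroupOf] at h4
  exact h4

/-- The characteristic subgroup criterion. -/
theorem inner_of_char [Fact p.Prime] [Finite S] (hS : IsPGroup p S) (hF : F.IsSaturated p)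
    (hp2 : p ≠ 2 ∨ F.IsSectionFree p (Equiv.Perm (Fin 4)))
    (h : ∀ V ≤ S, V ≠ ⊥ → (V.subgroupOf S).Characteristic → InnerAt F V) :
    F = innerFusionSystem S := by
  by_cases hSne : S = ⊥
  · exact eq_inner_of_bot hF hSne
  · exact inner_of_thompson hS hF hp2 (CInnerAt.of_innerAt (h _ inf_le_left (ctr_ne_bot' hS hSne)
      (ctr_characteristic S)) inf_le_left (ctr_le_centralizer S))
      (h _ (JA_le S) (JA_ne_bot' hSne) (JA_characteristic S))

theorem inner_of_char_aut [hp : Fact p.Prime] : ∀ (n : ℕ) (Ω : Type u) [Group Ω] (S : Subgroup Ω)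
    [Finite S] (F : FusionSystem S), Nat.card S ≤ n → IsPGroup p S → F.IsSaturated p →
    (p ≠ 2 ∨ F.IsSectionFree p (Equiv.Perm (Fin 4))) →
    (∀ Q : Subgroup Ω, Q ≤ S → Q ≠ ⊥ → (Q.subgroupOf S).Characteristic →
      IsPGroup p (F.autGroup Q)) → F = innerFusionSystem S := by
  intro n
  induction n with
  | zero =>
    intro Ω _ S _ F hn
    exact absurd (Nat.card_pos (α := S)) (by omega)
  | succ n ih =>
    intro Ω _ S _ F hn hS hF hp2 h
    by_cases hSne : S = ⊥
    · exact eq_inner_of_bot hF hSne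
    have hJn : S ≤ Subgroup.normalizer ((thompsonSubgroupAOf S : Subgroup Ω) : Set Ω) :=
      char_le_normalizerIn (JA_le S) (JA_characteristic S)
    have hJfn : F.IsFullyNormalized (thompsonSubgroupAOf S) := fullyNormalized_of_normal (JA_le S) hJn
    have hJ : InnerAt F (thompsonSubgroupAOf S) :=
      innerAt_of_centric_pgroup hS hF hJfn
        (centric_of_fullyCentralized (FN.fc hS hF hJfn) centralizerIn_JA)
        (h _ (JA_le S) (JA_ne_bot' hSne) (JA_characteristic S))
    have hZS : ctr S ≤ S := inf_le_left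
    have hZn : S ≤ Subgroup.normalizer ((ctr S : Subgroup Ω) : Set Ω) :=
      char_le_normalizerIn hZS (ctr_characteristic S)
    have hZne : ctr S ≠ ⊥ := ctr_ne_bot' hS hSne
    -- the centralizer system of the center
    have hE₀ : (normS F (ctr S) hZS hZn).IsSaturated p := normS_saturated hS hF
    have hE₀n : (normS F (ctr S) hZS hZn).IsNormal (ctr S) := normS_normal
    have hE₀f : p ≠ 2 ∨ (normS F (ctr S) hZS hZn).IsSectionFree p (Equiv.Perm (Fin 4)) := by
      refine hp2.imp id fun hf => ?_
      exact castSys_prop (fun (T : Subgroup Ω) (E : FusionSystem T) =>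
        E.IsSectionFree p (Equiv.Perm (Fin 4))) (normalizerIn_eq hZn)
        (norm_free hS hF hf (fullyNormalized_of_normal hZS hZn))
    obtain ⟨E, hEdef⟩ : ∃ E, E = scSys (normS F (ctr S) hZS hZn) (ctr S) hZS hZn := ⟨_, rfl⟩
    have hEs : E.IsSaturated p := by rw [hEdef]; exact scSys_saturated hS hE₀
    have hEn : E.IsNormal (ctr S) := by rw [hEdef]; exact scSys_normal
    have hEf : p ≠ 2 ∨ E.IsSectionFree p (Equiv.Perm (Fin 4)) := by
      refine hE₀f.imp id fun hf => ?_
      rw [hEdef]; exact scSys_free hS hE₀ hE₀n hf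
    have hEF : E ≤ F := by
      rw [hEdef, le_iff_mor]
      intro P g hg
      exact le_iff_mor.1 normS_le P g (le_iff_mor.1 scSys_le P g hg)
    have hsc := normal_stronglyClosed hEn
    have hE : E = innerFusionSystem S := by
      refine inner_of_mod hS hEs hEn (fun g hg _ => ?_) (fun P g hg hZP => ?_)
      · rw [hEdef] at hg
        obtain ⟨-, g', -, h1, s, hs, h2⟩ := mor_scSys'.1 hg
        exact ⟨s, hs, fun x hx => by rw [← h1 x hx, h2 x hx]⟩
      · haveI hQn : ((ctr S).subgroupOf S).Normal := ⟨fun q hq s =>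
          (Subgroup.mem_normalizer_iff.1 (hZn s.2) (q : Ω)).1 hq⟩
        have hk : ∀ x ∈ S, tf (QuotientGroup.mk' ((ctr S).subgroupOf S)) x = 1 ↔ x ∈ ctr S := by
          intro x hx
          rw [tf_apply _ hx]
          exact (QuotientGroup.eq_one_iff _)
        have hFac := factorSys_isFactor (F := E) hsc hk
        set θ := QuotientGroup.mk' ((ctr S).subgroupOf S) with hθdef
        set D := factorSys E (ctr S) hsc θ hk with hDdef
        have hr := hFac.2.2.1
        haveI : Finite θ.range := Finite.of_surjective θ.rangeRestrict θ.rangeRestrict_surjective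
        have hS' : IsPGroup p θ.range := hS.of_surjective θ.rangeRestrict θ.rangeRestrict_surjective
        have hD : D.IsSaturated p := surj_saturated hS hEs (factor_surj hS hEs hsc hFac)
        have hcard := card_preimageAlong hk hFac.1 hFac.2.2.1 (le_refl θ.range)
        have hpre : preimageAlong θ θ.range = S := by
          apply le_antisymm preimageAlong_le
          intro x hx
          exact mem_preimageAlong.2 ⟨hx, tf_mem_range hx⟩
        rw [hpre] at hcard
        haveI : Finite (ctr S) := finite_of_le hZS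
        have h2 : 1 < Nat.card (ctr S) := by
          rw [← Nat.card_unique (α := (⊥ : Subgroup Ω))]
          exact card_lt_of_lt' (bot_lt_iff_ne_bot.2 hZne)
        have hS'pos : 0 < Nat.card θ.range := Nat.card_pos
        have hlt : Nat.card θ.range < Nat.card S := by
          rw [hcard]; nlinarith
        have hkerθ : θ.ker = (ctr S).subgroupOf S := QuotientGroup.ker_mk' _
        have hkch : θ.ker.Characteristic := by rw [hkerθ]; exact ctr_characteristic S
        have hDinner : D = innerFusionSystem _ := by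
          refine ih _ θ.range D (by omega) hS' hD (hEf.imp id fun hf =>
            factor_free hS hEs hEn hf hFac) fun Q' hQ' hQ'ne hch => ?_
          have hQch := char_comap θ hkch Q' hch
          have hQe : (preimageAlong θ Q').subgroupOf S = Q'.comap θ := by
            ext x
            rw [Subgroup.mem_subgroupOf, mem_preimageAlong, Subgroup.mem_comap, tf_coe]
            exact ⟨fun h => h.2, fun h => ⟨x.2, h⟩⟩
          have hQne : preimageAlong θ Q' ≠ ⊥ := by
            intro h0
            apply hQ'ne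
            rw [eq_bot_iff]
            intro y hy
            obtain ⟨x, hx, rfl⟩ := exists_preimage hr hQ' hy
            rw [h0, Subgroup.mem_bot] at hx
            rw [hx, Subgroup.mem_bot, tf_one]
          have hpA := h _ preimageAlong_le hQne (by rw [hQe]; exact hQch)
          refine isPGroup_aut_of hQ' fun g' hg' him => ?_
          obtain ⟨-, f, hf, h3⟩ := (factor_mor_iff hFac).1 hg'
          have h4 : img (preimageAlong θ Q') f = preimageAlong θ Q' := by
            rw [factor_img hFac hQ' hf h3 hsc, him]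
          obtain ⟨α, hα, h5⟩ := (le_iff_mor.1 hEF _ _ hf).exists_aut h4
          obtain ⟨k, hk'⟩ := hpA ⟨α, hα⟩
          have hk'' : α ^ p ^ k = 1 := congrArg Subtype.val hk'
          have hfV : ∀ x ∈ preimageAlong θ Q', f x ∈ preimageAlong θ Q' := fun x hx => by
            have h9 : f x ∈ img (preimageAlong θ Q') f := mem_img_of_mem hx
            rwa [h4] at h9
          have h6 : ∀ x ∈ preimageAlong θ Q', f^[p ^ k] x = x := by
            intro x hx
            rw [iter_congr hfV (fun x hx => (h5 x hx).symm) _ hx, ← autFun_pow_iter α _ hx, hk'',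
              autFun_one hx]
          have h7 : ∀ n : ℕ, ∀ x ∈ preimageAlong θ Q', g'^[n] (tf θ x) = tf θ (f^[n] x) := by
            intro n
            induction n with
            | zero => intro x _; rfl
            | succ n ih =>
              intro x hx
              rw [Function.iterate_succ_apply', ih x hx, h3 _ (iter_mem hfV _ hx),
                Function.iterate_succ_apply']
          refine ⟨k, fun y hy => ?_⟩
          obtain ⟨x, hx, rfl⟩ := exists_preimage hr hQ' hy
          rw [h7 _ x hx, h6 x hx]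
        obtain ⟨g', hg', h3⟩ := factor_induced hFac hsc hg hZP
        rw [hDinner] at hg'
        obtain ⟨-, s', hs', h4⟩ := mor_inner.1 hg'
        obtain ⟨s, hs, rfl⟩ := exists_tf_eq hr hs'
        refine ⟨s, hs, fun x hx => ?_⟩
        have hxS := hg.le hx
        rw [← factor_eq hFac (mul_mem (mul_mem hs hxS) (inv_mem hs)) (hg.mem hx), ← h3 x hx,
          h4 _ (tf_mem_imageAlong hg.le hx), tf_conj hs hxS]
    refine inner_of_thompson hS hF hp2 (fun P g hg hZP hPC hid => ?_) hJ
    have hPS := hg.le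
    have h1 : Mor E P g := by
      rw [hEdef]
      refine mor_scSys'.2 ⟨hPS, g, ?_, fun _ _ => rfl, 1, S.one_mem, fun x hx => by
        rw [hid x hx]; simp⟩
      rw [sup_eq_left.2 hZP]
      refine mor_normS.2 ⟨hPS, g, by rw [sup_eq_left.2 hZP]; exact hg, fun _ _ => rfl, img_id' hid⟩
    rw [hE] at h1
    obtain ⟨-, s, hs, h2⟩ := mor_inner.1 h1
    exact ⟨s, mem_centralizerIn.2 ⟨hs, fun y hy =>
      (Subgroup.mem_centralizer_iff.1 (ctr_le_centralizer S hs) y hy).symm⟩, h2⟩

end
end Cfsg.Agent.H28
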