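import Mathlib
import Cfsg.Prelude.Def_FusionSystem
import Cfsg.Prelude.Def_FusionReduction
import Cfsg.Agent.H28.GCtl3
import Cfsg.Agent.H28.Mach10

/-!
Lifting inclusions of fusion systems from quotients.
-/

set_option autoImplicit false
open Cfsg Cfsg.FusionSystem
open scoped commutatorElement

namespace Cfsg.Agent.H28

universe u v w

section
variable {Ω : Type u} [Group Ω] {S T : Subgroup Ω} {F E D : FusionSystem S} {P Q R V U X K : Subgroup Ω}
  {f g k χ : Ω → Ω} {x y z s t : Ω} {p : ℕ} {ρ : Ω → Ω → Prop}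

theorem infSys_prop : MapProp F (fun P f => Mor E P f) where
  congr := fun P f g _ hfg hf => hf.congr hfg
  conj := fun P s hP hs => mor_conj hP hs
  comp := fun P Q f g _ _ hm h1 h2 => h1.comp h2 hm
  inv := by
    intro P f i hf hi h1 h2 h3
    obtain ⟨j, hj, hj1, -, -⟩ := h3.inverse
    refine hj.congr fun y hy => ?_
    obtain ⟨x, hx, rfl⟩ := hf.mem_img.1 hy
    rw [hj1 x hx, h1 x hx]

/-- The intersection of two fusion systems. -/
def infSys (F E : FusionSystem S) : FusionSystem S := propSys F (fun P f => Mor E P f) infSys_prop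

theorem mor_infSys : Mor (infSys F E) P f ↔ Mor F P f ∧ Mor E P f := mor_propSys

theorem infSys_le : infSys F E ≤ F := le_iff_mor.2 fun _ _ h => (mor_infSys.1 h).1

theorem sc_of_le (h : D ≤ F) (hQ : F.StronglyClosed Q) : D.StronglyClosed Q := by
  rw [stronglyClosed_iff] at hQ ⊢
  exact ⟨hQ.1, fun R f hR hf x hx => hQ.2 R f hR (le_iff_mor.1 h _ _ hf) x hx⟩

/-- Automorphisms of `P ≥ Q` trivial modulo `Q` are induced by `S`, when `P` is fully automized and the
automorphisms of `Q` are induced by `S`. -/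
theorem trivMod_le [Fact p.Prime] [Finite S] (hS : IsPGroup p S)
    (hQ : F.IsNormal Q) (hin : ∀ g, Mor F Q g → ∃ s ∈ S, ∀ x ∈ Q, g x = s * x * s⁻¹)
    (hPS : P ≤ S) (hQP : Q ≤ P) (hfa : F.IsFullyAutomized p P) {γ : MulAut P} (hγ : γ ∈ F.autGroup P)
    (hγm : ∀ x ∈ P, x⁻¹ * autFun γ x ∈ Q) : γ ∈ autInducedBy S P := by
  have hsc := normal_stronglyClosed hQ
  set K := trivMod F Q P hsc hPS with hK
  have hKp : IsPGroup p K := by
    rintro ⟨α, hα⟩
    obtain ⟨hα1, hα2⟩ := mem_trivMod.1 hα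
    obtain ⟨s, hs, h2⟩ := hin _ ((mor_autFun hPS hα1).mono hQP)
    obtain ⟨b, hb⟩ := isPGroup_pow_one hS hs
    have hpowQ : ∀ (n : ℕ), ∀ x ∈ Q, autFun (α ^ n) x = s ^ n * x * (s ^ n)⁻¹ := by
      intro n
      induction n with
      | zero => intro x hx; simp [autFun_one (hQP hx)]
      | succ n ih =>
        intro x hx
        have h5 : s ^ n * x * (s ^ n)⁻¹ ∈ Q :=
          (Subgroup.mem_normalizer_iff.1 (normal_normalizer hQ (pow_mem hs n)) x).1 hx
        rw [pow_succ', autFun_mul _ _ (hQP hx), ih x hx, h2 _ h5, pow_succ']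
        group
    have h4 : ∀ x ∈ Q, autFun (α ^ p ^ b) x = x := by
      intro x hx
      rw [hpowQ _ x hx, hb]; simp
    have h5 : ∀ x ∈ P, x⁻¹ * autFun (α ^ p ^ b) x ∈ Q := by
      have := (K.pow_mem hα (p ^ b))
      exact (mem_trivMod.1 this).2
    have hQp := isPGroup_of_le hS hQ.1
    haveI : Finite Q := finite_of_le hQ.1
    obtain ⟨c, hc⟩ := IsPGroup.iff_card.1 hQp
    refine ⟨b + c, ?_⟩
    apply Subtype.ext
    apply mulAut_ext
    intro x hx
    have h6 := autFun_pow_of_fix (α := α ^ p ^ b) hx (hQP (h5 x hx)) (by group) (h4 _ (h5 x hx)) (p ^ c)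
    have h7 : (x⁻¹ * autFun (α ^ p ^ b) x) ^ p ^ c = 1 := by
      have h8 := pow_card_eq_one' (G := Q) (x := ⟨_, h5 x hx⟩)
      rw [hc] at h8
      exact congrArg Subtype.val h8
    rw [h7, mul_one] at h6
    have h8 : (((⟨α, hα⟩ : K) ^ p ^ (b + c) : K) : MulAut P) = (α ^ p ^ b) ^ p ^ c := by
      rw [Subgroup.coe_pow, ← pow_mul, pow_add]
    rw [h8, h6, Subgroup.coe_one, autFun_one hx]
  obtain ⟨β, hβ, h1⟩ := exists_conj_le_autInduced hfa (T := K) (fun α hα => (mem_trivMod.1 hα).1) hKp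
  have h2 : β⁻¹ * γ * β ∈ K := by
    have h3 := trivMod_conj (hP := hPS) (mem_trivMod.2 ⟨hγ, hγm⟩ : γ ∈ trivMod F Q P hsc hPS)
      (inv_mem hβ)
    rwa [inv_inv] at h3
  have h3 := h1 _ h2
  have h4 : β * (β⁻¹ * γ * β) * β⁻¹ = γ := by group
  rwa [h4] at h3

/-- The lifting lemma. -/
theorem le_of_mod [Fact p.Prime] [Finite S] (hS : IsPGroup p S) (hF : F.IsSaturated p)
    (hQ : F.IsNormal Q) (hin : ∀ g, Mor F Q g → ∃ s ∈ S, ∀ x ∈ Q, g x = s * x * s⁻¹)
    (h : ∀ P f, Mor F P f → Q ≤ P → ∃ g, Mor F P g ∧ Mor E P g ∧ ∀ x ∈ P, (g x)⁻¹ * f x ∈ Q) : F ≤ E := by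
  refine alperin hS hF fun P hP α hα => ?_
  obtain ⟨hPn, hPc⟩ := fn_of_essential_or_top hP
  have hPS := hPn.1
  have hQP := le_essential hS hQ hP
  have hsc := normal_stronglyClosed hQ
  obtain ⟨g, hgF, hgE, hg⟩ := h P _ (mor_autFun hPS hα) hQP
  have hgP : ∀ x ∈ P, g x ∈ P := by
    intro x hx
    have h1 : g x = autFun α x * ((g x)⁻¹ * autFun α x)⁻¹ := by group
    rw [h1]
    exact mul_mem (autFun_mem α hx) (inv_mem (hQP (hg x hx)))
  haveI : Finite P := finite_of_le hPS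
  have him : img P g = P := eq_of_le_of_card (img_le_iff.2 hgP) hgF.card_img.ge
  obtain ⟨β, hβ, hβ'⟩ := hgF.exists_aut him
  have hβE : β ∈ E.autGroup P := mem_autGroup_of_mor hgE fun x => by
    rw [← autFun_coe]; exact hβ' x x.2
  have hγ : β⁻¹ * α ∈ F.autGroup P := mul_mem (inv_mem hβ) hα
  have hγ' := trivMod_le hS hQ hin hPS hQP (FN.fa hS hF hPn) hγ fun x hx => by
    rw [autFun_mul _ _ hx]
    have h1 : (g x)⁻¹ * autFun α x ∈ Q := hg x hx
    have hm := mor_autFun (F := F) hPS (inv_mem hβ)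
    have h2 : (g x)⁻¹ * autFun α x ∈ P := hQP h1
    have h3 := sc_apply hsc hm h2 h1
    rw [hm.mul (inv_mem (hgP x hx)) (autFun_mem α hx), hm.inv (hgP x hx), ← hβ' x hx,
      autFun_inv_apply β hx] at h3
    exact h3
  have h5 : β⁻¹ * α ∈ E.autGroup P := autInducedBy_le hPS le_rfl hγ'
  have h6 : α = β * (β⁻¹ * α) := by group
  rw [h6]
  exact mul_mem hβE h5

/-- The maps of `N_{F/Q}(V')` lift into `E`. -/
theorem quot_nn [Fact p.Prime] [Finite S] (hS : IsPGroup p S) (hF : F.IsSaturated p)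
    (hQ : F.IsNormal Q) (hmax : ∀ V, F.IsNormal V → V ≤ Q)
    (IH2 : ∀ D : FusionSystem S, D ≤ F → D ≠ F → D.IsSaturated p → D ≤ E)
    {Ω' : Type v} [Group Ω'] {S' : Subgroup Ω'} {θ : S →* Ω'} {F' E' : FusionSystem S'}
    (hE1 : F.IsFactorSystem Q θ F') (hE2 : (infSys F E).IsFactorSystem Q θ E')
    {V' X' : Subgroup Ω'} {f' : Ω' → Ω'} (hV'S : V' ≤ S') (hV'ne : V' ≠ ⊥)
    (hn' : S' ≤ Subgroup.normalizer (V' : Set Ω')) (hf' : Mor F' X' f')
    (h : ∃ g, Mor F' (X' ⊔ V') g ∧ (∀ x ∈ X', g x = f' x) ∧ img V' g = V') : Mor E' X' f' := by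
  obtain ⟨g', hg', h3, h4⟩ := h
  have hr := hE1.2.2.1
  have hsc := normal_stronglyClosed hQ
  have hRn : S ≤ Subgroup.normalizer ((preimageAlong θ V' : Subgroup Ω) : Set Ω) := by
    have h5 := normalizer_preimage hE1 hV'S
    have h6 : normalizerIn S' V' = S' := normalizerIn_eq hn'
    have hpre : preimageAlong θ S' = S := by
      apply le_antisymm preimageAlong_le
      intro x hx
      refine mem_preimageAlong.2 ⟨hx, ?_⟩
      rw [← hr]; exact tf_mem_range hx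
    rw [h6, hpre] at h5
    intro s hs
    have : s ∈ normalizerIn S (preimageAlong θ V') := by rw [h5]; exact hs
    exact this.2
  have hRnn : ¬ F.IsNormal (preimageAlong θ V') := by
    intro h
    apply hV'ne
    rw [eq_bot_iff]
    intro z hz
    obtain ⟨x, hx, rfl⟩ := exists_preimage hr hV'S hz
    rw [Subgroup.mem_bot]
    exact (factor_ker hE1 (preimageAlong_le hx)).2 (hmax _ h hx)
  have h5 := IH2 (normS F _ preimageAlong_le hRn) normS_le (fun h => hRnn (normS_eq_iff.1 h))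
    (normS_saturated hS hF)
  obtain ⟨hX'S, g, hg, h6⟩ := (factor_mor_iff hE1).1 hg'
  have hsub : preimageAlong θ V' ≤ preimageAlong θ (X' ⊔ V') := preimage_mono le_sup_right
  have h7 : img (preimageAlong θ V') g = preimageAlong θ V' := by
    have h8 := factor_img (f' := g') hE1 hV'S (hg.mono hsub) (fun x hx => h6 x (hsub hx)) hsc
    rwa [h4] at h8
  have h8 : Mor E (preimageAlong θ (X' ⊔ V')) g := le_iff_mor.1 h5 _ g (mor_normS.2 ⟨hg.le, g, by
    rw [sup_eq_left.2 hsub]; exact hg, fun _ _ => rfl, h7⟩)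
  have hsub' : preimageAlong θ X' ≤ preimageAlong θ (X' ⊔ V') := preimage_mono le_sup_left
  refine (factor_mor_iff hE2).2 ⟨hf'.le, g, mor_infSys.2 ⟨hg.mono hsub', h8.mono hsub'⟩, fun x hx => ?_⟩
  rw [← h3 _ (mem_preimageAlong.1 hx).2, h6 x (hsub' hx)]

/-- From the quotient to `F ≤ E`. -/
theorem le_of_quot [Fact p.Prime] [Finite S] (hS : IsPGroup p S) (hF : F.IsSaturated p)
    (hQ : F.IsNormal Q) (hin : ∀ g, Mor F Q g → ∃ s ∈ S, ∀ x ∈ Q, g x = s * x * s⁻¹)
    {Ω' : Type v} [Group Ω'] {S' : Subgroup Ω'} {θ : S →* Ω'} {F' E' : FusionSystem S'}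
    (hE1 : F.IsFactorSystem Q θ F') (hE2 : (infSys F E).IsFactorSystem Q θ E') (hle : F' ≤ E') :
    F ≤ E := by
  refine le_of_mod hS hF hQ hin fun P f hf hQP => ?_
  obtain ⟨f', hf', h1⟩ := factor_induced hE1 (normal_stronglyClosed hQ) hf hQP
  obtain ⟨-, g, hg, h2⟩ := (factor_mor_iff hE2).1 (le_iff_mor.1 hle _ _ hf')
  rw [factor_preimage_image hE1 hf.le hQP] at hg h2
  obtain ⟨hg1, hg2⟩ := mor_infSys.1 hg
  refine ⟨g, hg1, hg2, fun x hx => ?_⟩
  rw [← factor_eq hE1 (hg1.mem hx) (hf.mem hx), ← h2 x hx, h1 x hx]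

/-- Factor systems for `F` and `F ∩ E`. -/
theorem exists_factor2 [Fact p.Prime] [Finite S] (hS : IsPGroup p S) (hF : F.IsSaturated p)
    (hQ : F.IsNormal Q) (E : FusionSystem S) : ∃ (Ω' : Type u) (_ : Group Ω') (S' : Subgroup Ω')
      (θ : S →* Ω') (F' E' : FusionSystem S'), F.IsFactorSystem Q θ F' ∧
        (infSys F E).IsFactorSystem Q θ E' ∧ F'.IsSaturated p ∧ IsPGroup p S' ∧ Finite S' ∧
        Nat.card S = Nat.card Q * Nat.card S' := by
  have hQS := hQ.1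
  have hN := normal_normalizer hQ
  have hsc := normal_stronglyClosed hQ
  haveI hQn : (Q.subgroupOf S).Normal := ⟨fun q hq s =>
    (Subgroup.mem_normalizer_iff.1 (hN s.2) (q : Ω)).1 hq⟩
  have hk : ∀ x ∈ S, tf (QuotientGroup.mk' (Q.subgroupOf S)) x = 1 ↔ x ∈ Q := by
    intro x hx
    rw [tf_apply _ hx]
    exact (QuotientGroup.eq_one_iff _)
  have hE := factorSys_isFactor (F := F) hsc hk
  have hE2 := factorSys_isFactor (F := infSys F E) (sc_of_le infSys_le hsc) hk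
  set θ := QuotientGroup.mk' (Q.subgroupOf S) with hθdef
  have hr := hE.2.2.1
  haveI : Finite θ.range := Finite.of_surjective θ.rangeRestrict θ.rangeRestrict_surjective
  have hS' : IsPGroup p θ.range := hS.of_surjective θ.rangeRestrict θ.rangeRestrict_surjective
  have hE' := surj_saturated hS hF (factor_surj hS hF hsc hE)
  have hcard := card_preimageAlong hk hE.1 hE.2.2.1 (le_refl θ.range)
  have hpre : preimageAlong θ θ.range = S := by
    apply le_antisymm preimageAlong_le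
    intro x hx
    exact mem_preimageAlong.2 ⟨hx, tf_mem_range hx⟩
  rw [hpre] at hcard
  exact ⟨_, inferInstance, θ.range, θ, _, _, hE, hE2, hE', hS', inferInstance, hcard⟩

/-- If `V` is central in `S` and contained in the normal subgroup `Q` on which `F` acts as `S`, then
all maps of `F` extend to `V` fixing it. -/
theorem extend_fix (hQ : F.IsNormal Q) (hin : ∀ g, Mor F Q g → ∃ s ∈ S, ∀ x ∈ Q, g x = s * x * s⁻¹)
    (hVQ : V ≤ Q) (hVc : ∀ v ∈ V, ∀ s ∈ S, s * v = v * s) (hf : Mor F P f) :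
    ∃ g, Mor F (P ⊔ V) g ∧ (∀ x ∈ P, g x = f x) ∧ ∀ v ∈ V, g v = v := by
  obtain ⟨g, hg, h1, h2⟩ := (isNormal_iff.1 hQ).2 P f hf
  obtain ⟨s, hs, h3⟩ := hin _ (hg.mono le_sup_right)
  refine ⟨g, hg.mono (sup_le_sup_left hVQ P), h1, fun v hv => ?_⟩
  rw [h3 v (hVQ hv), hVc v hv s hs, mul_inv_cancel_right]

theorem img_of_fix (h : ∀ v ∈ V, g v = v) : img V g = V := by
  rw [img_congr h, img_self]

/-- The factorization argument. -/
theorem le_of_factorization [Fact p.Prime] [Finite S] (hS : IsPGroup p S) (hF : F.IsSaturated p)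
    (hX : F.IsNormal X) (hXab : ∀ a ∈ X, ∀ b ∈ X, a * b = b * a)
    (hC : ¬ F.IsNormal (centralizerIn S X))
    (IH2 : ∀ D : FusionSystem S, D ≤ F → D ≠ F → D.IsSaturated p → D ≤ E)
    (hfix : ∀ P c, Mor F P c → X ≤ P → (∀ x ∈ X, c x = x) → Mor E P c) : F ≤ E := by
  have hXC : X ≤ centralizerIn S X := fun a ha => mem_centralizerIn.2 ⟨hX.1 ha, fun b hb => hXab a ha b hb⟩
  have hsup : X ⊔ centralizerIn S X = centralizerIn S X := sup_eq_right.2 hXC
  have hn := normalizer_sup_centralizerIn (S := S) hX.1 (normal_normalizer hX)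
  rw [hsup] at hn
  have h1 := IH2 (normS F _ centralizerIn_le hn) normS_le (fun h => hC (normS_eq_iff.1 h))
    (normS_saturated hS hF)
  rw [le_iff_mor]
  intro P f hf
  obtain ⟨τ, c, hτ, h3, h4, hc, h5, h6⟩ := factorization hS hF hX hf
  rw [hsup] at hτ h4
  have h7 : Mor E (P ⊔ centralizerIn S X) τ := by
    refine le_iff_mor.1 h1 (P ⊔ centralizerIn S X) τ (mor_normS.2 ⟨hτ.le, τ, ?_, fun _ _ => rfl, h4⟩)
    rw [sup_eq_left.2 le_sup_right]
    exact hτ
  have h8 : X ≤ img (P ⊔ X) τ := by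
    conv_lhs => rw [← h3]
    exact img_mono le_sup_right
  have h9 := hfix _ c hc h8 h5
  exact ((h7.mono le_sup_left).comp h9 fun x hx => mem_img_of_mem (le_sup_left (b := X) hx)).congr
    fun x hx => (h6 x hx).symm

/-- A normal subgroup of a model with large centralizer. -/
theorem centralizer_not_normal {G : Type v} [Group G] {ι : S →* G} (hG : F.IsModel p G ι)
    [Finite S] (hS : IsPGroup p S) {XG : Subgroup G} {h : G} (hh : h ∈ ι.range)
    (hhO : h ∉ pCore p G) (hc : ∀ x ∈ XG, h * x = x * h) :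
    ¬ F.IsNormal (centralizerIn S (preimageAlong ι XG)) := by
  intro hC
  have hι := hG.2.1.1
  obtain ⟨h', rfl⟩ := hh
  have h1 := le_preimage_pCore hG (isPGroup_of_le hS hC.1) hC
  have h2 : (h' : Ω) ∈ centralizerIn S (preimageAlong ι XG) := by
    refine mem_centralizerIn.2 ⟨h'.2, fun a ha => ?_⟩
    obtain ⟨haS, ha'⟩ := mem_preimageAlong.1 ha
    apply tf_inj hι (mul_mem h'.2 haS) (mul_mem haS h'.2)
    rw [tf_mul h'.2 haS, tf_mul haS h'.2, tf_coe]
    exact hc _ ha'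
  have h3 := (mem_preimageAlong.1 (h1 h2)).2
  rw [tf_coe] at h3
  exact hhO h3

end

/-- Thompson replacement: if some member of `𝒜(P)` is not contained in `Q`, then some such member is
normalized by the abelian normal subgroup `V ≤ Z(Q)`. -/
theorem exists_normalized_abIn {P : Type*} [Group P] [Finite P] {p : ℕ} [Fact p.Prime]
    (hP : IsPGroup p P) {V Q : Subgroup P} [V.Normal] (hVab : ∀ x ∈ V, ∀ y ∈ V, x * y = y * x)
    (hVQ : ∀ v ∈ V, ∀ q ∈ Q, q * v = v * q) (hex : ∃ A, H2.AbIn ⊤ A ∧ ¬ A ≤ Q) :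
    ∃ A, H2.AbIn ⊤ A ∧ ¬ A ≤ Q ∧ V ≤ Subgroup.normalizer (A : Set P) := by
  have hB2 : p = 2 → ∀ x ∈ V, ∀ y ∈ V, x * y = y * x := fun _ => hVab
  obtain ⟨U, hU⟩ := hex
  obtain ⟨A, hA1, hA2⟩ := Set.Finite.exists_maximalFor (fun A : Subgroup P => Nat.card ↥(A ⊓ V))
    {A | H2.AbIn ⊤ A ∧ ¬ A ≤ Q} (Set.toFinite _) ⟨U, hU⟩
  refine ⟨A, hA1.1, hA1.2, ?_⟩
  by_contra hnot
  obtain ⟨b, hb, hbN, hbA⟩ : ∃ b ∈ V, b ∈ Subgroup.normalizer
      ((Subgroup.normalizer (A : Set P)) : Set P) ∧ b ∉ Subgroup.normalizer (A : Set P) := by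
    obtain ⟨M, hM⟩ : ∃ M, M = Subgroup.normalizer (A : Set P) := ⟨_, rfl⟩
    rw [← hM] at hnot ⊢
    have h1 : M < V ⊔ M := lt_of_le_of_ne le_sup_right (fun h => hnot (h ▸ le_sup_left))
    obtain ⟨x, hx1, hx2, hx3⟩ := exists_mem_normalizer_of_isPGroup_lt (hP.to_subgroup (V ⊔ M)) h1
    obtain ⟨b, hb, m, hm, rfl⟩ := Subgroup.mem_sup_of_normal_left.1 hx1
    have hm' : m ∈ Subgroup.normalizer (M : Set P) := Subgroup.le_normalizer hm
    refine ⟨b, hb, ?_, ?_⟩
    · have := mul_mem hx2 (inv_mem hm')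
      rwa [mul_inv_cancel_right] at this
    · intro h
      exact hx3 (mul_mem h hm)
  have hVc : ⁅V, V⁆ = ⊥ := by
    rw [eq_bot_iff, Subgroup.commutator_le]
    intro x hx y hy
    rw [Subgroup.mem_bot]
    exact commutatorElement_eq_one_iff_mul_comm.2 (hVab x hx y hy)
  have h : H2.GR A V b := ⟨H20.isMulCommutative_iff.1 hA1.1.2.1, by rw [hVc]; exact bot_le, hb, hbN⟩
  have hcr := h.card_repl hP hB2
  have h1 : H2.AbIn ⊤ (H2.repl A b) := ⟨le_top, h.repl_comm hP hB2, fun B hB hBc => by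
    rw [hcr]; exact hA1.1.2.2 B hB hBc⟩
  have h2 := h.inf_B_lt hbA
  have h3 : H2.repl A b ≤ Q := by
    by_contra h4
    have h5 := hA2 (j := H2.repl A b) ⟨h1, h4⟩ (Subgroup.card_le_of_le h2.le)
    exact h2.ne (Subgroup.eq_of_le_of_card_ge h2.le h5)
  apply hnot
  intro v hv
  exact h.repl_le_N (h1.mem_of_centralize (Subgroup.mem_top _) fun a ha => hVQ v hv a (h3 ha))

/-- If `J(T)` is not normal, some element of `T` outside `O_p(G)` acts quadratically on `Z(O_p(G))`. -/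
theorem J_quad {G : Type*} [Group G] [Finite G] {p : ℕ} [Fact p.Prime] (T : Sylow p G)
    (hJ : ¬ (thompsonSubgroupAOf (T : Subgroup G)).Normal) :
    ∃ g ∈ (T : Subgroup G), g ∉ pCore p G ∧
      ⁅⁅(Subgroup.center ↥(pCore p G)).map (pCore p G).subtype, Subgroup.zpowers g⁆,
        Subgroup.zpowers g⁆ = ⊥ := by
  set O : Subgroup G := pCore p G with hO
  set Z : Subgroup G := (Subgroup.center ↥O).map O.subtype with hZ
  have hOT : O ≤ (T : Subgroup G) := pCore_le_sylow T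
  have hZO : ∀ v ∈ Z, ∀ o ∈ O, o * v = v * o := by
    rintro _ ⟨v, hv, rfl⟩ o ho
    rw [SetLike.mem_coe, Subgroup.mem_center_iff] at hv
    exact congrArg Subtype.val (hv ⟨o, ho⟩)
  have hZle : Z ≤ O := by rintro _ ⟨v, -, rfl⟩; exact v.2
  haveI hOn : O.Normal := by rw [hO]; infer_instance
  haveI hZn : Z.Normal := by rw [hZ]; infer_instance
  have hex : ∃ A, H2.AbIn (T : Subgroup G) A ∧ ¬ A ≤ O := by
    by_contra hno
    push Not at hno
    apply hJ
    have h1 : thompsonSubgroupAOf (T : Subgroup G) = thompsonSubgroupAOf O := by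
      rw [H2.thompsonSubgroupAOf_eq, H2.thompsonSubgroupAOf_eq]
      obtain ⟨A, hA⟩ := H2.exists_abIn (T : Subgroup G)
      congr 1
      ext B
      show H2.AbIn _ B ↔ H2.AbIn _ B
      rw [H2.AbIn.iff_of_le hA (hno A hA) hOT]
      exact ⟨fun h => ⟨h, hno B h⟩, fun h => h.1⟩
    rw [h1]
    refine ⟨fun x hx g => ?_⟩
    have hg : g ∈ Subgroup.normalizer (O : Set G) := by
      rw [Subgroup.normalizer_eq_top]; exact Subgroup.mem_top _
    exact (Subgroup.mem_normalizer_iff.1 (char_normal (JA_le O) (JA_characteristic O) hg) x).1 hx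
  obtain ⟨A₀, hA₀, hA₀O⟩ := hex
  have hTZ : (Z.subgroupOf (T : Subgroup G)).Normal := Subgroup.normal_subgroupOf
  obtain ⟨A, hA, hAQ, hN⟩ := exists_normalized_abIn (P := ↥(T : Subgroup G)) T.isPGroup'
    (V := Z.subgroupOf (T : Subgroup G)) (Q := O.subgroupOf (T : Subgroup G))
    (fun x hx y hy => Subtype.ext (hZO _ hy _ (hZle hx)))
    (fun v hv q hq => Subtype.ext (hZO _ hv _ hq))
    ⟨A₀.subgroupOf (T : Subgroup G), by
      rw [H2.abIn_top_iff, Subgroup.subgroupOf_map_subtype, inf_eq_left.2 hA₀.1]; exact hA₀, by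
      intro h
      apply hA₀O
      intro a ha
      exact h (show (⟨a, hA₀.1 ha⟩ : ↥(T : Subgroup G)) ∈ A₀.subgroupOf (T : Subgroup G) from ha)⟩
  obtain ⟨g, hgA, hgO⟩ := Set.not_subset.1 hAQ
  have hAc := H20.isMulCommutative_iff.1 hA.2.1
  refine ⟨g, g.2, fun h => hgO h, ?_⟩
  -- everything commutes inside `A`
  have hgz : Subgroup.zpowers (g : G) ≤ A.map (T : Subgroup G).subtype := by
    rw [Subgroup.zpowers_le]
    exact ⟨g, hgA, rfl⟩
  have h1 : ⁅Z, Subgroup.zpowers (g : G)⁆ ≤ A.map (T : Subgroup G).subtype := by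
    rw [Subgroup.commutator_le]
    intro v hv a ha
    obtain ⟨a', ha', rfl⟩ := hgz ha
    have hvT : v ∈ (T : Subgroup G) := hOT (hZle hv)
    have h2 := (Subgroup.mem_normalizer_iff.1 (hN (show (⟨v, hvT⟩ : ↥(T : Subgroup G)) ∈
      Z.subgroupOf (T : Subgroup G) from hv)) a').1 ha'
    refine ⟨⟨v, hvT⟩ * a' * ⟨v, hvT⟩⁻¹ * a'⁻¹, mul_mem h2 (A.inv_mem ha'), ?_⟩
    rw [commutatorElement_def]
    rfl
  rw [eq_bot_iff, Subgroup.commutator_le]
  intro x hx y hy
  obtain ⟨x', hx', rfl⟩ := h1 hx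
  obtain ⟨y', hy', rfl⟩ := hgz hy
  rw [Subgroup.mem_bot]
  apply commutatorElement_eq_one_iff_mul_comm.2
  exact congrArg Subtype.val (hAc x' hx' y' hy')

end Cfsg.Agent.H28
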