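import Mathlib
import Cfsg.Prelude.Def_FusionSystem
import Cfsg.Prelude.Def_FusionReduction
import Cfsg.Agent.H28.GCtl4

/-!
Generation of a fusion system by the centralizer of powers of the centre and the normalizer of `J(S)`.
-/

set_option autoImplicit false
open Cfsg Cfsg.FusionSystem
open scoped commutatorElement

namespace Cfsg.Agent.H28

universe u v w

section
variable {Ω : Type u} [Group Ω] {S T : Subgroup Ω} {F E D : FusionSystem S} {P Q R V U X K : Subgroup Ω}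
  {f g k χ : Ω → Ω} {x y z s t : Ω} {p n : ℕ} {ρ : Ω → Ω → Prop}

/-- The subgroup generated by the `p^n`-th powers of the elements of the centre. -/
def pz (p n : ℕ) (S : Subgroup Ω) : Subgroup Ω := powerClosure p n (S ⊓ Subgroup.centralizer (S : Set Ω))

theorem mem_pz : z ∈ pz p n S ↔ ∃ y ∈ S, (∀ s ∈ S, s * y = y * s) ∧ z = y ^ p ^ n := by
  constructor
  · intro hz
    unfold pz powerClosure at hz
    refine Subgroup.closure_induction (p := fun z _ => ∃ y ∈ S, (∀ s ∈ S, s * y = y * s) ∧ z = y ^ p ^ n)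
      ?_ ?_ ?_ ?_ hz
    · rintro _ ⟨y, ⟨hy, hyc⟩, rfl⟩
      exact ⟨y, hy, fun s hs => (Subgroup.mem_centralizer_iff.1 hyc s hs), rfl⟩
    · exact ⟨1, S.one_mem, fun s _ => by simp, by simp⟩
    · rintro _ _ - - ⟨a, ha, hac, rfl⟩ ⟨b, hb, hbc, rfl⟩
      refine ⟨a * b, mul_mem ha hb, fun s hs => ?_, ?_⟩
      · rw [← mul_assoc, hac s hs, mul_assoc, hbc s hs, mul_assoc]
      · have : Commute a b := hbc a ha
        exact (this.mul_pow _).symm
    · rintro _ - ⟨a, ha, hac, rfl⟩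
      refine ⟨a⁻¹, S.inv_mem ha, fun s hs => ?_, by rw [inv_pow]⟩
      exact (Commute.inv_right (hac s hs : Commute s a)).eq
  · rintro ⟨y, hy, hyc, rfl⟩
    exact Subgroup.subset_closure ⟨y, ⟨hy, Subgroup.mem_centralizer_iff.2 fun s hs => hyc s hs⟩, rfl⟩

theorem pz_le : pz p n S ≤ S := fun z hz => by
  obtain ⟨y, hy, -, rfl⟩ := mem_pz.1 hz
  exact pow_mem hy _

theorem pz_comm : ∀ z ∈ pz p n S, ∀ s ∈ S, s * z = z * s := by
  intro z hz s hs
  obtain ⟨y, hy, hc, rfl⟩ := mem_pz.1 hz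
  exact Commute.pow_right (hc s hs : Commute s y) _

theorem pz_norm (hU : U ≤ S) : pz p n S ≤ pz p n (normalizerIn S U) := by
  intro z hz
  obtain ⟨y, hy, hc, rfl⟩ := mem_pz.1 hz
  refine mem_pz.2 ⟨y, ⟨hy, ?_⟩, fun s hs => hc s hs.1, rfl⟩
  apply Subgroup.centralizer_le_normalizer
  rw [Subgroup.mem_centralizer_iff]
  intro u hu
  exact hc u (hU hu)

theorem pz_tf {Ω' : Type v} [Group Ω'] {S' : Subgroup Ω'} {θ : S →* Ω'} (hr : θ.range = S')
    (hz : z ∈ pz p n S) : tf θ z ∈ pz p n S' := by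
  obtain ⟨y, hy, hc, rfl⟩ := mem_pz.1 hz
  refine mem_pz.2 ⟨tf θ y, by rw [← hr]; exact tf_mem_range hy, fun s hs => ?_, ?_⟩
  · obtain ⟨x, hx, rfl⟩ := exists_tf_eq hr hs
    rw [← tf_mul hx hy, hc x hx, tf_mul hy hx]
  · rw [tf_apply _ (pow_mem hy _), tf_apply _ hy]
    have : (⟨y ^ p ^ n, pow_mem hy _⟩ : S) = ⟨y, hy⟩ ^ p ^ n := rfl
    rw [this, map_pow]

theorem pz_char : ((pz p n S).subgroupOf S).Characteristic := by
  rw [Subgroup.characteristic_iff_le_comap]
  intro φ x hx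
  obtain ⟨y, hy, hc, h1⟩ := mem_pz.1 (Subgroup.mem_subgroupOf.1 hx)
  rw [Subgroup.mem_comap, Subgroup.mem_subgroupOf]
  have h2 : x = ⟨y, hy⟩ ^ p ^ n := Subtype.ext h1
  refine mem_pz.2 ⟨φ ⟨y, hy⟩, (φ ⟨y, hy⟩).2, fun s hs => ?_, ?_⟩
  · have h3 : ∀ t : S, t * ⟨y, hy⟩ = ⟨y, hy⟩ * t := fun t => Subtype.ext (hc t t.2)
    have h4 := congrArg φ (h3 (φ.symm ⟨s, hs⟩))
    rw [map_mul, map_mul, MulEquiv.apply_symm_apply] at h4
    exact congrArg Subtype.val h4
  · show ((φ x : S) : Ω) = _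
    rw [h2, map_pow]; rfl

theorem pz_normalizer : S ≤ Subgroup.normalizer ((pz p n S : Subgroup Ω) : Set Ω) :=
  char_le_normalizerIn pz_le pz_char

theorem imageAlong_JA {G : Type u} [Group G] {ι : S →* G} (hι : Function.Injective ι) :
    imageAlong ι (thompsonSubgroupAOf S) = thompsonSubgroupAOf ι.range := by
  rw [JA_eq_WA, JA_eq_WA]
  exact imageAlong_WA (W := fun (S : Type u) [Group S] => thompsonSubgroupA S)
    (fun e => thompsonSubgroupA_map e) hι

theorem JA_isNormal_of_model [Fact p.Prime] [Finite S] {G : Type u} [Group G] {ι : S →* G}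
    (hG : F.IsModel p G ι) {T : Sylow p G} (hTr : (T : Subgroup G) = ι.range)
    (hJ : (thompsonSubgroupAOf (T : Subgroup G)).Normal) : F.IsNormal (thompsonSubgroupAOf S) := by
  have hι := hG.2.1.1
  have h4 : thompsonSubgroupAOf (T : Subgroup G) = imageAlong ι (thompsonSubgroupAOf S) := by
    rw [imageAlong_JA hι, hTr]
  refine normal_of_real hG.2.1 (JA_le S) fun g x hx => ?_
  have h5 : tf ι x ∈ imageAlong ι (thompsonSubgroupAOf S) := tf_mem_imageAlong (JA_le S) hx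
  rw [← h4] at h5
  have h6 := hJ.conj_mem _ h5 g
  rw [h4] at h6
  obtain ⟨y, -, hy, h7⟩ := mem_imageAlong.1 h6
  exact ⟨y, hy, h7.symm⟩

/-- An element of `T` outside `O_p(G)` centralizing the `p^n`-th powers of `Z(O_p(G))`. -/
theorem exists_X_of_model [Fact p.Prime] [Finite S] (hS : IsPGroup p S) {G : Type u} [Group G]
    {ι : S →* G} (hG : F.IsModel p G ι) (hQ'n : F.IsNormal Q) (hQ'c : F.IsCentric Q) (n : ℕ)
    (h : ∃ h ∈ ι.range, h ∉ pCore p G ∧ ∀ v ∈ (Subgroup.center ↥(pCore p G)).map (pCore p G).subtype,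
      h * v ^ p ^ n = v ^ p ^ n * h) :
    ∃ X : Subgroup Ω, F.IsNormal X ∧ (∀ a ∈ X, ∀ b ∈ X, a * b = b * a) ∧ pz p n S ≤ X ∧
      ¬ F.IsNormal (centralizerIn S X) := by
  haveI := hG.1
  obtain ⟨T, hTr⟩ := hG.2.2.1
  have hι : Function.Injective ι := hG.2.1.1
  obtain ⟨h, hh, hhO, hhc⟩ := h
  set O : Subgroup G := pCore p G with hO
  set Z : Subgroup G := (Subgroup.center ↥O).map O.subtype with hZ
  have hZO : ∀ v ∈ Z, ∀ o ∈ O, v * o = o * v := by
    rintro _ ⟨v, hv, rfl⟩ o ho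
    rw [SetLike.mem_coe, Subgroup.mem_center_iff] at hv
    exact congrArg Subtype.val (hv ⟨o, ho⟩).symm
  have hZle : Z ≤ O := by rintro _ ⟨v, -, rfl⟩; exact v.2
  have hZab : ∀ v ∈ Z, ∀ w ∈ Z, v * w = w * v := fun v hv w hw => hZO v hv w (hZle hw)
  haveI hOn : O.Normal := by rw [hO]; infer_instance
  haveI hZn : Z.Normal := by rw [hZ]; infer_instance
  have hOT : O ≤ (T : Subgroup G) := pCore_le_sylow T
  set X : Subgroup G := Subgroup.closure ((fun v => v ^ p ^ n) '' (Z : Set G)) with hXdef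
  have hXZ : X ≤ Z := by
    rw [hXdef, Subgroup.closure_le]
    rintro _ ⟨v, hv, rfl⟩
    exact pow_mem hv _
  have hXn : X.Normal := by
    have hc : ∀ g : G, X ≤ X.comap (MulAut.conj g).toMonoidHom := by
      intro g
      conv_lhs => rw [hXdef]
      rw [Subgroup.closure_le]
      rintro _ ⟨v, hv, rfl⟩
      show g * v ^ p ^ n * g⁻¹ ∈ X
      rw [← conj_pow]
      exact Subgroup.subset_closure ⟨_, hZn.conj_mem v hv g, rfl⟩
    exact ⟨fun x hx g => hc g hx⟩
  have hhX : ∀ x ∈ X, h * x = x * h := by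
    have : X ≤ Subgroup.centralizer {h} := by
      rw [hXdef, Subgroup.closure_le]
      rintro _ ⟨v, hv, rfl⟩
      exact Subgroup.mem_centralizer_singleton_iff.2 (hhc v hv).symm
    intro x hx
    exact (Subgroup.mem_centralizer_singleton_iff.1 (this hx)).symm
  have hXr : X ≤ ι.range := by
    rw [← hTr]; exact (hXZ.trans hZle).trans hOT
  refine ⟨preimageAlong ι X, normal_preimage_of_normal hG.2.1 hXn hXr, ?_, ?_,
    centralizer_not_normal hG hS hh hhO hhX⟩
  · intro a ha b hb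
    obtain ⟨haS, ha'⟩ := mem_preimageAlong.1 ha
    obtain ⟨hbS, hb'⟩ := mem_preimageAlong.1 hb
    apply tf_inj hι (mul_mem haS hbS) (mul_mem hbS haS)
    rw [tf_mul haS hbS, tf_mul hbS haS]
    exact hZab _ (hXZ ha') _ (hXZ hb')
  · intro z hz
    obtain ⟨y, hy, hyc, rfl⟩ := mem_pz.1 hz
    have hyO : tf ι y ∈ O := by
      have h1 := mem_centric_of_central hQ'c hy hyc
      exact (mem_preimageAlong.1 (le_preimage_pCore hG (isPGroup_of_le hS hQ'n.1) hQ'n h1)).2
    have hyZ : tf ι y ∈ Z := by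
      refine ⟨⟨tf ι y, hyO⟩, ?_, rfl⟩
      rw [SetLike.mem_coe, Subgroup.mem_center_iff]
      intro u
      apply Subtype.ext
      show (u : G) * tf ι y = tf ι y * (u : G)
      have hu : (u : G) ∈ ι.range := by rw [← hTr]; exact hOT u.2
      obtain ⟨a, ha⟩ := hu
      rw [← ha, ← tf_coe, ← tf_mul a.2 hy, hyc a a.2, tf_mul hy a.2]
    refine mem_preimageAlong.2 ⟨pow_mem hy _, ?_⟩
    have : tf ι (y ^ p ^ n) = tf ι y ^ p ^ n := by
      rw [tf_apply _ hy, tf_apply _ (pow_mem hy _)]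
      have : (⟨y ^ p ^ n, pow_mem hy _⟩ : S) = ⟨y, hy⟩ ^ p ^ n := rfl
      rw [this, map_pow]
    rw [this]
    exact Subgroup.subset_closure ⟨_, hyZ, rfl⟩

/-- The map extends to `V` fixing it. -/
def CCMor (D : FusionSystem T) (V X : Subgroup Ω) (f : Ω → Ω) : Prop :=
  Mor D X f ∧ ∃ g, Mor D (X ⊔ V) g ∧ (∀ x ∈ X, g x = f x) ∧ ∀ v ∈ V, g v = v

/-- The generation condition. -/
def CondJ (p : ℕ) (Ω : Type u) [Group Ω] (S : Subgroup Ω) (F E : FusionSystem S) : Prop :=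
  (∀ X f, CCMor F (pz p 1 S) X f → Mor E X f) ∧ ∀ X f, NNMor F (thompsonSubgroupAOf S) X f → Mor E X f

theorem JA_ne_bot'' [Finite S] (h : S ≠ ⊥) : thompsonSubgroupAOf S ≠ ⊥ := JA_ne_bot' h

theorem gm_condJ [Fact p.Prime] : GM.{u} p (fun (Ω : Type u) [Group Ω] S F E => CondJ p Ω S F E) := by
  constructor
  · rintro Ω _ S _ F E D hS hF hD hDs ⟨h1, h2⟩
    refine ⟨?_, fun X f hf => h2 X f (hf.mono_sys hD)⟩
    rintro X f ⟨hf, g, hg, h3, h4⟩
    exact h1 X f ⟨le_iff_mor.1 hD _ _ hf, g, le_iff_mor.1 hD _ _ hg, h3, h4⟩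
  · rintro Ω _ S _ F E hS hF ⟨h1, h2⟩ U hU hUne hlt
    haveI : Finite (normalizerIn S U) := finite_of_le normalizerIn_le
    have hTne : normalizerIn S U ≠ ⊥ := by
      intro h
      apply hUne
      rw [eq_bot_iff, ← h]
      exact le_normalizerIn hU.1
    refine ⟨thompsonSubgroupAOf (normalizerIn S U), JA_le _, JA_ne_bot' hTne, JA_characteristic _,
      fun h3 => ⟨?_, ?_⟩⟩
    · rintro X f ⟨hf, g, hg, h4, h5⟩
      refine mor_restrT.2 ⟨hf.le, fun x hx => hf.mem hx, h1 X f ⟨mor_norm_sub hf, g,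
        (mor_norm_sub hg).mono (sup_le_sup_left (pz_norm hU.1) X), h4, fun v hv => h5 v (pz_norm hU.1 hv)⟩⟩
    · intro X f hf
      exact mor_restrT.2 ⟨hf.1.le, fun x hx => hf.1.mem hx, h3 X f hf⟩
  · rintro Ω _ S _ F E hS ⟨hF, Q', hQ'n, hQ'c⟩ hcore IH1 IH2 ⟨h1, h2⟩
    obtain ⟨G, _, ι, hG⟩ := exists_model hS hF hQ'n hQ'c
    haveI := hG.1
    obtain ⟨T, hTr⟩ := hG.2.2.1
    by_cases hJ : (thompsonSubgroupAOf (T : Subgroup G)).Normal
    · have hn := JA_isNormal_of_model hG hTr hJ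
      rw [le_iff_mor]
      intro P f hf
      obtain ⟨g, hg, h3, h4⟩ := (isNormal_iff.1 hn).2 P f hf
      exact h2 P f ⟨hf, g, hg, h3, h4⟩
    · obtain ⟨g, hgT, hgO, hgq⟩ := J_quad T hJ
      set O : Subgroup G := pCore p G with hO
      set Z : Subgroup G := (Subgroup.center ↥O).map O.subtype with hZ
      have hZO : ∀ v ∈ Z, ∀ o ∈ O, v * o = o * v := by
        rintro _ ⟨v, hv, rfl⟩ o ho
        rw [SetLike.mem_coe, Subgroup.mem_center_iff] at hv
        exact congrArg Subtype.val (hv ⟨o, ho⟩).symm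
      have hZle : Z ≤ O := by rintro _ ⟨v, -, rfl⟩; exact v.2
      have hZab : ∀ v ∈ Z, ∀ w ∈ Z, v * w = w * v := fun v hv w hw => hZO v hv w (hZle hw)
      haveI hOn : O.Normal := by rw [hO]; infer_instance
      haveI hZn : Z.Normal := by rw [hZ]; infer_instance
      obtain ⟨n, hn⟩ := isPGroup_pow_one T.isPGroup' hgT
      obtain ⟨h, hh, hhO, hhc⟩ := quad_pth hZO hZab (n := n) (by rw [hn]; exact O.one_mem) hgO hgq
      obtain ⟨X, hX, hXab, hXz, hXC⟩ := exists_X_of_model hS hG hQ'n hQ'c 1 ⟨h, by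
        rw [← hTr]
        have : Subgroup.zpowers g ≤ (T : Subgroup G) := by rw [Subgroup.zpowers_le]; exact hgT
        exact this hh, hhO, fun v hv => by rw [pow_one]; exact hhc v hv⟩
      refine le_of_factorization hS hF hX hXab hXC IH2 fun P c hc hXP hcf => h1 P c ⟨hc, c, ?_,
        fun _ _ => rfl, fun v hv => hcf v (hXz hv)⟩
      rw [sup_eq_left.2 (hXz.trans hXP)]
      exact hc
  · rintro Ω _ S _ F E hS hF hcore hcen hin IH1 IH2 ⟨h1, h2⟩
    have hQ : F.IsNormal F.core := core_normal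
    obtain ⟨Ω', _, S', θ, F', E', hE1, hE2, hF's, hS', _, hcard⟩ := exists_factor2 hS hF hQ E
    haveI : Finite F.core := finite_of_le hQ.1
    have hr := hE1.2.2.1
    have hc2 : 1 < Nat.card F.core := by
      rw [← Nat.card_unique (α := (⊥ : Subgroup Ω))]
      exact card_lt_of_lt' (bot_lt_iff_ne_bot.2 hcore)
    have hS'pos : 0 < Nat.card S' := Nat.card_pos
    have hlt : Nat.card S' < Nat.card S := by
      rw [hcard]; nlinarith
    have hS'ne : S' ≠ ⊥ := by
      intro h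
      apply hcen
      have h5 : Nat.card S' = 1 := by rw [h]; exact Subgroup.card_bot
      rw [h5, mul_one] at hcard
      have h3 : F.core = S := eq_of_le_of_card hQ.1 hcard.le
      exact centralizerIn_le.trans h3.ge
    by_cases hpz : pz p 1 S' = ⊥
    · have h3 : pz p 1 S ≤ F.core := by
        intro z hz
        have h4 := pz_tf hr hz
        rw [hpz, Subgroup.mem_bot] at h4
        exact (factor_ker hE1 (pz_le hz)).1 h4
      rw [le_iff_mor]
      intro P f hf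
      exact h1 P f ⟨hf, extend_fix hQ hin h3 pz_comm hf⟩
    · refine le_of_quot hS hF hQ hin hE1 hE2 (IH1 Ω' S' F' E' hlt hS' hF's ⟨?_, ?_⟩)
      · rintro X' f' ⟨hf', g', hg', h3, h4⟩
        exact quot_nn hS hF hQ (fun V hV => le_core hV) IH2 hE1 hE2 pz_le hpz pz_normalizer hf'
          ⟨g', hg', h3, img_of_fix h4⟩
      · rintro X' f' ⟨hf', h3⟩
        exact quot_nn hS hF hQ (fun V hV => le_core hV) IH2 hE1 hE2 (JA_le S') (JA_ne_bot' hS'ne)
          (char_le_normalizerIn (JA_le S') (JA_characteristic S')) hf' h3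

/-- Generation by `C_F(℧(Z(S)))` and `N_F(J(S))`. -/
theorem le_of_condJ [Fact p.Prime] {Ω : Type u} [Group Ω] {S : Subgroup Ω} [Finite S]
    {F E : FusionSystem S} (hS : IsPGroup p S) (hF : F.IsSaturated p) (h : CondJ p Ω S F E) : F ≤ E :=
  gmach gm_condJ _ Ω S F E le_rfl hS hF h

end
end Cfsg.Agent.H28
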