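import Mathlib
import Cfsg.Prelude.Def_FusionSystem
import Cfsg.Prelude.Def_FusionReduction
import Cfsg.Agent.H28.GCtl5

/-!
Powers of the centre in groups of small class.
-/

set_option autoImplicit false
open Cfsg Cfsg.FusionSystem
open scoped commutatorElement

namespace Cfsg.Agent.H28

universe u v w

section
open Polynomial

theorem pn_delta {R : Type*} [Ring R] {p n : ℕ} (hp : p.Prime) {δ : R} (h1 : (1 + δ) ^ p = 1)
    (h2 : δ ^ (n * (p - 1) + 1) = 0) : (p : R) ^ n * δ = 0 := by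
  obtain ⟨η, hη⟩ : ∃ η : ℤ[X], (X + 1 : ℤ[X]) ^ p = X ^ p + 1 + (p : ℤ[X]) * (X * (1 + X * η)) := by
    have h3 := (Commute.one_right (X : ℤ[X])).add_pow_prime_eq hp
    have h4 : Finset.Ioo 0 p = insert 1 (Finset.Ioo 1 p) := by
      ext k
      simp only [Finset.mem_Ioo, Finset.mem_insert]
      have := hp.two_le
      omega
    have h5 : ∑ k ∈ Finset.Ioo 1 p, (X : ℤ[X]) ^ (k - 1) * 1 ^ (p - k - 1) * ((p.choose k / p : ℕ) : ℤ[X]) =
        X * ∑ k ∈ Finset.Ioo 1 p, X ^ (k - 2) * ((p.choose k / p : ℕ) : ℤ[X]) := by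
      rw [Finset.mul_sum]
      refine Finset.sum_congr rfl fun k hk => ?_
      have hk' := Finset.mem_Ioo.1 hk
      obtain ⟨j, rfl⟩ : ∃ j, k = j + 2 := ⟨k - 2, by omega⟩
      rw [one_pow, mul_one, Nat.add_sub_cancel, show j + 2 - 1 = j + 1 by omega, pow_succ']
      ring
    refine ⟨∑ k ∈ Finset.Ioo 1 p, X ^ (k - 2) * ((p.choose k / p : ℕ) : ℤ[X]), ?_⟩
    rw [h3, one_pow, h4, Finset.sum_insert (by simp), h5, Nat.choose_one_right, Nat.div_self hp.pos,
      Nat.sub_self, pow_zero, one_pow, Nat.cast_one]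
    ring
  obtain ⟨r, hr⟩ : ∃ r : ℤ[X], r = 1 + X * η := ⟨_, rfl⟩
  rw [← hr] at hη
  obtain ⟨ψ, hX⟩ : ∃ ψ : ℤ[X] →+* R, ψ X = δ := ⟨(aeval δ : ℤ[X] →ₐ[ℤ] R), aeval_X δ⟩
  have h3 : ψ (X ^ p) = - ψ ((p : ℤ[X]) * (X * r)) := by
    have h4 := congrArg ψ hη
    rw [map_pow, map_add, map_one, hX, add_comm δ 1, h1, map_add, map_add, map_one] at h4
    have h5 : ψ (X ^ p) + ψ ((p : ℤ[X]) * (X * r)) = 0 := by
      have h6 : ψ (X ^ p) + 1 + ψ ((p : ℤ[X]) * (X * r)) = (ψ (X ^ p) + ψ ((p : ℤ[X]) * (X * r))) + 1 := by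
        abel
      rw [h6] at h4
      have h7 := h4.symm
      rwa [add_eq_right] at h7
    exact eq_neg_of_add_eq_zero_left h5
  have h4 : ∀ k : ℕ, ψ (((p : ℤ[X]) * r) ^ k * X) = ψ ((-1) ^ k * X ^ (k * (p - 1) + 1)) := by
    intro k
    induction k with
    | zero => simp
    | succ k ih =>
      have h5 : (((p : ℤ[X]) * r) ^ (k + 1) * X) = ((p : ℤ[X]) * r) * (((p : ℤ[X]) * r) ^ k * X) := by ring
      rw [h5, map_mul, ih, ← map_mul]
      have h6 : ((p : ℤ[X]) * r) * ((-1) ^ k * X ^ (k * (p - 1) + 1)) =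
          ((-1) ^ k * X ^ (k * (p - 1))) * ((p : ℤ[X]) * (X * r)) := by ring
      rw [h6, map_mul]
      have h7 : ψ ((p : ℤ[X]) * (X * r)) = - ψ (X ^ p) := by rw [h3, neg_neg]
      rw [h7, ← map_neg, ← map_mul]
      congr 1
      obtain ⟨q, hq⟩ : ∃ q, p = q + 1 := ⟨p - 1, by have := hp.pos; omega⟩
      rw [hq, Nat.add_sub_cancel]
      ring
  have h5 := h4 n
  rw [map_mul ψ ((-1) ^ n), map_pow ψ X, hX, h2, mul_zero, map_mul, map_pow, map_mul, hX] at h5
  have hnil : IsNilpotent (ψ (X * η)) := by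
    refine ⟨n * (p - 1) + 1, ?_⟩
    rw [← map_pow, mul_pow, map_mul, map_pow, hX, h2, zero_mul]
  have hu : IsUnit (ψ r) := by
    rw [hr, map_add, map_one]
    exact hnil.isUnit_one_add
  have hpc : ψ (p : ℤ[X]) = (p : R) := map_natCast ψ p
  rw [hpc, (Nat.cast_commute p (ψ r)).mul_pow] at h5
  have h6 : ψ r ^ n * ((p : R) ^ n * δ) = 0 := by
    rw [← mul_assoc, ← (((Nat.cast_commute p (ψ r)).pow_left n).pow_right n).eq]
    exact h5
  exact ((hu.pow n).mul_right_eq_zero).1 h6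

theorem exists_pn_centralizing {G : Type*} [Group G] {p n : ℕ} [hp : Fact p.Prime] {T A : Subgroup G}
    (hT : IsPGroup p T) (hA : A ≤ T) (hTA : ∀ t ∈ T, ∀ a ∈ A, t * a * t⁻¹ ∈ A)
    (hAab : ∀ a ∈ A, ∀ b ∈ A, a * b = b * a)
    (hcl : Subgroup.lowerCentralSeries T (n * (p - 1) + 1) = ⊥)
    (hnc : ∃ t ∈ T, ∃ a ∈ A, t * a ≠ a * t) :
    ∃ d ∈ T, (∃ a ∈ A, d * a ≠ a * d) ∧ ∀ a ∈ A, d * a ^ p ^ n = a ^ p ^ n * d := by
  classical
  obtain ⟨t, htT, htn⟩ := hnc
  obtain ⟨j, hj⟩ : ∃ j, t ^ p ^ j = 1 := by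
    obtain ⟨j, hj⟩ := hT ⟨t, htT⟩
    exact ⟨j, congrArg Subtype.val hj⟩
  have hex : ∃ m, ∀ a ∈ A, t ^ p ^ m * a = a * t ^ p ^ m := ⟨j, fun a _ => by rw [hj]; simp⟩
  obtain ⟨m, hm, hmin⟩ : ∃ m, (∀ a ∈ A, t ^ p ^ m * a = a * t ^ p ^ m) ∧
      ∀ k < m, ¬ ∀ a ∈ A, t ^ p ^ k * a = a * t ^ p ^ k :=
    ⟨Nat.find hex, Nat.find_spec hex, fun k hk => Nat.find_min hex hk⟩
  have hm0 : m ≠ 0 := by
    rintro rfl
    obtain ⟨a, ha, hne⟩ := htn
    have := hm a ha
    rw [pow_zero, pow_one] at this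
    exact hne this
  obtain ⟨e, rfl⟩ := Nat.exists_eq_succ_of_ne_zero hm0
  obtain ⟨d, hd⟩ : ∃ d, d = t ^ p ^ e := ⟨_, rfl⟩
  have hdT : d ∈ T := by rw [hd]; exact pow_mem htT _
  have hdp : ∀ a ∈ A, d ^ p * a = a * d ^ p := by
    intro a ha
    rw [hd, ← pow_mul, ← pow_succ]
    exact hm a ha
  have hdn : ∃ a ∈ A, d * a ≠ a * d := by
    have := hmin e (Nat.lt_succ_self e)
    rw [← hd] at this
    push Not at this
    exact this
  refine ⟨d, hdT, hdn, ?_⟩
  letI : CommGroup ↥A := { (inferInstance : Group ↥A) with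
    mul_comm := fun a b => Subtype.ext (hAab a a.2 b b.2) }
  let φ : Module.End ℤ (Additive ↥A) := AddMonoidHom.toIntLinearMap
    { toFun := fun a => Additive.ofMul ⟨d * (Additive.toMul a : A) * d⁻¹, hTA d hdT _ (Additive.toMul a).2⟩
      map_zero' := by
        apply Additive.toMul.injective
        apply Subtype.ext
        show d * ((1 : A) : G) * d⁻¹ = 1
        simp
      map_add' := fun a b => by
        apply Additive.toMul.injective
        apply Subtype.ext
        show d * (((Additive.toMul a : A) * (Additive.toMul b : A) : A) : G) * d⁻¹ =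
          (d * (Additive.toMul a : A) * d⁻¹) * (d * (Additive.toMul b : A) * d⁻¹)
        rw [Subgroup.coe_mul]; group }
  have hφ : ∀ a : Additive ↥A, ((Additive.toMul (φ a) : A) : G) = d * (Additive.toMul a : A) * d⁻¹ :=
    fun _ => rfl
  have hφk : ∀ (k : ℕ) (a : Additive ↥A), ((Additive.toMul ((φ ^ k) a) : A) : G) =
      d ^ k * (Additive.toMul a : A) * (d ^ k)⁻¹ := by
    intro k
    induction k with
    | zero => intro a; simp
    | succ k ih =>
      intro a
      rw [pow_succ', Module.End.mul_apply, hφ, ih, pow_succ']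
      group
  have hφp : φ ^ p = 1 := by
    refine LinearMap.ext fun a => ?_
    apply Additive.toMul.injective
    apply Subtype.ext
    rw [hφk, hdp _ (Additive.toMul a).2]
    simp
  obtain ⟨δ, hδ⟩ : ∃ δ : Module.End ℤ (Additive ↥A), δ = φ - 1 := ⟨_, rfl⟩
  have hδa : ∀ a : Additive ↥A, ((Additive.toMul (δ a) : A) : G) =
      ⁅d, ((Additive.toMul a : A) : G)⁆ := by
    intro a
    rw [hδ, LinearMap.sub_apply, Module.End.one_apply, toMul_sub, Subgroup.coe_div, hφ,
      commutatorElement_def, div_eq_mul_inv]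
  have hδk : ∀ (k : ℕ) (a : Additive ↥A), ((Additive.toMul ((δ ^ k) a) : A) : G) ∈
      Subgroup.lowerCentralSeries T k := by
    intro k
    induction k with
    | zero => intro a; exact hA (Additive.toMul a).2
    | succ k ih =>
      intro a
      rw [pow_succ', Module.End.mul_apply, hδa, Subgroup.lowerCentralSeries_succ,
        Subgroup.commutator_comm]
      exact Subgroup.commutator_mem_commutator hdT (ih a)
  have hδm : δ ^ (n * (p - 1) + 1) = 0 := by
    refine LinearMap.ext fun a => ?_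
    apply Additive.toMul.injective
    apply Subtype.ext
    have := hδk (n * (p - 1) + 1) a
    rw [hcl, Subgroup.mem_bot] at this
    rw [this]; rfl
  have h1 := pn_delta hp.out (δ := δ) (n := n) (by rw [hδ, add_sub_cancel]; exact hφp) hδm
  intro a ha
  have h2 : ((p : Module.End ℤ (Additive ↥A)) ^ n * δ) (Additive.ofMul ⟨a, ha⟩) = 0 := by
    rw [h1]; rfl
  rw [← Nat.cast_pow, Module.End.mul_apply, Module.End.natCast_apply] at h2
  have h3 : ⁅d, a⁆ ^ p ^ n = 1 := by
    have h4 := hδa (Additive.ofMul ⟨a, ha⟩)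
    have h5 : Additive.toMul (p ^ n • δ (Additive.ofMul ⟨a, ha⟩)) = 1 := by rw [h2]; rfl
    rw [toMul_nsmul] at h5
    have h6 := congrArg Subtype.val h5
    rw [Subgroup.coe_pow, h4] at h6
    exact h6
  have hcA : ⁅d, a⁆ ∈ A := by
    rw [commutatorElement_def]
    exact mul_mem (hTA d hdT a ha) (inv_mem ha)
  have h4 : d * a ^ p ^ n * d⁻¹ = a ^ p ^ n := by
    rw [← conj_pow]
    have h5 : d * a * d⁻¹ = ⁅d, a⁆ * a := by rw [commutatorElement_def]; group
    have h6 : Commute ⁅d, a⁆ a := hAab _ hcA _ ha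
    rw [h5, h6.mul_pow, h3, one_mul]
  calc d * a ^ p ^ n = d * a ^ p ^ n * d⁻¹ * d := by group
    _ = a ^ p ^ n * d := by rw [h4]

end

section
variable {Ω : Type u} [Group Ω] {S T : Subgroup Ω} {F E D : FusionSystem S} {P Q R V U X K : Subgroup Ω}
  {f g k χ : Ω → Ω} {x y z s t : Ω} {p n : ℕ} {ρ : Ω → Ω → Prop}

theorem lcs_range {G : Type v} [Group G] (ι : S →* G) {k : ℕ}
    (h : Subgroup.lowerCentralSeries S k = ⊥) : Subgroup.lowerCentralSeries ι.range k = ⊥ := by
  have h1 : (⊤ : Subgroup S).lowerCentralSeries k = ⊥ := by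
    rw [← Subgroup.map_subtype_inj, Subgroup.map_bot, Subgroup.top_subtype_lowerCentralSeries, h]
  have h2 : ι.range = (⊤ : Subgroup S).map ι := MonoidHom.range_eq_map ι
  rw [h2, ← Subgroup.map_lowerCentralSeries, h1, Subgroup.map_bot]

/-- The condition for powers of the centre. -/
def CondP (p n : ℕ) (Ω : Type u) [Group Ω] (S : Subgroup Ω) (F E : FusionSystem S) : Prop :=
  pz p n S ≠ ⊥ ∧ Subgroup.lowerCentralSeries S (n * (p - 1) + 1) = ⊥ ∧
    ∀ X f, NNMor F (pz p n S) X f → Mor E X f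

theorem gm_condP [hp : Fact p.Prime] :
    GM.{u} p (fun (Ω : Type u) [Group Ω] S F E => CondP p n Ω S F E) := by
  constructor
  · rintro Ω _ S _ F E D hS hF hD hDs ⟨h0, h1, h2⟩
    exact ⟨h0, h1, fun X f hf => h2 X f (hf.mono_sys hD)⟩
  · rintro Ω _ S _ F E hS hF ⟨h0, h1, h2⟩ U hU hUne hlt
    have hne : pz p n (normalizerIn S U) ≠ ⊥ := fun h => h0 (by
      rw [eq_bot_iff, ← h]; exact pz_norm hU.1)
    refine ⟨pz p n (normalizerIn S U), pz_le, hne, pz_char, fun h3 => ⟨hne, ?_, ?_⟩⟩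
    · rw [eq_bot_iff, ← h1]
      exact Subgroup.lowerCentralSeries_mono _ normalizerIn_le
    · intro X f hf
      exact mor_restrT.2 ⟨hf.1.le, fun x hx => hf.1.mem hx, h3 X f hf⟩
  · rintro Ω _ S _ F E hS ⟨hF, Q', hQ'n, hQ'c⟩ hcore IH1 IH2 ⟨h0, h1, h2⟩
    obtain ⟨G, _, ι, hG⟩ := exists_model hS hF hQ'n hQ'c
    haveI := hG.1
    obtain ⟨T, hTr⟩ := hG.2.2.1
    have hι : Function.Injective ι := hG.2.1.1
    set O : Subgroup G := pCore p G with hO
    set Z : Subgroup G := (Subgroup.center ↥O).map O.subtype with hZ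
    have hOT : O ≤ (T : Subgroup G) := pCore_le_sylow T
    have hZO : ∀ v ∈ Z, ∀ o ∈ O, v * o = o * v := by
      rintro _ ⟨v, hv, rfl⟩ o ho
      rw [SetLike.mem_coe, Subgroup.mem_center_iff] at hv
      exact congrArg Subtype.val (hv ⟨o, ho⟩).symm
    have hZle : Z ≤ O := by rintro _ ⟨v, -, rfl⟩; exact v.2
    have hZab : ∀ v ∈ Z, ∀ w ∈ Z, v * w = w * v := fun v hv w hw => hZO v hv w (hZle hw)
    haveI hOn : O.Normal := by rw [hO]; infer_instance
    haveI hZn : Z.Normal := by rw [hZ]; infer_instance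
    by_cases hcen : ∀ t ∈ (T : Subgroup G), ∀ a ∈ Z, t * a = a * t
    · have hn : F.IsNormal (pz p n S) := by
        refine normal_of_real hG.2.1 pz_le fun g x hx => ?_
        obtain ⟨y, hy, hyc, rfl⟩ := mem_pz.1 hx
        have hyO : tf ι y ∈ O := by
          have h1 := mem_centric_of_central hQ'c hy hyc
          exact (mem_preimageAlong.1 (le_preimage_pCore hG (isPGroup_of_le hS hQ'n.1) hQ'n h1)).2
        have hyZ : tf ι y ∈ Z := by
          refine ⟨⟨tf ι y, hyO⟩, ?_, rfl⟩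
          rw [SetLike.mem_coe, Subgroup.mem_center_iff]
          intro u
          apply Subtype.ext
          show (u : G) * tf ι y = tf ι y * (u : G)
          have hu : (u : G) ∈ ι.range := by rw [← hTr]; exact hOT u.2
          obtain ⟨a, ha⟩ := hu
          rw [← ha, ← tf_coe, ← tf_mul a.2 hy, hyc a a.2, tf_mul hy a.2]
        have hgZ := hZn.conj_mem _ hyZ g
        have hgr : g * tf ι y * g⁻¹ ∈ ι.range := by rw [← hTr]; exact hOT (hZle hgZ)
        obtain ⟨y', hy'⟩ := hgr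
        refine ⟨(y' : Ω) ^ p ^ n, mem_pz.2 ⟨y', y'.2, fun s hs => ?_, rfl⟩, ?_⟩
        · apply tf_inj hι (mul_mem hs y'.2) (mul_mem y'.2 hs)
          rw [tf_mul hs y'.2, tf_mul y'.2 hs, tf_coe, hy']
          exact hcen _ (by rw [hTr]; exact tf_mem_range hs) _ hgZ
        · have h3 : tf ι (y ^ p ^ n) = tf ι y ^ p ^ n := by
            rw [tf_apply _ hy, tf_apply _ (pow_mem hy _)]
            have : (⟨y ^ p ^ n, pow_mem hy _⟩ : S) = ⟨y, hy⟩ ^ p ^ n := rfl
            rw [this, map_pow]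
          have h4 : tf ι ((y' : Ω) ^ p ^ n) = tf ι y' ^ p ^ n := by
            rw [tf_apply _ y'.2, tf_apply _ (pow_mem y'.2 _)]
            have : (⟨(y' : Ω) ^ p ^ n, pow_mem y'.2 _⟩ : S) = y' ^ p ^ n := rfl
            rw [this, map_pow]
          rw [h3, h4, ← conj_pow, tf_coe, hy']
      rw [le_iff_mor]
      intro P f hf
      obtain ⟨g, hg, h3, h4⟩ := (isNormal_iff.1 hn).2 P f hf
      exact h2 P f ⟨hf, g, hg, h3, h4⟩
    · push Not at hcen
      have hcl : Subgroup.lowerCentralSeries (T : Subgroup G) (n * (p - 1) + 1) = ⊥ := by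
        rw [hTr]; exact lcs_range ι h1
      obtain ⟨d, hdT, ⟨a, ha, hda⟩, hd⟩ := exists_pn_centralizing T.isPGroup' (hZle.trans hOT)
        (fun t _ a ha => hZn.conj_mem a ha t) hZab hcl hcen
      obtain ⟨X, hX, hXab, hXz, hXC⟩ := exists_X_of_model hS hG hQ'n hQ'c n ⟨d, by
        rw [← hTr]; exact hdT, fun h => hda (hZO a ha d h).symm, hd⟩
      refine le_of_factorization hS hF hX hXab hXC IH2 fun P c hc hXP hcf => h2 P c ⟨hc, c, ?_,
        fun _ _ => rfl, img_of_fix fun v hv => hcf v (hXz hv)⟩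
      rw [sup_eq_left.2 (hXz.trans hXP)]
      exact hc
  · rintro Ω _ S _ F E hS hF hcore hcen hin IH1 IH2 ⟨h0, h1, h2⟩
    have hQ : F.IsNormal F.core := core_normal
    obtain ⟨Ω', _, S', θ, F', E', hE1, hE2, hF's, hS', _, hcard⟩ := exists_factor2 hS hF hQ E
    haveI : Finite F.core := finite_of_le hQ.1
    have hr := hE1.2.2.1
    have hc2 : 1 < Nat.card F.core := by
      rw [← Nat.card_unique (α := (⊥ : Subgroup Ω))]
      exact card_lt_of_lt' (bot_lt_iff_ne_bot.2 hcore)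
    have hS'pos : 0 < Nat.card S' := Nat.card_pos
    have hlt : Nat.card S' < Nat.card S := by
      rw [hcard]; nlinarith
    by_cases hpz : pz p n S' = ⊥
    · have h3 : pz p n S ≤ F.core := by
        intro z hz
        have h4 := pz_tf hr hz
        rw [hpz, Subgroup.mem_bot] at h4
        exact (factor_ker hE1 (pz_le hz)).1 h4
      rw [le_iff_mor]
      intro P f hf
      obtain ⟨g, hg, h4, h5⟩ := extend_fix hQ hin h3 pz_comm hf
      exact h2 P f ⟨hf, g, hg, h4, img_of_fix h5⟩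
    · refine le_of_quot hS hF hQ hin hE1 hE2 (IH1 Ω' S' F' E' hlt hS' hF's ⟨hpz, ?_, ?_⟩)
      · rw [← hr]; exact lcs_range θ h1
      · rintro X' f' ⟨hf', h3⟩
        exact quot_nn hS hF hQ (fun V hV => le_core hV) IH2 hE1 hE2 pz_le hpz pz_normalizer hf' h3

theorem pz_isNormal [Fact p.Prime] {Ω : Type u} [Group Ω] {S : Subgroup Ω} [Finite S]
    {F : FusionSystem S} (hS : IsPGroup p S) (hF : F.IsSaturated p)
    (hcl : Subgroup.lowerCentralSeries S (n * (p - 1) + 1) = ⊥) : F.IsNormal (pz p n S) := by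
  by_cases h : pz p n S = ⊥
  · rw [h]; exact isNormal_bot
  have h1 : F ≤ normS F (pz p n S) pz_le pz_normalizer :=
    gmach gm_condP _ Ω S F _ le_rfl hS hF ⟨h, hcl, by
      rintro X f ⟨hf, g, hg, h1, h2⟩
      exact mor_normS.2 ⟨hf.le, g, hg, h1, h2⟩⟩
  exact normS_eq_iff.1 (fs_le_antisymm normS_le h1)

/-- The exponent of the second centre modulo the centre. -/
theorem pow_mem_center {G : Type*} [Group G] {e : ℕ} (he : ∀ z ∈ Subgroup.center G, z ^ e = 1) {x : G}
    (hx : ∀ y, ⁅x, y⁆ ∈ Subgroup.center G) : x ^ e ∈ Subgroup.center G := by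
  rw [Subgroup.mem_center_iff]
  intro y
  have h1 : ∀ k : ℕ, x ^ k * y = ⁅x, y⁆ ^ k * y * x ^ k := by
    intro k
    induction k with
    | zero => simp
    | succ k ih =>
      have hc : ∀ j : ℕ, ∀ w, w * ⁅x, y⁆ ^ j = ⁅x, y⁆ ^ j * w := fun j w =>
        Subgroup.mem_center_iff.1 (pow_mem (hx y) j) w
      have h2 : x * y = ⁅x, y⁆ * y * x := by rw [commutatorElement_def]; group
      calc x ^ (k + 1) * y = x * (x ^ k * y) := by rw [pow_succ']; group
        _ = x * ⁅x, y⁆ ^ k * y * x ^ k := by rw [ih]; group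
        _ = ⁅x, y⁆ ^ k * (x * y) * x ^ k := by rw [hc k x]; group
        _ = ⁅x, y⁆ ^ (k + 1) * y * x ^ (k + 1) := by rw [h2, pow_succ, pow_succ']; group
  have h2 := h1 e
  rw [he _ (hx y), one_mul] at h2
  exact h2.symm

/-- The exponent of a nilpotent group in terms of the exponent of its centre. -/
theorem pow_eq_one_of_center {e : ℕ} : ∀ (c : ℕ) (G : Type u) [Group G],
    (⊤ : Subgroup G).lowerCentralSeries c = ⊥ → (∀ z ∈ Subgroup.center G, z ^ e = 1) →
      ∀ x : G, x ^ e ^ c = 1 := by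
  intro c
  induction c with
  | zero =>
    intro G _ h _ x
    have : x ∈ (⊥ : Subgroup G) := by rw [← h]; exact Subgroup.mem_top x
    rw [Subgroup.mem_bot.1 this, one_pow]
  | succ c ih =>
    intro G _ h he x
    have hle : (⊤ : Subgroup G).lowerCentralSeries c ≤ Subgroup.center G := by
      intro y hy
      rw [Subgroup.mem_center_iff]
      intro g
      have h1 : ⁅y, g⁆ ∈ (⊤ : Subgroup G).lowerCentralSeries (c + 1) := by
        rw [Subgroup.lowerCentralSeries_succ]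
        exact Subgroup.commutator_mem_commutator hy (Subgroup.mem_top g)
      rw [h, Subgroup.mem_bot] at h1
      exact (commutatorElement_eq_one_iff_mul_comm.1 h1).symm
    have h1 : (⊤ : Subgroup (G ⧸ Subgroup.center G)).lowerCentralSeries c = ⊥ := by
      have h2 : (⊤ : Subgroup (G ⧸ Subgroup.center G)) =
          (⊤ : Subgroup G).map (QuotientGroup.mk' (Subgroup.center G)) := by
        rw [← MonoidHom.range_eq_map, QuotientGroup.range_mk']
      rw [h2, ← Subgroup.map_lowerCentralSeries, eq_bot_iff]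
      rintro _ ⟨y, hy, rfl⟩
      rw [Subgroup.mem_bot]
      exact (QuotientGroup.eq_one_iff y).2 (hle hy)
    have h2 := ih (G ⧸ Subgroup.center G) h1 (fun z hz => by
      obtain ⟨y, rfl⟩ := QuotientGroup.mk'_surjective (Subgroup.center G) z
      have h3 : ∀ w, ⁅y, w⁆ ∈ Subgroup.center G := by
        intro w
        have h4 := (Subgroup.mem_center_iff.1 hz) (QuotientGroup.mk' _ w)
        rw [← QuotientGroup.eq_one_iff]
        show QuotientGroup.mk' (Subgroup.center G) ⁅y, w⁆ = 1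
        rw [map_commutatorElement]
        exact commutatorElement_eq_one_iff_mul_comm.2 h4.symm
      rw [← map_pow]
      exact (QuotientGroup.eq_one_iff _).2 (pow_mem_center he h3)) (QuotientGroup.mk' _ x)
    rw [← map_pow] at h2
    have h3 : x ^ e ^ c ∈ Subgroup.center G := (QuotientGroup.eq_one_iff _).1 h2
    rw [pow_succ, pow_mul]
    exact he _ h3

end
end Cfsg.Agent.H28
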