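import Mathlib
import Cfsg.Agent.H1.Hall

/-!
Pairs of transvections on a finite abelian `p`-group.
-/

set_option autoImplicit false

namespace Cfsg.Agent.H28

universe u v

section
variable {E : Type u} [CommGroup E] {p : ℕ}

/-- The homomorphism `x ↦ α(x) x⁻¹`. -/
def dl (α : MulAut E) : E →* E where
  toFun x := α x * x⁻¹
  map_one' := by rw [map_one, inv_one, mul_one]
  map_mul' x y := by
    rw [map_mul, mul_inv]
    exact mul_mul_mul_comm _ _ _ _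

theorem dl_apply (α : MulAut E) (x : E) : dl α x = α x * x⁻¹ := rfl

/-- The commutator subgroup. -/
def Um (α : MulAut E) : Subgroup E := (dl α).range

/-- The fixed subgroup. -/
def Cf (α : MulAut E) : Subgroup E := (dl α).ker

theorem mem_Cf {α : MulAut E} {x : E} : x ∈ Cf α ↔ α x = x := by
  show dl α x = 1 ↔ _
  rw [dl_apply, mul_inv_eq_one]

theorem mem_Um {α : MulAut E} {x : E} : x ∈ Um α ↔ ∃ y, α y * y⁻¹ = x := Iff.rfl

theorem dl_mem_Um (α : MulAut E) (x : E) : α x * x⁻¹ ∈ Um α := ⟨x, rfl⟩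

/-- Transvections. -/
structure IsTv (p : ℕ) (α : MulAut E) : Prop where
  pow : ∃ k, α ^ p ^ k = 1
  card : Nat.card (Um α) = p

theorem pow_mem_of_fix (α : MulAut E) {U : Subgroup E} (hU : ∀ u ∈ U, α u = u) (n : ℕ) :
    ∀ u ∈ U, (α ^ n) u = u := by
  induction n with
  | zero => intro u _; rw [pow_zero]; rfl
  | succ n ih => intro u hu; rw [pow_succ, MulAut.mul_apply, hU u hu, ih u hu]

theorem zpow_of_fix (α : MulAut E) {U : Subgroup E} (hU : ∀ u ∈ U, α u = u) (n : ℤ) :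
    ∀ u ∈ U, (α ^ n) u = u := by
  intro u hu
  cases n with
  | ofNat n => rw [Int.ofNat_eq_natCast, zpow_natCast]; exact pow_mem_of_fix α hU n u hu
  | negSucc n =>
    rw [zpow_negSucc]
    have h1 := pow_mem_of_fix α hU (n + 1) u hu
    conv_lhs => rw [← h1]
    rw [MulAut.inv_apply_self]

/-- An automorphism acting trivially on `U` and on `E/U`. -/
theorem pow_of_chain {U : Subgroup E} {δ : MulAut E} (h1 : ∀ x, δ x * x⁻¹ ∈ U) (h2 : ∀ u ∈ U, δ u = u)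
    (n : ℕ) (x : E) : (δ ^ n) x = x * (δ x * x⁻¹) ^ n := by
  induction n with
  | zero => simp
  | succ n ih =>
    rw [pow_succ', MulAut.mul_apply, ih, map_mul, map_pow, h2 _ (h1 x), pow_succ]
    have h3 : δ x = x * (δ x * x⁻¹) := by rw [mul_comm (δ x), mul_inv_cancel_left]
    calc δ x * (δ x * x⁻¹) ^ n = x * (δ x * x⁻¹) * (δ x * x⁻¹) ^ n := by rw [← h3]
      _ = x * ((δ x * x⁻¹) ^ n * (δ x * x⁻¹)) := by
        rw [mul_assoc, mul_comm (δ x * x⁻¹) ((δ x * x⁻¹) ^ n)]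

variable [Finite E]

theorem pElement_of_chain (hE : IsPGroup p E) {U : Subgroup E} {δ : MulAut E}
    (h1 : ∀ x, δ x * x⁻¹ ∈ U) (h2 : ∀ u ∈ U, δ u = u) [Fact p.Prime] : ∃ j, δ ^ p ^ j = 1 := by
  obtain ⟨n, hn⟩ := IsPGroup.iff_card.1 hE
  refine ⟨n, ?_⟩
  ext x
  rw [pow_of_chain h1 h2, ← hn, pow_card_eq_one', mul_one]
  rfl

/-- The stabilizer lemma: `β` arbitrary modulo `U`. -/
theorem isPGroup_closure (hE : IsPGroup p E) [Fact p.Prime] {U : Subgroup E} {α β : MulAut E}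
    (h1 : ∀ x, α x * x⁻¹ ∈ U) (h2 : ∀ u ∈ U, α u = u) (h3 : ∀ u ∈ U, β u = u) {k : ℕ}
    (h4 : β ^ p ^ k = 1) : IsPGroup p (Subgroup.closure ({α, β} : Set (MulAut E))) := by
  have key : ∀ δ ∈ Subgroup.closure ({α, β} : Set (MulAut E)), (∀ u ∈ U, δ u = u) ∧
      ∃ n : ℤ, ∀ x, δ x * ((β ^ n) x)⁻¹ ∈ U := by
    intro δ hδ
    induction hδ using Subgroup.closure_induction with
    | mem δ hδ =>
      rcases hδ with rfl | rfl
      · exact ⟨h2, 0, fun x => by rw [zpow_zero]; exact h1 x⟩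
      · exact ⟨h3, 1, fun x => by rw [zpow_one, mul_inv_cancel]; exact one_mem _⟩
    | one => exact ⟨fun _ _ => rfl, 0, fun x => by rw [zpow_zero, mul_inv_cancel]; exact one_mem _⟩
    | mul δ ε _ _ ih1 ih2 =>
      obtain ⟨a1, n, hn⟩ := ih1
      obtain ⟨a2, m, hm⟩ := ih2
      refine ⟨fun u hu => by rw [MulAut.mul_apply, a2 u hu, a1 u hu], n + m, fun x => ?_⟩
      have h5 := hm x
      have h6 := hn ((β ^ m) x)
      have h7 : δ (ε x) = δ ((β ^ m) x) * (ε x * ((β ^ m) x)⁻¹) := by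
        conv_rhs => rw [← a1 _ h5]
        rw [← map_mul, mul_comm (ε x), mul_inv_cancel_left]
      rw [MulAut.mul_apply, zpow_add, MulAut.mul_apply, h7, mul_right_comm]
      exact mul_mem h6 h5
    | inv δ _ ih =>
      obtain ⟨a1, n, hn⟩ := ih
      have a1' : ∀ u ∈ U, δ⁻¹ u = u := by
        intro u hu
        conv_lhs => rw [← a1 u hu]
        rw [MulAut.inv_apply_self]
      refine ⟨a1', -n, fun x => ?_⟩
      have h5 := hn (δ⁻¹ x)
      rw [MulAut.apply_inv_self] at h5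
      have h6 : (β ^ (-n)) (x * ((β ^ n) (δ⁻¹ x))⁻¹) = x * ((β ^ n) (δ⁻¹ x))⁻¹ := zpow_of_fix β h3 (-n) _ h5
      have h7 : (β ^ (-n)) ((β ^ n) (δ⁻¹ x)) = δ⁻¹ x := by
        rw [← MulAut.mul_apply, ← zpow_add, neg_add_cancel, zpow_zero]; rfl
      rw [map_mul, map_inv, h7] at h6
      have h8 : δ⁻¹ x * ((β ^ (-n)) x)⁻¹ = (x * ((β ^ n) (δ⁻¹ x))⁻¹)⁻¹ := by
        rw [← h6, mul_inv, inv_inv, mul_comm]
      rw [h8]; exact inv_mem h5
  intro δ
  obtain ⟨a1, n, hn⟩ := key δ δ.2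
  have h5 : ∀ (m : ℕ) x, ((δ : MulAut E) ^ m) x * ((β ^ (n * m)) x)⁻¹ ∈ U := by
    intro m
    induction m with
    | zero => intro x; rw [pow_zero, Nat.cast_zero, mul_zero, zpow_zero, mul_inv_cancel]; exact one_mem _
    | succ m ih =>
      intro x
      have h6 := hn x
      have h7 := ih ((β ^ n) x)
      have h8 : ((δ : MulAut E) ^ m) ((δ : MulAut E) x) =
          ((δ : MulAut E) ^ m) ((β ^ n) x) * ((δ : MulAut E) x * ((β ^ n) x)⁻¹) := by
        conv_rhs => rw [← pow_mem_of_fix (δ : MulAut E) a1 m _ h6]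
        rw [← map_mul, mul_comm ((δ : MulAut E) x), mul_inv_cancel_left]
      rw [pow_succ, MulAut.mul_apply, h8, mul_right_comm]
      have h9 : (β ^ (n * ((m + 1 : ℕ) : ℤ))) x = (β ^ (n * (m : ℤ))) ((β ^ n) x) := by
        rw [← MulAut.mul_apply, ← zpow_add]
        congr 2
        push_cast; ring
      rw [h9]
      exact mul_mem h7 h6
  have h6 : ∀ x, ((δ : MulAut E) ^ p ^ k) x * x⁻¹ ∈ U := by
    intro x
    have h7 := h5 (p ^ k) x
    rw [mul_comm n, zpow_mul, zpow_natCast, h4, one_zpow] at h7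
    exact h7
  obtain ⟨j, hj⟩ := pElement_of_chain hE h6 (fun u hu => pow_mem_of_fix (δ : MulAut E) a1 _ u hu)
  refine ⟨k + j, ?_⟩
  apply Subtype.ext
  push_cast
  rw [pow_add, pow_mul]
  exact hj

theorem fix_of_prime [hp : Fact p.Prime] {α : MulAut E} {u : E} (hu : orderOf u = p)
    (h : α u ∈ Subgroup.zpowers u) {k : ℕ} (hk : (α ^ p ^ k) u = u) : α u = u := by
  obtain ⟨a, ha⟩ := h
  have ha' : u ^ a = α u := ha
  have h1 : ∀ n : ℕ, (α ^ n) u = u ^ (a ^ n) := by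
    intro n
    induction n with
    | zero => simp
    | succ n ih => rw [pow_succ', MulAut.mul_apply, ih, map_zpow, ← ha', ← zpow_mul, pow_succ']
  rw [h1] at hk
  have h2 : (a ^ p ^ k : ℤ) ≡ 1 [ZMOD (p : ℤ)] := by
    rw [← hu, ← zpow_eq_zpow_iff_modEq, zpow_one, hu]
    exact hk
  have h3 : ((a : ZMod p)) ^ p ^ k = 1 := by
    have := (ZMod.intCast_eq_intCast_iff _ _ _).2 h2
    push_cast at this
    exact this
  rw [ZMod.pow_card_pow] at h3
  have h4 : a ≡ 1 [ZMOD (p : ℤ)] := (ZMod.intCast_eq_intCast_iff _ _ _).1 (by push_cast; exact h3)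
  rw [← ha', ← zpow_one u, ← zpow_mul, one_mul, zpow_eq_zpow_iff_modEq, hu]
  exact h4

theorem zpowers_eq_of_card [hp : Fact p.Prime] {U : Subgroup E} (hU : Nat.card U = p) {u : E} (hu : u ∈ U)
    (h1 : u ≠ 1) : Subgroup.zpowers u = U ∧ orderOf u = p := by
  have h2 : orderOf u = p := by
    have h3 : orderOf u ∣ p := by
      rw [← hU]
      have := orderOf_dvd_natCard (⟨u, hu⟩ : U)
      rwa [Subgroup.orderOf_mk] at this
    rcases (Nat.dvd_prime hp.out).1 h3 with h | h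
    · exact absurd (orderOf_eq_one_iff.1 h) h1
    · exact h
  refine ⟨?_, h2⟩
  apply Subgroup.eq_of_le_of_card_ge
  · rwa [Subgroup.zpowers_le]
  · rw [Nat.card_zpowers, h2, hU]

theorem IsTv.fix [hp : Fact p.Prime] {α : MulAut E} (h : IsTv p α) : ∀ u ∈ Um α, α u = u := by
  intro u hu
  by_cases h1 : u = 1
  · rw [h1, map_one]
  obtain ⟨h2, h3⟩ := zpowers_eq_of_card h.card hu h1
  obtain ⟨k, hk⟩ := h.pow
  refine fix_of_prime h3 ?_ (k := k) (by rw [hk]; rfl)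
  rw [h2]
  obtain ⟨x, rfl⟩ := hu
  show α (α x * x⁻¹) ∈ Um α
  rw [map_mul, map_inv]
  exact ⟨α x, rfl⟩

theorem IsTv.le [hp : Fact p.Prime] {α : MulAut E} (h : IsTv p α) : Um α ≤ Cf α :=
  fun u hu => mem_Cf.2 (h.fix u hu)

theorem IsTv.index {α : MulAut E} (h : IsTv p α) : (Cf α).index = p := by
  rw [Cf, Subgroup.index_ker]; exact h.card

theorem IsTv.ne_one [hp : Fact p.Prime] {α : MulAut E} (h : IsTv p α) : α ≠ 1 := by
  rintro rfl
  have h1 : Um (1 : MulAut E) = ⊥ := by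
    rw [eq_bot_iff]
    rintro _ ⟨x, rfl⟩
    show x * x⁻¹ ∈ (⊥ : Subgroup E)
    rw [mul_inv_cancel]; exact one_mem _
  have h2 := h.card
  rw [h1, Subgroup.card_bot] at h2
  exact hp.out.one_lt.ne h2

section pair
variable [hp : Fact p.Prime] (hE : IsPGroup p E) {α β : MulAut E} (hα : IsTv p α) (hβ : IsTv p β)
  (hn : ¬ IsPGroup p (Subgroup.closure ({α, β} : Set (MulAut E))))
include hE hα hβ hn

theorem um_inf : Um α ⊓ Um β = ⊥ := by
  by_contra h
  rw [Subgroup.eq_bot_iff_forall] at h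
  push Not at h
  obtain ⟨u, hu, hu1⟩ := h
  have h1 := (zpowers_eq_of_card hα.card hu.1 hu1).1
  have h2 := (zpowers_eq_of_card hβ.card hu.2 hu1).1
  apply hn
  obtain ⟨k, hk⟩ := hβ.pow
  refine isPGroup_closure hE (U := Um α) (dl_mem_Um α) hα.fix ?_ hk
  rw [← h1, h2]
  exact hβ.fix

theorem card_V : Nat.card (Um α ⊔ Um β : Subgroup E) = p ^ 2 := by
  have h1 := um_inf hE hα hβ hn
  have h2 := H1.card_sup_mul_card_inf_of_le_normalizer (H := Um α) (K := Um β)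
    (by rw [Subgroup.normalizer_eq_top]; exact le_top)
  rw [h1, Subgroup.card_bot, mul_one, hα.card, hβ.card] at h2
  rw [h2, sq]

theorem V_inf_C_aux (hβα : ¬ Um β ≤ Cf α) {w : E} (hw : w ∈ Um α ⊔ Um β) (hwα : w ∈ Cf α) (hwβ : w ∈ Cf β)
    (hw1 : w ≠ 1) : False := by
  obtain ⟨a, ha, b, hb, rfl⟩ := Subgroup.mem_sup.1 hw
  rw [mem_Cf, map_mul, hα.fix a ha] at hwα
  have h1 : α b = b := mul_left_cancel hwα
  have hb1 : b = 1 := by
    by_contra hb1
    apply hβα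
    rw [← (zpowers_eq_of_card hβ.card hb hb1).1, Subgroup.zpowers_le]
    exact mem_Cf.2 h1
  subst hb1
  rw [mul_one] at hwβ hw1
  apply hn
  obtain ⟨k, hk⟩ := hβ.pow
  refine isPGroup_closure hE (U := Um α) (dl_mem_Um α) hα.fix ?_ hk
  intro u hu
  rw [← (zpowers_eq_of_card hα.card ha hw1).1] at hu
  have h2 : Subgroup.zpowers a ≤ Cf β := by rwa [Subgroup.zpowers_le]
  exact mem_Cf.1 (h2 hu)

end pair

section pair2
variable [hp : Fact p.Prime] (hE : IsPGroup p E) {α β : MulAut E} (hα : IsTv p α) (hβ : IsTv p β)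
  (hn : ¬ IsPGroup p (Subgroup.closure ({α, β} : Set (MulAut E))))
include hE hα hβ hn

theorem V_inf_C : (Um α ⊔ Um β) ⊓ (Cf α ⊓ Cf β) = ⊥ := by
  by_contra h
  rw [Subgroup.eq_bot_iff_forall] at h
  push Not at h
  obtain ⟨w, hw, hw1⟩ := h
  by_cases h1 : Um β ≤ Cf α
  · by_cases h2 : Um α ≤ Cf β
    · apply hn
      obtain ⟨k, hk⟩ := hβ.pow
      have h3 : Um α ⊔ Um β ≤ Cf α := sup_le hα.le h1
      have h4 : Um α ⊔ Um β ≤ Cf β := sup_le h2 hβ.le
      exact isPGroup_closure hE (U := Um α ⊔ Um β) (fun x => le_sup_left (b := Um β) (dl_mem_Um α x))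
        (fun u hu => mem_Cf.1 (h3 hu)) (fun u hu => mem_Cf.1 (h4 hu)) hk
    · rw [Set.pair_comm] at hn
      exact V_inf_C_aux hE hβ hα hn h2 (by rw [sup_comm]; exact hw.1) hw.2.2 hw.2.1 hw1
  · exact V_inf_C_aux hE hα hβ hn h1 hw.1 hw.2.1 hw.2.2 hw1

theorem V_sup_C : (Um α ⊔ Um β) ⊔ (Cf α ⊓ Cf β) = ⊤ := by
  have h1 := V_inf_C hE hα hβ hn
  have h2 := card_V hE hα hβ hn
  have h3 := H1.card_sup_mul_card_inf_of_le_normalizer (H := Um α ⊔ Um β) (K := Cf α ⊓ Cf β)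
    (by rw [Subgroup.normalizer_eq_top]; exact le_top)
  rw [h1, Subgroup.card_bot, mul_one, h2] at h3
  have h4 : (Cf α ⊓ Cf β).index ≤ p * p := by
    have := Subgroup.index_inf_le (H := Cf α) (K := Cf β)
    rwa [hα.index, hβ.index] at this
  have h5 := Subgroup.card_mul_index (Cf α ⊓ Cf β)
  apply Subgroup.eq_top_of_le_card
  rw [h3, ← h5, mul_comm]
  exact Nat.mul_le_mul_right _ (h4.trans (by rw [sq]))

theorem exists_decomp (x : E) : ∃ v ∈ Um α ⊔ Um β, ∃ c ∈ Cf α ⊓ Cf β, v * c = x := by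
  have h1 : x ∈ (Um α ⊔ Um β) ⊔ (Cf α ⊓ Cf β) := by
    rw [V_sup_C hE hα hβ hn]; trivial
  exact Subgroup.mem_sup.1 h1

theorem card_C : Nat.card E = p ^ 2 * Nat.card (Cf α ⊓ Cf β : Subgroup E) := by
  have h1 := V_inf_C hE hα hβ hn
  have h2 := card_V hE hα hβ hn
  have h3 := H1.card_sup_mul_card_inf_of_le_normalizer (H := Um α ⊔ Um β) (K := Cf α ⊓ Cf β)
    (by rw [Subgroup.normalizer_eq_top]; exact le_top)
  rw [h1, Subgroup.card_bot, mul_one, h2, V_sup_C hE hα hβ hn, Subgroup.card_top] at h3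
  exact h3

theorem exists_inversion : ∃ m : ℕ, (∀ v ∈ Um α ⊔ Um β, ((α ^ m * β * α ^ m) ^ 2) v = v⁻¹) ∧
    ∀ c ∈ Cf α ⊓ Cf β, (α ^ m * β * α ^ m) c = c := by
  classical
  have hp0 := hp.out
  obtain ⟨e, he, he1⟩ : ∃ e ∈ Um α, e ≠ 1 := by
    by_contra h
    push Not at h
    have h1 := hα.card
    rw [(Subgroup.eq_bot_iff_forall _).2 h, Subgroup.card_bot] at h1
    exact hp0.one_lt.ne h1
  obtain ⟨f, hf, hf1⟩ : ∃ e ∈ Um β, e ≠ 1 := by
    by_contra h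
    push Not at h
    have h1 := hβ.card
    rw [(Subgroup.eq_bot_iff_forall _).2 h, Subgroup.card_bot] at h1
    exact hp0.one_lt.ne h1
  obtain ⟨he2, he3⟩ := zpowers_eq_of_card hα.card he he1
  obtain ⟨hf2, hf3⟩ := zpowers_eq_of_card hβ.card hf hf1
  have hαe := hα.fix e he
  have hβf := hβ.fix f hf
  have hinf := V_inf_C hE hα hβ hn
  obtain ⟨a, ha⟩ : ∃ a : ℤ, e ^ a = α f * f⁻¹ := by
    have : α f * f⁻¹ ∈ Subgroup.zpowers e := by rw [he2]; exact dl_mem_Um α f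
    exact this
  obtain ⟨b, hb⟩ : ∃ b : ℤ, f ^ b = β e * e⁻¹ := by
    have : β e * e⁻¹ ∈ Subgroup.zpowers f := by rw [hf2]; exact dl_mem_Um β e
    exact this
  have hαf : α f = e ^ a * f := by rw [ha, inv_mul_cancel_right]
  have hβe : β e = f ^ b * e := by rw [hb, inv_mul_cancel_right]
  have hpa : ¬ (p : ℤ) ∣ a := by
    rintro ⟨k, rfl⟩
    have h1 : α f = f := by
      rw [hαf, zpow_mul, zpow_natCast, ← he3, pow_orderOf_eq_one, one_zpow, one_mul]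
    have h2 : f ∈ (Um α ⊔ Um β) ⊓ (Cf α ⊓ Cf β) :=
      ⟨le_sup_right (a := Um α) hf, mem_Cf.2 h1, mem_Cf.2 hβf⟩
    rw [hinf, Subgroup.mem_bot] at h2
    exact hf1 h2
  have hpb : ¬ (p : ℤ) ∣ b := by
    rintro ⟨k, rfl⟩
    have h1 : β e = e := by
      rw [hβe, zpow_mul, zpow_natCast, ← hf3, pow_orderOf_eq_one, one_zpow, one_mul]
    have h2 : e ∈ (Um α ⊔ Um β) ⊓ (Cf α ⊓ Cf β) :=
      ⟨le_sup_left (b := Um β) he, mem_Cf.2 hαe, mem_Cf.2 h1⟩
    rw [hinf, Subgroup.mem_bot] at h2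
    exact he1 h2
  -- the exponent
  obtain ⟨m, hm⟩ : ∃ m : ℕ, (p : ℤ) ∣ (m : ℤ) * a * b + 1 := by
    have h1 : ((a : ZMod p)) * b ≠ 0 := by
      intro h
      rcases mul_eq_zero.1 h with h | h
      · exact hpa ((ZMod.intCast_zmod_eq_zero_iff_dvd _ _).1 h)
      · exact hpb ((ZMod.intCast_zmod_eq_zero_iff_dvd _ _).1 h)
    refine ⟨(-((a : ZMod p) * b)⁻¹).val, ?_⟩
    rw [← ZMod.intCast_zmod_eq_zero_iff_dvd]
    push_cast
    rw [ZMod.natCast_val, ZMod.cast_id', id, mul_assoc, neg_mul, inv_mul_cancel₀ h1, neg_add_cancel]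
  have hem : e ^ ((m : ℤ) * a * b + 1) = 1 := by
    obtain ⟨k, hk⟩ := hm
    rw [hk, zpow_mul, zpow_natCast, ← he3, pow_orderOf_eq_one, one_zpow]
  have hfm : f ^ ((m : ℤ) * a * b + 1) = 1 := by
    obtain ⟨k, hk⟩ := hm
    rw [hk, zpow_mul, zpow_natCast, ← hf3, pow_orderOf_eq_one, one_zpow]
  have hαm : ∀ n : ℕ, (α ^ n) f = e ^ ((n : ℤ) * a) * f := by
    intro n
    induction n with
    | zero => simp
    | succ n ih =>
      rw [pow_succ', MulAut.mul_apply, ih, map_mul, map_zpow, hαe, hαf, ← mul_assoc, ← zpow_add]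
      congr 2
      push_cast; ring
  have hαme : (α ^ m) e = e := pow_mem_of_fix α hα.fix m e he
  set w := α ^ m * β * α ^ m with hw
  have hwe : w e = f ^ b := by
    rw [hw, MulAut.mul_apply, MulAut.mul_apply, hαme, hβe, map_mul, map_zpow, hαm, hαme, mul_zpow,
      ← zpow_mul]
    have h1 : e ^ ((m : ℤ) * a * b) * f ^ b * e = e ^ ((m : ℤ) * a * b + 1) * f ^ b := by
      rw [zpow_add, zpow_one, mul_right_comm]
    rw [h1, hem, one_mul]
  have hwf : w f = e ^ ((m : ℤ) * a) := by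
    rw [hw, MulAut.mul_apply, MulAut.mul_apply, hαm, map_mul, map_zpow, hβe, hβf, map_mul, map_zpow,
      map_mul, map_zpow, hαme, hαm, mul_zpow, mul_zpow, ← zpow_mul, mul_zpow, ← zpow_mul, ← zpow_mul]
    have h1 : e ^ ((m : ℤ) * a * b * ((m : ℤ) * a)) * f ^ (b * ((m : ℤ) * a)) * e ^ ((m : ℤ) * a) *
        (e ^ ((m : ℤ) * a) * f) =
        (e ^ ((m : ℤ) * a * b + 1)) ^ ((m : ℤ) * a) * (f ^ ((m : ℤ) * a * b + 1)) * e ^ ((m : ℤ) * a) := by
      rw [← zpow_mul]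
      have e1 : ((m : ℤ) * a * b + 1) * ((m : ℤ) * a) = (m : ℤ) * a * b * ((m : ℤ) * a) + (m : ℤ) * a := by ring
      have e2 : b * ((m : ℤ) * a) = (m : ℤ) * a * b := by ring
      rw [e1, e2, zpow_add e, zpow_add f, zpow_one]
      simp only [mul_assoc, mul_comm, mul_left_comm]
    rw [h1, hem, one_zpow, one_mul, hfm, one_mul]
  have hwe2 : (w ^ 2) e = e⁻¹ := by
    rw [sq, MulAut.mul_apply, hwe, map_zpow, hwf, ← zpow_mul, eq_inv_iff_mul_eq_one, ← hem, zpow_add, zpow_one]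
  have hwf2 : (w ^ 2) f = f⁻¹ := by
    rw [sq, MulAut.mul_apply, hwf, map_zpow, hwe, ← zpow_mul, eq_inv_iff_mul_eq_one, ← hfm, zpow_add, zpow_one]
    congr 2
    ring
  refine ⟨m, ?_, ?_⟩
  · intro v hv
    obtain ⟨y, hy, z, hz, rfl⟩ := Subgroup.mem_sup.1 hv
    rw [← he2] at hy
    rw [← hf2] at hz
    obtain ⟨i, rfl⟩ := hy
    obtain ⟨j, rfl⟩ := hz
    show (w ^ 2) (e ^ i * f ^ j) = (e ^ i * f ^ j)⁻¹
    rw [map_mul, map_zpow, map_zpow, hwe2, hwf2, inv_zpow, inv_zpow, mul_inv]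
  · rintro c ⟨hc1, hc2⟩
    rw [MulAut.mul_apply, MulAut.mul_apply,
      pow_mem_of_fix α (U := Cf α) (fun u hu => mem_Cf.1 hu) m c hc1, mem_Cf.1 hc2,
      pow_mem_of_fix α (U := Cf α) (fun u hu => mem_Cf.1 hu) m c hc1]

end pair2

end
end Cfsg.Agent.H28
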