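import Mathlib
import Cfsg.Agent.H28.Transv1
import Cfsg.Agent.H22.OddPG5
import Cfsg.Agent.H2.GlaubRep
import Cfsg.Agent.H2.Frat
import Cfsg.Agent.H23.Coprime2

/-!
Metacyclic strongly closed subgroups for odd `p`: the group theoretic part.
-/

set_option autoImplicit false

namespace Cfsg.Agent.H28

open Subgroup
open scoped commutatorElement

universe u v

/-! ### Preliminaries -/

section Prelim
variable {G : Type u} [Group G]

/-- The elements acting trivially on `O/Q`. -/
def cmod (O Q : Subgroup G) [O.Normal] [Q.Normal] : Subgroup G where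
  carrier := {g | ∀ o ∈ O, g * o * g⁻¹ * o⁻¹ ∈ Q}
  one_mem' := fun o _ => by simp
  mul_mem' := by
    intro g h hg hh o ho
    have h1 : g * (h * o * h⁻¹ * o⁻¹) * g⁻¹ ∈ Q := Normal.conj_mem inferInstance _ (hh o ho) g
    have h2 := mul_mem h1 (hg o ho)
    have h3 : g * (h * o * h⁻¹ * o⁻¹) * g⁻¹ * (g * o * g⁻¹ * o⁻¹) = g * h * o * (g * h)⁻¹ * o⁻¹ := by group
    rwa [h3] at h2
  inv_mem' := by
    intro g hg o ho
    have h1 := inv_mem (hg o ho)
    have h2 := Normal.conj_mem (H := Q) inferInstance _ h1 g⁻¹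
    have h3 : g⁻¹ * (g * o * g⁻¹ * o⁻¹)⁻¹ * g⁻¹⁻¹ = g⁻¹ * o * g⁻¹⁻¹ * o⁻¹ := by group
    rwa [h3] at h2

theorem mem_cmod {O Q : Subgroup G} [O.Normal] [Q.Normal] {g : G} :
    g ∈ cmod O Q ↔ ∀ o ∈ O, g * o * g⁻¹ * o⁻¹ ∈ Q := Iff.rfl

instance cmod_normal (O Q : Subgroup G) [O.Normal] [Q.Normal] : (cmod O Q).Normal := by
  refine ⟨fun g hg k o ho => ?_⟩
  have h1 : k⁻¹ * o * k⁻¹⁻¹ ∈ O := Normal.conj_mem inferInstance _ ho _
  have h2 := Normal.conj_mem (H := Q) inferInstance _ (hg _ h1) k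
  have h3 : k * (g * (k⁻¹ * o * k⁻¹⁻¹) * g⁻¹ * (k⁻¹ * o * k⁻¹⁻¹)⁻¹) * k⁻¹ =
      k * g * k⁻¹ * o * (k * g * k⁻¹)⁻¹ * o⁻¹ := by group
  rwa [h3] at h2

/-- A subgroup without nontrivial `p'`-elements is a `p`-group. -/
theorem isPGroup_of_pprime [Finite G] {p : ℕ} [Fact p.Prime] {D : Subgroup G}
    (h : ∀ d ∈ D, (orderOf d).Coprime p → d = 1) : IsPGroup p D := by
  intro d
  obtain ⟨a, m, hm, ha⟩ := Nat.exists_eq_pow_mul_and_not_dvd (orderOf_pos (d : G)).ne' p
    (Fact.out : p.Prime).ne_one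
  refine ⟨a, ?_⟩
  have h1 : orderOf ((d : G) ^ p ^ a) = m := by
    rw [orderOf_pow_of_dvd (pow_ne_zero _ (Fact.out : p.Prime).ne_zero) ⟨m, ha⟩, ha,
      Nat.mul_div_cancel_left _ (pow_pos (Fact.out : p.Prime).pos _)]
  have h2 := h _ (pow_mem d.2 (p ^ a)) (by
    rw [h1]; exact ((Nat.Prime.coprime_iff_not_dvd Fact.out).2 hm).symm)
  exact Subtype.ext h2

/-- The `p'`-part of an element. -/
theorem exists_pprime_part [Finite G] (p : ℕ) [Fact p.Prime] (z : G) :
    ∃ a, (orderOf (z ^ p ^ a)).Coprime p := by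
  obtain ⟨a, m, hm, ha⟩ := Nat.exists_eq_pow_mul_and_not_dvd (orderOf_pos z).ne' p
    (Fact.out : p.Prime).ne_one
  refine ⟨a, ?_⟩
  have h1 : orderOf (z ^ p ^ a) = m := by
    rw [orderOf_pow_of_dvd (pow_ne_zero _ (Fact.out : p.Prime).ne_zero) ⟨m, ha⟩, ha,
      Nat.mul_div_cancel_left _ (pow_pos (Fact.out : p.Prime).pos _)]
  rw [h1]; exact ((Nat.Prime.coprime_iff_not_dvd Fact.out).2 hm).symm

/-- The action on the Frattini quotient. -/
theorem exists_vact [Finite G] {p : ℕ} [Fact p.Prime] (Q : Subgroup G) [Q.Normal] (hQ : IsPGroup p Q) :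
    ∃ (E : Type u) (_ : CommGroup E) (_ : Finite E) (π : Q →* E) (ρ : G →* MulAut E),
      Function.Surjective π ∧ (∀ q, π q = 1 ↔ (q : G) ∈ (frattini Q).map Q.subtype) ∧
      (∀ (g : G) (q : Q) (h : g * q * g⁻¹ ∈ Q), ρ g (π q) = π ⟨g * q * g⁻¹, h⟩) ∧
      (∀ v : E, v ^ p = 1) ∧ Nat.card Q = Nat.card E * Nat.card ((frattini Q).map Q.subtype : Subgroup G) := by
  have hcomm : ∀ a b : Q ⧸ frattini Q, a * b = b * a := by
    intro a b
    induction a using QuotientGroup.induction_on with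
    | H a =>
    induction b using QuotientGroup.induction_on with
    | H b =>
    rw [← QuotientGroup.mk_mul, ← QuotientGroup.mk_mul, QuotientGroup.eq]
    have h1 := H2.commutator_le_frattini hQ (Subgroup.commutator_mem_commutator (Subgroup.mem_top b⁻¹)
      (Subgroup.mem_top a⁻¹))
    have h2 : (a * b)⁻¹ * (b * a) = ⁅b⁻¹, a⁻¹⁆ := by rw [commutatorElement_def]; group
    rw [h2]; exact h1
  let E := Q ⧸ frattini Q
  letI : CommGroup E := { (inferInstance : Group (Q ⧸ frattini Q)) with mul_comm := hcomm }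
  have hch : ∀ g : G, (frattini Q).map ((MulAut.conjNormal g : MulAut Q) : Q →* Q) = frattini Q := by
    intro g
    exact Subgroup.characteristic_iff_map_eq.1 inferInstance _
  let ρ : G →* MulAut E :=
    { toFun := fun g => QuotientGroup.congr (frattini Q) (frattini Q) (MulAut.conjNormal g : MulAut Q) (hch g)
      map_one' := by
        ext x
        induction x using QuotientGroup.induction_on with
        | H x =>
        show QuotientGroup.mk _ = QuotientGroup.mk _
        rw [map_one]; rfl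
      map_mul' := by
        intro g h
        ext x
        induction x using QuotientGroup.induction_on with
        | H x =>
        show QuotientGroup.mk _ = QuotientGroup.mk _
        rw [map_mul]; rfl }
  refine ⟨E, inferInstance, inferInstance, QuotientGroup.mk' _, ρ, QuotientGroup.mk'_surjective _, ?_, ?_, ?_, ?_⟩
  · intro q
    rw [← MonoidHom.mem_ker, QuotientGroup.ker_mk']
    constructor
    · intro h; exact ⟨q, h, rfl⟩
    · rintro ⟨q', h1, h2⟩
      rwa [← Subtype.ext h2]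
  · intro g q h
    show QuotientGroup.mk _ = QuotientGroup.mk _
    congr 1
  · intro v
    induction v using QuotientGroup.induction_on with
    | H v =>
    show QuotientGroup.mk _ = _
    rw [QuotientGroup.eq_one_iff]
    exact H2.pow_mem_frattini hQ v
  · rw [Subgroup.card_eq_card_quotient_mul_card_subgroup (frattini Q)]
    congr 1
    exact (Nat.card_congr ((frattini Q).equivMapOfInjective _ (Subgroup.subtype_injective Q)).toEquiv)

end Prelim

section Fix
variable {E : Type u} [CommGroup E] [Finite E] {p : ℕ} [hp : Fact p.Prime]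

theorem exists_common_fixed (hE : IsPGroup p E) [Nontrivial E] {A : Subgroup (MulAut E)}
    (hA : IsPGroup p A) : ∃ v : E, v ≠ 1 ∧ ∀ a ∈ A, a v = v := by
  have h1 : p ∣ Nat.card E := by
    obtain ⟨n, hn0, hn⟩ := (IsPGroup.nontrivial_iff_card hE).1 inferInstance
    rw [hn]; exact dvd_pow_self p hn0.ne'
  have h2 : (1 : E) ∈ MulAction.fixedPoints A E := by
    intro a
    show (a : MulAut E) 1 = 1
    exact map_one _
  obtain ⟨v, hv, hv1⟩ := hA.exists_fixed_point_of_prime_dvd_card_of_fixed_point E h1 h2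
  exact ⟨v, hv1.symm, fun a ha => hv ⟨a, ha⟩⟩

theorem card_um_cf (α : MulAut E) : Nat.card E = Nat.card (Um α) * Nat.card (Cf α) := by
  have h1 := Subgroup.card_eq_card_quotient_mul_card_subgroup (Cf α)
  rw [h1]
  congr 1
  exact Nat.card_congr (QuotientGroup.quotientKerEquivRange (dl α)).toEquiv

theorem isPGroup_zpowers {α : MulAut E} {k : ℕ} (hk : α ^ p ^ k = 1) : IsPGroup p (zpowers α) := by
  rintro ⟨b, n, rfl⟩
  refine ⟨k, Subtype.ext ?_⟩
  show (α ^ n) ^ p ^ k = 1
  rw [← zpow_natCast, ← zpow_mul, mul_comm, zpow_mul, zpow_natCast, hk, one_zpow]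

/-- A nontrivial `p`-automorphism of a group of order `p²` (or less) is a transvection. -/
theorem isTv_of_card (hE : IsPGroup p E) (hc : Nat.card E ≤ p ^ 2) {α : MulAut E} {k : ℕ}
    (hk : α ^ p ^ k = 1) (h1 : α ≠ 1) : IsTv p α ∧ Nat.card E = p ^ 2 ∧ Um α = Cf α := by
  have hnt : Nontrivial E := by
    by_contra h
    rw [not_nontrivial_iff_subsingleton] at h
    apply h1
    ext x
    exact Subsingleton.elim _ _
  obtain ⟨v, hv1, hv⟩ := exists_common_fixed hE (isPGroup_zpowers hk)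
  have hvC : v ∈ Cf α := mem_Cf.2 (hv α (mem_zpowers α))
  have h2 := card_um_cf α
  have hp1 := hp.out.one_lt
  have hC : p ≤ Nat.card (Cf α) := by
    have h3 : Nontrivial (Cf α) := ⟨⟨v, hvC⟩, 1, fun h => hv1 (congrArg Subtype.val h)⟩
    obtain ⟨n, hn0, hn⟩ := (IsPGroup.nontrivial_iff_card (hE.to_subgroup (Cf α))).1 h3
    rw [hn]; exact Nat.le_self_pow hn0.ne' p
  have hU : p ≤ Nat.card (Um α) := by
    have h3 : Nontrivial (Um α) := by
      obtain ⟨x, hx⟩ : ∃ x, α x ≠ x := by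
        by_contra h
        push Not at h
        exact h1 (MulEquiv.ext h)
      refine ⟨⟨_, dl_mem_Um α x⟩, 1, fun h => hx ?_⟩
      have := congrArg Subtype.val h
      exact mul_inv_eq_one.1 this
    obtain ⟨n, hn0, hn⟩ := (IsPGroup.nontrivial_iff_card (hE.to_subgroup (Um α))).1 h3
    rw [hn]; exact Nat.le_self_pow hn0.ne' p
  have hU' : Nat.card (Um α) = p := by
    apply le_antisymm _ hU
    by_contra h
    push Not at h
    have : p * p < Nat.card (Um α) * Nat.card (Cf α) := Nat.mul_lt_mul_of_lt_of_le h hC Nat.card_pos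
    rw [← h2] at this
    nlinarith
  have htv : IsTv p α := ⟨⟨k, hk⟩, hU'⟩
  have hC' : Nat.card (Cf α) = p := by
    apply le_antisymm _ hC
    by_contra h
    push Not at h
    have : p * p < Nat.card (Um α) * Nat.card (Cf α) := by
      rw [hU']; exact Nat.mul_lt_mul_of_pos_left h hp.out.pos
    rw [← h2] at this
    nlinarith
  refine ⟨htv, by rw [h2, hU', hC', sq], ?_⟩
  apply SetLike.coe_injective
  apply Set.eq_of_subset_of_ncard_le htv.le _ (Set.toFinite _)
  show Nat.card (Cf α) ≤ Nat.card (Um α)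
  rw [hC', hU']

/-- Unipotence in order `p²`. -/
theorem sq_of_card (hE : IsPGroup p E) (hc : Nat.card E ≤ p ^ 2) {α : MulAut E} {k : ℕ}
    (hk : α ^ p ^ k = 1) (v : E) : α (α v * v⁻¹) = α v * v⁻¹ := by
  by_cases h1 : α = 1
  · subst h1; rfl
  · exact (isTv_of_card hE hc hk h1).1.fix _ (dl_mem_Um α v)

/-- The stabilizer of `1 ≤ U ≤ E`. -/
def stU (U : Subgroup E) : Subgroup (MulAut E) where
  carrier := {δ | (∀ u ∈ U, δ u = u) ∧ ∀ v, δ v * v⁻¹ ∈ U}
  one_mem' := ⟨fun _ _ => rfl, fun v => by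
    show v * v⁻¹ ∈ U
    rw [mul_inv_cancel]; exact one_mem _⟩
  mul_mem' := by
    rintro a b ⟨a1, a2⟩ ⟨b1, b2⟩
    refine ⟨fun u hu => by rw [MulAut.mul_apply, b1 u hu, a1 u hu], fun v => ?_⟩
    rw [MulAut.mul_apply]
    have h1 := mul_mem (a2 (b v)) (b2 v)
    rwa [mul_assoc, inv_mul_cancel_left] at h1
  inv_mem' := by
    rintro a ⟨a1, a2⟩
    have a1' : ∀ u ∈ U, a⁻¹ u = u := by
      intro u hu
      conv_lhs => rw [← a1 u hu]
      rw [MulAut.inv_apply_self]
    refine ⟨a1', fun v => ?_⟩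
    have h1 := inv_mem (a2 (a⁻¹ v))
    rwa [MulAut.apply_inv_self, mul_inv, inv_inv, mul_comm] at h1

end Fix

end Cfsg.Agent.H28
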