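import Mathlib
import Cfsg.Agent.H28.Metac1
import Cfsg.Agent.H28.FusNormal2

/-!
`p`-groups whose centre has index `p²`.
-/

set_option autoImplicit false

namespace Cfsg.Agent.H28

open Cfsg.FusionSystem

universe u

/-- The commutative group structure on a commutative subgroup. -/
@[reducible] def cg {Ω : Type u} [Group Ω] {E : Subgroup Ω} (h : ∀ a ∈ E, ∀ b ∈ E, a * b = b * a) :
    CommGroup E :=
  { (inferInstance : Group E) with mul_comm := fun a b => Subtype.ext (h a a.2 b b.2) }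

section
variable {Ω : Type u} [Group Ω] {S : Subgroup Ω} {E : Subgroup Ω} {p : ℕ}

theorem le_of_prime_index {A B K : Subgroup Ω} [Finite B] (hp : p.Prime) (hAB : A ≤ B)
    (hc : Nat.card B = p * Nat.card A) (hAK : A ≤ K) {x : Ω} (hxB : x ∈ B) (hxK : x ∈ K)
    (hxA : x ∉ A) : B ≤ K := by
  have hA : Finite A := finite_of_le hAB
  have hD : Finite (K ⊓ B : Subgroup Ω) := finite_of_le inf_le_right
  obtain ⟨m, hm⟩ := Subgroup.card_dvd_of_le (le_inf hAK hAB)
  obtain ⟨n, hn⟩ := Subgroup.card_dvd_of_le (inf_le_right : K ⊓ B ≤ B)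
  have hA0 : 0 < Nat.card A := Nat.card_pos
  have h1 : m * n = p := by
    have : Nat.card A * (m * n) = Nat.card A * p := by rw [← mul_assoc, ← hm, ← hn, hc, mul_comm]
    exact Nat.eq_of_mul_eq_mul_left hA0 this
  have h2 : m ≠ 1 := by
    intro h
    rw [h, mul_one] at hm
    have h3 : A = K ⊓ B := eq_of_le_of_card (le_inf hAK hAB) hm.le
    exact hxA (h3 ▸ (⟨hxK, hxB⟩ : x ∈ K ⊓ B))
  have h3 : m = p := by
    rcases (Nat.dvd_prime hp).1 (Dvd.intro n h1) with h | h
    · exact absurd h h2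
    · exact h
  have h4 : K ⊓ B = B := eq_of_le_of_card inf_le_right (by rw [hm, hc, h3, mul_comm])
  rw [← h4]; exact inf_le_left

variable [hp : Fact p.Prime] [Finite S] (hS : IsPGroup p S)
  (hZ : Nat.card S ≤ p ^ 2 * Nat.card (centralizerIn S S))
  (hES : E ≤ S) (hne : E ≠ S) (hC : centralizerIn S E ≤ E)

include hS hZ hES hne hC

omit hS hZ hne in
theorem ci_le : centralizerIn S S ≤ E := le_trans (centralizerIn_anti hES) hC

theorem ci_card : Nat.card E = p * Nat.card (centralizerIn S S) ∧ Nat.card S = p * Nat.card E := by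
  have hZE := ci_le hES hC
  have hEf : Finite E := finite_of_le hES
  have hZf : Finite (centralizerIn S S) := finite_of_le centralizerIn_le
  have h1 : centralizerIn S S ≠ E := by
    intro h
    apply hne
    apply le_antisymm hES
    rw [← h]
    have h2 : centralizerIn S E ≤ centralizerIn S S := by rw [h]; exact hC
    intro s hs
    apply h2
    rw [← h]
    refine mem_centralizerIn.2 ⟨hs, fun y hy => ?_⟩
    exact ((mem_centralizerIn.1 hy).2 s hs).symm
  obtain ⟨a, ha⟩ := IsPGroup.iff_card.1 (isPGroup_of_le hS (centralizerIn_le (S := S) (P := S)))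
  obtain ⟨b, hb⟩ := IsPGroup.iff_card.1 (isPGroup_of_le hS hES)
  obtain ⟨c, hc⟩ := IsPGroup.iff_card.1 hS
  have hlt1 : Nat.card (centralizerIn S S) < Nat.card E := by
    apply lt_of_le_of_ne (card_le_of_le hZE)
    intro h
    exact h1 (eq_of_le_of_card hZE h.ge)
  have hlt2 : Nat.card E < Nat.card S := by
    apply lt_of_le_of_ne (card_le_of_le hES)
    intro h
    exact hne (eq_of_le_of_card hES h.ge)
  rw [ha, hb] at hlt1
  rw [hb, hc] at hlt2
  rw [ha, hc, ← pow_add] at hZ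
  have hab := (Nat.pow_lt_pow_iff_right hp.out.one_lt).1 hlt1
  have hbc := (Nat.pow_lt_pow_iff_right hp.out.one_lt).1 hlt2
  have hca := (Nat.pow_le_pow_iff_right hp.out.one_lt).1 hZ
  have e1 : b = a + 1 := by omega
  have e2 : c = a + 1 + 1 := by omega
  rw [ha, hb, hc, e2, e1, pow_succ', pow_succ', pow_succ']
  exact ⟨rfl, rfl⟩

theorem ci_comm : ∀ a ∈ E, ∀ b ∈ E, a * b = b * a := by
  have hZE := ci_le hES hC
  have hcard := (ci_card hS hZ hES hne hC).1
  have hEf : Finite E := finite_of_le hES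
  have hcen : ∀ z ∈ centralizerIn S S, ∀ b ∈ E, z * b = b * z := fun z hz b hb =>
    (mem_centralizerIn.1 hz).2 b (hES hb)
  intro a ha b hb
  by_cases haZ : a ∈ centralizerIn S S
  · exact hcen a haZ b hb
  · have h1 : E ≤ centralizerIn E (Subgroup.zpowers a) := by
      apply le_of_prime_index hp.out hZE hcard _ ha _ haZ
      · intro z hz
        refine mem_centralizerIn.2 ⟨hZE hz, ?_⟩
        rintro _ ⟨n, rfl⟩
        exact hcen z hz _ (zpow_mem ha n)
      · refine mem_centralizerIn.2 ⟨ha, ?_⟩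
        rintro _ ⟨n, rfl⟩
        exact (Commute.refl a).zpow_right n
    exact ((mem_centralizerIn.1 (h1 hb)).2 a (Subgroup.mem_zpowers a)).symm

theorem ci_gen {s : Ω} {K : Subgroup Ω} (hs : s ∈ S) (hsE : s ∉ E) (hEK : E ≤ K) (hsK : s ∈ K) :
    S ≤ K :=
  le_of_prime_index hp.out hES (ci_card hS hZ hES hne hC).2 hEK hs hsK hsE

theorem ci_norm : S ≤ Subgroup.normalizer (E : Set Ω) := by
  obtain ⟨s, hs, hsN, hsE⟩ := exists_mem_normalizer_of_isPGroup_lt hS (lt_of_le_of_ne hES hne)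
  exact ci_gen hS hZ hES hne hC hs hsE Subgroup.le_normalizer hsN

theorem ci_fix {s x : Ω} (hs : s ∈ S) (hsE : s ∉ E) (hx : x ∈ E) (h : s * x * s⁻¹ = x) :
    x ∈ centralizerIn S S := by
  have hc := ci_comm hS hZ hES hne hC
  refine mem_centralizerIn.2 ⟨hES hx, ?_⟩
  have h1 : S ≤ centralizerIn S (Subgroup.zpowers x) := by
    apply ci_gen hS hZ hES hne hC hs hsE
    · intro e he
      refine mem_centralizerIn.2 ⟨hES he, ?_⟩
      rintro _ ⟨n, rfl⟩
      exact hc e he _ (zpow_mem hx n)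
    · refine mem_centralizerIn.2 ⟨hs, ?_⟩
      rintro _ ⟨n, rfl⟩
      exact (show Commute s x from mul_inv_eq_iff_eq_mul.1 h).zpow_right n
  intro y hy
  exact ((mem_centralizerIn.1 (h1 hy)).2 x (Subgroup.mem_zpowers x)).symm

/-- The commutator subgroup through one outer element. -/
theorem ci_um {s : Ω} (hs : s ∈ S) (hsE : s ∉ E) :
    letI := cg (ci_comm hS hZ hES hne hC)
    let α := conjAut E s (ci_norm hS hZ hES hne hC hs)
    IsTv p α ∧ (∀ x : E, x ∈ Cf α ↔ (x : Ω) ∈ centralizerIn S S) ∧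
      (∀ x : E, x ∈ Um α ↔ (x : Ω) ∈ ⁅S, S⁆) ∧ Nat.card (⁅S, S⁆ : Subgroup Ω) = p := by
  letI := cg (ci_comm hS hZ hES hne hC)
  intro α
  have hEf : Finite E := finite_of_le hES
  have hZf : Finite (centralizerIn S S) := finite_of_le centralizerIn_le
  have hZE := ci_le hES hC
  have hα : ∀ x : E, (α x : Ω) = s * x * s⁻¹ := fun x => rfl
  have hCf : ∀ x : E, x ∈ Cf α ↔ (x : Ω) ∈ centralizerIn S S := by
    intro x
    rw [mem_Cf]
    constructor
    · intro h
      exact ci_fix hS hZ hES hne hC hs hsE x.2 (by rw [← hα, h])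
    · intro h
      apply Subtype.ext
      rw [hα, mul_inv_eq_iff_eq_mul]
      exact ((mem_centralizerIn.1 h).2 s hs).symm
  have hcardC : Nat.card (Cf α) = Nat.card (centralizerIn S S) := by
    apply Nat.card_congr
    exact
      { toFun := fun x => ⟨(x : E), (hCf x).1 x.2⟩
        invFun := fun z => ⟨⟨z, hZE z.2⟩, (hCf _).2 z.2⟩
        left_inv := fun x => rfl
        right_inv := fun z => rfl }
  have hum : Nat.card (Um α) = p := by
    have h1 := card_um_cf α
    rw [hcardC, (ci_card hS hZ hES hne hC).1] at h1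
    exact (Nat.eq_of_mul_eq_mul_right Nat.card_pos h1).symm
  have hpow : ∃ k, α ^ p ^ k = 1 := by
    obtain ⟨k, hk⟩ := hS ⟨s, hs⟩
    refine ⟨k, ?_⟩
    have h1 : s ^ p ^ k = 1 := congrArg Subtype.val hk
    have h2 : ∀ (n : ℕ) (x : E), ((α ^ n) x : Ω) = s ^ n * x * (s ^ n)⁻¹ := by
      intro n
      induction n with
      | zero => intro x; rw [pow_zero, pow_zero, one_mul, inv_one, mul_one]; rfl
      | succ n ih =>
        intro x
        rw [pow_succ', MulAut.mul_apply, hα, ih, pow_succ']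
        group
    ext x
    rw [h2, h1, one_mul, inv_one, mul_one]; rfl
  have htv : IsTv p α := ⟨hpow, hum⟩
  have hW : ∀ x ∈ (Um α).map E.subtype, x ∈ centralizerIn S S := by
    rintro _ ⟨x, hx, rfl⟩
    exact (hCf x).1 (htv.le hx)
  have hWc : ∀ x ∈ (Um α).map E.subtype, ∀ y ∈ S, y * x * y⁻¹ = x := by
    intro x hx y hy
    rw [((mem_centralizerIn.1 (hW x hx)).2 y hy).symm, mul_inv_cancel_right]
  have key : ∀ a ∈ S, (∀ e ∈ E, a * e * a⁻¹ * e⁻¹ ∈ (Um α).map E.subtype) →
      a * s * a⁻¹ * s⁻¹ ∈ (Um α).map E.subtype → ∀ b ∈ S, a * b * a⁻¹ * b⁻¹ ∈ (Um α).map E.subtype := by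
    intro a ha h1 h2
    let K : Subgroup Ω :=
      { carrier := {b | b ∈ S ∧ a * b * a⁻¹ * b⁻¹ ∈ (Um α).map E.subtype}
        one_mem' := ⟨one_mem _, by
          have : a * 1 * a⁻¹ * 1⁻¹ = 1 := by group
          rw [this]; exact one_mem _⟩
        mul_mem' := by
          rintro b c ⟨hb, hb'⟩ ⟨hc, hc'⟩
          refine ⟨mul_mem hb hc, ?_⟩
          have h3 := mul_mem hb' hc'
          rw [← hWc _ hc' b hb] at h3
          have h4 : a * b * a⁻¹ * b⁻¹ * (b * (a * c * a⁻¹ * c⁻¹) * b⁻¹) = a * (b * c) * a⁻¹ * (b * c)⁻¹ := by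
            group
          rwa [h4] at h3
        inv_mem' := by
          rintro b ⟨hb, hb'⟩
          refine ⟨inv_mem hb, ?_⟩
          have h3 := inv_mem hb'
          rw [← hWc _ h3 b⁻¹ (inv_mem hb)] at h3
          have h4 : b⁻¹ * (a * b * a⁻¹ * b⁻¹)⁻¹ * b⁻¹⁻¹ = a * b⁻¹ * a⁻¹ * b⁻¹⁻¹ := by group
          rwa [h4] at h3 }
    have h3 : S ≤ K := by
      apply ci_gen hS hZ hES hne hC hs hsE
      · intro e he; exact ⟨hES he, h1 e he⟩
      · exact ⟨hs, h2⟩
    intro b hb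
    exact (h3 hb).2
  have hcomm := ci_comm hS hZ hES hne hC
  have hone : ∀ {y : Ω}, y = 1 → y ∈ (Um α).map E.subtype := fun h => h ▸ one_mem _
  have hse : ∀ e ∈ E, s * e * s⁻¹ * e⁻¹ ∈ (Um α).map E.subtype := by
    intro e he
    exact ⟨_, dl_mem_Um α ⟨e, he⟩, rfl⟩
  have hE1 : ∀ e ∈ E, ∀ b ∈ S, e * b * e⁻¹ * b⁻¹ ∈ (Um α).map E.subtype := by
    intro e he
    apply key e (hES he)
    · intro e' he'
      apply hone
      rw [hcomm e he e' he']; group
    · have h1 := inv_mem (hse e he)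
      have h2 : (s * e * s⁻¹ * e⁻¹)⁻¹ = e * s * e⁻¹ * s⁻¹ := by group
      rwa [h2] at h1
  have hS1 : ∀ b ∈ S, s * b * s⁻¹ * b⁻¹ ∈ (Um α).map E.subtype := by
    apply key s hs hse
    apply hone; group
  have hall : ∀ a ∈ S, ∀ b ∈ S, a * b * a⁻¹ * b⁻¹ ∈ (Um α).map E.subtype := by
    intro a ha
    apply key a ha
    · intro e he
      have h1 := inv_mem (hE1 e he a ha)
      have h2 : (e * a * e⁻¹ * a⁻¹)⁻¹ = a * e * a⁻¹ * e⁻¹ := by group
      rwa [h2] at h1
    · have h1 := inv_mem (hS1 a ha)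
      have h2 : (s * a * s⁻¹ * a⁻¹)⁻¹ = a * s * a⁻¹ * s⁻¹ := by group
      rwa [h2] at h1
  have hcm : ⁅S, S⁆ = (Um α).map E.subtype := by
    apply le_antisymm
    · rw [Subgroup.commutator_le]
      intro a ha b hb
      rw [commutatorElement_def]; exact hall a ha b hb
    · rintro _ ⟨x, ⟨y, rfl⟩, rfl⟩
      have h1 := Subgroup.commutator_mem_commutator hs (hES y.2)
      rw [commutatorElement_def] at h1
      exact h1
  refine ⟨htv, hCf, fun x => ?_, ?_⟩
  · rw [hcm]
    constructor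
    · intro h; exact ⟨x, h, rfl⟩
    · rintro ⟨y, hy, hyx⟩
      rwa [← Subtype.ext hyx]
  · rw [hcm, ← hum]
    exact (Nat.card_congr ((Um α).equivMapOfInjective _ (Subgroup.subtype_injective E)).toEquiv).symm

end

end Cfsg.Agent.H28
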