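import Mathlib
import Cfsg.Agent.H28.Metac1

/-!
Groups with a Sylow `p`-subgroup generated by a transvection.
-/

set_option autoImplicit false

namespace Cfsg.Agent.H28

universe u

theorem V_inf_Cf {E : Type u} [CommGroup E] [Finite E] {p : ℕ} [hp : Fact p.Prime] (hE : IsPGroup p E)
    {α β : MulAut E} (hα : IsTv p α) (hβt : IsTv p β)
    (hn : ¬ IsPGroup p (Subgroup.closure ({α, β} : Set (MulAut E)))) :
    (Um α ⊔ Um β) ⊓ Cf α = Um α := by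
  have h1 : Um α ≤ (Um α ⊔ Um β) ⊓ Cf α := le_inf le_sup_left hα.le
  apply le_antisymm _ h1
  -- card argument
  have h2 : ¬ Um β ≤ Cf α := by
    intro h
    have h3 : Um β ≤ (Um α ⊔ Um β) ⊓ (Cf α ⊓ Cf β) := le_inf le_sup_right (le_inf h hβt.le)
    rw [V_inf_C hE hα hβt hn, le_bot_iff] at h3
    have h4 := hβt.card
    rw [h3, Subgroup.card_bot] at h4
    exact hp.out.one_lt.ne h4
  have h3 : (Um α ⊔ Um β) ⊓ Cf α ≠ Um α ⊔ Um β := by
    intro h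
    exact h2 (le_trans le_sup_right (inf_eq_left.1 h))
  obtain ⟨a, ha⟩ := Subgroup.card_dvd_of_le h1
  obtain ⟨b, hb⟩ := Subgroup.card_dvd_of_le (inf_le_left : (Um α ⊔ Um β) ⊓ Cf α ≤ Um α ⊔ Um β)
  rw [card_V hE hα hβt hn, ha, hα.card] at hb
  have hab : a * b = p := by
    have : p * (a * b) = p * p := by rw [← mul_assoc, ← hb, sq]
    exact Nat.eq_of_mul_eq_mul_left hp.out.pos this
  have ha1 : a = 1 := by
    rcases (Nat.dvd_prime hp.out).1 (Dvd.intro b hab) with h | h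
    · exact h
    · exfalso
      apply h3
      apply SetLike.coe_injective
      apply Set.eq_of_subset_of_ncard_le (inf_le_left : (Um α ⊔ Um β) ⊓ Cf α ≤ Um α ⊔ Um β) _ (Set.toFinite _)
      show Nat.card (Um α ⊔ Um β : Subgroup E) ≤ Nat.card ((Um α ⊔ Um β) ⊓ Cf α : Subgroup E)
      rw [card_V hE hα hβt hn, ha, hα.card, h, sq]
  rw [ha1, mul_one] at ha
  have h5 : Um α = (Um α ⊔ Um β) ⊓ Cf α := by
    apply SetLike.coe_injective
    apply Set.eq_of_subset_of_ncard_le h1 _ (Set.toFinite _)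
    exact ha.le
  exact h5.ge

section
variable {E : Type u} [CommGroup E] [Finite E] {p : ℕ} [hp : Fact p.Prime]

theorem IsTv.conj {α : MulAut E} (h : IsTv p α) (γ : MulAut E) : IsTv p (γ * α * γ⁻¹) := by
  obtain ⟨k, hk⟩ := h.pow
  refine ⟨⟨k, by rw [conj_pow, hk, mul_one, mul_inv_cancel]⟩, ?_⟩
  have h1 : Um (γ * α * γ⁻¹) = (Um α).map (γ : E →* E) := by
    ext w
    constructor
    · rintro ⟨y, rfl⟩
      refine ⟨_, dl_mem_Um α (γ⁻¹ y), ?_⟩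
      show γ (α (γ⁻¹ y) * (γ⁻¹ y)⁻¹) = (γ * α * γ⁻¹) y * y⁻¹
      rw [map_mul, MulAut.mul_apply, MulAut.mul_apply, map_inv, MulAut.apply_inv_self]
    · rintro ⟨_, ⟨y, rfl⟩, rfl⟩
      refine ⟨γ y, ?_⟩
      show (γ * α * γ⁻¹) (γ y) * (γ y)⁻¹ = γ (α y * y⁻¹)
      rw [map_mul, MulAut.mul_apply, MulAut.mul_apply, map_inv, MulAut.inv_apply_self]
  rw [h1, ← h.card]
  exact (Nat.card_congr ((Um α).equivMapOfInjective _ γ.injective).toEquiv).symm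

theorem mem_Um_conj {α γ : MulAut E} {w : E} : w ∈ Um (γ * α * γ⁻¹) ↔ γ⁻¹ w ∈ Um α := by
  constructor
  · rintro ⟨y, rfl⟩
    refine ⟨γ⁻¹ y, ?_⟩
    show α (γ⁻¹ y) * (γ⁻¹ y)⁻¹ = γ⁻¹ ((γ * α * γ⁻¹) y * y⁻¹)
    rw [map_mul, MulAut.mul_apply, MulAut.mul_apply, map_inv, MulAut.inv_apply_self]
  · rintro ⟨y, hy⟩
    have hy' : α y * y⁻¹ = γ⁻¹ w := hy
    refine ⟨γ y, ?_⟩
    show (γ * α * γ⁻¹) (γ y) * (γ y)⁻¹ = w
    rw [MulAut.mul_apply, MulAut.mul_apply, MulAut.inv_apply_self, ← map_inv, ← map_mul, hy',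
      MulAut.apply_inv_self]

theorem mem_Cf_conj {α γ : MulAut E} {w : E} : w ∈ Cf (γ * α * γ⁻¹) ↔ γ⁻¹ w ∈ Cf α := by
  rw [mem_Cf, mem_Cf, MulAut.mul_apply, MulAut.mul_apply]
  constructor
  · intro h
    rw [← MulAut.inv_apply_self E γ (α (γ⁻¹ w)), h]
  · intro h
    rw [h, MulAut.apply_inv_self]

variable (hE : IsPGroup p E) {A : Subgroup (MulAut E)}
  (hSyl : ∀ B : Subgroup (MulAut E), B ≤ A → IsPGroup p B → Nat.card B ≤ p)
  {α β : MulAut E} (hαA : α ∈ A) (hα : IsTv p α)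

include hSyl hαA hα

theorem card_zpowers_tv : Nat.card (Subgroup.zpowers α) = p := by
  obtain ⟨k, hk⟩ := hα.pow
  have h1 := isPGroup_zpowers hk
  apply le_antisymm (hSyl _ (Subgroup.zpowers_le.2 hαA) h1)
  have hnt : Nontrivial (Subgroup.zpowers α) :=
    ⟨⟨α, Subgroup.mem_zpowers α⟩, 1, fun h => hα.ne_one (congrArg Subtype.val h)⟩
  have : Finite (MulAut E) := inferInstance 
  obtain ⟨n, hn0, hn⟩ := (IsPGroup.nontrivial_iff_card h1).1 hnt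
  rw [hn]; exact Nat.le_self_pow hn0.ne' p

theorem not_isPGroup_pair (hβA : β ∈ A) (hβ : β ∉ Subgroup.zpowers α) :
    ¬ IsPGroup p (Subgroup.closure ({α, β} : Set (MulAut E))) := by
  intro h
  have : Finite (MulAut E) := inferInstance
  have h1 := hSyl _ ((Subgroup.closure_le _).2 (by
    rintro x (rfl | rfl)
    · exact hαA
    · exact hβA)) h
  rw [← card_zpowers_tv hSyl hαA hα] at h1
  have h2 : Subgroup.zpowers α = Subgroup.closure ({α, β} : Set (MulAut E)) := by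
    apply SetLike.coe_injective
    apply Set.eq_of_subset_of_ncard_le _ _ (Set.toFinite _)
    · exact Subgroup.zpowers_le.2 (Subgroup.subset_closure (by simp))
    · exact h1
  apply hβ
  rw [h2]
  exact Subgroup.subset_closure (by simp)

include hE

/-- The inverting element, for `p` odd. -/
theorem exists_tau (hp2 : p ≠ 2) (hβA : β ∈ A) (hβt : IsTv p β) (hβ : β ∉ Subgroup.zpowers α) :
    ∃ τ ∈ A, τ * α = α * τ ∧ (∀ u ∈ Um α, τ u = u⁻¹) ∧ (∀ c ∈ Cf α ⊓ Cf β, τ c = c) ∧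
      (∀ z ∈ Cf α, τ z * z⁻¹ ∈ Um α) ∧ ∀ z ∈ Cf α, τ z = z → z ∈ Cf β := by
  have hn := not_isPGroup_pair hSyl hαA hα hβA hβ
  obtain ⟨m, hm1, hm2⟩ := exists_inversion hE hα hβt hn
  obtain ⟨τ, hτ⟩ : ∃ τ, τ = (α ^ m * β * α ^ m) ^ 2 := ⟨_, rfl⟩
  rw [← hτ] at hm1
  have hτc : ∀ c ∈ Cf α ⊓ Cf β, τ c = c := by
    intro c hc
    rw [hτ, sq, MulAut.mul_apply, hm2 c hc, hm2 c hc]
  have hVC : (Um α ⊔ Um β) ⊓ Cf α = Um α := V_inf_Cf hE hα hβt hn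
  have hdec : ∀ z ∈ Cf α, ∃ v ∈ Um α, ∃ c ∈ Cf α ⊓ Cf β, v * c = z := by
    intro z hz
    obtain ⟨v, hv, c, hc, rfl⟩ := exists_decomp hE hα hβt hn z
    refine ⟨v, ?_, c, hc, rfl⟩
    rw [← hVC]
    refine ⟨hv, ?_⟩
    have h1 := mul_mem hz (inv_mem hc.1)
    rwa [mul_inv_cancel_right] at h1
  refine ⟨τ, ?_, ?_, fun u hu => hm1 u (Subgroup.mem_sup_left hu), hτc, ?_, ?_⟩
  · rw [hτ]; exact pow_mem (mul_mem (mul_mem (pow_mem hαA m) hβA) (pow_mem hαA m)) 2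
  · ext x
    obtain ⟨v, hv, c, hc, rfl⟩ := exists_decomp hE hα hβt hn x
    have hαv : α v ∈ Um α ⊔ Um β := by
      have h1 := mul_mem (Subgroup.mem_sup_left (S := Um α) (T := Um β) (dl_mem_Um α v)) hv
      rwa [inv_mul_cancel_right] at h1
    rw [MulAut.mul_apply, MulAut.mul_apply, map_mul, map_mul, map_mul, map_mul, mem_Cf.1 hc.1, hτc c hc,
      mem_Cf.1 hc.1, hm1 v hv, hm1 _ hαv, map_inv]
  · intro z hz
    obtain ⟨v, hv, c, hc, rfl⟩ := hdec z hz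
    rw [map_mul, hτc c hc, hm1 v (Subgroup.mem_sup_left hv), mul_inv, mul_mul_mul_comm, mul_inv_cancel, mul_one]
    exact mul_mem (inv_mem hv) (inv_mem hv)
  · intro z hz hτz
    obtain ⟨v, hv, c, hc, rfl⟩ := hdec z hz
    rw [map_mul, hτc c hc, hm1 v (Subgroup.mem_sup_left hv)] at hτz
    have h1 : v⁻¹ = v := mul_right_cancel hτz
    have h2 : v ^ 2 = 1 := by rw [sq]; nth_rewrite 1 [← h1]; exact inv_mul_cancel v
    have h3 : v ^ p = 1 := by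
      have h4 : (⟨v, hv⟩ : Um α) ^ Nat.card (Um α) = 1 := pow_card_eq_one'
      rw [hα.card] at h4
      exact congrArg Subtype.val h4
    have h9 : orderOf v ∣ 1 := by
      have h10 : Nat.Coprime p 2 := (Nat.coprime_primes hp.out Nat.prime_two).2 hp2
      rw [← h10]
      exact Nat.dvd_gcd (orderOf_dvd_of_pow_eq_one h3) (orderOf_dvd_of_pow_eq_one h2)
    have h11 : v = 1 := orderOf_eq_one_iff.1 (Nat.dvd_one.1 h9)
    rw [h11, one_mul]; exact hc.2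

end

/-! ### The case `p = 2` -/

section
variable {E : Type u} [CommGroup E] [Finite E] (hE : IsPGroup 2 E) {A : Subgroup (MulAut E)}
  (hSyl : ∀ B : Subgroup (MulAut E), B ≤ A → IsPGroup 2 B → Nat.card B ≤ 2)

include hE hSyl

theorem tv_not_pair {s t : MulAut E} (hsA : s ∈ A) (hs : IsTv 2 s) (htA : t ∈ A) (ht : IsTv 2 t)
    (hst : s ≠ t) : ¬ IsPGroup 2 (Subgroup.closure ({s, t} : Set (MulAut E))) := by
  apply not_isPGroup_pair hSyl hsA hs htA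
  intro h
  have h1 : orderOf s = 2 := by rw [← Nat.card_zpowers]; exact card_zpowers_tv hSyl hsA hs
  have h2 : s ^ 2 = 1 := by rw [← h1]; exact pow_orderOf_eq_one s
  obtain ⟨n, rfl⟩ := h
  rcases Int.even_or_odd' n with ⟨k, rfl | rfl⟩
  · apply ht.ne_one
    show s ^ (2 * k) = 1
    rw [zpow_mul, show s ^ (2 : ℤ) = s ^ 2 from zpow_ofNat s 2, h2, one_zpow]
  · apply hst
    show s = s ^ (2 * k + 1)
    rw [zpow_add, zpow_mul, show s ^ (2 : ℤ) = s ^ 2 from zpow_ofNat s 2, h2, one_zpow, one_mul, zpow_one]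

theorem tv_nofix {s t : MulAut E} (hsA : s ∈ A) (hs : IsTv 2 s) (htA : t ∈ A) (ht : IsTv 2 t)
    (hst : s ≠ t) {u : E} (hu : u ∈ Um t) (hu1 : u ≠ 1) : s u ≠ u := by
  intro h
  apply tv_not_pair hE hSyl htA ht hsA hs hst.symm
  obtain ⟨k, hk⟩ := hs.pow
  have h1 := (zpowers_eq_of_card ht.card hu hu1).1
  refine isPGroup_closure hE (U := Um t) (fun x => dl_mem_Um t x) ht.fix ?_ hk
  intro w hw
  rw [← h1] at hw
  obtain ⟨n, rfl⟩ := hw
  show s (u ^ n) = u ^ n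
  rw [map_zpow, h]

theorem tv_unique {s : MulAut E} (hs : IsTv 2 s) {u v : E} (hu : u ∈ Um s) (hu1 : u ≠ 1) (hv : v ∈ Um s)
    (hv1 : v ≠ 1) : u = v := by
  have h1 := zpowers_eq_of_card hs.card hu hu1
  have h2 : u ^ 2 = 1 := by rw [← h1.2]; exact pow_orderOf_eq_one u
  rw [← h1.1] at hv
  obtain ⟨n, rfl⟩ := hv
  rcases Int.even_or_odd' n with ⟨k, rfl | rfl⟩
  · exact absurd (show u ^ (2 * k) = 1 by
      rw [zpow_mul, show u ^ (2 : ℤ) = u ^ 2 from zpow_ofNat u 2, h2, one_zpow]) hv1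
  · show u = u ^ (2 * k + 1)
    rw [zpow_add, zpow_mul, show u ^ (2 : ℤ) = u ^ 2 from zpow_ofNat u 2, h2, one_zpow, one_mul, zpow_one]

/-- `s` moves the centre of `t` by the centre of `s`. -/
theorem tv_move {s t : MulAut E} (hsA : s ∈ A) (hs : IsTv 2 s) (htA : t ∈ A) (ht : IsTv 2 t)
    (hst : s ≠ t) {u v : E} (hu : u ∈ Um t) (hu1 : u ≠ 1) (hv : v ∈ Um s) (hv1 : v ≠ 1) :
    s u = v * u := by
  have h1 := tv_nofix hE hSyl hsA hs htA ht hst hu hu1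
  have h2 := tv_unique hE hSyl hs (dl_mem_Um s u) (fun h => h1 (mul_inv_eq_one.1 h)) hv hv1
  rw [← h2, inv_mul_cancel_right]

theorem tv_exists {s : MulAut E} (hs : IsTv 2 s) : ∃ u ∈ Um s, u ≠ 1 ∧ u ^ 2 = 1 := by
  have h : Nontrivial (Um s) := by
    rw [← Finite.one_lt_card_iff_nontrivial, hs.card]; norm_num
  obtain ⟨u, hu⟩ := exists_ne (1 : Um s)
  have hu1 : (u : E) ≠ 1 := fun h => hu (Subtype.ext h)
  refine ⟨u, u.2, hu1, ?_⟩
  have h1 := zpowers_eq_of_card hs.card u.2 hu1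
  rw [← h1.2]; exact pow_orderOf_eq_one _

/-- The third transvection. -/
theorem tv_third {α β γ : MulAut E} (hαA : α ∈ A) (hα : IsTv 2 α) (hβA : β ∈ A) (hβ : IsTv 2 β)
    (hγA : γ ∈ A) (hγ : IsTv 2 γ) (h1 : α ≠ β) (h2 : α ≠ γ) (h3 : β ≠ γ) : γ = α * β * α⁻¹ := by
  by_contra hne
  obtain ⟨a, ha, ha1, ha2⟩ := tv_exists hE hSyl hα
  obtain ⟨b, hb, hb1, hb2⟩ := tv_exists hE hSyl hβ
  obtain ⟨c, hc, hc1, hc2⟩ := tv_exists hE hSyl hγ
  have e1 : α b = a * b := tv_move hE hSyl hαA hα hβA hβ h1 hb hb1 ha ha1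
  have e2 : γ a = c * a := tv_move hE hSyl hγA hγ hαA hα h2.symm ha ha1 hc hc1
  have e3 : γ b = c * b := tv_move hE hSyl hγA hγ hβA hβ h3.symm hb hb1 hc hc1
  have h4 : α b ∈ Um (α * β * α⁻¹) := by
    rw [mem_Um_conj, MulAut.inv_apply_self]; exact hb
  have h5 : α b ≠ 1 := fun h => hb1 ((map_eq_one_iff α α.injective).1 h)
  refine tv_nofix hE hSyl hγA hγ (mul_mem (mul_mem hαA hβA) (inv_mem hαA)) (hβ.conj α) hne h4 h5 ?_
  rw [e1, map_mul, e2, e3, mul_mul_mul_comm, ← sq, hc2, one_mul]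

theorem tv_indep {α β γ : MulAut E} (hαA : α ∈ A) (hα : IsTv 2 α) (hβA : β ∈ A) (hβ : IsTv 2 β)
    (hγA : γ ∈ A) (hγ : IsTv 2 γ) (h1 : α ≠ β) (h2 : α ≠ γ) :
    Cf α ⊓ Cf β ≤ Cf γ ∧ Um γ ≤ Um α ⊔ Um β := by
  by_cases h3 : β = γ
  · subst h3; exact ⟨inf_le_right, le_sup_right⟩
  · have h4 := tv_third hE hSyl hαA hα hβA hβ hγA hγ h1 h2 h3
    constructor
    · rintro x ⟨hx1, hx2⟩
      have hx1' := mem_Cf.1 hx1
      have hx2' := mem_Cf.1 hx2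
      have h5 : α⁻¹ x = x := by
        conv_lhs => rw [← hx1']
        rw [MulAut.inv_apply_self]
      rw [mem_Cf, h4, MulAut.mul_apply, MulAut.mul_apply, h5, hx2', hx1']
    · intro w hw
      rw [h4, mem_Um_conj] at hw
      have h5 : α (α⁻¹ w) * (α⁻¹ w)⁻¹ ∈ Um α := dl_mem_Um α _
      have h6 := mul_mem (Subgroup.mem_sup_left (S := Um α) (T := Um β) h5) (Subgroup.mem_sup_right hw)
      rwa [inv_mul_cancel_right, MulAut.apply_inv_self] at h6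

theorem tv_invariant {α β : MulAut E} (hαA : α ∈ A) (hα : IsTv 2 α) (hβA : β ∈ A) (hβ : IsTv 2 β)
    (h1 : α ≠ β) {δ : MulAut E} (hδ : δ ∈ A) :
    (∀ c ∈ Cf α ⊓ Cf β, δ c ∈ Cf α ⊓ Cf β) ∧ ∀ v ∈ Um α ⊔ Um β, δ v ∈ Um α ⊔ Um β := by
  have hall : ∀ t ∈ A, IsTv 2 t → Cf α ⊓ Cf β ≤ Cf t ∧ Um t ≤ Um α ⊔ Um β := by
    intro t htA ht
    by_cases h2 : α = t
    · subst h2; exact ⟨inf_le_left, le_sup_left⟩
    · exact tv_indep hE hSyl hαA hα hβA hβ htA ht h1 h2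
  constructor
  · intro c hc
    have h3 : ∀ t ∈ A, IsTv 2 t → δ c ∈ Cf t := by
      intro t htA ht
      have h4 := (hall (δ⁻¹ * t * δ⁻¹⁻¹) (mul_mem (mul_mem (inv_mem hδ) htA) (inv_mem (inv_mem hδ)))
        (ht.conj δ⁻¹)).1 hc
      rw [mem_Cf_conj, inv_inv] at h4
      exact h4
    exact ⟨h3 α hαA hα, h3 β hβA hβ⟩
  · intro v hv
    have h3 : Um α ⊔ Um β ≤ (Um α ⊔ Um β).comap (δ : E →* E) := by
      have h4 : ∀ t ∈ A, IsTv 2 t → Um t ≤ (Um α ⊔ Um β).comap (δ : E →* E) := by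
        intro t htA ht w hw
        apply (hall (δ * t * δ⁻¹) (mul_mem (mul_mem hδ htA) (inv_mem hδ)) (ht.conj δ)).2
        rw [mem_Um_conj]
        show δ⁻¹ (δ w) ∈ _
        rwa [MulAut.inv_apply_self]
      exact sup_le (h4 α hαA hα) (h4 β hβA hβ)
    exact h3 hv

/-- Frattini argument. -/
theorem tv_frattini {α β : MulAut E} (hαA : α ∈ A) (hα : IsTv 2 α) (hβA : β ∈ A) (hβ : IsTv 2 β)
    (h1 : α ≠ β) {δ : MulAut E} (hδ : δ ∈ A) : ∃ μ ∈ A, ∃ ν ∈ A, δ = μ * ν ∧ ν * α * ν⁻¹ = α ∧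
      (∀ c ∈ Cf α ⊓ Cf β, μ c = c) ∧ ∀ x, μ x * x⁻¹ ∈ Um α ⊔ Um β := by
  have hmul : ∀ a b : MulAut E, (∀ x, a x * x⁻¹ ∈ Um α ⊔ Um β) → (∀ x, b x * x⁻¹ ∈ Um α ⊔ Um β) →
      ∀ x, (a * b) x * x⁻¹ ∈ Um α ⊔ Um β := by
    intro a b ha hb x
    have h2 := mul_mem (ha (b x)) (hb x)
    rwa [mul_assoc, inv_mul_cancel_left] at h2
  by_cases h2 : α = δ * α * δ⁻¹
  · refine ⟨1, one_mem _, δ, hδ, by rw [one_mul], h2.symm, fun c _ => rfl, fun x => ?_⟩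
    show x * x⁻¹ ∈ _
    rw [mul_inv_cancel]; exact one_mem _
  · obtain ⟨t, ht⟩ : ∃ t, t = δ * α * δ⁻¹ := ⟨_, rfl⟩
    rw [← ht] at h2
    have htA : t ∈ A := by rw [ht]; exact mul_mem (mul_mem hδ hαA) (inv_mem hδ)
    have htv : IsTv 2 t := by rw [ht]; exact hα.conj δ
    have htt : α ≠ t * α * t⁻¹ := by
      intro h
      obtain ⟨a, ha, ha1, ha2⟩ := tv_exists hE hSyl hα
      have h3 : t a ∈ Um α := by
        rw [h, mem_Um_conj, MulAut.inv_apply_self]; exact ha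
      have h4 : t a ≠ 1 := fun h => ha1 ((map_eq_one_iff t t.injective).1 h)
      exact tv_nofix hE hSyl htA htv hαA hα (Ne.symm h2) ha ha1 (tv_unique hE hSyl hα h3 h4 ha ha1)
    have h3 : t ≠ t * α * t⁻¹ := by
      intro h
      apply h2
      have h4 : t⁻¹ * t * t = α := by
        conv_lhs => rw [mul_assoc, show t * t = (t * α * t⁻¹) * t by rw [← h]]
        group
      rw [← h4]; group
    have h4 := tv_third hE hSyl hαA hα htA htv (mul_mem (mul_mem htA hαA) (inv_mem htA)) (hα.conj t) h2 htt h3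
    have hα2 : α * α = 1 := by
      have h5 : orderOf α = 2 := by rw [← Nat.card_zpowers]; exact card_zpowers_tv hSyl hαA hα
      rw [← sq, ← h5]; exact pow_orderOf_eq_one α
    have h5 : (α * t) * α * (α * t)⁻¹ = t := by
      have h6 : (α * t) * α * (α * t)⁻¹ = α * (t * α * t⁻¹) * α⁻¹ := by group
      rw [h6, h4]
      have h7 : α * (α * t * α⁻¹) * α⁻¹ = (α * α) * t * (α * α)⁻¹ := by group
      rw [h7, hα2, one_mul, inv_one, mul_one]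
    have h6 : ((α * t)⁻¹ * δ) * α * ((α * t)⁻¹ * δ)⁻¹ = α := by
      have h7 : ((α * t)⁻¹ * δ) * α * ((α * t)⁻¹ * δ)⁻¹ = (α * t)⁻¹ * (δ * α * δ⁻¹) * (α * t) := by group
      rw [h7, ← ht]
      calc (α * t)⁻¹ * t * (α * t) = (α * t)⁻¹ * ((α * t) * α * (α * t)⁻¹) * (α * t) := by rw [h5]
        _ = α := by group
    have hind := tv_indep hE hSyl hαA hα hβA hβ htA htv h1 h2
    refine ⟨α * t, mul_mem hαA htA, (α * t)⁻¹ * δ, mul_mem (inv_mem (mul_mem hαA htA)) hδ, by group, h6, ?_, ?_⟩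
    · intro c hc
      rw [MulAut.mul_apply, mem_Cf.1 (hind.1 hc), mem_Cf.1 hc.1]
    · apply hmul
      · intro y; exact Subgroup.mem_sup_left (dl_mem_Um α y)
      · intro y; exact hind.2 (dl_mem_Um t y)

/-- If the centralizer of `α` in `A` is `⟨α⟩` then `A` acts trivially modulo `V`. -/
theorem tv_commutator {α β : MulAut E} (hαA : α ∈ A) (hα : IsTv 2 α) (hβA : β ∈ A) (hβ : IsTv 2 β)
    (h1 : α ≠ β) (hcen : ∀ δ ∈ A, δ * α * δ⁻¹ = α → ∀ x, δ x * x⁻¹ ∈ Um α) {δ : MulAut E} (hδ : δ ∈ A)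
    (x : E) : δ x * x⁻¹ ∈ Um α ⊔ Um β := by
  obtain ⟨μ, hμ, ν, hν, rfl, h2, -, h3⟩ := tv_frattini hE hSyl hαA hα hβA hβ h1 hδ
  have h4 := mul_mem (h3 (ν x)) (Subgroup.mem_sup_left (T := Um β) (hcen ν hν h2 x))
  rwa [mul_assoc, inv_mul_cancel_left] at h4

end

end Cfsg.Agent.H28
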