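import Mathlib
import Cfsg.Agent.H28.CIdx1
import Cfsg.Agent.H28.Transv2
import Cfsg.Agent.H28.Model5

/-!
Fusion systems over `p`-groups whose centre has index `p²`.
-/

set_option autoImplicit false

namespace Cfsg.Agent.H28

open Cfsg.FusionSystem

universe u

section
variable {E : Type u} [CommGroup E] [Finite E] {p : ℕ} [hp : Fact p.Prime]

theorem IsTv.pow_p {α : MulAut E} (h : IsTv p α) : α ^ p = 1 := by
  ext x
  rw [pow_of_chain (U := Um α) (fun x => dl_mem_Um α x) h.fix]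
  have h4 : (⟨_, dl_mem_Um α x⟩ : Um α) ^ Nat.card (Um α) = 1 := pow_card_eq_one'
  rw [h.card] at h4
  have h5 : (α x * x⁻¹) ^ p = 1 := congrArg Subtype.val h4
  rw [h5, mul_one]; rfl

theorem Um_zpow_le (α : MulAut E) {U : Subgroup E} (h1 : Um α ≤ U) (h2 : ∀ u ∈ U, α u = u) (n : ℤ) :
    Um (α ^ n) ≤ U := by
  have h3 : α ∈ stU U := ⟨h2, fun v => h1 (dl_mem_Um α v)⟩
  rintro _ ⟨y, rfl⟩
  exact (zpow_mem h3 n).2 y

end

/-- The relevant subgroups. -/
structure CE {Ω : Type u} [Group Ω] {S : Subgroup Ω} (F : FusionSystem S) (E : Subgroup Ω) : Prop where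
  le : E ≤ S
  ne : E ≠ S
  cen : centralizerIn S E ≤ E
  mv : ∃ δ ∈ F.autGroup E, ∃ u ∈ ⁅S, S⁆, autFun δ u ∉ ⁅S, S⁆

section
variable {Ω : Type u} [Group Ω] {S : Subgroup Ω} {F : FusionSystem S} {E : Subgroup Ω} {p : ℕ}
  [hp : Fact p.Prime] [Finite S] (hS : IsPGroup p S) (hF : F.IsSaturated p)
  (hZ : Nat.card S ≤ p ^ 2 * Nat.card (centralizerIn S S))

include hS hZ

theorem ci_conj_zpow (hES : E ≤ S) (hne : E ≠ S) (hC : centralizerIn S E ≤ E) {s : Ω} (hs : s ∈ S)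
    (hsE : s ∉ E) : ∀ g ∈ S, ∃ n : ℤ, ∀ x ∈ E, g * x * g⁻¹ = s ^ n * x * (s ^ n)⁻¹ := by
  have hN := ci_norm hS hZ hES hne hC
  have hcj : ∀ g ∈ S, ∀ x ∈ E, g * x * g⁻¹ ∈ E := fun g hg x hx =>
    (Subgroup.mem_normalizer_iff.1 (hN hg) x).1 hx
  have hcomm := ci_comm hS hZ hES hne hC
  let K : Subgroup Ω :=
    { carrier := {g | g ∈ S ∧ ∃ n : ℤ, ∀ x ∈ E, g * x * g⁻¹ = s ^ n * x * (s ^ n)⁻¹}
      one_mem' := ⟨one_mem _, 0, fun x _ => by simp⟩
      mul_mem' := by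
        rintro g h ⟨hg, m, hm⟩ ⟨hh, n, hn⟩
        refine ⟨mul_mem hg hh, m + n, fun x hx => ?_⟩
        have h1 := hm _ (hcj (s ^ n) (zpow_mem hs n) x hx)
        have h2 : g * h * x * (g * h)⁻¹ = g * (h * x * h⁻¹) * g⁻¹ := by group
        rw [h2, hn x hx, h1, zpow_add]; group
      inv_mem' := by
        rintro g ⟨hg, m, hm⟩
        refine ⟨inv_mem hg, -m, fun x hx => ?_⟩
        have h1 := hcj g⁻¹ (inv_mem hg) x hx
        have h2 := hm _ h1
        have h3 : g * (g⁻¹ * x * g⁻¹⁻¹) * g⁻¹ = x := by group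
        rw [h3] at h2
        conv_rhs => rw [h2]
        rw [zpow_neg]; group }
  have h1 : S ≤ K := by
    apply ci_gen hS hZ hES hne hC hs hsE
    · intro e he
      refine ⟨hES he, 0, fun x hx => ?_⟩
      rw [hcomm e he x hx]; simp
    · exact ⟨hs, 1, fun x _ => by rw [zpow_one]⟩
  intro g hg
  exact (h1 hg).2

include hF

theorem CE.data (hE : CE F E) {s : Ω} (hs : s ∈ S) (hsE : s ∉ E) :
    letI := cg (ci_comm hS hZ hE.le hE.ne hE.cen)
    let α := conjAut E s (ci_norm hS hZ hE.le hE.ne hE.cen hs)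
    IsTv p α ∧ α ∈ F.autGroup E ∧ (∀ B ≤ F.autGroup E, IsPGroup p B → Nat.card B ≤ p) ∧
      (∃ γ ∈ F.autGroup E, γ * α * γ⁻¹ ∉ Subgroup.zpowers α) ∧
      (∀ γ ∈ F.autGroup E, γ * α * γ⁻¹ ∈ Subgroup.zpowers α →
        ∃ g ∈ F.autGroup S, ∀ x ∈ E, autFun g x = autFun γ x) ∧
      (∀ x : E, x ∈ Cf α ↔ (x : Ω) ∈ centralizerIn S S) ∧
      (∀ x : E, x ∈ Um α ↔ (x : Ω) ∈ ⁅S, S⁆) ∧ Nat.card (⁅S, S⁆ : Subgroup Ω) = p := by
  letI := cg (ci_comm hS hZ hE.le hE.ne hE.cen)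
  intro α
  have hEf : Finite E := finite_of_le hE.le
  have hN := ci_norm hS hZ hE.le hE.ne hE.cen
  obtain ⟨htv, hCf, hUm, hU⟩ := ci_um hS hZ hE.le hE.ne hE.cen hs hsE
  have hfn : F.IsFullyNormalized E := fullyNormalized_of_normal hE.le hN
  have hα : ∀ x ∈ E, autFun α x = s * x * s⁻¹ := fun x hx => autFun_conjAut _ hx
  have hαA : α ∈ F.autGroup E := autInducedBy_le hE.le le_rfl (conjAut_mem _ hs)
  have hαz : ∀ (n : ℤ), ∀ x ∈ E, autFun (α ^ n) x = s ^ n * x * (s ^ n)⁻¹ := by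
    have hnat : ∀ (n : ℕ), ∀ x ∈ E, autFun (α ^ n) x = s ^ n * x * (s ^ n)⁻¹ := by
      intro n
      induction n with
      | zero => intro x hx; rw [pow_zero, autFun_one hx, pow_zero]; simp
      | succ n ih =>
        intro x hx
        rw [pow_succ', autFun_mul _ _ hx, hα _ (autFun_mem _ hx), ih x hx, pow_succ']; group
    intro n x hx
    cases n with
    | ofNat n => rw [Int.ofNat_eq_natCast, zpow_natCast, zpow_natCast]; exact hnat n x hx
    | negSucc n =>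
      rw [zpow_negSucc, zpow_negSucc]
      have h1 : (s ^ (n + 1))⁻¹ * x * (s ^ (n + 1))⁻¹⁻¹ ∈ E :=
        (Subgroup.mem_normalizer_iff.1 (hN (inv_mem (pow_mem hs (n + 1)))) x).1 hx
      have h2 := hnat (n + 1) _ h1
      have h3 : s ^ (n + 1) * ((s ^ (n + 1))⁻¹ * x * (s ^ (n + 1))⁻¹⁻¹) * (s ^ (n + 1))⁻¹ = x := by group
      rw [h3] at h2
      conv_lhs => rw [← h2]
      rw [autFun_inv_apply _ h1]
  have hind : ∀ b ∈ autInducedBy S E, b ∈ Subgroup.zpowers α := by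
    intro b hb
    obtain ⟨g, hg, h1⟩ := mem_autInducedBy'.1 hb
    obtain ⟨n, hn⟩ := ci_conj_zpow hS hZ hE.le hE.ne hE.cen hs hsE g hg
    refine ⟨n, ?_⟩
    apply mulAut_ext
    intro x hx
    show autFun (α ^ n) x = autFun b x
    rw [hαz n x hx, h1 x hx, hn x hx]
  have hord : Nat.card (Subgroup.zpowers α) = p := by
    rw [Nat.card_zpowers]
    exact orderOf_eq_prime htv.pow_p htv.ne_one
  have hsyl : ∀ B ≤ F.autGroup E, IsPGroup p B → Nat.card B ≤ p := by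
    intro B hB hBp
    obtain ⟨β, hβ, h1⟩ := exists_conj_le_autInduced (FN.fa hS hF hfn) hB hBp
    rw [← hord]
    have hfin : Finite (Subgroup.zpowers α) := inferInstance
    refine Nat.card_le_card_of_injective (fun b : B => (⟨β * b * β⁻¹, hind _ (h1 b b.2)⟩ : Subgroup.zpowers α)) ?_
    intro b c hbc
    have h2 : β * (b : MulAut E) * β⁻¹ = β * c * β⁻¹ := congrArg Subtype.val hbc
    exact Subtype.ext (mul_left_cancel (mul_right_cancel h2))
  refine ⟨htv, hαA, hsyl, ?_, ?_, hCf, hUm, hU⟩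
  · obtain ⟨δ, hδ, u, hu, hδu⟩ := hE.mv
    refine ⟨δ, hδ, ?_⟩
    rintro ⟨n, hn⟩
    have huE : u ∈ E := by
      have h1 : ⁅S, S⁆ ≤ E := by
        intro w hw
        have h2 : w ∈ (Um α).map E.subtype := by
          have hle : (Um α).map E.subtype ≤ ⁅S, S⁆ := by
            rintro _ ⟨x, hx, rfl⟩; exact (hUm x).1 hx
          have hfin : Finite (⁅S, S⁆ : Subgroup Ω) :=
            finite_of_le (Subgroup.commutator_le.2 (fun a ha b hb =>
              mul_mem (mul_mem (mul_mem ha hb) (inv_mem ha)) (inv_mem hb)) : ⁅S, S⁆ ≤ S)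
          have h3 : (Um α).map E.subtype = ⁅S, S⁆ := by
            apply eq_of_le_of_card hle
            rw [hU, ← htv.card]
            exact (Nat.card_congr ((Um α).equivMapOfInjective _ (Subgroup.subtype_injective E)).toEquiv).le
          rw [h3]; exact hw
        obtain ⟨x, -, rfl⟩ := h2
        exact x.2
      exact h1 hu
    have h1 : (⟨u, huE⟩ : E) ∈ Um α := (hUm _).2 hu
    have h2 : δ ⟨u, huE⟩ ∈ Um (δ * α * δ⁻¹) := by
      rw [mem_Um_conj, MulAut.inv_apply_self]; exact h1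
    have hn' : α ^ n = δ * α * δ⁻¹ := hn
    rw [← hn'] at h2
    have h3 := Um_zpow_le α le_rfl htv.fix n h2
    apply hδu
    rw [autFun_apply δ huE]
    exact (hUm _).1 h3
  · rintro γ hγ ⟨n, hn⟩
    have hn' : α ^ n = γ * α * γ⁻¹ := hn
    have hγm := mor_autFun hE.le hγ
    have him : img E (autFun γ) = E := img_autFun γ
    have hrec : F.IsReceptive (img E (autFun γ)) := by rw [him]; exact FN.rec hS hF hfn
    obtain ⟨g, hg, hgx⟩ := receptive_extend hrec hγm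
    have hSN : S ≤ Nf S E (autFun γ) := by
      intro t ht
      rw [mem_Nf]
      refine ⟨ht, hN ht, ?_⟩
      obtain ⟨m, hm⟩ := ci_conj_zpow hS hZ hE.le hE.ne hE.cen hs hsE t ht
      refine ⟨s ^ (n * m), zpow_mem hs _, fun x hx => ?_⟩
      rw [hm x hx, ← hαz m x hx, ← hαz (n * m) _ (autFun_mem _ hx), ← autFun_mul _ _ hx,
        ← autFun_mul _ _ hx]
      congr 1
      have h1 : γ * α ^ m * γ⁻¹ = α ^ (n * m) := by
        rw [← conj_zpow, ← hn', zpow_mul]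
      rw [← h1, inv_mul_cancel_right]
    have hgS := hg.mono hSN
    have himS : img S g = S := isConj_top hgS.isConj
    obtain ⟨g', hg', hg'x⟩ := hgS.exists_aut himS
    exact ⟨g', hg', fun x hx => by rw [hg'x x (hE.le hx), hgx x hx]⟩

end

end Cfsg.Agent.H28
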