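import Mathlib
import Cfsg.Agent.H28.CIdx2

/-!
Fusion systems over `p`-groups whose centre has index `p²`: odd `p`.
-/

set_option autoImplicit false

namespace Cfsg.Agent.H28

open Cfsg.FusionSystem
open scoped commutatorElement

universe u

section
variable {Ω : Type u} [Group Ω] {S : Subgroup Ω} {F : FusionSystem S} {E : Subgroup Ω} {p : ℕ}
  [hp : Fact p.Prime] [Finite S] (hS : IsPGroup p S) (hF : F.IsSaturated p)
  (hZ : Nat.card S ≤ p ^ 2 * Nat.card (centralizerIn S S))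

theorem comm_le_self : ⁅S, S⁆ ≤ S := Subgroup.commutator_le.2 (fun a ha b hb =>
              mul_mem (mul_mem (mul_mem ha hb) (inv_mem ha)) (inv_mem hb))

include hS hF hZ

theorem ess_CE (hE : F.IsEssential p E) (hne : E ≠ S) : CE F E := by
  have hc : F.IsCentric E := hE.1
  have hES := hc.1
  have hC := centric_centralizer hc
  refine ⟨hES, hne, hC, ?_⟩
  by_contra hcon
  push Not at hcon
  obtain ⟨s, hs, hsE⟩ := SetLike.exists_of_lt (lt_of_le_of_ne hES hne)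
  letI := cg (ci_comm hS hZ hES hne hC)
  have hEf : Finite E := finite_of_le hES
  have hEp : IsPGroup p E := hS.to_le hES
  obtain ⟨htv, hCf, hUm, hU⟩ := ci_um hS hZ hES hne hC hs hsE
  obtain ⟨α, hα⟩ : ∃ α, α = conjAut E s (ci_norm hS hZ hES hne hC hs) := ⟨_, rfl⟩
  rw [← hα] at htv hCf hUm
  have hαA : α ∈ F.autGroup E := hα ▸ autInducedBy_le hES le_rfl (conjAut_mem _ hs)
  have hpres : ∀ δ ∈ F.autGroup E, ∀ u ∈ Um α, δ u ∈ Um α := by
    intro δ hδ u hu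
    have h1 := hcon δ hδ u ((hUm u).1 hu)
    rw [hUm]
    rwa [autFun_apply δ u.2] at h1
  let B : Subgroup (F.autGroup E) := (stU (Um α)).subgroupOf (F.autGroup E)
  have hBn : B.Normal := by
    refine ⟨fun b hb g => ?_⟩
    obtain ⟨hb1, hb2⟩ := (Subgroup.mem_subgroupOf.1 hb : (b : MulAut E) ∈ stU (Um α))
    rw [Subgroup.mem_subgroupOf]
    have hg := g.2
    refine ⟨fun u hu => ?_, fun v => ?_⟩
    · show (g : MulAut E) ((b : MulAut E) ((g : MulAut E)⁻¹ u)) = u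
      rw [hb1 _ (hpres _ (inv_mem hg) u hu), MulAut.apply_inv_self]
    · show (g : MulAut E) ((b : MulAut E) ((g : MulAut E)⁻¹ v)) * v⁻¹ ∈ Um α
      have h5 := hpres g hg _ (hb2 ((g : MulAut E)⁻¹ v))
      rwa [map_mul, map_inv, MulAut.apply_inv_self] at h5
  have hBp : IsPGroup p B := by
    rintro ⟨b, hb⟩
    obtain ⟨hb1, hb2⟩ := (Subgroup.mem_subgroupOf.1 hb : (b : MulAut E) ∈ stU (Um α))
    obtain ⟨j, hj⟩ := pElement_of_chain hEp hb2 hb1
    exact ⟨j, Subtype.ext (Subtype.ext hj)⟩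
  have h1 : B ≤ Cfsg.pCore p (F.autGroup E) := le_pCore hBn hBp
  have hαB : (⟨α, hαA⟩ : F.autGroup E) ∈ B := by
    rw [Subgroup.mem_subgroupOf]
    exact ⟨htv.fix, fun v => dl_mem_Um α v⟩
  have h2 : α ∈ Inn E := by
    rw [← (essential_radical hS hE).2]
    exact ⟨_, h1 hαB, rfl⟩
  obtain ⟨g, hg, h3⟩ := mem_Inn.1 h2
  apply htv.ne_one
  apply mulAut_ext
  intro x hx
  rw [h3 x hx, autFun_one hx, ci_comm hS hZ hES hne hC g hg x hx, mul_inv_cancel_right]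

omit hZ in
theorem exists_pprime_exp : ∃ r : ℕ, r.Coprime p ∧ ∀ δ ∈ F.autGroup S, ∃ t ∈ S, ∀ x ∈ S,
    autFun (δ ^ r) x = t * x * t⁻¹ := by
  obtain ⟨-, R, hR⟩ := FN.fa hS hF fullyNormalized_top
  have hn : (R : Subgroup (F.autGroup S)).Normal := by
    rw [hR]
    refine ⟨fun b hb g => ?_⟩
    rw [Subgroup.mem_subgroupOf] at hb ⊢
    obtain ⟨t, ht, h1⟩ := mem_autInducedBy'.1 hb
    refine mem_autInducedBy'.2 ⟨autFun (g : MulAut S) t, autFun_mem _ ht, fun x hx => ?_⟩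
    have hm := mor_autFun le_rfl g.2
    show autFun ((g : MulAut S) * (b : MulAut S) * (g : MulAut S)⁻¹) x = _
    have h2 : autFun (g : MulAut S)⁻¹ x ∈ S := autFun_mem _ hx
    rw [autFun_mul _ _ hx, autFun_mul _ _ h2, h1 _ h2, hm.conj ht h2, autFun_apply_inv _ hx]
  refine ⟨(R : Subgroup (F.autGroup S)).index,
    ((Nat.Prime.coprime_iff_not_dvd hp.out).2 R.not_dvd_index).symm, fun δ hδ => ?_⟩
  have h1 := Subgroup.pow_index_mem (R : Subgroup (F.autGroup S)) ⟨δ, hδ⟩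
  have h2 : (⟨δ, hδ⟩ : F.autGroup S) ^ (R : Subgroup (F.autGroup S)).index ∈
      (autInducedBy S S).subgroupOf (F.autGroup S) := by rw [← hR]; exact h1
  exact mem_autInducedBy'.1 h2

/-- An automorphism trivial on `S'` and on `Z/S'` is trivial on `Z`. -/
theorem ci_triv (hU : Nat.card (⁅S, S⁆ : Subgroup Ω) = p) {δ : MulAut S} (hδ : δ ∈ F.autGroup S)
    (h1 : ∀ u ∈ ⁅S, S⁆, autFun δ u = u) {z : Ω} (hz : z ∈ centralizerIn S S)
    (h2 : autFun δ z * z⁻¹ ∈ ⁅S, S⁆) : autFun δ z = z := by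
  obtain ⟨r, hr, h3⟩ := exists_pprime_exp hS hF
  obtain ⟨t, ht, h4⟩ := h3 δ hδ
  have hzS := (mem_centralizerIn.1 hz).1
  obtain ⟨u, hu⟩ : ∃ u, u = autFun δ z * z⁻¹ := ⟨_, rfl⟩
  rw [← hu] at h2
  have huS : u ∈ S := comm_le_self h2
  have hm := mor_autFun le_rfl hδ
  have hδz : autFun δ z = u * z := by rw [hu, inv_mul_cancel_right]
  have h5 : ∀ n : ℕ, autFun (δ ^ n) z = u ^ n * z := by
    intro n
    induction n with
    | zero => rw [pow_zero, autFun_one hzS, pow_zero, one_mul]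
    | succ n ih =>
      rw [pow_succ', autFun_mul _ _ hzS, ih, hm.mul (pow_mem huS n) hzS, hδz, h1 _ (pow_mem h2 n),
        pow_succ, mul_assoc]
  have h6 := h4 z hzS
  rw [h5, ← (mem_centralizerIn.1 hz).2 t ht, mul_inv_cancel_right] at h6
  have h7 : u ^ r = 1 := mul_eq_right.1 h6
  have h8 : u ^ p = 1 := by
    have h9 : (⟨u, h2⟩ : (⁅S, S⁆ : Subgroup Ω)) ^ Nat.card (⁅S, S⁆ : Subgroup Ω) = 1 := pow_card_eq_one'
    rw [hU] at h9
    exact congrArg Subtype.val h9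
  have h9 : orderOf u ∣ 1 := by
    rw [← hr]
    exact Nat.dvd_gcd (orderOf_dvd_of_pow_eq_one h7) (orderOf_dvd_of_pow_eq_one h8)
  have h10 : u = 1 := orderOf_eq_one_iff.1 (Nat.dvd_one.1 h9)
  rw [hδz, h10, one_mul]

omit hS hF hZ in
theorem aut_derived {γ : MulAut S} (hγ : γ ∈ F.autGroup S) {u : Ω} (hu : u ∈ ⁅S, S⁆) :
    autFun γ u ∈ ⁅S, S⁆ := by
  have h1 : ⁅S, S⁆ ≤ ((⁅S, S⁆.subgroupOf S).comap (γ : S →* S)).map S.subtype := by
    rw [Subgroup.commutator_le]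
    intro a ha b hb
    refine ⟨⁅(⟨a, ha⟩ : S), ⟨b, hb⟩⁆, ?_, rfl⟩
    show (γ ⁅(⟨a, ha⟩ : S), ⟨b, hb⟩⁆ : Ω) ∈ ⁅S, S⁆
    rw [map_commutatorElement]
    exact Subgroup.commutator_mem_commutator (γ ⟨a, ha⟩).2 (γ ⟨b, hb⟩).2
  obtain ⟨x, hx, rfl⟩ := h1 hu
  rw [show autFun γ (S.subtype x) = (γ x : Ω) from autFun_coe γ x]
  exact hx

omit hS hF hZ in
theorem aut_center {γ : MulAut S} (hγ : γ ∈ F.autGroup S) {z : Ω} (hz : z ∈ centralizerIn S S) :
    autFun γ z ∈ centralizerIn S S := by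
  have hzS := (mem_centralizerIn.1 hz).1
  refine mem_centralizerIn.2 ⟨autFun_mem _ hzS, fun y hy => ?_⟩
  have hm := mor_autFun le_rfl hγ
  have h1 : autFun γ (autFun γ⁻¹ y) = y := autFun_apply_inv _ hy
  have h2 : autFun γ⁻¹ y ∈ S := autFun_mem _ hy
  rw [← h1, ← hm.mul hzS h2, ← hm.mul h2 hzS, (mem_centralizerIn.1 hz).2 _ h2]

/-- Good automorphisms. -/
def Good (S : Subgroup Ω) (g : MulAut S) : Prop :=
  (∀ u ∈ ⁅S, S⁆, autFun g u = u⁻¹) ∧ ∀ z ∈ centralizerIn S S, autFun g z * z⁻¹ ∈ ⁅S, S⁆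

/-- Two good automorphisms agree on the centre. -/
theorem good_unique (hU : Nat.card (⁅S, S⁆ : Subgroup Ω) = p) (hUZ : ⁅S, S⁆ ≤ centralizerIn S S)
    {g h : MulAut S} (hg : g ∈ F.autGroup S) (hh : h ∈ F.autGroup S)
    (hgg : Good S g) (hhg : Good S h) {z : Ω} (hz : z ∈ centralizerIn S S) : autFun g z = autFun h z := by
  have hzS := (mem_centralizerIn.1 hz).1
  have hmg := mor_autFun le_rfl hg
  have hmh := mor_autFun le_rfl hh
  have hmem : ∀ u ∈ ⁅S, S⁆, u ∈ S := fun u hu => comm_le_self hu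
  have hδ : h⁻¹ * g ∈ F.autGroup S := mul_mem (inv_mem hh) hg
  have h1 : ∀ u ∈ ⁅S, S⁆, autFun (h⁻¹ * g) u = u := by
    intro u hu
    rw [autFun_mul _ _ (hmem u hu), hgg.1 u hu, ← hhg.1 u hu, autFun_inv_apply _ (hmem u hu)]
  have h2 : autFun (h⁻¹ * g) z * z⁻¹ ∈ ⁅S, S⁆ := by
    -- h (z * (u2 * u1⁻¹)) = g z
    have hu1 := hgg.2 z hz
    have hu2 := hhg.2 z hz
    obtain ⟨u1, e1⟩ : ∃ u, u = autFun g z * z⁻¹ := ⟨_, rfl⟩
    obtain ⟨u2, e2⟩ : ∃ u, u = autFun h z * z⁻¹ := ⟨_, rfl⟩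
    rw [← e1] at hu1
    rw [← e2] at hu2
    have e1' : autFun g z = u1 * z := by rw [e1, inv_mul_cancel_right]
    have e2' : autFun h z = u2 * z := by rw [e2, inv_mul_cancel_right]
    have h3 : u1⁻¹ * u2 ∈ ⁅S, S⁆ := mul_mem (inv_mem hu1) hu2
    have h4 : autFun h (u1⁻¹ * u2 * z) = autFun g z := by
      rw [hmh.mul (hmem _ h3) hzS, hhg.1 _ h3, e2', e1', mul_inv_rev, inv_inv]
      have h5 : u2⁻¹ * u1 * (u2 * z) = u1 * z := by
        have h6 : u1 * u2 = u2 * u1 := (mem_centralizerIn.1 (hUZ hu1)).2 u2 (hmem _ hu2)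
        calc u2⁻¹ * u1 * (u2 * z) = u2⁻¹ * (u1 * u2) * z := by group
          _ = u1 * z := by rw [h6]; group
      exact h5
    rw [autFun_mul _ _ hzS, ← h4, autFun_inv_apply _ (mul_mem (hmem _ h3) hzS), mul_inv_cancel_right]
    exact h3
  have h3 := ci_triv hS hF hZ hU hδ h1 hz h2
  rw [autFun_mul _ _ hzS] at h3
  rw [← autFun_apply_inv h (autFun_mem g hzS), h3]

/-- `Y` is a good centralizer. -/
theorem good_conj {g γ : MulAut S} (hγ : γ ∈ F.autGroup S) (hg : Good S g) :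
    Good S (γ * g * γ⁻¹) := by
  have hγ' : γ⁻¹ ∈ F.autGroup S := inv_mem hγ
  have hm := mor_autFun le_rfl hγ
  constructor
  · intro u hu
    have huS := comm_le_self hu
    have h1 := aut_derived hγ' hu
    rw [autFun_mul _ _ huS, autFun_mul _ _ (autFun_mem _ huS), hg.1 _ h1, hm.inv (autFun_mem _ huS),
      autFun_apply_inv _ huS]
  · intro z hz
    have hzS := (mem_centralizerIn.1 hz).1
    have h1 := aut_center hγ' hz
    have h2 := aut_derived hγ (hg.2 _ h1)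
    have h3 : autFun γ⁻¹ z ∈ S := autFun_mem _ hzS
    rw [hm.mul (autFun_mem _ h3) (inv_mem h3), hm.inv h3, autFun_apply_inv _ hzS] at h2
    rw [autFun_mul _ _ hzS, autFun_mul _ _ h3]
    exact h2

end

end Cfsg.Agent.H28
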