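import Mathlib
import Cfsg.Agent.H28.CIdx3
import Cfsg.Agent.H2.GlaubRep

/-!
Fusion systems over `p`-groups whose centre has index `p²`: odd `p`.
-/

set_option autoImplicit false

namespace Cfsg.Agent.H28

open Cfsg.FusionSystem
open scoped commutatorElement

universe u

section
variable {Ω : Type u} [Group Ω] {S : Subgroup Ω} {F : FusionSystem S} {E : Subgroup Ω} {p : ℕ}
  [hp : Fact p.Prime] [Finite S] (hS : IsPGroup p S) (hF : F.IsSaturated p)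
  (hZ : Nat.card S ≤ p ^ 2 * Nat.card (centralizerIn S S))

include hS hF

theorem exists_ess (hS1 : S ≠ ⊥) (hcore : F.core = ⊥) : ∃ E, F.IsEssential p E ∧ E ≠ S := by
  by_contra hcon
  push Not at hcon
  have h1 : F.IsNormal S := by
    apply normal_of_essential hS hF
    rintro P (rfl | hP)
    · exact ⟨le_rfl, fun α _ => img_autFun α⟩
    · have h2 := hcon P hP
      subst h2
      exact ⟨le_rfl, fun α _ => img_autFun α⟩
  have h2 := le_core h1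
  rw [hcore, le_bot_iff] at h2
  exact hS1 h2

include hZ

/-- The good automorphism attached to a conjugate of `α`. -/
theorem exists_good (hp2 : p ≠ 2) (hE : CE F E) {s : Ω} (hs : s ∈ S) (hsE : s ∉ E) :
    letI := cg (ci_comm hS hZ hE.le hE.ne hE.cen)
    let α := conjAut E s (ci_norm hS hZ hE.le hE.ne hE.cen hs)
    ∀ γ ∈ F.autGroup E, γ * α * γ⁻¹ ∉ Subgroup.zpowers α →
      ∃ g ∈ F.autGroup S, Good S g ∧ ∀ z : E, (z : Ω) ∈ centralizerIn S S →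
        (autFun g z = z ↔ z ∈ Cf (γ * α * γ⁻¹)) := by
  letI := cg (ci_comm hS hZ hE.le hE.ne hE.cen)
  intro α γ hγ hn
  obtain ⟨htv, hαA, hsyl, -, hext, hCf, hUm, hU⟩ := hE.data hS hF hZ hs hsE
  have hEf : Finite E := finite_of_le hE.le
  have hEp : IsPGroup p E := hS.to_le hE.le
  obtain ⟨τ, hτA, hτα, hτ1, hτ2, hτ3, hτ4⟩ := exists_tau hEp hsyl hαA htv hp2
    (mul_mem (mul_mem hγ hαA) (inv_mem hγ)) (htv.conj γ) hn
  have hτc : τ * α * τ⁻¹ = α := by rw [hτα, mul_inv_cancel_right]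
  obtain ⟨g, hg, hgx⟩ := hext τ hτA (by
    have : τ * conjAut E s (ci_norm hS hZ hE.le hE.ne hE.cen hs) * τ⁻¹ = α := hτc
    rw [this]; exact Subgroup.mem_zpowers α)
  have hZE := ci_le hE.le hE.cen
  have hUE : ∀ u ∈ ⁅S, S⁆, u ∈ E := by
    have hle : (Um α).map E.subtype ≤ ⁅S, S⁆ := by
      rintro _ ⟨x, hx, rfl⟩; exact (hUm x).1 hx
    have hfin : Finite (⁅S, S⁆ : Subgroup Ω) := finite_of_le comm_le_self
    have h3 : (Um α).map E.subtype = ⁅S, S⁆ := by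
      apply eq_of_le_of_card hle
      rw [hU, ← htv.card]
      exact (Nat.card_congr ((Um α).equivMapOfInjective _ (Subgroup.subtype_injective E)).toEquiv).le
    intro u hu
    rw [← h3] at hu
    obtain ⟨x, -, rfl⟩ := hu
    exact x.2
  refine ⟨g, hg, ⟨fun u hu => ?_, fun z hz => ?_⟩, fun z hz => ?_⟩
  · have h1 := hτ1 ⟨u, hUE u hu⟩ ((hUm _).2 hu)
    rw [hgx u (hUE u hu), autFun_apply τ (hUE u hu), h1]; rfl
  · have h1 := hτ3 ⟨z, hZE hz⟩ ((hCf _).2 hz)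
    rw [hgx z (hZE hz), autFun_apply τ (hZE hz)]
    exact (hUm _).1 h1
  · have hzC : z ∈ Cf α := (hCf z).2 hz
    rw [hgx z z.2, autFun_coe τ z]
    constructor
    · intro h; exact hτ4 z hzC (Subtype.ext h)
    · intro h; exact congrArg Subtype.val (hτ2 z ⟨hzC, h⟩)

/-- The case of odd `p`. -/
theorem ci_odd (hp2 : p ≠ 2) (hS1 : S ≠ ⊥) (hcore : F.core = ⊥) :
    Nat.card S = p ^ 3 ∧ ∀ x ∈ S, x ^ p = 1 := by
  obtain ⟨E₀, hE₀, hne₀⟩ := exists_ess hS hF hS1 hcore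
  have hCE₀ := ess_CE hS hF hZ hE₀ hne₀
  obtain ⟨s₀, hs₀, hsE₀⟩ := SetLike.exists_of_lt (lt_of_le_of_ne hCE₀.le hCE₀.ne)
  -- the derived subgroup
  obtain ⟨hU, hUZ⟩ : Nat.card (⁅S, S⁆ : Subgroup Ω) = p ∧ ⁅S, S⁆ ≤ centralizerIn S S := by
    obtain ⟨htv, hαA, hsyl, -, hext, hCf, hUm, hU⟩ := hCE₀.data hS hF hZ hs₀ hsE₀
    letI := cg (ci_comm hS hZ hCE₀.le hCE₀.ne hCE₀.cen)
    have hEf : Finite E₀ := finite_of_le hCE₀.le
    refine ⟨hU, ?_⟩
    have hle : (Um (conjAut E₀ s₀ (ci_norm hS hZ hCE₀.le hCE₀.ne hCE₀.cen hs₀))).map E₀.subtype ≤ ⁅S, S⁆ := by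
      rintro _ ⟨x, hx, rfl⟩; exact (hUm x).1 hx
    have hfin : Finite (⁅S, S⁆ : Subgroup Ω) := finite_of_le comm_le_self
    have h3 : (Um (conjAut E₀ s₀ (ci_norm hS hZ hCE₀.le hCE₀.ne hCE₀.cen hs₀))).map E₀.subtype = ⁅S, S⁆ := by
      apply eq_of_le_of_card hle
      exact (hU.trans htv.card.symm).le.trans
        (Nat.card_congr ((Um _).equivMapOfInjective _ (Subgroup.subtype_injective E₀)).toEquiv).le
    rw [← h3]
    rintro _ ⟨x, hx, rfl⟩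
    exact (hCf x).1 (htv.le hx)
  obtain ⟨g₀, hg₀, hgg₀⟩ : ∃ g ∈ F.autGroup S, Good S g := by
    obtain ⟨htv, hαA, hsyl, ⟨γ, hγ, hγn⟩, hext, hCf, hUm, hU⟩ := hCE₀.data hS hF hZ hs₀ hsE₀
    obtain ⟨g, hg, hgg, -⟩ := exists_good hS hF hZ hp2 hCE₀ hs₀ hsE₀ γ hγ hγn
    exact ⟨g, hg, hgg⟩
  have hmg := mor_autFun le_rfl hg₀
  have hZS : ∀ z ∈ centralizerIn S S, z ∈ S := fun z hz => (mem_centralizerIn.1 hz).1
  let Y : Subgroup Ω :=
    { carrier := {z | z ∈ centralizerIn S S ∧ autFun g₀ z = z}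
      one_mem' := ⟨one_mem _, hmg.one⟩
      mul_mem' := by
        rintro a b ⟨ha, ha'⟩ ⟨hb, hb'⟩
        exact ⟨mul_mem ha hb, by rw [hmg.mul (hZS a ha) (hZS b hb), ha', hb']⟩
      inv_mem' := by
        rintro a ⟨ha, ha'⟩
        exact ⟨inv_mem ha, by rw [hmg.inv (hZS a ha), ha']⟩ }
  have hYfin : Finite Y := finite_of_le (B := S) (fun y hy => hZS y hy.1)
  have himg : ∀ {f : Ω → Ω} {P : Subgroup Ω}, Mor F P f → Y ≤ P → (∀ y ∈ Y, f y ∈ Y) → img Y f = Y := by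
    intro f P hf hYP h
    apply eq_of_le_of_card (img_le_iff.2 h)
    rw [(hf.mono hYP).card_img]
  -- Claim 1
  have claim1 : ∀ E (hE : CE F E) s (hs : s ∈ S) (hsE : s ∉ E), ∀ γ ∈ F.autGroup E, ∀ y (hy : y ∈ Y),
      (γ * conjAut E s (ci_norm hS hZ hE.le hE.ne hE.cen hs) * γ⁻¹) ⟨y, ci_le hE.le hE.cen hy.1⟩ =
        ⟨y, ci_le hE.le hE.cen hy.1⟩ := by
    intro E hE s hs hsE γ hγ y hy
    letI := cg (ci_comm hS hZ hE.le hE.ne hE.cen)
    obtain ⟨htv, hαA, hsyl, -, hext, hCf, hUm, hU⟩ := hE.data hS hF hZ hs hsE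
    obtain ⟨α, hα⟩ : ∃ α, α = conjAut E s (ci_norm hS hZ hE.le hE.ne hE.cen hs) := ⟨_, rfl⟩
    rw [← hα] at htv hαA hext hCf hUm ⊢
    have hyC : (⟨y, ci_le hE.le hE.cen hy.1⟩ : E) ∈ Cf α := (hCf _).2 hy.1
    by_cases hn : γ * α * γ⁻¹ ∈ Subgroup.zpowers α
    · obtain ⟨n, hn⟩ := hn
      have hn' : α ^ n = γ * α * γ⁻¹ := hn
      rw [← hn']
      exact zpow_of_fix α (U := Cf α) (fun u hu => mem_Cf.1 hu) n _ hyC
    · rw [hα] at hn
      obtain ⟨g, hg, hgg, hgz⟩ := exists_good hS hF hZ hp2 hE hs hsE γ hγ hn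
      have h1 := (hgz ⟨y, ci_le hE.le hE.cen hy.1⟩ hy.1).1 (by
        rw [good_unique hS hF hZ hU hUZ hg hg₀ hgg hgg₀ hy.1]; exact hy.2)
      rw [← hα] at h1
      exact mem_Cf.1 h1
  -- Claim 2
  have claim2 : ∀ E (hE : CE F E), ∀ γ ∈ F.autGroup E, ∀ y ∈ Y, autFun γ y ∈ Y := by
    intro E hE γ hγ y hy
    obtain ⟨s, hs, hsE⟩ := SetLike.exists_of_lt (lt_of_le_of_ne hE.le hE.ne)
    letI := cg (ci_comm hS hZ hE.le hE.ne hE.cen)
    obtain ⟨htv, hαA, hsyl, ⟨γ₁, hγ₁, hγ₁n⟩, hext, hCf, hUm, hU⟩ := hE.data hS hF hZ hs hsE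
    have hyE := ci_le hE.le hE.cen hy.1
    have key : ∀ δ ∈ F.autGroup E,
        (δ * conjAut E s (ci_norm hS hZ hE.le hE.ne hE.cen hs) * δ⁻¹) (γ ⟨y, hyE⟩) = γ ⟨y, hyE⟩ := by
      intro δ hδ
      have h1 := claim1 E hE s hs hsE (γ⁻¹ * δ) (mul_mem (inv_mem hγ) hδ) y hy
      have h2 : γ⁻¹ * δ * conjAut E s (ci_norm hS hZ hE.le hE.ne hE.cen hs) * (γ⁻¹ * δ)⁻¹ =
          γ⁻¹ * (δ * conjAut E s (ci_norm hS hZ hE.le hE.ne hE.cen hs) * δ⁻¹) * γ := by group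
      rw [h2, MulAut.mul_apply, MulAut.mul_apply] at h1
      have h3 := congrArg γ h1
      rwa [MulAut.apply_inv_self] at h3
    have h1 : γ ⟨y, hyE⟩ ∈ Cf (conjAut E s (ci_norm hS hZ hE.le hE.ne hE.cen hs)) := by
      rw [mem_Cf]
      have := key 1 (one_mem _)
      rwa [one_mul, inv_one, mul_one] at this
    have h2 : ((γ ⟨y, hyE⟩ : E) : Ω) ∈ centralizerIn S S := (hCf _).1 h1
    rw [autFun_apply γ hyE]
    refine ⟨h2, ?_⟩
    obtain ⟨g, hg, hgg, hgz⟩ := exists_good hS hF hZ hp2 hE hs hsE γ₁ hγ₁ hγ₁n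
    rw [good_unique hS hF hZ hU hUZ hg₀ hg hgg₀ hgg h2]
    exact (hgz _ h2).2 (mem_Cf.2 (key γ₁ hγ₁))
  -- Claim 3
  have claim3 : ∀ γ ∈ F.autGroup S, ∀ y ∈ Y, autFun γ y ∈ Y := by
    intro γ hγ y hy
    have hyS := hZS y hy.1
    have h1 := aut_center hγ hy.1
    refine ⟨h1, ?_⟩
    rw [good_unique hS hF hZ hU hUZ hg₀ (mul_mem (mul_mem hγ hg₀) (inv_mem hγ)) hgg₀
      (good_conj hS hF hZ hγ hgg₀) h1, autFun_mul _ _ (autFun_mem _ hyS),
      autFun_inv_apply _ hyS, autFun_mul _ _ hyS, hy.2]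
  have hYn : F.IsNormal Y := by
    apply normal_of_essential hS hF
    intro P hP
    by_cases hPS : P = S
    · subst hPS
      exact ⟨fun y hy => hZS y hy.1, fun α hα => himg (mor_autFun le_rfl hα) (fun y hy => hZS y hy.1)
        (claim3 α hα)⟩
    · have hPe := ess_CE hS hF hZ (hP.resolve_left hPS) hPS
      have hYP : Y ≤ P := fun y hy => ci_le hPe.le hPe.cen hy.1
      exact ⟨hYP, fun α hα => himg (mor_autFun hPe.le hα) hYP (claim2 P hPe α hα)⟩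
  have hY : Y = ⊥ := by
    have := le_core hYn
    rwa [hcore, le_bot_iff] at this
  -- structure of the essential subgroups
  have hstr : ∀ E, CE F E → Nat.card E = p ^ 2 ∧ ∀ x ∈ E, x ^ p = 1 := by
    intro E hE
    obtain ⟨s, hs, hsE⟩ := SetLike.exists_of_lt (lt_of_le_of_ne hE.le hE.ne)
    letI := cg (ci_comm hS hZ hE.le hE.ne hE.cen)
    obtain ⟨htv, hαA, hsyl, ⟨γ₁, hγ₁, hγ₁n⟩, hext, hCf, hUm, hU⟩ := hE.data hS hF hZ hs hsE
    have hEf : Finite E := finite_of_le hE.le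
    have hEp : IsPGroup p E := hS.to_le hE.le
    obtain ⟨g, hg, hgg, hgz⟩ := exists_good hS hF hZ hp2 hE hs hsE γ₁ hγ₁ hγ₁n
    obtain ⟨α, hα⟩ : ∃ α, α = conjAut E s (ci_norm hS hZ hE.le hE.ne hE.cen hs) := ⟨_, rfl⟩
    rw [← hα] at htv hαA hext hCf hUm hγ₁n hgz
    have hn := not_isPGroup_pair hsyl hαA htv (mul_mem (mul_mem hγ₁ hαA) (inv_mem hγ₁)) hγ₁n
    have hbot : Cf α ⊓ Cf (γ₁ * α * γ₁⁻¹) = ⊥ := by
      rw [eq_bot_iff]
      intro x hx
      have h1 : (x : Ω) ∈ centralizerIn S S := (hCf x).1 hx.1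
      have h2 : (x : Ω) ∈ Y := ⟨h1, by
        rw [good_unique hS hF hZ hU hUZ hg₀ hg hgg₀ hgg h1]; exact (hgz x h1).2 hx.2⟩
      rw [hY, Subgroup.mem_bot] at h2
      exact Subgroup.mem_bot.2 (Subtype.ext h2)
    have hcard := card_C hEp htv (htv.conj γ₁) hn
    rw [hbot, Subgroup.card_bot, mul_one] at hcard
    refine ⟨hcard, fun x hx => ?_⟩
    have htop : Um α ⊔ Um (γ₁ * α * γ₁⁻¹) = ⊤ := by
      apply Subgroup.eq_top_of_card_eq
      rw [card_V hEp htv (htv.conj γ₁) hn, hcard]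
    have h1 : (⟨x, hx⟩ : E) ∈ Um α ⊔ Um (γ₁ * α * γ₁⁻¹) := by rw [htop]; exact Subgroup.mem_top _
    obtain ⟨a, ha, b, hb, hab⟩ := Subgroup.mem_sup.1 h1
    have ha1 : a ^ p = 1 := by
      have h4 : (⟨a, ha⟩ : Um α) ^ Nat.card (Um α) = 1 := pow_card_eq_one'
      rw [htv.card] at h4
      exact congrArg Subtype.val h4
    have hb1 : b ^ p = 1 := by
      have h4 : (⟨b, hb⟩ : Um (γ₁ * α * γ₁⁻¹)) ^ Nat.card (Um (γ₁ * α * γ₁⁻¹)) = 1 := pow_card_eq_one'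
      rw [(htv.conj γ₁).card] at h4
      exact congrArg Subtype.val h4
    have h2 : (⟨x, hx⟩ : E) ^ p = 1 := by rw [← hab, mul_pow, ha1, hb1, mul_one]
    exact congrArg Subtype.val h2
  have hcardS : Nat.card S = p ^ 3 := by
    rw [(ci_card hS hZ hCE₀.le hCE₀.ne hCE₀.cen).2, (hstr E₀ hCE₀).1]; ring
  refine ⟨hcardS, ?_⟩
  by_contra hcon
  push Not at hcon
  obtain ⟨x₀, hx₀, hx₀p⟩ := hcon
  let O : Subgroup Ω :=
    { carrier := {x | x ∈ S ∧ x ^ p = 1}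
      one_mem' := ⟨one_mem _, one_pow _⟩
      mul_mem' := by
        rintro a b ⟨ha, ha'⟩ ⟨hb, hb'⟩
        refine ⟨mul_mem ha hb, ?_⟩
        have h1 : ⁅b, a⁆ ∈ ⁅S, S⁆ := Subgroup.commutator_mem_commutator hb ha
        have h2 := mem_centralizerIn.1 (hUZ h1)
        have h3 : ⁅b, a⁆ ^ p = 1 := by
          have h4 : (⟨⁅b, a⁆, h1⟩ : (⁅S, S⁆ : Subgroup Ω)) ^ Nat.card (⁅S, S⁆ : Subgroup Ω) = 1 := pow_card_eq_one'
          rw [hU] at h4
          exact congrArg Subtype.val h4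
        have hdiv : p ∣ p * (p - 1) / 2 := by
          have h9 : 2 ∣ p - 1 := by
            rcases hp.out.eq_two_or_odd' with h | h
            · exact absurd h hp2
            · obtain ⟨k, hk⟩ := h
              exact ⟨k, by omega⟩
          rw [Nat.mul_div_assoc _ h9]
          exact dvd_mul_right _ _
        obtain ⟨l, hl⟩ := hdiv
        rw [H2.mul_pow_of_comm (h2.2 a ha).symm (h2.2 b hb).symm p, ha', hb', hl, pow_mul, h3, one_pow,
          one_mul, one_mul]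
      inv_mem' := by
        rintro a ⟨ha, ha'⟩
        exact ⟨inv_mem ha, by rw [inv_pow, ha', inv_one]⟩ }
  have hEO : ∀ E, CE F E → E = O := by
    intro E hE
    have h1 : E ≤ O := fun x hx => ⟨hE.le hx, (hstr E hE).2 x hx⟩
    apply le_antisymm h1
    intro x hx
    by_contra hxE
    exact hx₀p (ci_gen hS hZ hE.le hE.ne hE.cen hx.1 hxE h1 hx hx₀).2
  have hOS : O ≤ S := fun x hx => hx.1
  have hOfin : Finite O := finite_of_le hOS
  have hOn : F.IsNormal O := by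
    apply normal_of_essential hS hF
    intro P hP
    by_cases hPS : P = S
    · subst hPS
      refine ⟨hOS, fun α hα => ?_⟩
      have hm := mor_autFun le_rfl hα
      apply eq_of_le_of_card (img_le_iff.2 fun y hy => ?_)
      · rw [(hm.mono hOS).card_img]
      · exact ⟨hm.mem hy.1, by rw [← hm.pow hy.1, hy.2, hm.one]⟩
    · have hPe := ess_CE hS hF hZ (hP.resolve_left hPS) hPS
      have := hEO P hPe
      subst this
      exact ⟨le_rfl, fun α hα => img_autFun α⟩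
  have h1 := le_core hOn
  rw [hcore, le_bot_iff] at h1
  have h2 := (hstr E₀ hCE₀).1
  rw [hEO E₀ hCE₀, h1, Subgroup.card_bot] at h2
  have := hp.out.one_lt
  nlinarith

end

end Cfsg.Agent.H28
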