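import Mathlib
import Cfsg.Agent.H28.CIdx4

/-!
Fusion systems over `2`-groups whose centre has index `4`.
-/

set_option autoImplicit false

namespace Cfsg.Agent.H28

open Cfsg.FusionSystem
open scoped commutatorElement

universe u

section
variable {Ω : Type u} [Group Ω] {S : Subgroup Ω} {F : FusionSystem S} {E : Subgroup Ω}
  [Finite S]

/-- The structure of a relevant subgroup for `p = 2`. -/
structure Pk (F : FusionSystem S) (E C V : Subgroup Ω) : Prop where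
  memC : ∀ x, x ∈ C ↔ x ∈ centralizerIn S S ∧ ∀ δ ∈ F.autGroup E, autFun δ x ∈ centralizerIn S S
  UV : ⁅S, S⁆ ≤ V
  VE : V ≤ E
  cardV : Nat.card V = 4
  sqV : ∀ v ∈ V, v * v = 1
  invV : ∀ δ ∈ F.autGroup E, ∀ v ∈ V, autFun δ v ∈ V
  decZ : ∀ z ∈ centralizerIn S S, ∃ u ∈ ⁅S, S⁆, ∃ c ∈ C, z = u * c
  decE : ∀ e ∈ E, ∃ v ∈ V, ∃ c ∈ C, e = v * c
  disj : ∀ x ∈ C, x ∈ ⁅S, S⁆ → x = 1
  out : ∃ a ∈ V, a ∉ centralizerIn S S
  frat : ∀ δ ∈ F.autGroup E, ∃ μ ∈ F.autGroup E, ∃ g ∈ F.autGroup S,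
    (∀ x ∈ E, autFun g x ∈ E) ∧ (∀ x ∈ E, autFun δ x = autFun μ (autFun g x)) ∧
    (∀ c ∈ C, autFun μ c = c) ∧ ∀ x ∈ E, autFun μ x * x⁻¹ ∈ V

theorem CE.derived {p : ℕ} [hp : Fact p.Prime] (hS : IsPGroup p S) (hF : F.IsSaturated p)
    (hZ : Nat.card S ≤ p ^ 2 * Nat.card (centralizerIn S S)) (hE : CE F E) :
    Nat.card (⁅S, S⁆ : Subgroup Ω) = p ∧ ⁅S, S⁆ ≤ centralizerIn S S := by
  obtain ⟨s, hs, hsE⟩ := SetLike.exists_of_lt (lt_of_le_of_ne hE.le hE.ne)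
  obtain ⟨htv, hαA, hsyl, -, hext, hCf, hUm, hU⟩ := hE.data hS hF hZ hs hsE
  letI := cg (ci_comm hS hZ hE.le hE.ne hE.cen)
  have hEf : Finite E := finite_of_le hE.le
  refine ⟨hU, ?_⟩
  have hle : (Um (conjAut E s (ci_norm hS hZ hE.le hE.ne hE.cen hs))).map E.subtype ≤ ⁅S, S⁆ := by
    rintro _ ⟨x, hx, rfl⟩; exact (hUm x).1 hx
  have hfin : Finite (⁅S, S⁆ : Subgroup Ω) := finite_of_le comm_le_self
  have h3 : (Um (conjAut E s (ci_norm hS hZ hE.le hE.ne hE.cen hs))).map E.subtype = ⁅S, S⁆ := by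
    apply eq_of_le_of_card hle
    exact (hU.trans htv.card.symm).le.trans
      (Nat.card_congr ((Um _).equivMapOfInjective _ (Subgroup.subtype_injective E)).toEquiv).le
  rw [← h3]
  rintro _ ⟨x, hx, rfl⟩
  exact (hCf x).1 (htv.le hx)

variable (hS : IsPGroup 2 S) (hF : F.IsSaturated 2)
  (hZ : Nat.card S ≤ 2 ^ 2 * Nat.card (centralizerIn S S))

include hS hF hZ

theorem exists_pk (hE : CE F E) : ∃ C V, Pk F E C V := by
  obtain ⟨s, hs, hsE⟩ := SetLike.exists_of_lt (lt_of_le_of_ne hE.le hE.ne)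
  letI := cg (ci_comm hS hZ hE.le hE.ne hE.cen)
  obtain ⟨htv, hαA, hsyl, ⟨γ₁, hγ₁, hγ₁n⟩, hext, hCf, hUm, hU⟩ := hE.data hS hF hZ hs hsE
  have hEf : Finite E := finite_of_le hE.le
  have hEp : IsPGroup 2 E := hS.to_le hE.le
  have hZE := ci_le hE.le hE.cen
  have hUZ := (hE.derived hS hF hZ).2
  obtain ⟨α, hα⟩ : ∃ α, α = conjAut E s (ci_norm hS hZ hE.le hE.ne hE.cen hs) := ⟨_, rfl⟩
  rw [← hα] at htv hαA hext hCf hUm hγ₁n
  obtain ⟨β, hβ⟩ : ∃ β, β = γ₁ * α * γ₁⁻¹ := ⟨_, rfl⟩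
  have hβA : β ∈ F.autGroup E := by rw [hβ]; exact mul_mem (mul_mem hγ₁ hαA) (inv_mem hγ₁)
  have hβt : IsTv 2 β := by rw [hβ]; exact htv.conj γ₁
  have hαβ : α ≠ β := by
    intro h
    apply hγ₁n
    rw [← hβ, ← h]; exact Subgroup.mem_zpowers α
  have hn := tv_not_pair hEp hsyl hαA htv hβA hβt hαβ
  have hinv := fun δ (hδ : δ ∈ F.autGroup E) => tv_invariant hEp hsyl hαA htv hβA hβt hαβ hδ
  have hVC := V_inf_Cf hEp htv hβt hn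
  have hUE : ∀ u ∈ ⁅S, S⁆, u ∈ E := fun u hu => hZE (hUZ hu)
  have hsq : ∀ v ∈ Um α ⊔ Um β, v ^ 2 = 1 := by
    intro v hv
    obtain ⟨a, ha, b, hb, rfl⟩ := Subgroup.mem_sup.1 hv
    have ha1 : a ^ 2 = 1 := by
      have h4 : (⟨a, ha⟩ : Um α) ^ Nat.card (Um α) = 1 := pow_card_eq_one'
      rw [htv.card] at h4
      exact congrArg Subtype.val h4
    have hb1 : b ^ 2 = 1 := by
      have h4 : (⟨b, hb⟩ : Um β) ^ Nat.card (Um β) = 1 := pow_card_eq_one'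
      rw [hβt.card] at h4
      exact congrArg Subtype.val h4
    rw [mul_pow, ha1, hb1, mul_one]
  refine ⟨(Cf α ⊓ Cf β).map E.subtype, (Um α ⊔ Um β).map E.subtype, ?_, ?_, ?_, ?_, ?_, ?_, ?_, ?_, ?_, ?_, ?_⟩
  · intro x
    constructor
    · rintro ⟨c, hc, rfl⟩
      refine ⟨(hCf c).1 hc.1, fun δ hδ => ?_⟩
      rw [show autFun δ (E.subtype c) = (δ c : Ω) from autFun_coe δ c]
      exact (hCf _).1 ((hinv δ hδ).1 c hc).1
    · rintro ⟨hx, hδx⟩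
      refine ⟨⟨x, hZE hx⟩, ⟨(hCf _).2 hx, ?_⟩, rfl⟩
      show (⟨x, hZE hx⟩ : E) ∈ Cf β
      rw [hβ, mem_Cf_conj]
      have h1 := hδx γ₁⁻¹ (inv_mem hγ₁)
      rw [autFun_apply _ (hZE hx)] at h1
      exact (hCf _).2 h1
  · intro u hu
    exact ⟨⟨u, hUE u hu⟩, Subgroup.mem_sup_left ((hUm _).2 hu), rfl⟩
  · rintro _ ⟨x, -, rfl⟩; exact x.2
  · rw [Nat.card_congr ((Um α ⊔ Um β).equivMapOfInjective _ (Subgroup.subtype_injective E)).toEquiv.symm,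
      card_V hEp htv hβt hn]; norm_num
  · rintro _ ⟨x, hx, rfl⟩
    have h1 := hsq x hx
    rw [sq] at h1
    exact congrArg Subtype.val h1
  · rintro δ hδ _ ⟨v, hv, rfl⟩
    rw [show autFun δ (E.subtype v) = (δ v : Ω) from autFun_coe δ v]
    exact ⟨_, (hinv δ hδ).2 v hv, rfl⟩
  · intro z hz
    have hzC : (⟨z, hZE hz⟩ : E) ∈ Cf α := (hCf _).2 hz
    obtain ⟨v, hv, c, hc, h1⟩ := exists_decomp hEp htv hβt hn (⟨z, hZE hz⟩ : E)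
    refine ⟨v, ?_, c, ⟨c, hc, rfl⟩, by rw [← Subgroup.coe_mul, h1]⟩
    rw [← hUm, ← hVC]
    refine ⟨hv, ?_⟩
    have h2 := mul_mem hzC (inv_mem hc.1)
    rwa [← h1, mul_inv_cancel_right] at h2
  · intro e he
    obtain ⟨v, hv, c, hc, h1⟩ := exists_decomp hEp htv hβt hn (⟨e, he⟩ : E)
    exact ⟨v, ⟨v, hv, rfl⟩, c, ⟨c, hc, rfl⟩, by rw [← Subgroup.coe_mul, h1]⟩
  · rintro _ ⟨c, hc, rfl⟩ hcU
    have h1 : c ∈ Um α := (hUm c).2 hcU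
    have h2 : c ∈ (Um α ⊔ Um β) ⊓ (Cf α ⊓ Cf β) := ⟨Subgroup.mem_sup_left h1, hc⟩
    rw [V_inf_C hEp htv hβt hn, Subgroup.mem_bot] at h2
    rw [h2]; rfl
  · obtain ⟨b, hb, hb1, -⟩ := tv_exists hEp hsyl hβt
    refine ⟨b, ⟨b, Subgroup.mem_sup_right hb, rfl⟩, fun h => ?_⟩
    exact tv_nofix hEp hsyl hαA htv hβA hβt hαβ hb hb1 (mem_Cf.1 ((hCf b).2 h))
  · intro δ hδ
    obtain ⟨μ, hμ, ν, hν, h1, h2, h3, h4⟩ := tv_frattini hEp hsyl hαA htv hβA hβt hαβ hδ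
    obtain ⟨g, hg, hgx⟩ := hext ν hν (by rw [h2]; exact Subgroup.mem_zpowers α)
    refine ⟨μ, hμ, g, hg, fun x hx => ?_, fun x hx => ?_, ?_, fun x hx => ?_⟩
    · rw [hgx x hx]; exact autFun_mem _ hx
    · rw [h1, autFun_mul _ _ hx, hgx x hx]
    · rintro _ ⟨c, hc, rfl⟩
      rw [show autFun μ (E.subtype c) = (μ c : Ω) from autFun_coe μ c, h3 c hc]; rfl
    · rw [autFun_apply μ hx]
      exact ⟨_, h4 ⟨x, hx⟩, rfl⟩

end

end Cfsg.Agent.H28
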