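import Mathlib
import Cfsg.Agent.H28.CIdx5
import Cfsg.Agent.S0206
import Cfsg.Agent.H19.Cube

/-!
Fusion systems over `2`-groups whose centre has index `4`.
-/

set_option autoImplicit false

namespace Cfsg.Agent.H28

open Cfsg.FusionSystem
open scoped commutatorElement

universe u

section
variable {Ω : Type u} [Group Ω] {S : Subgroup Ω} {F : FusionSystem S} {E : Subgroup Ω}
  [Finite S]

theorem mem_Z_S {x : Ω} (hx : x ∈ centralizerIn S S) : x ∈ S := (mem_centralizerIn.1 hx).1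

variable (hS : IsPGroup 2 S) (hF : F.IsSaturated 2)
  (hZ : Nat.card S ≤ 2 ^ 2 * Nat.card (centralizerIn S S))

include hS hF hZ

/-- `CE` is preserved by `Aut_F(S)`. -/
theorem CE.img (hE : CE F E) {γ : MulAut S} (hγ : γ ∈ F.autGroup S) :
    CE F (img E (autFun γ)) := by
  have hm := mor_autFun le_rfl hγ
  have hmE := hm.mono hE.le
  have hm' := mor_autFun le_rfl (inv_mem hγ)
  refine ⟨hmE.img_le, fun h => ?_, fun y hy => ?_, ?_⟩
  · apply hE.ne
    apply eq_of_le_of_card hE.le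
    rw [← hmE.card_img, h]
  · obtain ⟨hyS, hyc⟩ := mem_centralizerIn.1 hy
    rw [hmE.mem_img]
    refine ⟨autFun γ⁻¹ y, ?_, autFun_apply_inv _ hyS⟩
    apply hE.cen
    refine mem_centralizerIn.2 ⟨autFun_mem _ hyS, fun e he => ?_⟩
    have h1 := hyc (autFun γ e) (mem_img_of_mem he)
    have h2 := congrArg (autFun γ⁻¹) h1
    rw [hm'.mul hyS (autFun_mem _ (hE.le he)), hm'.mul (autFun_mem _ (hE.le he)) hyS,
      autFun_inv_apply _ (hE.le he)] at h2
    exact h2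
  · obtain ⟨δ, hδ, u, hu, hδu⟩ := hE.mv
    have huE : u ∈ E := ci_le hE.le hE.cen ((hE.derived hS hF hZ).2 hu)
    refine ⟨hmE.transport δ, hmE.transport_mem hδ, autFun γ u, aut_derived hγ hu, fun h => ?_⟩
    rw [hmE.transport_apply δ huE] at h
    apply hδu
    have h1 := aut_derived (inv_mem hγ) h
    rwa [autFun_inv_apply _ (hE.le (autFun_mem _ huE))] at h1

/-- The intersection of the cores is normal. -/
theorem core_trivial (hcore : F.core = ⊥) {x : Ω} (hx : x ∈ centralizerIn S S)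
    (h : ∀ E, CE F E → ∀ δ ∈ F.autGroup E, autFun δ x ∈ centralizerIn S S) : x = 1 := by
  let C₀ : Subgroup Ω :=
    { carrier := {x | x ∈ centralizerIn S S ∧ ∀ E, CE F E → ∀ δ ∈ F.autGroup E, autFun δ x ∈ centralizerIn S S}
      one_mem' := ⟨one_mem _, fun E hE δ hδ => by rw [(mor_autFun hE.le hδ).one]; exact one_mem _⟩
      mul_mem' := by
        rintro a b ⟨ha, ha'⟩ ⟨hb, hb'⟩
        refine ⟨mul_mem ha hb, fun E hE δ hδ => ?_⟩
        rw [(mor_autFun hE.le hδ).mul (ci_le hE.le hE.cen ha) (ci_le hE.le hE.cen hb)]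
        exact mul_mem (ha' E hE δ hδ) (hb' E hE δ hδ)
      inv_mem' := by
        rintro a ⟨ha, ha'⟩
        refine ⟨inv_mem ha, fun E hE δ hδ => ?_⟩
        rw [(mor_autFun hE.le hδ).inv (ci_le hE.le hE.cen ha)]
        exact inv_mem (ha' E hE δ hδ) }
  have hC₀fin : Finite C₀ := finite_of_le (B := S) (fun y hy => mem_Z_S hy.1)
  have himg : ∀ {f : Ω → Ω} {P : Subgroup Ω}, Mor F P f → C₀ ≤ P → (∀ y ∈ C₀, f y ∈ C₀) →
      img C₀ f = C₀ := by
    intro f P hf hYP h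
    apply eq_of_le_of_card (img_le_iff.2 h)
    rw [(hf.mono hYP).card_img]
  have hinvS : ∀ γ ∈ F.autGroup S, ∀ y ∈ C₀, autFun γ y ∈ C₀ := by
    intro γ hγ y hy
    have hyS := mem_Z_S hy.1
    refine ⟨aut_center hγ hy.1, fun E hE δ hδ => ?_⟩
    have hCE' := CE.img hS hF hZ hE (inv_mem hγ)
    have hmE := (mor_autFun le_rfl (inv_mem hγ)).mono hE.le
    have hyE : autFun γ y ∈ E := ci_le hE.le hE.cen (aut_center hγ hy.1)
    have h1 := hy.2 _ hCE' _ (hmE.transport_mem hδ)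
    have h2 := hmE.transport_apply δ hyE
    rw [autFun_inv_apply _ hyS] at h2
    rw [h2] at h1
    have h3 := aut_center hγ h1
    rwa [autFun_apply_inv _ (hE.le (autFun_mem _ hyE))] at h3
  have hn : F.IsNormal C₀ := by
    apply normal_of_essential hS hF
    intro P hP
    by_cases hPS : P = S
    · subst hPS
      exact ⟨fun y hy => mem_Z_S hy.1, fun α hα => himg (mor_autFun le_rfl hα)
        (fun y hy => mem_Z_S hy.1) (hinvS α hα)⟩
    · have hPe := ess_CE hS hF hZ (hP.resolve_left hPS) hPS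
      have hYP : C₀ ≤ P := fun y hy => ci_le hPe.le hPe.cen hy.1
      refine ⟨hYP, fun α hα => himg (mor_autFun hPe.le hα) hYP fun y hy => ?_⟩
      obtain ⟨C, V, hpk⟩ := exists_pk hS hF hZ hPe
      obtain ⟨μ, hμ, g, hg, hgP, h1, h2, h3⟩ := hpk.frat α hα
      have h4 := hinvS g hg y hy
      have h5 : autFun g y ∈ C := (hpk.memC _).2 ⟨h4.1, fun δ hδ => h4.2 P hPe δ hδ⟩
      rw [h1 y (hYP hy), h2 _ h5]
      exact h4
  have h1 := le_core hn
  rw [hcore, le_bot_iff] at h1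
  have h2 : x ∈ C₀ := ⟨hx, h⟩
  rwa [h1, Subgroup.mem_bot] at h2

omit hF in
theorem idx2 (hE : CE F E) {x y : Ω} (hx : x ∈ S) (hxE : x ∉ E) (hy : y ∈ S) (hyE : y ∉ E) :
    x⁻¹ * y ∈ E := by
  have h1 : (E.subgroupOf S).index = 2 := by
    have h2 := (E.subgroupOf S).card_mul_index
    rw [Nat.card_congr (Subgroup.subgroupOfEquivOfLe hE.le).toEquiv,
      (ci_card hS hZ hE.le hE.ne hE.cen).2, mul_comm] at h2
    have : Finite E := finite_of_le hE.le
    exact Nat.eq_of_mul_eq_mul_right Nat.card_pos h2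
  have h2 := Subgroup.mul_mem_iff_of_index_two h1 (a := (⟨x, hx⟩ : S)⁻¹) (b := ⟨y, hy⟩)
  have h3 : (⟨x, hx⟩ : S)⁻¹ ∈ E.subgroupOf S ↔ (⟨y, hy⟩ : S) ∈ E.subgroupOf S := by
    rw [inv_mem_iff, Subgroup.mem_subgroupOf, Subgroup.mem_subgroupOf]
    exact ⟨fun h => absurd h hxE, fun h => absurd h hyE⟩
  exact h2.2 h3

omit hF in
theorem idx2' (hE : CE F E) {x y : Ω} (hx : x ∈ E) (hxZ : x ∉ centralizerIn S S) (hy : y ∈ E)
    (hyZ : y ∉ centralizerIn S S) : x⁻¹ * y ∈ centralizerIn S S := by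
  have hZE := ci_le hE.le hE.cen
  have h1 : ((centralizerIn S S).subgroupOf E).index = 2 := by
    have h2 := ((centralizerIn S S).subgroupOf E).card_mul_index
    rw [Nat.card_congr (Subgroup.subgroupOfEquivOfLe hZE).toEquiv,
      (ci_card hS hZ hE.le hE.ne hE.cen).1, mul_comm] at h2
    have : Finite (centralizerIn S S) := finite_of_le centralizerIn_le
    exact Nat.eq_of_mul_eq_mul_right Nat.card_pos h2
  have h2 := Subgroup.mul_mem_iff_of_index_two h1 (a := (⟨x, hx⟩ : E)⁻¹) (b := ⟨y, hy⟩)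
  have h3 : (⟨x, hx⟩ : E)⁻¹ ∈ (centralizerIn S S).subgroupOf E ↔
      (⟨y, hy⟩ : E) ∈ (centralizerIn S S).subgroupOf E := by
    rw [inv_mem_iff, Subgroup.mem_subgroupOf, Subgroup.mem_subgroupOf]
    exact ⟨fun h => absurd h hxZ, fun h => absurd h hyZ⟩
  exact h2.2 h3

omit hF in
theorem not_mem_of_ne {E' : Subgroup Ω} (hE : CE F E) (hE' : CE F E') (hne : E ≠ E') {a : Ω}
    (ha : a ∈ E) (haZ : a ∉ centralizerIn S S) : a ∉ E' := by
  intro h
  apply hne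
  have : Finite E := finite_of_le hE.le
  have : Finite E' := finite_of_le hE'.le
  have h1 : E ≤ E' := le_of_prime_index Nat.prime_two (ci_le hE.le hE.cen)
    (ci_card hS hZ hE.le hE.ne hE.cen).1 (ci_le hE'.le hE'.cen) ha h haZ
  apply eq_of_le_of_card h1
  rw [(ci_card hS hZ hE.le hE.ne hE.cen).1, (ci_card hS hZ hE'.le hE'.ne hE'.cen).1]

/-- There are at most two relevant subgroups. -/
theorem no_third {E₁ E₂ E₃ : Subgroup Ω} (h1 : CE F E₁) (h2 : CE F E₂) (h3 : CE F E₃)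
    (h12 : E₁ ≠ E₂) (h13 : E₁ ≠ E₃) (h23 : E₂ ≠ E₃) : False := by
  obtain ⟨C₁, V₁, pk1⟩ := exists_pk hS hF hZ h1
  obtain ⟨C₂, V₂, pk2⟩ := exists_pk hS hF hZ h2
  obtain ⟨C₃, V₃, pk3⟩ := exists_pk hS hF hZ h3
  obtain ⟨a₁, ha₁, ha₁Z⟩ := pk1.out
  obtain ⟨a₂, ha₂, ha₂Z⟩ := pk2.out
  obtain ⟨a₃, ha₃, ha₃Z⟩ := pk3.out
  have e1 := pk1.VE ha₁
  have e2 := pk2.VE ha₂
  have e3 := pk3.VE ha₃
  have n21 : a₂ ∉ E₁ := not_mem_of_ne hS hZ h2 h1 h12.symm e2 ha₂Z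
  have n31 : a₃ ∉ E₁ := not_mem_of_ne hS hZ h3 h1 h13.symm e3 ha₃Z
  have n32 : a₃ ∉ E₂ := not_mem_of_ne hS hZ h3 h2 h23.symm e3 ha₃Z
  have m1 : a₂⁻¹ * a₃ ∈ E₁ := idx2 hS hZ h1 (h2.le e2) n21 (h3.le e3) n31
  have m2 : a₂⁻¹ * a₃ ∉ centralizerIn S S := by
    intro h
    apply n32
    have := mul_mem e2 (ci_le h2.le h2.cen h)
    rwa [mul_inv_cancel_left] at this
  have m3 : a₁⁻¹ * (a₂⁻¹ * a₃) ∈ centralizerIn S S := idx2' hS hZ h1 e1 ha₁Z m1 m2
  obtain ⟨u, hu, c, hc, hz⟩ := pk1.decZ _ m3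
  have hcZ := ((pk1.memC c).1 hc).1
  have huZ := (h1.derived hS hF hZ).2 hu
  have hu2 : u * u = 1 := pk1.sqV u (pk1.UV hu)
  have ha3 : a₃ = a₂ * a₁ * (u * c) := by rw [← hz]; group
  have s1 : a₁ * a₁ = 1 := pk1.sqV _ ha₁
  have s2 : a₂ * a₂ = 1 := pk2.sqV _ ha₂
  have s3 : a₃ * a₃ = 1 := pk3.sqV _ ha₃
  have i1 : a₁⁻¹ = a₁ := inv_eq_of_mul_eq_one_left s1
  have i2 : a₂⁻¹ = a₂ := inv_eq_of_mul_eq_one_left s2
  obtain ⟨w, hw⟩ : ∃ w, w = a₂ * a₁ * a₂⁻¹ * a₁⁻¹ := ⟨_, rfl⟩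
  have hwU : w ∈ ⁅S, S⁆ := by
    rw [hw, ← commutatorElement_def]
    exact Subgroup.commutator_mem_commutator (h2.le e2) (h1.le e1)
  have hw1 : w ≠ 1 := by
    intro h
    apply ha₁Z
    apply ci_fix hS hZ h1.le h1.ne h1.cen (h2.le e2) n21 e1
    rw [hw] at h
    exact mul_inv_eq_one.1 h
  have hcomm : ∀ z ∈ centralizerIn S S, ∀ y ∈ S, z * y = y * z := fun z hz y hy =>
    (mem_centralizerIn.1 hz).2 y hy
  have hucZ : u * c ∈ centralizerIn S S := mul_mem huZ hcZ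
  have haS : a₂ * a₁ ∈ S := mul_mem (h2.le e2) (h1.le e1)
  have h5 : w * (c * c) = 1 := by
    have h6 : (a₂ * a₁) * (a₂ * a₁) = w := by rw [hw, i1, i2]; group
    have h7 : (u * c) * (u * c) = c * c := by
      calc (u * c) * (u * c) = u * (c * u) * c := by group
        _ = u * (u * c) * c := by rw [hcomm c hcZ u (mem_Z_S huZ)]
        _ = (u * u) * (c * c) := by group
        _ = c * c := by rw [hu2, one_mul]
    calc w * (c * c) = (a₂ * a₁) * (a₂ * a₁) * ((u * c) * (u * c)) := by rw [h6, h7]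
      _ = (a₂ * a₁) * ((a₂ * a₁) * (u * c)) * (u * c) := by group
      _ = (a₂ * a₁) * ((u * c) * (a₂ * a₁)) * (u * c) := by rw [hcomm _ hucZ _ haS]
      _ = (a₂ * a₁ * (u * c)) * (a₂ * a₁ * (u * c)) := by group
      _ = 1 := by rw [← ha3, s3]
  have h6 : c * c ∈ ⁅S, S⁆ := by
    rw [← inv_eq_of_mul_eq_one_right h5]; exact inv_mem hwU
  have h7 := pk1.disj _ (mul_mem hc hc) h6
  rw [h7, mul_one] at h5
  exact hw1 h5

end

end Cfsg.Agent.H28
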