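import Mathlib
import Cfsg.Agent.H28.CIdx6
import Cfsg.Agent.H28.FusFocal

/-!
Fusion systems over `2`-groups whose centre has index `4`.
-/

set_option autoImplicit false

namespace Cfsg.Agent.H28

open Cfsg.FusionSystem
open scoped commutatorElement

universe u

section
variable {Ω : Type u} [Group Ω] {S : Subgroup Ω} {F : FusionSystem S} {E : Subgroup Ω}
  [Finite S]

theorem idx2gen {A B : Subgroup Ω} [Finite B] (hAB : A ≤ B) (hc : Nat.card B = 2 * Nat.card A) {x y : Ω}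
    (hx : x ∈ B) (hxA : x ∉ A) (hy : y ∈ B) (hyA : y ∉ A) : x⁻¹ * y ∈ A := by
  have h1 : (A.subgroupOf B).index = 2 := by
    have h2 := (A.subgroupOf B).card_mul_index
    rw [Nat.card_congr (Subgroup.subgroupOfEquivOfLe hAB).toEquiv, hc, mul_comm] at h2
    have : Finite A := finite_of_le hAB
    exact Nat.eq_of_mul_eq_mul_right Nat.card_pos h2
  have h2 := Subgroup.mul_mem_iff_of_index_two h1 (a := (⟨x, hx⟩ : B)⁻¹) (b := ⟨y, hy⟩)
  have h3 : (⟨x, hx⟩ : B)⁻¹ ∈ A.subgroupOf B ↔ (⟨y, hy⟩ : B) ∈ A.subgroupOf B := by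
    rw [inv_mem_iff, Subgroup.mem_subgroupOf, Subgroup.mem_subgroupOf]
    exact ⟨fun h => absurd h hxA, fun h => absurd h hyA⟩
  exact h2.2 h3

theorem odd_fix {η : MulAut S} (hη : η ∈ F.autGroup S) {m : ℕ} (hm : η ^ m = 1) (hodd : m.Coprime 2)
    {U : Subgroup Ω} (hUS : U ≤ S) (hUfix : ∀ u ∈ U, autFun η u = u) (hUsq : ∀ u ∈ U, u * u = 1)
    {w : Ω} (hw : w ∈ S) (h : w⁻¹ * autFun η w ∈ U) : autFun η w = w := by
  have hmor := mor_autFun le_rfl hη
  obtain ⟨u, hu⟩ : ∃ u, u = w⁻¹ * autFun η w := ⟨_, rfl⟩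
  rw [← hu] at h
  have hηw : autFun η w = w * u := by rw [hu, mul_inv_cancel_left]
  have h1 : ∀ n : ℕ, autFun (η ^ n) w = w * u ^ n := by
    intro n
    induction n with
    | zero => rw [pow_zero, autFun_one hw, pow_zero, mul_one]
    | succ n ih =>
      rw [pow_succ', autFun_mul _ _ hw, ih, hmor.mul hw (pow_mem (hUS h) n), hηw, hUfix _ (pow_mem h n),
        pow_succ', mul_assoc]
  have h2 := h1 m
  rw [hm, autFun_one hw] at h2
  have h3 : u ^ m = 1 := (mul_eq_left.1 h2.symm)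
  have h4 : u ^ 2 = 1 := by rw [sq]; exact hUsq u h
  have h5 : orderOf u ∣ 1 := by
    rw [← hodd]
    exact Nat.dvd_gcd (orderOf_dvd_of_pow_eq_one h3) (orderOf_dvd_of_pow_eq_one h4)
  have h6 : u = 1 := orderOf_eq_one_iff.1 (Nat.dvd_one.1 h5)
  rw [hηw, h6, mul_one]

theorem img_img_inv {γ : MulAut S} (hγ : γ ∈ F.autGroup S) (hE : E ≤ S) :
    img (img E (autFun γ)) (autFun γ⁻¹) = E := by
  have hm := (mor_autFun le_rfl hγ).mono hE
  rw [hm.img_comp]
  conv_rhs => rw [← img_id (P := E)]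
  exact img_congr fun x hx => autFun_inv_apply _ (hE hx)

theorem img_mul_aut {γ δ : MulAut S} (hδ : δ ∈ F.autGroup S) (hE : E ≤ S) :
    img E (autFun (γ * δ)) = img (img E (autFun δ)) (autFun γ) := by
  have hm := (mor_autFun le_rfl hδ).mono hE
  rw [hm.img_comp]
  exact img_congr fun x hx => autFun_mul _ _ (hE hx)

theorem img_pow_aut {γ : MulAut S} (hγ : γ ∈ F.autGroup S) (hE : E ≤ S) (h : img E (autFun γ) = E) (n : ℕ) :
    img E (autFun (γ ^ n)) = E := by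
  induction n with
  | zero =>
    rw [pow_zero]
    conv_rhs => rw [← img_id (P := E)]
    exact img_congr fun x hx => autFun_one (hE hx)
  | succ n ih => rw [pow_succ, img_mul_aut hγ hE, h, ih]

variable (hS : IsPGroup 2 S) (hF : F.IsSaturated 2)
  (hZ : Nat.card S ≤ 2 ^ 2 * Nat.card (centralizerIn S S))

include hS hF hZ

theorem ci_inner (hcore : F.core = ⊥) {E₁ E₂ : Subgroup Ω} (h1 : CE F E₁) (h2 : CE F E₂) (h12 : E₁ ≠ E₂)
    {γ : MulAut S} (hγ : γ ∈ F.autGroup S) : ∃ t ∈ S, ∀ x ∈ S, autFun γ x = t * x * t⁻¹ := by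
  have htwo : ∀ G, CE F G → G = E₁ ∨ G = E₂ := by
    intro G hG
    by_contra h
    push Not at h
    exact no_third hS hF hZ h1 h2 hG h12 h.1.symm h.2.symm
  obtain ⟨C₁, V₁, pk1⟩ := exists_pk hS hF hZ h1
  obtain ⟨C₂, V₂, pk2⟩ := exists_pk hS hF hZ h2
  obtain ⟨hUc, hUZ⟩ := h1.derived hS hF hZ
  have hUfin : Finite (⁅S, S⁆ : Subgroup Ω) := finite_of_le comm_le_self
  have hinj : img E₁ (autFun γ) ≠ img E₂ (autFun γ) := by
    intro h
    apply h12
    rw [← img_img_inv hγ h1.le, h, img_img_inv hγ h2.le]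
  have hγγ : γ * γ ∈ F.autGroup S := mul_mem hγ hγ
  have hsq : img E₁ (autFun (γ * γ)) = E₁ ∧ img E₂ (autFun (γ * γ)) = E₂ := by
    rw [img_mul_aut hγ h1.le, img_mul_aut hγ h2.le]
    rcases htwo _ (CE.img hS hF hZ h1 hγ) with h3 | h3
    · rcases htwo _ (CE.img hS hF hZ h2 hγ) with h4 | h4
      · exact absurd (h3.trans h4.symm) hinj
      · rw [h3, h4]; exact ⟨h3, h4⟩
    · rcases htwo _ (CE.img hS hF hZ h2 hγ) with h4 | h4
      · rw [h3, h4]; exact ⟨rfl, h3⟩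
      · exact absurd (h3.trans h4.symm) hinj
  obtain ⟨a, ha⟩ := exists_pprime_part 2 (γ * γ)
  obtain ⟨η, hη⟩ : ∃ η, η = (γ * γ) ^ 2 ^ a := ⟨_, rfl⟩
  rw [← hη] at ha
  have hηA : η ∈ F.autGroup S := by rw [hη]; exact pow_mem hγγ _
  have hηm := mor_autFun le_rfl hηA
  have hηE1 : img E₁ (autFun η) = E₁ := by rw [hη]; exact img_pow_aut hγγ h1.le hsq.1 _
  have hηE2 : img E₂ (autFun η) = E₂ := by rw [hη]; exact img_pow_aut hγγ h2.le hsq.2 _
  have hηo : η ^ orderOf η = 1 := pow_orderOf_eq_one η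
  -- fixed on U
  have hUfix : ∀ u ∈ ⁅S, S⁆, autFun η u = u := by
    intro u hu
    by_cases hu1 : u = 1
    · rw [hu1, hηm.one]
    · have h3 : autFun η u ∈ ⁅S, S⁆ := aut_derived hηA hu
      have h4 : autFun η u ≠ 1 := fun h => hu1 (hηm.eq_one (comm_le_self hu) h)
      have h5 := idx2gen (A := ⊥) bot_le (by rw [hUc, Subgroup.card_bot]) hu
        (fun h => hu1 (Subgroup.mem_bot.1 h)) h3 (fun h => h4 (Subgroup.mem_bot.1 h))
      exact (inv_mul_eq_one.1 (Subgroup.mem_bot.1 h5)).symm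
  have hUsq : ∀ u ∈ ⁅S, S⁆, u * u = 1 := fun u hu => pk1.sqV u (pk1.UV hu)
  have hVfix : ∀ {E C V : Subgroup Ω}, CE F E → Pk F E C V → img E (autFun η) = E →
      (∀ v ∈ V, autFun η v = v) ∧ ∀ c ∈ C, autFun η c ∈ C := by
    intro E C V hE pk him
    obtain ⟨ηE, hηE, hηEx⟩ := (hηm.mono hE.le).exists_aut him
    have hVfin : Finite V := finite_of_le (le_trans pk.VE hE.le)
    constructor
    · intro v hv
      by_cases hvU : v ∈ ⁅S, S⁆
      · exact hUfix v hvU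
      · have hvS := hE.le (pk.VE hv)
        apply odd_fix hηA hηo ha comm_le_self hUfix hUsq hvS
        apply idx2gen pk.UV (by rw [pk.cardV, hUc]) hv hvU
        · rw [← hηEx v (pk.VE hv)]; exact pk.invV ηE hηE v hv
        · intro h
          apply hvU
          have h3 := aut_derived (inv_mem hηA) h
          rwa [autFun_inv_apply _ hvS] at h3
    · intro c hc
      have hcZ := ((pk.memC c).1 hc).1
      rw [pk.memC]
      refine ⟨aut_center hηA hcZ, fun δ hδ => ?_⟩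
      have hcE := ci_le hE.le hE.cen hcZ
      rw [← hηEx c hcE, ← autFun_mul _ _ hcE]
      exact ((pk.memC c).1 hc).2 _ (mul_mem hδ hηE)
  obtain ⟨hV1, hC1⟩ := hVfix h1 pk1 hηE1
  obtain ⟨hV2, hC2⟩ := hVfix h2 pk2 hηE2
  have hZfix : ∀ z ∈ centralizerIn S S, autFun η z = z := by
    intro z hz
    have key : ∀ {E C V : Subgroup Ω}, Pk F E C V → (∀ c ∈ C, autFun η c ∈ C) →
        z⁻¹ * autFun η z ∈ C := by
      intro E C V pk hC
      obtain ⟨u, hu, c, hc, rfl⟩ := pk.decZ z hz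
      have hcS := mem_Z_S ((pk.memC c).1 hc).1
      rw [hηm.mul (comm_le_self hu) hcS, hUfix u hu]
      have h3 : (u * c)⁻¹ * (u * autFun η c) = c⁻¹ * autFun η c := by group
      rw [h3]
      exact mul_mem (inv_mem hc) (hC c hc)
    have k1 := (pk1.memC _).1 (key pk1 hC1)
    have k2 := (pk2.memC _).1 (key pk2 hC2)
    have h3 : z⁻¹ * autFun η z = 1 := by
      apply core_trivial hS hF hZ hcore k1.1
      intro G hG δ hδ
      rcases htwo G hG with h | h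
      · subst h; exact k1.2 δ hδ
      · subst h; exact k2.2 δ hδ
    exact (inv_mul_eq_one.1 h3).symm
  have hη1 : η = 1 := by
    let K : Subgroup Ω :=
      { carrier := {x | x ∈ S ∧ autFun η x = x}
        one_mem' := ⟨one_mem _, hηm.one⟩
        mul_mem' := by
          rintro a b ⟨ha, ha'⟩ ⟨hb, hb'⟩
          exact ⟨mul_mem ha hb, by rw [hηm.mul ha hb, ha', hb']⟩
        inv_mem' := by
          rintro a ⟨ha, ha'⟩
          exact ⟨inv_mem ha, by rw [hηm.inv ha, ha']⟩ }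
    obtain ⟨a₂, ha₂, ha₂Z⟩ := pk2.out
    have e2 := pk2.VE ha₂
    have n21 : a₂ ∉ E₁ := not_mem_of_ne hS hZ h2 h1 h12.symm e2 ha₂Z
    have h3 : S ≤ K := by
      apply ci_gen hS hZ h1.le h1.ne h1.cen (h2.le e2) n21
      · intro e he
        obtain ⟨v, hv, c, hc, rfl⟩ := pk1.decE e he
        have hcZ := ((pk1.memC c).1 hc).1
        exact mul_mem (show v ∈ K from ⟨h1.le (pk1.VE hv), hV1 v hv⟩)
          (show c ∈ K from ⟨mem_Z_S hcZ, hZfix c hcZ⟩)
      · exact ⟨h2.le e2, hV2 a₂ ha₂⟩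
    apply mulAut_ext
    intro x hx
    rw [(h3 hx).2, autFun_one hx]
  obtain ⟨r, hr, h3⟩ := exists_pprime_exp hS hF
  obtain ⟨t, ht, h4⟩ := h3 γ hγ
  have h5 : orderOf γ ∣ 2 ^ (a + 1) := by
    apply orderOf_dvd_of_pow_eq_one
    rw [pow_succ', pow_mul, sq, ← hη, hη1]
  have h6 : r.Coprime (orderOf γ) := Nat.Coprime.coprime_dvd_right h5 (hr.pow_right _)
  obtain ⟨m, hm⟩ := exists_pow_eq_self_of_coprime h6
  refine ⟨t ^ m, pow_mem ht m, fun x hx => ?_⟩
  have h7 : ∀ n : ℕ, ∀ x ∈ S, autFun ((γ ^ r) ^ n) x = t ^ n * x * (t ^ n)⁻¹ := by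
    intro n
    induction n with
    | zero => intro x hx; rw [pow_zero, autFun_one hx, pow_zero]; simp
    | succ n ih =>
      intro x hx
      have h8 : t ^ n * x * (t ^ n)⁻¹ ∈ S := mul_mem (mul_mem (pow_mem ht n) hx) (inv_mem (pow_mem ht n))
      rw [pow_succ', autFun_mul _ _ hx, ih x hx, h4 _ h8, pow_succ']; group
  rw [← h7 m x hx, hm]

theorem exists_two (hS1 : S ≠ ⊥) (hcore : F.core = ⊥) : ∃ E₁ E₂, CE F E₁ ∧ CE F E₂ ∧ E₁ ≠ E₂ := by
  obtain ⟨E₁, hE₁, hne₁⟩ := exists_ess hS hF hS1 hcore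
  have h1 := ess_CE hS hF hZ hE₁ hne₁
  by_contra hcon
  push Not at hcon
  have h2 : ∀ G, CE F G → G = E₁ := fun G hG => (hcon E₁ G h1 hG).symm
  have hn : F.IsNormal E₁ := by
    apply normal_of_essential hS hF
    intro P hP
    by_cases hPS : P = S
    · subst hPS
      exact ⟨h1.le, fun α hα => h2 _ (CE.img hS hF hZ h1 hα)⟩
    · have hPe := ess_CE hS hF hZ (hP.resolve_left hPS) hPS
      have := h2 P hPe
      subst this
      exact ⟨le_rfl, fun α _ => img_autFun α⟩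
  have h3 := le_core hn
  rw [hcore, le_bot_iff] at h3
  have h4 := h1.cen
  apply h1.ne
  apply le_antisymm h1.le
  refine le_trans (fun s hs => mem_centralizerIn.2 ⟨hs, fun y hy => ?_⟩) h4
  rw [h3, Subgroup.mem_bot] at hy
  rw [hy, one_mul, mul_one]

theorem ci_two (hS1 : S ≠ ⊥) (hcore : F.core = ⊥) (hhyp : F.hyperfocalSubgroup 2 = S) :
    Nonempty (S ≃* DihedralGroup 4) := by
  obtain ⟨E₁, E₂, h1, h2, h12⟩ := exists_two hS hF hZ hS1 hcore
  have htwo : ∀ G, CE F G → G = E₁ ∨ G = E₂ := by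
    intro G hG
    by_contra h
    push Not at h
    exact no_third hS hF hZ h1 h2 hG h12 h.1.symm h.2.symm
  have hinn : ∀ γ ∈ F.autGroup S, ∃ t ∈ S, ∀ x ∈ S, autFun γ x = t * x * t⁻¹ :=
    fun γ hγ => ci_inner hS hF hZ hcore h1 h2 h12 hγ
  obtain ⟨C₁, V₁, pk1⟩ := exists_pk hS hF hZ h1
  obtain ⟨C₂, V₂, pk2⟩ := exists_pk hS hF hZ h2
  obtain ⟨hUc, hUZ⟩ := h1.derived hS hF hZ
  have hUfin : Finite (⁅S, S⁆ : Subgroup Ω) := finite_of_le comm_le_self
  have hUD : ⁅S, S⁆ ≤ V₁ ⊔ V₂ := le_trans pk1.UV le_sup_left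
  have hconjU : ∀ s ∈ S, ∀ x ∈ S, x⁻¹ * (s * x * s⁻¹) ∈ ⁅S, S⁆ := by
    intro s hs x hx
    have h3 := Subgroup.commutator_mem_commutator (inv_mem hx) hs
    rw [commutatorElement_def, inv_inv] at h3
    have h4 : x⁻¹ * (s * x * s⁻¹) = x⁻¹ * s * x * s⁻¹ := by group
    rw [h4]; exact h3
  have hstep : ∀ {E C V : Subgroup Ω}, CE F E → Pk F E C V → V ≤ V₁ ⊔ V₂ →
      ∀ α ∈ F.autGroup E, ∀ x ∈ E, x⁻¹ * autFun α x ∈ V₁ ⊔ V₂ := by
    intro E C V hE pk hVD α hα x hx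
    obtain ⟨μ, hμ, g, hg, hgE, e1, e2, e3⟩ := pk.frat α hα
    obtain ⟨t, ht, e4⟩ := hinn g hg
    have hy := hgE x hx
    have h3 : x⁻¹ * autFun g x ∈ ⁅S, S⁆ := by rw [e4 x (hE.le hx)]; exact hconjU t ht x (hE.le hx)
    have h4 := e3 _ hy
    have hcomm := ci_comm hS hZ hE.le hE.ne hE.cen
    have h5 : x⁻¹ * autFun α x = (x⁻¹ * autFun g x) * (autFun μ (autFun g x) * (autFun g x)⁻¹) := by
      rw [e1 x hx, hcomm (autFun μ (autFun g x)) (autFun_mem _ hy) _ (inv_mem hy)]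
      group
    rw [h5]
    exact mul_mem (hUD h3) (hVD h4)
  have hfoc : F.focalSubgroup ≤ V₁ ⊔ V₂ := by
    rw [foc_le_iff]
    intro P f hf x hx
    refine rel_of_essential hS hF (fun x y => x⁻¹ * y ∈ V₁ ⊔ V₂) ?_ ?_ ?_ ?_ hf hx
    · intro x y z hxy hyz
      have := mul_mem hxy hyz
      have h3 : x⁻¹ * y * (y⁻¹ * z) = x⁻¹ * z := by group
      rwa [h3] at this
    · intro x y hxy
      have := inv_mem hxy
      have h3 : (x⁻¹ * y)⁻¹ = y⁻¹ * x := by group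
      rwa [h3] at this
    · intro s hs x hx
      exact hUD (hconjU s hs x hx)
    · intro P hP α hα x hx
      by_cases hPS : P = S
      · subst hPS
        obtain ⟨t, ht, e4⟩ := hinn α hα
        show x⁻¹ * autFun α x ∈ V₁ ⊔ V₂
        rw [e4 x hx]
        exact hUD (hconjU t ht x hx)
      · have hPe := ess_CE hS hF hZ (hP.resolve_left hPS) hPS
        rcases htwo P hPe with h | h
        · subst h; exact hstep h1 pk1 le_sup_left α hα x hx
        · subst h; exact hstep h2 pk2 le_sup_right α hα x hx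
  have hSD : S ≤ V₁ ⊔ V₂ := by
    conv_lhs => rw [← hhyp]
    exact le_trans hyp_le_foc hfoc
  obtain ⟨a₁, ha₁, ha₁Z⟩ := pk1.out
  obtain ⟨a₂, ha₂, ha₂Z⟩ := pk2.out
  have e1 := pk1.VE ha₁
  have e2 := pk2.VE ha₂
  have n21 : a₂ ∉ E₁ := not_mem_of_ne hS hZ h2 h1 h12.symm e2 ha₂Z
  have s1 : a₁ * a₁ = 1 := pk1.sqV _ ha₁
  have s2 : a₂ * a₂ = 1 := pk2.sqV _ ha₂
  have i1 : a₁⁻¹ = a₁ := inv_eq_of_mul_eq_one_left s1
  have i2 : a₂⁻¹ = a₂ := inv_eq_of_mul_eq_one_left s2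
  obtain ⟨w, hw⟩ : ∃ w, w = a₂ * a₁ * a₂⁻¹ * a₁⁻¹ := ⟨_, rfl⟩
  have hwU : w ∈ ⁅S, S⁆ := by
    rw [hw, ← commutatorElement_def]
    exact Subgroup.commutator_mem_commutator (h2.le e2) (h1.le e1)
  have hw1 : w ≠ 1 := by
    intro h
    apply ha₁Z
    apply ci_fix hS hZ h1.le h1.ne h1.cen (h2.le e2) n21 e1
    rw [hw] at h
    exact mul_inv_eq_one.1 h
  have hww : w * w = 1 := pk1.sqV _ (pk1.UV hwU)
  -- the closure
  obtain ⟨K, hK⟩ : ∃ K, K = Subgroup.closure ({a₂, a₁} : Set Ω) := ⟨_, rfl⟩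
  have k1 : a₁ ∈ K := by rw [hK]; exact Subgroup.subset_closure (by simp)
  have k2 : a₂ ∈ K := by rw [hK]; exact Subgroup.subset_closure (by simp)
  have kw : w ∈ K := by rw [hw]; exact mul_mem (mul_mem (mul_mem k2 k1) (inv_mem k2)) (inv_mem k1)
  have kU : ⁅S, S⁆ ≤ K := by
    intro u hu
    by_cases hu1 : u = 1
    · rw [hu1]; exact one_mem _
    · have h5 := idx2gen (A := ⊥) bot_le (by rw [hUc, Subgroup.card_bot]) hwU
        (fun h => hw1 (Subgroup.mem_bot.1 h)) hu (fun h => hu1 (Subgroup.mem_bot.1 h))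
      rw [← inv_mul_eq_one.1 (Subgroup.mem_bot.1 h5)]
      exact kw
  have kV : ∀ {E C V : Subgroup Ω}, CE F E → Pk F E C V → ∀ a ∈ V, a ∉ centralizerIn S S → a ∈ K → V ≤ K := by
    intro E C V hE pk a ha haZ haK v hv
    have hVfin : Finite V := finite_of_le (le_trans pk.VE hE.le)
    by_cases hvU : v ∈ ⁅S, S⁆
    · exact kU hvU
    · have h3 := idx2gen pk.UV (by rw [pk.cardV, hUc]) ha (fun h => haZ (hUZ h)) hv hvU
      have h4 := mul_mem haK (kU h3)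
      rwa [mul_inv_cancel_left] at h4
  have hSK : S ≤ K := le_trans hSD (sup_le (kV h1 pk1 a₁ ha₁ ha₁Z k1) (kV h2 pk2 a₂ ha₂ ha₂Z k2))
  have hord : orderOf ((⟨a₂, h2.le e2⟩ : S) * ⟨a₁, h1.le e1⟩) = 4 := by
    have h3 : a₂ * a₁ * (a₂ * a₁) = w := by rw [hw, i1, i2]; group
    have h4 := orderOf_eq_prime_pow (x := (⟨a₂, h2.le e2⟩ : S) * ⟨a₁, h1.le e1⟩) (p := 2) (n := 1)
      (by
        intro h
        apply hw1
        rw [← h3]
        have := congrArg Subtype.val h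
        rw [pow_one, sq] at this
        exact this)
      (by
        apply Subtype.ext
        show (a₂ * a₁) ^ 2 ^ (1 + 1) = 1
        rw [show 2 ^ (1 + 1) = 2 * 2 from rfl, pow_mul, sq (a₂ * a₁), h3, sq, hww])
    rw [h4]; norm_num
  obtain ⟨e⟩ := S0206.result (⟨a₂, h2.le e2⟩ : S) ⟨a₁, h1.le e1⟩
    (orderOf_eq_prime (by apply Subtype.ext; show a₂ ^ 2 = 1; rw [sq, s2])
      (fun h => ha₂Z (by rw [show a₂ = 1 from congrArg Subtype.val h]; exact one_mem _)))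
    (orderOf_eq_prime (by apply Subtype.ext; show a₁ ^ 2 = 1; rw [sq, s1])
      (fun h => ha₁Z (by rw [show a₁ = 1 from congrArg Subtype.val h]; exact one_mem _)))
    (fun h => n21 (by rw [show a₂ = a₁ from congrArg Subtype.val h]; exact e1))
  rw [hord] at e
  have htop : Subgroup.closure ({(⟨a₂, h2.le e2⟩ : S), ⟨a₁, h1.le e1⟩} : Set S) = ⊤ := by
    rw [eq_top_iff]
    rintro ⟨x, hx⟩ -
    have h3 : (Subgroup.closure ({(⟨a₂, h2.le e2⟩ : S), ⟨a₁, h1.le e1⟩} : Set S)).map S.subtype = K := by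
      rw [MonoidHom.map_closure, Set.image_pair, hK]; rfl
    have h4 := hSK hx
    rw [← h3] at h4
    obtain ⟨y, hy, hyx⟩ := h4
    rwa [← Subtype.ext (a1 := y) (a2 := ⟨x, hx⟩) hyx]
  rw [htop] at e
  exact ⟨Subgroup.topEquiv.symm.trans e⟩

end

end Cfsg.Agent.H28
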