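import Mathlib
import Cfsg.Agent.H28.FusProp
import Cfsg.Agent.H28.FusNormal2
import Cfsg.Agent.H28.FusAlperin

/-!
Subsystems of index prime to `p`: the Frattini factorization.
-/

set_option autoImplicit false

namespace Cfsg.Agent.H28

open Cfsg.FusionSystem

universe u

section
variable {Ω : Type u} [Group Ω] {S : Subgroup Ω} {F E : FusionSystem S} {P Q : Subgroup Ω} {f g : Ω → Ω}
  {p : ℕ}

theorem truncProp [Finite S] (F E : FusionSystem S) (n : ℕ) :
    MapProp F (fun P f => n < Nat.card P → Mor E P f) where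
  congr P f g _ h1 h2 h3 := (h2 h3).congr h1
  conj P s hP hs _ := mor_conj hP hs
  comp P Q f g hf hg hm h1 h2 h3 := by
    have hQf : Finite Q := finite_of_le hg.le
    have h4 : n < Nat.card Q := by
      refine lt_of_lt_of_le h3 ?_
      rw [← hf.card_img]
      exact card_le_of_le (img_le_iff.2 hm)
    exact (h1 h3).comp (h2 h4) hm
  inv P f i hf hi h1 h2 h3 h4 := by
    rw [hf.card_img] at h4
    have h5 := h3 h4
    obtain ⟨j, hj, hj1, hj2, -⟩ := h5.inverse
    refine hj.congr fun y hy => ?_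
    obtain ⟨x, hx, rfl⟩ := hf.mem_img.1 hy
    rw [hj1 x hx, h1 x hx]

/-- Alperin's theorem for maps on subgroups of order larger than `n`. -/
theorem alperin_above [Fact p.Prime] [Finite S] (hS : IsPGroup p S) (hF : F.IsSaturated p) (n : ℕ)
    (hE : ∀ Q : Subgroup Ω, (Q = S ∨ F.IsEssential p Q) → n < Nat.card Q → F.autGroup Q ≤ E.autGroup Q)
    (hf : Mor F P f) (hn : n < Nat.card P) : Mor E P f := by
  have h1 : F ≤ propSys F _ (truncProp F E n) := by
    apply alperin hS hF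
    intro Q hQ α hα
    have hQS : Q ≤ S := by
      rcases hQ with rfl | hQ
      · exact le_rfl
      · exact hQ.1.1
    rw [← mor_autFun_iff hQS, mor_propSys]
    exact ⟨mor_autFun hQS hα, fun h => mor_autFun hQS (hE Q hQ h hα)⟩
  exact (mor_propSys.1 (le_iff_mor.1 h1 P f hf)).2 hn

/-- An automorphism normalizing the automizer of `S` extends to the normalizer. -/
theorem extend_of_normalizer [Finite S] (hQS : Q ≤ S) (hrec : F.IsReceptive Q) {ν : MulAut Q} (hν : ν ∈ F.autGroup Q)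
    (h : ∀ t (ht : t ∈ normalizerIn S Q), ν * conjAut Q t ht.2 * ν⁻¹ ∈ autInducedBy S Q) :
    ∃ g, Mor F (normalizerIn S Q) g ∧ ∀ x ∈ Q, g x = autFun ν x := by
  have hνm := mor_autFun hQS hν
  have hrec' : F.IsReceptive (img Q (autFun ν)) := by rw [img_autFun]; exact hrec
  obtain ⟨g, hg, hgx⟩ := receptive_extend hrec' hνm
  refine ⟨g, hg.mono ?_, hgx⟩
  intro t ht
  rw [mem_Nf]
  refine ⟨ht.1, ht.2, ?_⟩
  obtain ⟨t', ht', h6⟩ := mem_autInducedBy'.1 (h t ht)
  refine ⟨t', ht', fun x hx => ?_⟩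
  have h7 := h6 (autFun ν x) (autFun_mem _ hx)
  rw [autFun_mul _ _ (autFun_mem _ hx), autFun_inv_apply _ hx, autFun_mul _ _ hx, autFun_conjAut _ hx] at h7
  exact h7

/-- A pair consisting of a fusion system and an invariant subsystem over the same group containing enough
elements of `p`-power order. -/
structure PPair (p : ℕ) (F E : FusionSystem S) : Prop where
  sub : ∀ P f, Mor E P f → Mor F P f
  inv : ∀ γ ∈ F.autGroup S, ∀ P f, Mor E P f →
    Mor E (img P (autFun γ)) (fun x => autFun γ (f (autFun γ⁻¹ x)))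
  pel : ∀ Q, F.IsEssential p Q → ∀ α ∈ F.autGroup Q, (∃ k : ℕ, α ^ p ^ k = 1) → α ∈ E.autGroup Q

/-- The maps of the form `γ ∘ g`. -/
def facProp (F E : FusionSystem S) (P : Subgroup Ω) (f : Ω → Ω) : Prop :=
  ∃ γ ∈ F.autGroup S, ∃ g, Mor E P g ∧ ∀ x ∈ P, f x = autFun γ (g x)

theorem facProp_prop [Finite S] (h : PPair p F E) : MapProp F (facProp F E) where
  congr P f g _ h1 := by
    rintro ⟨γ, hγ, g₀, hg₀, e⟩
    exact ⟨γ, hγ, g₀, hg₀, fun x hx => by rw [← h1 x hx, e x hx]⟩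
  conj P s hP hs :=
    ⟨1, one_mem _, fun x => s * x * s⁻¹, mor_conj hP hs, fun x hx => by
      rw [autFun_one (mul_mem (mul_mem hs (hP hx)) (Subgroup.inv_mem _ hs))]⟩
  comp P Q f g hf hg hm := by
    rintro ⟨γ, hγ, f₀, hf₀, e1⟩ ⟨δ, hδ, g₀, hg₀, e2⟩
    have hγ' : γ⁻¹ ∈ F.autGroup S := Subgroup.inv_mem _ hγ
    have h1 := h.inv γ⁻¹ hγ' Q g₀ hg₀
    have h2 : ∀ x ∈ P, f₀ x = autFun γ⁻¹ (f x) := by
      intro x hx
      rw [e1 x hx, autFun_inv_apply _ (hf₀.mem hx)]
    have h3 := hf₀.comp h1 (fun x hx => by rw [h2 x hx]; exact mem_img_of_mem (hm x hx))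
    refine ⟨δ * γ, mul_mem hδ hγ, _, h3, fun x hx => ?_⟩
    have h4 : autFun γ⁻¹⁻¹ (f₀ x) = f x := by rw [inv_inv, e1 x hx]
    have h5 : g₀ (f x) ∈ S := hg₀.mem (hm x hx)
    show g (f x) = autFun (δ * γ) (autFun γ⁻¹ (g₀ (autFun γ⁻¹⁻¹ (f₀ x))))
    rw [h4, autFun_mul _ _ (autFun_mem _ h5), autFun_apply_inv _ h5, e2 _ (hm x hx)]
  inv P f i hf hi h1 h2 := by
    rintro ⟨γ, hγ, f₀, hf₀, e1⟩
    obtain ⟨j, hj, hj1, hj2, -⟩ := hf₀.inverse
    have h3 := h.inv γ hγ (img P f₀) j hj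
    have h4 : img (img P f₀) (autFun γ) = img P f := by
      rw [hf₀.img_comp]
      exact img_congr fun x hx => (e1 x hx).symm
    rw [h4] at h3
    refine ⟨γ⁻¹, Subgroup.inv_mem _ hγ, _, h3, fun y hy => ?_⟩
    obtain ⟨x, hx, rfl⟩ := hf.mem_img.1 hy
    show i (f x) = autFun γ⁻¹ (autFun γ (j (autFun γ⁻¹ (f x))))
    rw [h1 x hx, e1 x hx, autFun_inv_apply _ (hf₀.mem hx), hj1 x hx, autFun_inv_apply _ (hf.le hx)]

theorem mem_of_pClosure {Q : Subgroup Ω} (h : ∀ α ∈ F.autGroup Q, (∃ k : ℕ, α ^ p ^ k = 1) → α ∈ E.autGroup Q)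
    {α : F.autGroup Q} (hα : α ∈ Subgroup.normalClosure {α : F.autGroup Q | ∃ k : ℕ, α ^ p ^ k = 1}) :
    (α : MulAut Q) ∈ E.autGroup Q := by
  have h1 : Subgroup.normalClosure {α : F.autGroup Q | ∃ k : ℕ, α ^ p ^ k = 1} ≤
      (E.autGroup Q).subgroupOf (F.autGroup Q) := by
    unfold Subgroup.normalClosure
    rw [Subgroup.closure_le]
    intro x hx
    rw [Group.mem_conjugatesOfSet_iff] at hx
    obtain ⟨a, ⟨k, hk⟩, hax⟩ := hx
    obtain ⟨c, rfl⟩ := _root_.isConj_iff.1 hax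
    apply h _ (c * a * c⁻¹).2
    refine ⟨k, ?_⟩
    have h2 : (c * a * c⁻¹) ^ p ^ k = 1 := by rw [conj_pow, hk, mul_one, mul_inv_cancel]
    exact congrArg Subtype.val h2
  exact h1 hα

/-- The Frattini factorization. -/
theorem PPair.factor [Fact p.Prime] [Finite S] (hS : IsPGroup p S) (hF : F.IsSaturated p) (h : PPair p F E)
    (hf : Mor F P f) : facProp F E P f := by
  have hC := facProp_prop h
  have key : ∀ (m : ℕ) (Q : Subgroup Ω), (Q = S ∨ F.IsEssential p Q) → Nat.card S - Nat.card Q ≤ m →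
      ∀ α ∈ F.autGroup Q, facProp F E Q (autFun α) := by
    intro m
    induction m using Nat.strong_induction_on with
    | _ m ih =>
    intro Q hQ hm α hα
    by_cases hQS : Q = S
    · subst hQS
      exact ⟨α, hα, fun x => x, mor_self le_rfl, fun x _ => rfl⟩
    have hQe := hQ.resolve_left hQS
    have hQle := hQe.1.1
    have hQf : Finite Q := finite_of_le hQle
    have hrec := FN.rec hS hF hQe.2.1
    have hlt : Q < normalizerIn S Q := lt_normalizerIn hS (lt_of_le_of_ne hQle hQS)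
    have hNf : Finite (normalizerIn S Q) := finite_of_le normalizerIn_le
    have hcard : ∀ {A B : Subgroup Ω}, A < B → Finite B → Nat.card A < Nat.card B := by
      intro A B hAB hB
      refine lt_of_le_of_ne (card_le_of_le hAB.le) fun he => ?_
      exact hAB.ne (eq_of_le_of_card hAB.le he.ge)
    have hbig : ∀ {P : Subgroup Ω} {f : Ω → Ω}, Mor F P f → Nat.card Q < Nat.card P → facProp F E P f := by
      intro P f hf hlt
      refine (mor_propSys.1 (alperin_above (E := propSys F _ hC) hS hF (Nat.card Q) ?_ hf hlt)).2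
      intro Q' hQ' hlt' α' hα'
      have hQ'S : Q' ≤ S := by
        rcases hQ' with rfl | hQ'
        · exact le_rfl
        · exact hQ'.1.1
      rw [← mor_autFun_iff hQ'S, mor_propSys]
      refine ⟨mor_autFun hQ'S hα', ih (Nat.card S - Nat.card Q') ?_ Q' hQ' le_rfl α' hα'⟩
      have h1 := card_le_of_le hQ'S
      omega
    obtain ⟨-, R, hR⟩ := FN.fa hS hF hQe.2.1
    obtain ⟨O, hO⟩ : ∃ O, O = Subgroup.normalClosure {α : F.autGroup Q | ∃ k : ℕ, α ^ p ^ k = 1} := ⟨_, rfl⟩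
    have hOn : O.Normal := by rw [hO]; infer_instance
    have hRO : (R : Subgroup (F.autGroup Q)) ≤ O := by
      intro r hr
      obtain ⟨k, hk⟩ := R.2 ⟨r, hr⟩
      rw [hO]
      exact Subgroup.subset_normalClosure ⟨k, congrArg Subtype.val hk⟩
    have hfr := Sylow.normalizer_sup_eq_top' R hRO
    have h2 : (⟨α, hα⟩ : F.autGroup Q) ∈ Subgroup.normalizer ((R : Subgroup (F.autGroup Q)) : Set (F.autGroup Q)) ⊔ O := by
      have : (⟨α, hα⟩ : F.autGroup Q) ∈ (⊤ : Subgroup (F.autGroup Q)) := Subgroup.mem_top _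
      rw [← hfr] at this; exact this
    obtain ⟨ν, hν, o, ho, hνo⟩ := Subgroup.mem_sup_of_normal_right.1 h2
    obtain ⟨g, hg, hgx⟩ := extend_of_normalizer hQle hrec ν.2 (by
      intro t ht
      have ht2 : conjAut Q t ht.2 ∈ F.autGroup Q := autInducedBy_le hQle le_rfl (conjAut_mem ht.2 ht.1)
      have h4 : (⟨_, ht2⟩ : F.autGroup Q) ∈ (R : Subgroup (F.autGroup Q)) := by
        rw [hR]; exact conjAut_mem ht.2 ht.1
      have h5 := (Subgroup.mem_normalizer_iff.1 hν _).1 h4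
      rw [hR] at h5
      exact Subgroup.mem_subgroupOf.1 h5)
    obtain ⟨γ, hγ, g₀, hg₀, e⟩ := hbig hg (hcard hlt hNf)
    have ho' : (o : MulAut Q) ∈ E.autGroup Q := mem_of_pClosure (h.pel Q hQe) (by rw [← hO]; exact ho)
    have hom := mor_autFun hQle ho'
    have hQN : Q ≤ normalizerIn S Q := hlt.le
    refine ⟨γ, hγ, _, hom.comp (hg₀.mono hQN) (fun x hx => autFun_mem _ hx), fun x hx => ?_⟩
    have h6 : α = (ν : MulAut Q) * (o : MulAut Q) := by rw [← Subgroup.coe_mul, hνo]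
    rw [h6, autFun_mul _ _ hx, ← hgx _ (autFun_mem _ hx), e _ (hQN (autFun_mem _ hx))]
  exact alperin_prop hS hF hC (fun Q hQ α hα => key _ Q hQ le_rfl α hα) hf

end

end Cfsg.Agent.H28
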