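import Mathlib
import Cfsg.Agent.H28.IPI1
import Cfsg.Agent.H28.FusKNorm
import Cfsg.Agent.H28.CIdx7

/-!
Subsystems of index prime to `p`: the local systems.
-/

set_option autoImplicit false

namespace Cfsg.Agent.H28

open Cfsg.FusionSystem

universe u

section
variable {Ω : Type u} [Group Ω] {S T : Subgroup Ω} {F E : FusionSystem S} {P Q X Y Z : Subgroup Ω} {f g : Ω → Ω}
  {p : ℕ}

/-- The intersection of systems over different groups. -/
def meetSys (hTS : T ≤ S) (E : FusionSystem S) (K : FusionSystem T) : FusionSystem T where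
  Hom X := {φ | φ ∈ K.Hom X ∧ φ ∈ E.Hom X}
  le_of_mem h := K.le_of_mem h.1
  injective_of_mem h := K.injective_of_mem h.1
  conj_mem hP ht := ⟨K.conj_mem hP ht, E.conj_mem (hP.trans hTS) (hTS ht)⟩
  comp_mem := by
    rintro P Q φ ψ ⟨h1, h2⟩ ⟨h3, h4⟩ h
    exact ⟨K.comp_mem h1 h3 h, E.comp_mem h2 h4 h⟩
  inv_mem := by
    rintro P φ ⟨h1, h2⟩
    obtain ⟨ψ, hψ, h3⟩ := K.inv_mem h1
    obtain ⟨ψ', hψ', h4⟩ := E.inv_mem h2
    have h5 : ψ = ψ' := by
      ext ⟨y, x, rfl⟩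
      exact (h3 x).trans (h4 x).symm
    subst h5
    exact ⟨ψ, ⟨hψ, hψ'⟩, h3⟩

theorem mor_meetSys {hTS : T ≤ S} {E : FusionSystem S} {K : FusionSystem T} :
    Mor (meetSys hTS E K) X f ↔ Mor K X f ∧ Mor E X f := by
  constructor
  · rintro ⟨φ, ⟨h1, h2⟩, h3⟩
    exact ⟨⟨φ, h1, h3⟩, ⟨φ, h2, h3⟩⟩
  · rintro ⟨⟨φ, h1, h3⟩, ⟨ψ, h2, h4⟩⟩
    have h5 : φ = ψ := by
      ext x
      rw [h3, h4]
    subst h5
    exact ⟨φ, ⟨h1, h2⟩, h3⟩

theorem ksys_hT : ∀ t ∈ normalizerIn S P, t ∈ S ∧ ∃ κ ∈ (autInducedBy S P : Subgroup (MulAut P)),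
    ∀ x ∈ P, t * x * t⁻¹ = autFun κ x := fun t ht =>
  ⟨ht.1, conjAut P t ht.2, conjAut_mem ht.2 ht.1, fun x hx => (autFun_conjAut ht.2 hx).symm⟩

/-- The normalizer system `N_F^K(P)` for `K = Aut_S(P)`. -/
def ksys (F : FusionSystem S) (P : Subgroup Ω) (hP : P ≤ S) : FusionSystem (normalizerIn S P) :=
  KSys F P (autInducedBy S P) (normalizerIn S P) hP ksys_hT

theorem mor_ksys {hP : P ≤ S} : Mor (ksys F P hP) X f ↔ X ≤ normalizerIn S P ∧
    (∀ x ∈ X, f x ∈ normalizerIn S P) ∧ ∃ g, Mor F (X ⊔ P) g ∧ (∀ x ∈ X, g x = f x) ∧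
      ∃ κ ∈ (autInducedBy S P : Subgroup (MulAut P)), ∀ x ∈ P, g x = autFun κ x := mor_KSys

theorem mor_ksys_ge {hP : P ≤ S} (hPX : P ≤ X) : Mor (ksys F P hP) X f ↔ X ≤ normalizerIn S P ∧
    Mor F X f ∧ ∃ κ ∈ (autInducedBy S P : Subgroup (MulAut P)), ∀ x ∈ P, f x = autFun κ x := by
  rw [mor_ksys, sup_eq_left.2 hPX]
  constructor
  · rintro ⟨h1, h2, g, hg, h3, κ, hκ, h4⟩
    exact ⟨h1, hg.congr h3, κ, hκ, fun x hx => by rw [← h3 x (hPX hx), h4 x hx]⟩
  · rintro ⟨h1, hf, κ, hκ, h4⟩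
    refine ⟨h1, fun x hx => ⟨hf.mem hx, ?_⟩, f, hf, fun x _ => rfl, κ, hκ, h4⟩
    show f x ∈ Subgroup.normalizer (P : Set Ω)
    have hxN := (h1 hx).2
    have key : ∀ y ∈ P, f x * y * (f x)⁻¹ ∈ P ∧ (f x)⁻¹ * y * f x ∈ P := by
      intro y hy
      have hy' : autFun κ⁻¹ y ∈ P := autFun_mem _ hy
      have h5 : f (autFun κ⁻¹ y) = y := by rw [h4 _ hy', autFun_apply_inv _ hy]
      have h6 : x * autFun κ⁻¹ y * x⁻¹ ∈ P := (Subgroup.mem_normalizer_iff.1 hxN _).1 hy'
      have h7 : x⁻¹ * autFun κ⁻¹ y * x⁻¹⁻¹ ∈ P :=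
        (Subgroup.mem_normalizer_iff.1 (Subgroup.inv_mem _ hxN) _).1 hy'
      constructor
      · have h8 : f (x * autFun κ⁻¹ y * x⁻¹) = f x * y * (f x)⁻¹ := by
          rw [hf.conj hx (hPX hy'), h5]
        rw [← h8, h4 _ h6]
        exact autFun_mem _ h6
      · have h8 : f (x⁻¹ * autFun κ⁻¹ y * x⁻¹⁻¹) = (f x)⁻¹ * y * f x := by
          rw [hf.conj (Subgroup.inv_mem _ hx) (hPX hy'), h5, hf.inv hx, inv_inv]
        rw [← h8, h4 _ h7]
        exact autFun_mem _ h7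
    rw [Subgroup.mem_normalizer_iff]
    intro y
    refine ⟨fun hy => (key y hy).1, fun hy => ?_⟩
    have h9 := (key _ hy).2
    have h10 : (f x)⁻¹ * (f x * y * (f x)⁻¹) * f x = y := by group
    rwa [h10] at h9

theorem ksys_normal {hP : P ≤ S} : (ksys F P hP).IsNormal P := by
  rw [isNormal_iff]
  refine ⟨le_normalizerIn hP, fun X f hf => ?_⟩
  obtain ⟨h1, h2, g, hg, h3, κ, hκ, h4⟩ := mor_ksys.1 hf
  refine ⟨g, (mor_ksys_ge le_sup_right).2 ⟨sup_le h1 (le_normalizerIn hP), hg, κ, hκ, h4⟩, h3, ?_⟩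
  rw [img_congr h4, img_autFun]

theorem cent_eq (hPZ : P ≤ Z) : centralizerIn S Z = centralizerIn (normalizerIn S P) Z := by
  apply le_antisymm
  · intro x hx
    obtain ⟨h1, h2⟩ := mem_centralizerIn.1 hx
    refine mem_centralizerIn.2 ⟨⟨h1, ?_⟩, h2⟩
    show x ∈ Subgroup.normalizer (P : Set Ω)
    rw [Subgroup.mem_normalizer_iff]
    intro y
    constructor
    · intro hy
      rw [h2 y (hPZ hy), mul_inv_cancel_right]; exact hy
    · intro hy
      have h3 := h2 _ (hPZ hy)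
      have h4 : y = x * y * x⁻¹ := by
        have h5 : x * (x * y * x⁻¹) = x * y * x⁻¹ * x := h3
        rw [inv_mul_cancel_right] at h5
        have h6 := mul_left_cancel h5
        exact h6.symm
      rw [h4]; exact hy
  · intro x hx
    obtain ⟨h1, h2⟩ := mem_centralizerIn.1 hx
    exact mem_centralizerIn.2 ⟨h1.1, h2⟩

variable [hp : Fact p.Prime] [Finite S] (hS : IsPGroup p S) (hF : F.IsSaturated p)
include hS hF

theorem ksys_saturated (hfn : F.IsFullyNormalized P) : (ksys F P hfn.1).IsSaturated p := by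
  have hPf : Finite P := finite_of_le hfn.1
  have hTeq : normalizerIn S P = NK S P (autInducedBy S P) id := by
    ext t
    rw [mem_NK]
    constructor
    · intro ht
      exact ⟨ht.1, conjAut P t ht.2, conjAut_mem ht.2 ht.1, fun x hx => (autFun_conjAut ht.2 hx).symm⟩
    · rintro ⟨h1, κ, hκ, h2⟩
      exact ⟨h1, normalizer_of_autFun (α := κ) fun x hx => (h2 x hx).symm⟩
  refine KSys_saturated hS hF hfn.1 hTeq ⟨mor_id hfn.1, fun g hg => ?_⟩
  rw [← hTeq]
  refine le_trans ?_ (hfn.2 _ hg.isConj)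
  have hfin : Finite (normalizerIn S (img P g)) := finite_of_le normalizerIn_le
  apply card_le_of_le
  intro s hs
  obtain ⟨h1, κ, hκ, h2⟩ := mem_NK.1 hs
  have hIf : Finite (img P g) := finite_of_le hg.img_le
  refine ⟨h1, ?_⟩
  apply mem_normalizer_of_finite
  intro y hy
  obtain ⟨x, hx, rfl⟩ := hg.mem_img.1 hy
  rw [h2 x hx]
  exact mem_img_of_mem (autFun_mem _ hx)

/-- Full centralization in the local system. -/
theorem ksys_fc (hfn : F.IsFullyNormalized P) (hPZ : P ≤ Z)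
    (hZ : (ksys F P hfn.1).IsFullyCentralized Z) : F.IsFullyCentralized Z := by
  have hZN : Z ≤ normalizerIn S P := hZ.1
  have hZS : Z ≤ S := hZN.trans normalizerIn_le
  rw [fullyCentralized_iff]
  refine ⟨hZS, fun μ hμ => ?_⟩
  have hμP := hμ.mono hPZ
  obtain ⟨i, hi, hi1, hi2, hi3⟩ := hμP.inverse
  have hrec : F.IsReceptive (img (img P μ) i) := by rw [hi3]; exact FN.rec hS hF hfn
  obtain ⟨σ, hσ, hσx⟩ := receptive_extend hrec hi
  have hPμ : Finite (img P μ) := finite_of_le hμP.img_le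
  have hZf : Finite Z := finite_of_le hZS
  have hPf : Finite P := finite_of_le hPZ
  -- μ(Z) ≤ Nf
  have hμZ : img Z μ ≤ Nf S (img P μ) i := by
    intro w hw
    obtain ⟨z, hz, rfl⟩ := hμ.mem_img.1 hw
    have hzN := (hZN hz).2
    rw [mem_Nf]
    refine ⟨hμ.mem hz, ?_, z, hZS hz, ?_⟩
    · apply mem_normalizer_of_finite
      intro y hy
      obtain ⟨x, hx, rfl⟩ := hμP.mem_img.1 hy
      rw [← hμ.conj hz (hPZ hx)]
      exact mem_img_of_mem ((Subgroup.mem_normalizer_iff.1 hzN x).1 hx)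
    · intro y hy
      obtain ⟨x, hx, rfl⟩ := hμP.mem_img.1 hy
      rw [← hμ.conj hz (hPZ hx), hi1 _ ((Subgroup.mem_normalizer_iff.1 hzN x).1 hx), hi1 x hx]
  have hCN : centralizerIn S (img Z μ) ≤ Nf S (img P μ) i :=
    le_trans (centralizerIn_anti (img_mono hPZ)) hi.centralizer_le_Nf
  have hcomp := hμ.comp hσ (fun z hz => hμZ (mem_img_of_mem hz))
  have hid : ∀ x ∈ P, σ (μ x) = x := fun x hx => by
    rw [hσx _ (mem_img_of_mem hx), hi1 x hx]
  have hK : Mor (ksys F P hfn.1) Z (fun z => σ (μ z)) := by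
    rw [mor_ksys_ge hPZ]
    exact ⟨hZN, hcomp, 1, one_mem _, fun x hx => by rw [autFun_one hx]; exact hid x hx⟩
  have h1 := (fullyCentralized_iff.1 hZ).2 _ hK
  rw [cent_eq hPZ]
  refine le_trans ?_ h1
  have hPimg : P ≤ img Z (fun z => σ (μ z)) := by
    intro x hx
    have := mem_img_of_mem (f := fun z => σ (μ z)) (hPZ hx)
    rwa [hid x hx] at this
  rw [← cent_eq hPimg]
  -- σ maps the centralizer
  have hσC := hσ.mono hCN
  rw [← hσC.card_img]
  have hfin : Finite (centralizerIn S (img Z (fun z => σ (μ z)))) := finite_of_le centralizerIn_le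
  apply card_le_of_le
  rw [img_le_iff]
  intro c hc
  refine mem_centralizerIn.2 ⟨hσC.mem hc, fun y hy => ?_⟩
  obtain ⟨z, hz, rfl⟩ := hcomp.mem_img.1 hy
  have hzμ := hμZ (mem_img_of_mem hz)
  rw [← hσ.mul (hCN hc) hzμ, (mem_centralizerIn.1 hc).2 _ (mem_img_of_mem hz), hσ.mul hzμ (hCN hc)]

theorem ksys_centric (hfn : F.IsFullyNormalized P) (hPZ : P ≤ Z) (hZ : (ksys F P hfn.1).IsCentric Z) :
    F.IsCentric Z := by
  have hNf : Finite (normalizerIn S P) := finite_of_le normalizerIn_le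
  have h1 := ksys_fc hS hF hfn hPZ (FC_of_centric hZ)
  apply centric_of_fullyCentralized h1
  rw [cent_eq hPZ]
  exact centric_centralizer hZ

end

/-- A subsystem of index prime to `p`, before its saturation is known. -/
structure IPP {Ω : Type u} [Group Ω] {S : Subgroup Ω} (p : ℕ) (F E : FusionSystem S) : Prop where
  sub : ∀ P f, Mor E P f → Mor F P f
  inv : ∀ γ ∈ F.autGroup S, ∀ P f, Mor E P f →
    Mor E (img P (autFun γ)) (fun x => autFun γ (f (autFun γ⁻¹ x)))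
  pel : ∀ Q, F.IsCentric Q → ∀ α ∈ F.autGroup Q, (∃ k : ℕ, α ^ p ^ k = 1) → α ∈ E.autGroup Q
  ext : ∀ P X f, F.IsCentric P → P ≤ X → Mor F X f → Mor E P f → Mor E X f
  gen : ∀ E' : FusionSystem S, (∀ P f, F.IsCentric P → Mor E P f → Mor E' P f) → ∀ P f, Mor E P f → Mor E' P f

section
variable {Ω : Type u} [Group Ω] {S T : Subgroup Ω} {F E : FusionSystem S} {P Q X Y Z P₁ W : Subgroup Ω}
  {f g φ θ : Ω → Ω} {p : ℕ}

theorem IPP.pair (h : IPP p F E) : PPair p F E where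
  sub := h.sub
  inv := h.inv
  pel Q hQ := h.pel Q hQ.1

variable [hp : Fact p.Prime] [Finite S] (hS : IsPGroup p S) (hF : F.IsSaturated p) (h : IPP p F E)
include hS hF h

omit hp hS hF h in
theorem FN_factor {γ : MulAut S} (hγ : γ ∈ F.autGroup S) (hg : Mor F X g) (hf : Mor F X f)
    (hfn : F.IsFullyNormalized (img X g)) (he : ∀ x ∈ X, g x = autFun γ (f x)) :
    F.IsFullyNormalized (img X f) := by
  have hYS := hf.img_le
  have h1 : img (img X f) (autFun γ) = img X g := by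
    rw [hf.img_comp]
    exact img_congr fun x hx => (he x hx).symm
  have hγ' : γ⁻¹ ∈ F.autGroup S := Subgroup.inv_mem _ hγ
  have h2 : img (img X g) (autFun γ⁻¹) = img X f := by rw [← h1, img_img_inv hγ hYS]
  have hm := (mor_autFun le_rfl hγ').mono (normalizerIn_le (S := S) (P := img X g))
  have h3 := img_normalizerIn_le hm hg.img_le
  rw [h2] at h3
  have hfin : Finite (normalizerIn S (img X f)) := finite_of_le normalizerIn_le
  have h4 := card_le_of_le h3
  rw [hm.card_img] at h4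
  refine ⟨hYS, fun Q hQ => ?_⟩
  exact le_trans (hfn.2 Q (isConj_trans (isConj_trans (isConj_symm hg.isConj) hf.isConj) hQ)) h4

theorem IPP.exists_fn (hX : X ≤ S) : ∃ χ, Mor E (normalizerIn S X) χ ∧ F.IsFullyNormalized (img X χ) := by
  obtain ⟨Q, hQ, hfn⟩ := exists_fullyNormalized (F := F) hX
  obtain ⟨g, hg, hgX⟩ := FN.exists_map hS hF hfn hQ
  obtain ⟨γ, hγ, g₀, hg₀, e⟩ := h.pair.factor hS hF hg
  refine ⟨g₀, hg₀, ?_⟩
  have hXN := le_normalizerIn hX
  refine FN_factor hγ (hg.mono hXN) ((h.sub _ _ hg₀).mono hXN) ?_ (fun x hx => e x (hXN hx))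
  rw [hgX]; exact hfn

/-- The local pair. -/
theorem IPP.ksys_pair (hfn : F.IsFullyNormalized P) :
    PPair p (ksys F P hfn.1) (meetSys normalizerIn_le E (ksys F P hfn.1)) where
  sub P f hf := (mor_meetSys.1 hf).1
  inv := by
    intro β hβ X f hf
    obtain ⟨hfK, hfE⟩ := mor_meetSys.1 hf
    have hXN := hfK.le
    have hβm := mor_autFun le_rfl hβ
    have hβ'm := mor_autFun le_rfl (Subgroup.inv_mem _ hβ)
    have hβX := hβm.mono hXN
    have hPN := le_normalizerIn hfn.1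
    have hβF : Mor F (normalizerIn S P) (autFun β) := ((mor_ksys_ge hPN).1 hβm).2.1
    rw [mor_meetSys]
    constructor
    · refine ((hβ'm.mono hβX.img_le).comp hfK ?_).comp hβm ?_
      · intro y hy
        obtain ⟨x, hx, rfl⟩ := hβX.mem_img.1 hy
        rw [autFun_inv_apply _ (hXN hx)]; exact hx
      · intro y hy
        obtain ⟨x, hx, rfl⟩ := hβX.mem_img.1 hy
        rw [autFun_inv_apply _ (hXN hx)]; exact hfK.mem hx
    · obtain ⟨γ, hγ, g, hg, e⟩ := h.pair.factor hS hF hβF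
      have hgX := hg.mono hXN
      obtain ⟨j, hj, hj1, hj2, -⟩ := hgX.inverse
      have hjX : ∀ y ∈ img X g, j y ∈ X := by
        intro y hy
        obtain ⟨x, hx, rfl⟩ := hgX.mem_img.1 hy
        rw [hj1 x hx]; exact hx
      have hk := (hj.comp hfE hjX).comp hg (fun y hy => hfK.mem (hjX y hy))
      have h1 := h.inv γ hγ _ _ hk
      have h2 : img (img X g) (autFun γ) = img X (autFun β) := by
        rw [hgX.img_comp]
        exact img_congr fun x hx => (e x (hXN hx)).symm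
      rw [h2] at h1
      refine h1.congr fun y hy => ?_
      obtain ⟨x, hx, rfl⟩ := hβX.mem_img.1 hy
      show autFun γ (g (f (j (autFun γ⁻¹ (autFun β x))))) = autFun β (f (autFun β⁻¹ (autFun β x)))
      rw [autFun_inv_apply _ (hXN hx), e x (hXN hx), autFun_inv_apply _ (hg.mem (hXN hx)), hj1 x hx,
        ← e _ (hfK.mem hx)]
  pel := by
    intro Q hQ α hα hk
    have hNf : Finite (normalizerIn S P) := finite_of_le normalizerIn_le
    have hQN := hQ.1.1
    have hNp := hS.to_le (normalizerIn_le (S := S) (P := P))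
    have hPQ : P ≤ Q := normal_le_centric_radical hNp ksys_normal hQ.1 (essential_radical hNp hQ)
    have hQc := ksys_centric hS hF hfn hPQ hQ.1
    have hαm := mor_autFun hQN hα
    have hαF : Mor F Q (autFun α) := ((mor_ksys_ge hPQ).1 hαm).2.1
    have h1 := h.pel Q hQc α ((mor_autFun_iff hQc.1).1 hαF) hk
    rw [← mor_autFun_iff hQN, mor_meetSys]
    exact ⟨hαm, mor_autFun hQc.1 h1⟩

end

end Cfsg.Agent.H28
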