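import Mathlib
import Cfsg.Agent.H28.IPI2

/-!
Subsystems of index prime to `p`: saturation.
-/

set_option autoImplicit false

namespace Cfsg.Agent.H28

open Cfsg.FusionSystem

universe u

section
variable {Ω : Type u} [Group Ω] {S T : Subgroup Ω} {F E : FusionSystem S} {P Q X Y Z P₁ W M D : Subgroup Ω}
  {f g φ θ χ : Ω → Ω} {p : ℕ}

theorem img_le_norm [Finite S] (hf : Mor F W f) (hPW : P ≤ W) (hW : W ≤ Subgroup.normalizer (P : Set Ω)) :
    img W f ≤ normalizerIn S (img P f) := by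
  intro w hw
  obtain ⟨z, hz, rfl⟩ := hf.mem_img.1 hw
  have hfin : Finite (img P f) := finite_of_le (hf.mono hPW).img_le
  refine ⟨hf.mem hz, ?_⟩
  apply mem_normalizer_of_finite
  intro y hy
  obtain ⟨x, hx, rfl⟩ := (hf.mono hPW).mem_img.1 hy
  rw [← hf.conj hz (hPW hx)]
  exact mem_img_of_mem ((Subgroup.mem_normalizer_iff.1 (hW hz) x).1 hx)

theorem img_cent_le (hf : Mor F (P ⊔ centralizerIn S P) f) :
    img (centralizerIn S P) f ≤ centralizerIn S (img P f) := by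
  rw [img_le_iff]
  intro c hc
  have hcP := (le_sup_right : centralizerIn S P ≤ P ⊔ _) hc
  refine mem_centralizerIn.2 ⟨hf.mem hcP, fun y hy => ?_⟩
  obtain ⟨x, hx, rfl⟩ := (hf.mono le_sup_left).mem_img.1 hy
  have hxP := (le_sup_left : P ≤ P ⊔ centralizerIn S P) hx
  rw [← hf.mul hcP hxP, (mem_centralizerIn.1 hc).2 x hx, hf.mul hxP hcP]

theorem img_sup_cent_le (hf : Mor F (P ⊔ centralizerIn S P) f) :
    img (P ⊔ centralizerIn S P) f ≤ img P f ⊔ centralizerIn S (img P f) := by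
  rw [hf.img_sup]
  exact sup_le_sup_left (img_cent_le hf) _

theorem img_cent_eq [Finite S] (hf : Mor F (P ⊔ centralizerIn S P) f)
    (hc : Nat.card (centralizerIn S (img P f)) ≤ Nat.card (centralizerIn S P)) :
    img (centralizerIn S P) f = centralizerIn S (img P f) := by
  have hfin : Finite (centralizerIn S (img P f)) := finite_of_le centralizerIn_le
  apply eq_of_le_of_card (img_cent_le hf)
  rw [(hf.mono le_sup_right).card_img]; exact hc

theorem FC_sup_centric [Finite S] (hX : F.IsFullyCentralized X) : F.IsCentric (X ⊔ centralizerIn S X) := by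
  refine ⟨sup_le hX.1 centralizerIn_le, fun Q hQ => ?_⟩
  obtain ⟨f, hf, rfl⟩ := isConj_iff.1 hQ
  have h1 := img_cent_eq hf ((fullyCentralized_iff.1 hX).2 f (hf.mono le_sup_left))
  refine le_trans (centralizerIn_anti (img_mono le_sup_left)) ?_
  rw [← h1]
  exact img_mono le_sup_right

theorem FC_aut [Finite S] {γ : MulAut S} (hγ : γ ∈ F.autGroup S) (hX : X ≤ S)
    (h : F.IsFullyCentralized (img X (autFun γ))) : F.IsFullyCentralized X := by
  have hm := (mor_autFun le_rfl hγ).mono hX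
  have hm' := mor_autFun le_rfl (Subgroup.inv_mem _ hγ)
  rw [fullyCentralized_iff]
  refine ⟨hX, fun f hf => ?_⟩
  have h1 : F.IsConj (img X (autFun γ)) (img X f) := isConj_trans (isConj_symm hm.isConj) hf.isConj
  refine le_trans (h.2 _ h1) ?_
  have hfin : Finite (centralizerIn S X) := finite_of_le centralizerIn_le
  rw [← (hm'.mono (centralizerIn_le (S := S) (P := img X (autFun γ)))).card_img]
  apply card_le_of_le
  rw [img_le_iff]
  intro c hc
  obtain ⟨hcS, hc2⟩ := mem_centralizerIn.1 hc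
  refine mem_centralizerIn.2 ⟨hm'.mem hcS, fun x hx => ?_⟩
  have h2 := hc2 _ (mem_img_of_mem hx)
  have hxγ : autFun γ x ∈ S := autFun_mem _ (hX hx)
  have h3 : autFun γ⁻¹ (c * autFun γ x) = autFun γ⁻¹ (autFun γ x * c) := by rw [h2]
  rw [hm'.mul hcS hxγ, hm'.mul hxγ hcS, autFun_inv_apply _ (hX hx)] at h3
  exact h3

variable [hp : Fact p.Prime] [Finite S] (hS : IsPGroup p S) (hF : F.IsSaturated p) (h : IPP p F E)
include hS hF h

/-- Moving to a fully centralized subgroup without moving `P`. -/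
theorem IPP.move (hfn : F.IsFullyNormalized P) (hPX : P ≤ X) (hXN : X ≤ normalizerIn S P) :
    ∃ ω, Mor E X ω ∧ (∀ x ∈ P, ω x = x) ∧ F.IsFullyCentralized (img X ω) := by
  have hNf : Finite (normalizerIn S P) := finite_of_le normalizerIn_le
  have hNp := hS.to_le (normalizerIn_le (S := S) (P := P))
  obtain ⟨Y, hY, hfc⟩ := exists_fullyCentralized (F := ksys F P hfn.1) hXN
  obtain ⟨ω₁, hω₁, hY1⟩ := isConj_iff.1 hY
  obtain ⟨β, hβ, ω₀, hω₀, e⟩ := (h.ksys_pair hS hF hfn).factor hNp (ksys_saturated hS hF hfn) hω₁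
  obtain ⟨hω₀K, hω₀E⟩ := mor_meetSys.1 hω₀
  obtain ⟨-, -, κ, hκ, e2⟩ := (mor_ksys_ge hPX).1 hω₀K
  obtain ⟨t, ht, e3⟩ := mem_autInducedBy'.1 hκ
  have htN : t ∈ normalizerIn S P := ⟨ht, normalizer_of_autFun e3⟩
  have htN' : t⁻¹ ∈ normalizerIn S P := Subgroup.inv_mem _ htN
  have hωE := hω₀E.comp (mor_conj (F := E) le_rfl (Subgroup.inv_mem _ ht)) (fun x hx => hω₀E.mem hx)
  have hωK := hω₀K.comp (mor_conj (F := ksys F P hfn.1) le_rfl htN') (fun x hx => hω₀K.mem hx)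
  have hid : ∀ x ∈ P, t⁻¹ * ω₀ x * t⁻¹⁻¹ = x := by
    intro x hx
    rw [e2 x hx, e3 x hx]; group
  refine ⟨_, hωE, hid, ?_⟩
  have hPI : P ≤ img X (fun x => t⁻¹ * ω₀ x * t⁻¹⁻¹) := by
    intro x hx
    have := mem_img_of_mem (f := fun x => t⁻¹ * ω₀ x * t⁻¹⁻¹) (hPX hx)
    simp only [hid x hx] at this
    exact this
  apply ksys_fc hS hF hfn hPI
  have htn : t ∈ Subgroup.normalizer ((normalizerIn S P : Subgroup Ω) : Set Ω) := Subgroup.le_normalizer htN
  have hct : conjAut (normalizerIn S P) t htn ∈ (ksys F P hfn.1).autGroup (normalizerIn S P) :=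
    autInducedBy_le le_rfl le_rfl (conjAut_mem htn htN)
  apply FC_aut hct hωK.img_le
  have h1 : img (img X (fun x => t⁻¹ * ω₀ x * t⁻¹⁻¹)) (autFun (conjAut (normalizerIn S P) t htn)) = img X ω₀ := by
    rw [hωK.img_comp]
    apply img_congr
    intro x hx
    rw [autFun_conjAut _ (hωK.mem hx)]; group
  rw [h1]
  apply FC_aut hβ hω₀K.img_le
  have h2 : img (img X ω₀) (autFun β) = Y := by
    rw [hω₀K.img_comp, ← hY1]
    exact img_congr fun x hx => (e x hx).symm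
  rw [h2]; exact hfc

/-- Extension to `N_φ` as soon as there is an extension to a centric subgroup. -/
theorem IPP.ext_of_centric (hfn : F.IsFullyNormalized (img P₁ φ)) (hφ : Mor E P₁ φ) (hθ : Mor E W θ)
    (hPW : P₁ ≤ W) (hWN : W ≤ normalizerIn S P₁) (hWc : F.IsCentric W) (he : ∀ x ∈ P₁, θ x = φ x) :
    ∃ ψ, Mor E (Nf S P₁ φ) ψ ∧ ∀ x ∈ P₁, ψ x = φ x := by
  obtain ⟨P, hP⟩ : ∃ P, P = img P₁ φ := ⟨_, rfl⟩
  have hNf : Finite (normalizerIn S P) := finite_of_le normalizerIn_le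
  have hNp := hS.to_le (normalizerIn_le (S := S) (P := P))
  have hφF := h.sub _ _ hφ
  obtain ⟨φ', hφ', e'⟩ := receptive_extend (FN.rec hS hF hfn) hφF
  have hP₁N := hφF.le_Nf
  have hWNf : W ≤ Nf S P₁ φ := by
    intro w hw
    have hwN := (hWN hw).2
    rw [mem_Nf]
    refine ⟨hθ.le hw, hwN, θ w, hθ.mem hw, fun x hx => ?_⟩
    have hx' : w * x * w⁻¹ ∈ P₁ := (Subgroup.mem_normalizer_iff.1 hwN x).1 hx
    rw [← he _ hx', hθ.conj hw (hPW hx), he x hx]
  obtain ⟨j, hj, hj1, hj2, -⟩ := hθ.inverse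
  have hjW : ∀ y ∈ img W θ, j y ∈ W := by
    intro y hy
    obtain ⟨x, hx, rfl⟩ := hθ.mem_img.1 hy
    rw [hj1 x hx]; exact hx
  have hω := (h.sub _ _ hj).comp (hφ'.mono hWNf) hjW
  have hPI : P ≤ img W θ := by
    rw [hP, img_le_iff]
    intro x hx
    rw [← he x hx]; exact mem_img_of_mem (hPW hx)
  have hωid : ∀ y ∈ P, φ' (j y) = y := by
    intro y hy
    rw [hP] at hy
    obtain ⟨x, hx, rfl⟩ := hφ.mem_img.1 hy
    rw [← he x hx, hj1 x (hPW hx), e' x hx, he x hx]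
  have hIN : img W θ ≤ normalizerIn S P := by
    have h1 := img_le_norm hθ hPW (fun w hw => (hWN hw).2)
    have h2 : img P₁ θ = P := by rw [hP]; exact img_congr he
    rwa [h2] at h1
  have hfnP : F.IsFullyNormalized P := hP ▸ hfn
  have hωK : Mor (ksys F P hfnP.1) (img W θ) (fun y => φ' (j y)) := by
    rw [mor_ksys_ge hPI]
    exact ⟨hIN, hω, 1, one_mem _, fun x hx => by rw [autFun_one hx]; exact hωid x hx⟩
  obtain ⟨β, hβ, ω₀, hω₀, e⟩ := (h.ksys_pair hS hF hfnP).factor hNp (ksys_saturated hS hF hfnP) hωK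
  obtain ⟨hω₀K, hω₀E⟩ := mor_meetSys.1 hω₀
  have hPN := le_normalizerIn hfnP.1
  have hβm := mor_autFun le_rfl hβ
  obtain ⟨-, hβF, κ, hκ, e2⟩ := (mor_ksys_ge hPN).1 hβm
  obtain ⟨t, ht, e3⟩ := mem_autInducedBy'.1 hκ
  have htN : t ∈ Subgroup.normalizer (P : Set Ω) := normalizer_of_autFun e3
  have hβ'F : Mor F (normalizerIn S P) (autFun β⁻¹) :=
    ((mor_ksys_ge hPN).1 (mor_autFun le_rfl (Subgroup.inv_mem _ hβ))).2.1
  have hφ'N : ∀ u ∈ Nf S P₁ φ, φ' u ∈ normalizerIn S P := by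
    intro u hu
    have h1 := img_le_norm hφ' hP₁N Nf_le_normalizer (mem_img_of_mem hu)
    have h2 : img P₁ φ' = P := by rw [hP]; exact img_congr e'
    rwa [h2] at h1
  have hψ₀ := hφ'.comp hβ'F hφ'N
  have hψ₀W : Mor E W (fun x => autFun β⁻¹ (φ' x)) := by
    refine (hθ.comp hω₀E (fun x hx => mem_img_of_mem hx)).congr fun w hw => ?_
    have h1 := e _ (mem_img_of_mem (f := θ) hw)
    simp only [hj1 w hw] at h1
    rw [h1, autFun_inv_apply _ (hω₀K.mem (mem_img_of_mem hw))]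
  have hψ₀E := h.ext W (Nf S P₁ φ) _ hWc hWNf hψ₀ hψ₀W
  refine ⟨_, hψ₀E.comp (mor_conj (F := E) le_rfl ht) (fun x hx => hψ₀E.mem hx), fun x hx => ?_⟩
  have hy : φ x ∈ P := by rw [hP]; exact mem_img_of_mem hx
  have hy' : t⁻¹ * φ x * t⁻¹⁻¹ ∈ P := (Subgroup.mem_normalizer_iff.1 (Subgroup.inv_mem _ htN) _).1 hy
  have h3 : autFun β (t⁻¹ * φ x * t⁻¹⁻¹) = φ x := by
    rw [e2 _ hy', e3 _ hy']; group
  have h4 : autFun β⁻¹ (φ x) = t⁻¹ * φ x * t⁻¹⁻¹ := by
    have h5 := autFun_inv_apply β (hPN hy')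
    rwa [h3] at h5
  show t * autFun β⁻¹ (φ' x) * t⁻¹ = φ x
  rw [e' x hx, h4]; group

/-- The inductive step. -/
theorem IPP.step (hfn₁ : F.IsFullyNormalized P₁) (hfn : F.IsFullyNormalized (img P₁ φ)) (hφ : Mor E M φ)
    (hPM : P₁ ≤ M) (hMN : M ≤ normalizerIn S P₁) (hor : P₁ ≠ M ∨ F.IsCentric P₁)
    (IH : ∀ (X : Subgroup Ω) (f : Ω → Ω), Nat.card P₁ < Nat.card X → Mor E X f → F.IsFullyCentralized X →
      F.IsFullyCentralized (img X f) → ∃ ψ, Mor E (X ⊔ centralizerIn S X) ψ ∧ ∀ x ∈ X, ψ x = f x) :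
    ∃ ψ, Mor E (P₁ ⊔ centralizerIn S P₁) ψ ∧ ∀ x ∈ P₁, ψ x = φ x := by
  by_cases hc : F.IsCentric P₁
  · rw [sup_eq_left.2 (centric_centralizer hc)]
    exact ⟨φ, hφ.mono hPM, fun x _ => rfl⟩
  have hne := hor.resolve_right hc
  have hMf : Finite M := finite_of_le hφ.le
  obtain ⟨P, hP⟩ : ∃ P, P = img P₁ φ := ⟨_, rfl⟩
  obtain ⟨ω₁, hω₁, id₁, fc₁⟩ := h.move hS hF hfn₁ hPM hMN
  have hM2N := img_le_norm hφ hPM (fun m hm => (hMN hm).2)
  obtain ⟨ω₂, hω₂, id₂, fc₂⟩ := h.move hS hF hfn (img_mono hPM) hM2N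
  obtain ⟨i, hi, hi1, hi2, hi3⟩ := hω₁.inverse
  have hiM : ∀ y ∈ img M ω₁, i y ∈ M := by
    intro y hy
    obtain ⟨x, hx, rfl⟩ := hω₁.mem_img.1 hy
    rw [hi1 x hx]; exact hx
  have hκ := (hi.comp hφ hiM).comp hω₂ (fun y hy => mem_img_of_mem (hiM y hy))
  have himg : img (img M ω₁) (fun y => ω₂ (φ (i y))) = img (img M φ) ω₂ := by
    rw [hω₁.img_comp, hφ.img_comp]
    apply img_congr
    intro x hx
    rw [hi1 x hx]
  have hcard : Nat.card P₁ < Nat.card (img M ω₁) := by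
    rw [hω₁.card_img]
    exact lt_of_le_of_ne (card_le_of_le hPM) fun h1 => hne (eq_of_le_of_card hPM h1.ge)
  obtain ⟨θ, hθ, e⟩ := IH _ _ hcard hκ fc₁ (by rw [himg]; exact fc₂)
  have hP₁I : P₁ ≤ img M ω₁ := by
    intro x hx
    have := mem_img_of_mem (f := ω₁) (hPM hx)
    rwa [id₁ x hx] at this
  have hθP : ∀ x ∈ P₁, θ x = φ x := by
    intro x hx
    have h1 : i x = x := by
      have h2 := hi1 x (hPM hx)
      rwa [id₁ x hx] at h2
    rw [e x (hP₁I hx), h1]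
    exact id₂ _ (mem_img_of_mem hx)
  have hWN : img M ω₁ ⊔ centralizerIn S (img M ω₁) ≤ normalizerIn S P₁ := by
    apply sup_le
    · have h1 := img_le_norm hω₁ hPM (fun m hm => (hMN hm).2)
      have h2 : img P₁ ω₁ = P₁ := img_id' id₁
      rwa [h2] at h1
    · exact (centralizerIn_anti hP₁I).trans centralizerIn_le_normalizerIn
  obtain ⟨ψ, hψ, eψ⟩ := h.ext_of_centric hS hF hfn (hφ.mono hPM) hθ (hP₁I.trans le_sup_left) hWN
    (FC_sup_centric fc₁) hθP
  refine ⟨ψ, hψ.mono (sup_le ?_ ?_), eψ⟩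
  · exact (hφ.mono hPM).le_Nf
  · exact (hφ.mono hPM).centralizer_le_Nf

/-- Extension to the centralizer from receptivity. -/
theorem IPP.cent_of_rec (hf : Mor E X f)
    (hR : ∀ g, Mor E X g → F.IsFullyNormalized (img X g) → ∃ ψ, Mor E (Nf S X g) ψ ∧ ∀ x ∈ X, ψ x = g x)
    (hfc : F.IsFullyCentralized (img X f)) :
    ∃ ψ, Mor E (X ⊔ centralizerIn S X) ψ ∧ ∀ x ∈ X, ψ x = f x := by
  obtain ⟨χ, hχ, hfn⟩ := h.exists_fn hS hF hf.img_le
  have hIN := le_normalizerIn hf.img_le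
  have hg := hf.comp hχ (fun x hx => hIN (mem_img_of_mem hx))
  have himg : img X (fun x => χ (f x)) = img (img X f) χ := by rw [hf.img_comp]
  obtain ⟨g', hg', e⟩ := hR _ hg (by rw [himg]; exact hfn)
  have hle : X ⊔ centralizerIn S X ≤ Nf S X (fun x => χ (f x)) := sup_le hg.le_Nf hg.centralizer_le_Nf
  have hg'' := hg'.mono hle
  obtain ⟨i, hi, hi1, hi2, hi3⟩ := hχ.inverse
  have hχ' := hχ.mono (sup_le hIN centralizerIn_le_normalizerIn :
    img X f ⊔ centralizerIn S (img X f) ≤ normalizerIn S (img X f))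
  have hceq := img_cent_eq hχ' ((fullyCentralized_iff.1 hfc).2 χ ((h.sub _ _ hχ).mono hIN))
  have himg' : img X g' = img (img X f) χ := by rw [← himg]; exact img_congr e
  have hmem : ∀ y ∈ X ⊔ centralizerIn S X, g' y ∈ img (normalizerIn S (img X f)) χ := by
    intro y hy
    have h1 := img_sup_cent_le hg'' (mem_img_of_mem hy)
    rw [himg', ← hceq] at h1
    exact (sup_le (img_mono hIN) (img_mono centralizerIn_le_normalizerIn)) h1
  refine ⟨_, hg''.comp hi hmem, fun x hx => ?_⟩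
  show i (g' x) = f x
  rw [e x hx, hi1 _ (hIN (mem_img_of_mem hx))]

end

end Cfsg.Agent.H28
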