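import Mathlib
import Cfsg.Agent.H28.FusNormal2
import Cfsg.Agent.H28.FusAlperin
import Cfsg.Agent.H28.CIdx3

/-!
Morphisms on subgroups not contained in essential subgroups extend to automorphisms of `S`.
-/

set_option autoImplicit false

namespace Cfsg.Agent.H28

open Cfsg.FusionSystem
open scoped commutatorElement

universe u

section
variable {Ω : Type u} [Group Ω] {S : Subgroup Ω} {F : FusionSystem S} {P Q E : Subgroup Ω} {f : Ω → Ω}
  {p : ℕ}

/-- The maps of `F` which extend to `Aut_F(S)` as soon as their source satisfies `C`. -/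
def extSys (F : FusionSystem S) (C : Subgroup Ω → Prop) (hmono : ∀ P Q, P ≤ Q → C P → C Q)
    (hiso : ∀ P f, Mor F P f → (C (img P f) → C P) ∧ (C P → C (img P f))) : FusionSystem S where
  Hom P := {φ | φ ∈ F.Hom P ∧ (C P → ∃ γ ∈ F.autGroup S, ∀ x : P, φ x = autFun γ x)}
  le_of_mem h := F.le_of_mem h.1
  injective_of_mem h := F.injective_of_mem h.1
  conj_mem := by
    intro P t hP ht
    refine ⟨F.conj_mem hP ht, fun _ => ?_⟩
    have htN : t ∈ Subgroup.normalizer (S : Set Ω) := Subgroup.le_normalizer ht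
    refine ⟨conjAut S t htN, autInducedBy_le le_rfl le_rfl (conjAut_mem htN ht), fun x => ?_⟩
    rw [autFun_conjAut htN (hP x.2)]; rfl
  comp_mem := by
    rintro P R φ ψ ⟨hφ, h1⟩ ⟨hψ, h2⟩ h
    refine ⟨F.comp_mem hφ hψ h, fun hC => ?_⟩
    obtain ⟨γ, hγ, h3⟩ := h1 hC
    have hR : C R := by
      apply hmono (img P (toFun φ)) R _ ((hiso P _ (mor_toFun hφ)).2 hC)
      rw [img_le_iff]
      intro x hx
      rw [toFun_apply φ hx]; exact h _
    obtain ⟨δ, hδ, h4⟩ := h2 hR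
    refine ⟨δ * γ, mul_mem hδ hγ, fun x => ?_⟩
    have hPS := (F.le_of_mem hφ).1
    rw [autFun_mul _ _ (hPS x.2), ← h3, ← h4 ⟨φ x, h x⟩]; rfl
  inv_mem := by
    rintro P φ ⟨hφ, h1⟩
    obtain ⟨ψ, hψ, h2⟩ := F.inv_mem hφ
    refine ⟨ψ, ⟨hψ, fun hC => ?_⟩, h2⟩
    have hm := mor_toFun hφ
    have hr : φ.range = img P (toFun φ) := range_eq_img (fun x => (toFun_coe φ x).symm)
    rw [hr] at hC
    obtain ⟨γ, hγ, h3⟩ := h1 ((hiso P _ hm).1 hC)
    refine ⟨γ⁻¹, inv_mem hγ, ?_⟩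
    have hPS := (F.le_of_mem hφ).1
    rintro ⟨_, x, rfl⟩
    have h4 : ψ ⟨φ x, x, rfl⟩ = x := h2 x
    rw [h4]
    show (x : Ω) = autFun γ⁻¹ (φ x)
    rw [h3, autFun_inv_apply _ (hPS x.2)]

theorem mor_extends_top [Fact p.Prime] [Finite S] (hS : IsPGroup p S) (hF : F.IsSaturated p)
    (C : Subgroup Ω → Prop) (hmono : ∀ P Q, P ≤ Q → C P → C Q)
    (hiso : ∀ P f, Mor F P f → (C (img P f) → C P) ∧ (C P → C (img P f)))
    (hess : ∀ P, F.IsEssential p P → P ≠ S → ¬ C P) (hf : Mor F P f) (hC : C P) :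
    ∃ γ ∈ F.autGroup S, ∀ x ∈ P, f x = autFun γ x := by
  have h1 : F ≤ extSys F C hmono hiso := by
    apply alperin hS hF
    intro Q hQ α hα
    have hQS : Q ≤ S := by
      rcases hQ with rfl | hQ
      · exact le_rfl
      · exact hQ.1.1
    rw [mem_autGroup hQS] at hα ⊢
    refine ⟨hα, fun hCQ => ?_⟩
    by_cases hQe : Q = S
    · subst hQe
      refine ⟨α, (mem_autGroup le_rfl).2 hα, fun x => ?_⟩
      rw [autFun_coe]; rfl
    · exact absurd hCQ (hess Q (hQ.resolve_left hQe) hQe)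
  obtain ⟨φ, hφ, h2⟩ := le_iff_mor.1 h1 P f hf
  obtain ⟨γ, hγ, h3⟩ := hφ.2 hC
  exact ⟨γ, hγ, fun x hx => by rw [← h2 ⟨x, hx⟩, h3]⟩

variable [hp : Fact p.Prime] [Finite S] (hS : IsPGroup p S) (hF : F.IsSaturated p)
include hS hF

/-- `S` is not essential. -/
theorem not_essential_top : ¬ F.IsEssential p S := by
  rintro ⟨-, -, hn, E, hE⟩
  obtain ⟨hd, -⟩ := hE
  obtain ⟨-, R, hR⟩ := FN.fa hS hF (fullyNormalized_top (F := F))
  have h1 : (autInducedBy S S : Subgroup (MulAut S)) = Inn S := by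
    ext α; rw [mem_autInducedBy', mem_Inn]
  rw [h1] at hR
  have h2 : Nat.card (F.autGroup S ⧸ (Inn S).subgroupOf (F.autGroup S)) = (R : Subgroup (F.autGroup S)).index := by
    rw [← hR]; rfl
  rw [h2] at hd
  exact R.not_dvd_index hd

/-- Chains of length two. -/
theorem radical_chain (hr : F.IsRadical p P) (hc : F.IsCentric P) {W : Subgroup Ω} (hWP : W ≤ P)
    (hW : ∀ δ ∈ F.autGroup P, ∀ w ∈ W, autFun δ w ∈ W) {g : Ω} (hg : g ∈ S)
    (hgN : g ∈ Subgroup.normalizer (P : Set Ω)) (h1 : ∀ w ∈ W, g * w * g⁻¹ = w)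
    (h2 : ∀ x ∈ P, x⁻¹ * (g * x * g⁻¹) ∈ W) : g ∈ P := by
  have hPS := hc.1
  have hPf : Finite P := finite_of_le hPS
  have hWf : Finite W := finite_of_le hWP
  obtain ⟨n, hn⟩ := IsPGroup.iff_card.1 (hS.to_le (le_trans hWP hPS))
  let B : Subgroup (F.autGroup P) :=
    { carrier := {δ | (∀ w ∈ W, autFun (δ : MulAut P) w = w) ∧ ∀ x ∈ P, x⁻¹ * autFun (δ : MulAut P) x ∈ W}
      one_mem' := ⟨fun w hw => autFun_one (hWP hw), fun x hx => by
        show x⁻¹ * autFun (1 : MulAut P) x ∈ W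
        rw [autFun_one hx, inv_mul_cancel]; exact one_mem _⟩
      mul_mem' := by
        rintro a b ⟨a1, a2⟩ ⟨b1, b2⟩
        refine ⟨fun w hw => ?_, fun x hx => ?_⟩
        · show autFun ((a : MulAut P) * (b : MulAut P)) w = w
          rw [autFun_mul _ _ (hWP hw), b1 w hw, a1 w hw]
        · show x⁻¹ * autFun ((a : MulAut P) * (b : MulAut P)) x ∈ W
          rw [autFun_mul _ _ hx]
          have := mul_mem (b2 x hx) (a2 _ (autFun_mem (b : MulAut P) hx))
          rwa [mul_assoc, mul_inv_cancel_left] at this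
      inv_mem' := by
        rintro a ⟨a1, a2⟩
        have a1' : ∀ w ∈ W, autFun (a : MulAut P)⁻¹ w = w := by
          intro w hw
          conv_lhs => rw [← a1 w hw]
          rw [autFun_inv_apply _ (hWP hw)]
        refine ⟨a1', fun x hx => ?_⟩
        show x⁻¹ * autFun (a : MulAut P)⁻¹ x ∈ W
        have h3 := a2 _ (autFun_mem (a : MulAut P)⁻¹ hx)
        rw [autFun_apply_inv _ hx] at h3
        have h4 := inv_mem h3
        rwa [mul_inv_rev, inv_inv] at h4 }
  have hBn : B.Normal := by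
    refine ⟨fun b hb g => ?_⟩
    obtain ⟨b1, b2⟩ := hb
    have hgm := mor_autFun hPS g.2
    have hgi : ((g : MulAut P)⁻¹) ∈ F.autGroup P := inv_mem g.2
    refine ⟨fun w hw => ?_, fun x hx => ?_⟩
    · show autFun ((g : MulAut P) * (b : MulAut P) * (g : MulAut P)⁻¹) w = w
      rw [autFun_mul _ _ (hWP hw), autFun_mul _ _ (autFun_mem _ (hWP hw)), b1 _ (hW _ hgi w hw),
        autFun_apply_inv _ (hWP hw)]
    · show x⁻¹ * autFun ((g : MulAut P) * (b : MulAut P) * (g : MulAut P)⁻¹) x ∈ W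
      have hx' : autFun (g : MulAut P)⁻¹ x ∈ P := autFun_mem _ hx
      have h3 := hW _ g.2 _ (b2 _ hx')
      rw [hgm.mul (inv_mem hx') (autFun_mem _ hx'), hgm.inv hx', autFun_apply_inv _ hx] at h3
      rw [autFun_mul _ _ hx, autFun_mul _ _ hx']
      exact h3
  have hBp : IsPGroup p B := by
    rintro ⟨b, b1, b2⟩
    refine ⟨n, Subtype.ext (Subtype.ext ?_)⟩
    show (b : MulAut P) ^ p ^ n = 1
    apply mulAut_ext
    intro x hx
    have hbm := mor_autFun hPS b.2
    have h3 : ∀ m : ℕ, autFun ((b : MulAut P) ^ m) x = x * (x⁻¹ * autFun (b : MulAut P) x) ^ m := by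
      intro m
      induction m with
      | zero => rw [pow_zero, autFun_one hx, pow_zero, mul_one]
      | succ m ih =>
        have h4 := b2 x hx
        rw [pow_succ', autFun_mul _ _ hx, ih, hbm.mul hx (pow_mem (hWP h4) m), b1 _ (pow_mem h4 m),
          pow_succ', ← mul_assoc x, mul_inv_cancel_left]
    rw [h3, autFun_one hx]
    have h4 : (⟨_, b2 x hx⟩ : W) ^ Nat.card W = 1 := pow_card_eq_one'
    rw [hn] at h4
    have h5 : (x⁻¹ * autFun (b : MulAut P) x) ^ p ^ n = 1 := congrArg Subtype.val h4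
    rw [h5, mul_one]
  have h3 : B ≤ Cfsg.pCore p (F.autGroup P) := le_pCore hBn hBp
  have hgA : conjAut P g hgN ∈ F.autGroup P := autInducedBy_le hPS le_rfl (conjAut_mem hgN hg)
  have h4 : (⟨_, hgA⟩ : F.autGroup P) ∈ B := by
    refine ⟨fun w hw => ?_, fun x hx => ?_⟩
    · show autFun (conjAut P g hgN) w = w
      rw [autFun_conjAut hgN (hWP hw)]; exact h1 w hw
    · show x⁻¹ * autFun (conjAut P g hgN) x ∈ W
      rw [autFun_conjAut hgN hx]; exact h2 x hx
  have h5 : conjAut P g hgN ∈ Inn P := by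
    rw [← hr.2]; exact ⟨_, h3 h4, rfl⟩
  obtain ⟨u, hu, h6⟩ := mem_Inn.1 h5
  have h7 : u⁻¹ * g ∈ centralizerIn S P := by
    refine mem_centralizerIn.2 ⟨mul_mem (inv_mem (hPS hu)) hg, fun y hy => ?_⟩
    have h8 := h6 y hy
    rw [autFun_conjAut hgN hy] at h8
    have h10 : g * y = u * y * u⁻¹ * g := by rw [← h8]; simp
    calc u⁻¹ * g * y = u⁻¹ * (g * y) := by rw [mul_assoc]
      _ = y * (u⁻¹ * g) := by rw [h10]; simp [mul_assoc]
  simpa using mul_mem hu (centric_centralizer hc h7)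

end

end Cfsg.Agent.H28
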