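import Mathlib
import Cfsg.Agent.H28.ExtTop

/-!
Counting in an abelian `p`-group with an automorphism, and a Sylow argument for transvections.
-/

set_option autoImplicit false

namespace Cfsg.Agent.H28

open Cfsg.FusionSystem
open scoped commutatorElement

universe u v

theorem card_map_ker {G : Type u} {G' : Type v} [Group G] [Group G'] (f : G →* G') (K : Subgroup G) :
    Nat.card K = Nat.card (K ⊓ f.ker : Subgroup G) * Nat.card (K.map f) := by
  have h1 := (f.ker.subgroupOf K).card_mul_index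
  have h2 : (f.ker.subgroupOf K).index = Nat.card (K.map f) := Subgroup.relIndex_ker K f
  have h3 : Nat.card (f.ker.subgroupOf K) = Nat.card (K ⊓ f.ker : Subgroup G) := by
    have h4 : (K ⊓ f.ker).subgroupOf K = f.ker.subgroupOf K := by
      rw [inf_comm, Subgroup.inf_subgroupOf_right]
    rw [← h4]
    exact Nat.card_congr (Subgroup.subgroupOfEquivOfLe inf_le_left).toEquiv
  rw [← h1, h2, h3]

/-! ### Counting in an abelian group -/

section Count
variable {E : Type u} [CommGroup E] [Finite E] {p : ℕ} [hp : Fact p.Prime]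

theorem card_comap_dl (α : MulAut E) (B : Subgroup E) :
    Nat.card (B.comap (dl α)) = Nat.card (Cf α) * Nat.card (B ⊓ Um α : Subgroup E) := by
  have h1 : (dl α).ker ≤ B.comap (dl α) := by
    intro x hx
    rw [Subgroup.mem_comap, MonoidHom.mem_ker.1 hx]; exact one_mem _
  have h2 : (B.comap (dl α)).map (dl α) = B ⊓ Um α := by
    rw [Subgroup.map_comap_eq, inf_comm]; rfl
  have h3 := card_map_ker (dl α) (B.comap (dl α))
  rw [inf_eq_right.2 h1, h2] at h3
  exact h3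

theorem card_eq_of_le {H K : Subgroup E} (h : H ≤ K) (hc : Nat.card K ≤ Nat.card H) : H = K := by
  apply SetLike.coe_injective
  exact Set.eq_of_subset_of_ncard_le h hc (Set.toFinite _)

/-- A subgroup in which `Cf α` has index `p` is centralized modulo `Cf α`. -/
theorem dl_mem_Cf_of_index (hE : IsPGroup p E) {α : MulAut E} {k : ℕ} (hk : α ^ p ^ k = 1)
    {B : Subgroup E} (hCB : Cf α ≤ B) (hB : Nat.card B = p * Nat.card (Cf α)) (hinv : ∀ b ∈ B, α b ∈ B) :
    ∀ b ∈ B, dl α b ∈ Cf α := by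
  have hfB : B.map (dl α) ≤ B := by
    rintro _ ⟨b, hb, rfl⟩
    exact mul_mem (hinv b hb) (inv_mem hb)
  have h1 := card_map_ker (dl α) B
  rw [show B ⊓ (dl α).ker = Cf α from inf_eq_right.2 hCB, hB, mul_comm] at h1
  have h2 : Nat.card (B.map (dl α)) = p := (Nat.eq_of_mul_eq_mul_left Nat.card_pos h1).symm
  have h3 : ∃ u ∈ B.map (dl α), u ≠ 1 := by
    by_contra h
    push Not at h
    have h4 : B.map (dl α) = ⊥ := by
      rw [eq_bot_iff]; intro x hx; exact Subgroup.mem_bot.2 (h x hx)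
    rw [h4, Subgroup.card_bot] at h2
    exact hp.out.one_lt.ne h2
  obtain ⟨u, hu, hu1⟩ := h3
  obtain ⟨h4, h5⟩ := zpowers_eq_of_card h2 hu hu1
  have h6 : α u ∈ Subgroup.zpowers u := by
    rw [h4]
    obtain ⟨b, hb, rfl⟩ := hu
    refine ⟨α b, hinv b hb, ?_⟩
    show α (α b) * (α b)⁻¹ = α (α b * b⁻¹)
    rw [map_mul, map_inv]
  have h7 := fix_of_prime h5 h6 (k := k) (by rw [hk]; rfl)
  intro b hb
  have h8 : dl α b ∈ Subgroup.zpowers u := by rw [h4]; exact ⟨b, hb, rfl⟩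
  exact (Subgroup.zpowers_le.2 (mem_Cf.2 h7)) h8

/-- The counting lemma. -/
theorem count_step {α : MulAut E} {B : Subgroup E} (hCB : Cf α ≤ B)
    (hB : Nat.card B = p * Nat.card (Cf α)) (hE : IsPGroup p E)
    (hlt : ∃ g, dl α g ∈ B ∧ g ∉ B) (hcond : ∀ g, dl α g ∈ Cf α → g ∈ B)
    (hBle : B ≤ B.comap (dl α)) :
    Nat.card (B.comap (dl α)) = p * Nat.card B ∧ Nat.card (Cf α ⊓ Um α : Subgroup E) = p := by
  have hp1 := hp.out.one_lt
  have hC0 : 0 < Nat.card (Cf α) := Nat.card_pos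
  have h1 := card_comap_dl α B
  have h2 := card_comap_dl α (Cf α)
  -- upper bound on Cf ⊓ Um
  have h3 : (Cf α).comap (dl α) ≤ B := hcond
  have h4 : Nat.card ((Cf α).comap (dl α)) ≤ Nat.card B :=
    Nat.card_le_card_of_injective _ (Subgroup.inclusion_injective h3)
  rw [h2, hB, mul_comm p] at h4
  have h5 : Nat.card (Cf α ⊓ Um α : Subgroup E) ≤ p := Nat.le_of_mul_le_mul_left h4 hC0
  -- X = B ⊓ Um α
  have h6 := card_map_ker (dl α) (B ⊓ Um α : Subgroup E)
  -- |B.comap| ≥ p |B|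
  obtain ⟨a, ha⟩ := Subgroup.card_dvd_of_le hBle
  have ha1 : a ≠ 1 := by
    intro h
    rw [h, mul_one] at ha
    obtain ⟨g, hg1, hg2⟩ := hlt
    apply hg2
    rw [card_eq_of_le hBle ha.le]
    exact hg1
  have hap : p ≤ a := by
    obtain ⟨n, hn⟩ := IsPGroup.iff_card.1 (hE.to_subgroup (B.comap (dl α)))
    have hd : a ∣ p ^ n := by rw [← hn, ha]; exact dvd_mul_left _ _
    obtain ⟨j, -, hj⟩ := (Nat.dvd_prime_pow hp.out).1 hd
    rw [hj]
    apply Nat.le_self_pow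
    rintro rfl
    exact ha1 (by rw [hj, pow_zero])
  -- |X| = a p
  have hX : Nat.card (B ⊓ Um α : Subgroup E) = p * a := by
    rw [ha, hB] at h1
    have : Nat.card (Cf α) * (p * a) = Nat.card (Cf α) * Nat.card (B ⊓ Um α : Subgroup E) := by
      rw [← h1]; ring
    exact (Nat.eq_of_mul_eq_mul_left hC0 this).symm
  -- X / (X ⊓ Cf) embeds in B / Cf
  have h7 : Nat.card (B ⊓ Um α : Subgroup E) ≤ p * Nat.card (Cf α ⊓ Um α : Subgroup E) := by
    have h8 : (Cf α).relIndex (B ⊓ Um α) ≤ (Cf α).relIndex B :=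
      Subgroup.relIndex_le_of_le_right inf_le_left (by
        show ((Cf α).subgroupOf B).index ≠ 0
        exact Subgroup.index_ne_zero_of_finite)
    have h9 : (Cf α).relIndex B = p := by
      have h10 := ((Cf α).subgroupOf B).card_mul_index
      rw [Nat.card_congr (Subgroup.subgroupOfEquivOfLe hCB).toEquiv, hB, mul_comm p] at h10
      exact Nat.eq_of_mul_eq_mul_left hC0 h10
    have h10 := ((Cf α).subgroupOf (B ⊓ Um α)).card_mul_index
    have h11 : Nat.card ((Cf α).subgroupOf (B ⊓ Um α)) = Nat.card (Cf α ⊓ Um α : Subgroup E) := by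
      have h12 : (Cf α).subgroupOf (B ⊓ Um α) = (Cf α ⊓ Um α).subgroupOf (B ⊓ Um α) := by
        ext x
        rw [Subgroup.mem_subgroupOf, Subgroup.mem_subgroupOf]
        exact ⟨fun h => ⟨h, x.2.2⟩, fun h => h.1⟩
      rw [h12]
      exact Nat.card_congr (Subgroup.subgroupOfEquivOfLe (inf_le_inf_right _ hCB)).toEquiv
    rw [h11] at h10
    rw [← h10, mul_comm]
    apply Nat.mul_le_mul_right
    rw [← h9]; exact h8
  rw [hX] at h7
  have h8 : a ≤ Nat.card (Cf α ⊓ Um α : Subgroup E) := Nat.le_of_mul_le_mul_left h7 hp.out.pos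
  have h9 : a = p := le_antisymm (h8.trans h5) hap
  have h10 : Nat.card (Cf α ⊓ Um α : Subgroup E) = p := le_antisymm h5 (h9 ▸ h8)
  exact ⟨by rw [ha, h9, mul_comm], h10⟩

/-- The iterates of `dl α`. -/
def itD (α : MulAut E) : ℕ → Subgroup E
  | 0 => ⊤
  | n + 1 => (itD α n).map (dl α)

theorem itD_one (α : MulAut E) : itD α 1 = Um α := by
  show (⊤ : Subgroup E).map (dl α) = (dl α).range
  rw [MonoidHom.range_eq_map]

theorem itD_le (α : MulAut E) (n : ℕ) : itD α (n + 1) ≤ Um α := by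
  rintro _ ⟨x, -, rfl⟩
  exact ⟨x, rfl⟩

theorem card_itD {α : MulAut E} (hc : Nat.card (Cf α ⊓ Um α : Subgroup E) = p) (n : ℕ) :
    Nat.card (Um α) ≤ p ^ n * Nat.card (itD α (n + 1)) := by
  induction n with
  | zero => rw [pow_zero, one_mul]; exact (congrArg (fun K : Subgroup E => Nat.card K) (itD_one α)).ge
  | succ n ih =>
    have h1 := card_map_ker (dl α) (itD α (n + 1))
    have h2 : Nat.card (itD α (n + 1) ⊓ (dl α).ker : Subgroup E) ≤ p := by
      rw [← hc]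
      apply Nat.card_le_card_of_injective _ (Subgroup.inclusion_injective (le_inf inf_le_right
        (inf_le_left.trans (itD_le α n)) : itD α (n + 1) ⊓ (dl α).ker ≤ Cf α ⊓ Um α))
    calc Nat.card (Um α) ≤ p ^ n * Nat.card (itD α (n + 1)) := ih
      _ ≤ p ^ n * (p * Nat.card (itD α (n + 1 + 1))) := by
        apply Nat.mul_le_mul_left
        rw [h1]
        exact Nat.mul_le_mul_right _ h2
      _ = p ^ (n + 1) * Nat.card (itD α (n + 1 + 1)) := by ring

/-- A group of transvections with the same axis which is Sylow has order at most `p`. -/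
theorem card_le_of_axis (hE : IsPGroup p E) {A Q : Subgroup (MulAut E)} {Z : Subgroup E}
    (hZ : Nat.card E = p * Nat.card Z) (hQA : Q ≤ A) (hQp : IsPGroup p Q)
    (h1 : ∀ q ∈ Q, q ≠ 1 → Cf q = Z)
    (hSyl : ∀ T : Subgroup (MulAut E), T ≤ A → IsPGroup p T → ∃ δ ∈ A, ∀ t ∈ T, δ * t * δ⁻¹ ∈ Q)
    (h2 : ∃ γ ∈ A, ∃ z ∈ Z, γ z ∉ Z) : Nat.card Q ≤ p := by
  by_contra hcon
  push Not at hcon
  have hp1 := hp.out.one_lt
  have hQfin : Finite Q := inferInstance
  have hZ0 : 0 < Nat.card Z := Nat.card_pos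
  -- every nontrivial element of Q is a transvection
  have htv : ∀ q ∈ Q, q ≠ 1 → IsTv p q := by
    intro q hq hq1
    refine ⟨?_, ?_⟩
    · obtain ⟨k, hk⟩ := hQp ⟨q, hq⟩
      exact ⟨k, congrArg Subtype.val hk⟩
    · have h3 := card_um_cf q
      rw [h1 q hq hq1, hZ] at h3
      exact (Nat.eq_of_mul_eq_mul_right hZ0 h3).symm
  have hnt : Nontrivial Q := by
    rw [← Finite.one_lt_card_iff_nontrivial]; omega
  obtain ⟨α', hα'⟩ := exists_ne (1 : Q)
  obtain ⟨α, hαQ, hα1⟩ : ∃ α ∈ Q, α ≠ 1 := ⟨α', α'.2, fun h => hα' (Subtype.ext h)⟩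
  have hα := htv α hαQ hα1
  have hαp : α ^ p = 1 := by
    ext x
    rw [pow_of_chain (U := Um α) (fun x => dl_mem_Um α x) hα.fix]
    have h4 : (⟨_, dl_mem_Um α x⟩ : Um α) ^ Nat.card (Um α) = 1 := pow_card_eq_one'
    rw [hα.card] at h4
    have h5 : (α x * x⁻¹) ^ p = 1 := congrArg Subtype.val h4
    rw [h5, mul_one]; rfl
  have hord : Nat.card (Subgroup.zpowers α) = p := by
    rw [Nat.card_zpowers]
    exact orderOf_eq_prime hαp hα1
  obtain ⟨ε, hεQ, hεα⟩ : ∃ ε ∈ Q, ε ∉ Subgroup.zpowers α := by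
    by_contra h
    push Not at h
    have h3 : Q ≤ Subgroup.zpowers α := h
    have h4 := Nat.card_le_card_of_injective _ (Subgroup.inclusion_injective h3)
    omega
  -- an element outside Z
  obtain ⟨e, he⟩ : ∃ e, e ∉ Z := by
    by_contra h
    push Not at h
    have h3 : Z = ⊤ := by rw [eq_top_iff]; intro x _; exact h x
    rw [h3, Subgroup.card_top] at hZ
    have : 0 < Nat.card E := Nat.card_pos
    nlinarith
  -- Q fixes Z
  have hfixZ : ∀ q ∈ Q, ∀ z ∈ Z, q z = z := by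
    intro q hq z hz
    by_cases hq1 : q = 1
    · rw [hq1]; rfl
    · rw [← h1 q hq hq1] at hz; exact mem_Cf.1 hz
  have hΦZ : ∀ q ∈ Q, q e * e⁻¹ ∈ Z := by
    intro q hq
    by_cases hq1 : q = 1
    · rw [hq1]; show e * e⁻¹ ∈ Z; rw [mul_inv_cancel]; exact one_mem _
    · rw [← h1 q hq hq1]; exact (htv q hq hq1).le (dl_mem_Um q e)
  have hΦmul : ∀ q ∈ Q, ∀ q' ∈ Q, (q * q') e * e⁻¹ = (q e * e⁻¹) * (q' e * e⁻¹) := by
    intro q hq q' hq'
    rw [MulAut.mul_apply]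
    have h3 : q' e = (q' e * e⁻¹) * e := by rw [inv_mul_cancel_right]
    conv_lhs => rw [h3, map_mul, hfixZ q hq _ (hΦZ q' hq')]
    rw [mul_assoc, mul_comm]
  have hΦinj : ∀ q ∈ Q, q e * e⁻¹ = 1 → q = 1 := by
    intro q hq h
    by_contra hq1
    apply he
    rw [← h1 q hq hq1, mem_Cf]
    exact mul_inv_eq_one.1 h
  let Φ : Q →* E :=
    { toFun := fun q => (q : MulAut E) e * e⁻¹
      map_one' := by show e * e⁻¹ = 1; rw [mul_inv_cancel]
      map_mul' := fun q q' => hΦmul q q.2 q' q'.2 }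
  obtain ⟨γ, hγA, z₀, hz₀, hγz₀⟩ := h2
  obtain ⟨β, hβ⟩ : ∃ β, β = γ * α * γ⁻¹ := ⟨_, rfl⟩
  have hβt : IsTv p β := by rw [hβ]; exact hα.conj γ
  have hβA : β ∈ A := by rw [hβ]; exact mul_mem (mul_mem hγA (hQA hαQ)) (inv_mem hγA)
  have hβC : Cf β ≠ Z := by
    intro h
    apply hγz₀
    rw [← h, hβ, mem_Cf_conj, MulAut.inv_apply_self, h1 α hαQ hα1]
    exact hz₀
  -- find q with Φ q fixed by β
  obtain ⟨q, hqQ, hq1, hqβ⟩ : ∃ q ∈ Q, q ≠ 1 ∧ β (q e * e⁻¹) = q e * e⁻¹ := by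
    by_cases hu : β (α e * e⁻¹) = α e * e⁻¹
    · exact ⟨α, hαQ, hα1, hu⟩
    · have hw1 : dl β (α e * e⁻¹) ≠ 1 := fun h => hu (mul_inv_eq_one.1 h)
      obtain ⟨h3, -⟩ := zpowers_eq_of_card hβt.card (dl_mem_Um β (α e * e⁻¹)) hw1
      have h4 : dl β (ε e * e⁻¹) ∈ Um β := dl_mem_Um β _
      rw [← h3] at h4
      obtain ⟨k, hk⟩ := h4
      have hk' : (dl β (α e * e⁻¹)) ^ k = dl β (ε e * e⁻¹) := hk
      refine ⟨ε * α ^ (-k), mul_mem hεQ (zpow_mem hαQ _), ?_, ?_⟩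
      · intro h
        apply hεα
        rw [zpow_neg, mul_inv_eq_one] at h
        rw [h]; exact ⟨k, rfl⟩
      · have h5 : (ε * α ^ (-k)) e * e⁻¹ = (ε e * e⁻¹) * (α e * e⁻¹) ^ (-k) := by
          have h6 : Φ ((⟨ε, hεQ⟩ : Q) * ⟨α, hαQ⟩ ^ (-k)) = Φ ⟨ε, hεQ⟩ * (Φ ⟨α, hαQ⟩) ^ (-k) := by
            rw [map_mul, map_zpow]
          exact h6
        rw [h5]
        have h6 : dl β ((ε e * e⁻¹) * (α e * e⁻¹) ^ (-k)) = 1 := by
          rw [map_mul, map_zpow, zpow_neg, ← hk', mul_inv_cancel]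
        exact mul_inv_eq_one.1 h6
  have hqt := htv q hqQ hq1
  have hq2 : q e * e⁻¹ ≠ 1 := fun h => hq1 (hΦinj q hqQ h)
  obtain ⟨h3, -⟩ := zpowers_eq_of_card hqt.card (dl_mem_Um q e) hq2
  have hβU : ∀ u ∈ Um q, β u = u := by
    intro u hu
    rw [← h3] at hu
    obtain ⟨n, rfl⟩ := hu
    show β ((q e * e⁻¹) ^ n) = (q e * e⁻¹) ^ n
    rw [map_zpow, hqβ]
  obtain ⟨k, hk⟩ := hβt.pow
  have hT := isPGroup_closure hE (U := Um q) (fun x => dl_mem_Um q x) hqt.fix hβU hk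
  obtain ⟨δ, hδA, hδ⟩ := hSyl _ ((Subgroup.closure_le _).2 (by
    rintro x (rfl | rfl)
    · exact hQA hqQ
    · exact hβA)) hT
  have hδq := hδ q (Subgroup.subset_closure (by simp))
  have hδβ := hδ β (Subgroup.subset_closure (by simp))
  have hne : ∀ t : MulAut E, t ≠ 1 → δ * t * δ⁻¹ ≠ 1 := by
    intro t ht h
    apply ht
    have h4 : δ⁻¹ * (δ * t * δ⁻¹) * δ = t := by group
    rw [← h4, h, mul_one, inv_mul_cancel]
  have e1 := h1 _ hδq (hne q hq1)
  have e2 := h1 _ hδβ (hne β hβt.ne_one)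
  apply hβC
  ext x
  have e3 : δ x ∈ Cf (δ * q * δ⁻¹) ↔ x ∈ Cf q := by rw [mem_Cf_conj, MulAut.inv_apply_self]
  have e4 : δ x ∈ Cf (δ * β * δ⁻¹) ↔ x ∈ Cf β := by rw [mem_Cf_conj, MulAut.inv_apply_self]
  rw [e1, h1 q hqQ hq1] at e3
  rw [← e4, e2, e3]

end Count

end Cfsg.Agent.H28
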