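import Mathlib
import Cfsg.Agent.H28.AbIdx1

/-!
`p`-groups with a unique abelian subgroup of index `p`.
-/

set_option autoImplicit false

namespace Cfsg.Agent.H28

open Cfsg.FusionSystem
open scoped commutatorElement

universe u v

/-- `A` is the unique abelian subgroup of index `p` of the nonabelian `p`-group `S`. -/
structure AbIdx {Ω : Type u} [Group Ω] (p : ℕ) (S A : Subgroup Ω) : Prop where
  pg : IsPGroup p S
  le : A ≤ S
  comm : ∀ a ∈ A, ∀ b ∈ A, a * b = b * a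
  card : Nat.card S = p * Nat.card A
  nab : ¬ ∀ a ∈ S, ∀ b ∈ S, a * b = b * a
  uniq : ∀ B : Subgroup Ω, B ≤ S → (∀ a ∈ B, ∀ b ∈ B, a * b = b * a) → Nat.card S = p * Nat.card B → B = A

section
variable {Ω : Type u} [Group Ω] {S A B R : Subgroup Ω} {p : ℕ} [hp : Fact p.Prime] [Finite S]
  {x y a b : Ω}

/-- If `B` is commutative and commutes with `x`, and `⟨B, x⟩` contains `R`, then `R` is commutative. -/
theorem comm_of_gen {K : Subgroup Ω} (hBc : ∀ a ∈ B, ∀ b ∈ B, a * b = b * a)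
    (hxB : ∀ b ∈ B, x * b = b * x) (hgen : ∀ K : Subgroup Ω, B ≤ K → x ∈ K → R ≤ K) :
    ∀ a ∈ R, ∀ b ∈ R, a * b = b * a := by
  have key : ∀ c, (∀ b ∈ B, c * b = b * c) → c * x = x * c → ∀ r ∈ R, c * r = r * c := by
    intro c h1 h2 r hr
    have h3 : R ≤ Subgroup.centralizer {c} := by
      apply hgen
      · intro b hb
        rw [Subgroup.mem_centralizer_singleton_iff]
        exact (h1 b hb).symm
      · rw [Subgroup.mem_centralizer_singleton_iff]; exact h2.symm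
    exact (Subgroup.mem_centralizer_singleton_iff.1 (h3 hr)).symm
  have hB : ∀ b ∈ B, ∀ r ∈ R, b * r = r * b := fun b hb =>
    key b (fun c hc => hBc b hb c hc) (hxB b hb).symm
  have hx : ∀ r ∈ R, x * r = r * x := key x hxB rfl
  intro a ha b hb
  refine key a (fun c hc => (hB c hc a ha).symm) (hx a ha).symm b hb

variable (h : AbIdx p S A)
include h

theorem AbIdx.gen {K : Subgroup Ω} (hx : x ∈ S) (hxA : x ∉ A) (hAK : A ≤ K) (hxK : x ∈ K) : S ≤ K :=
  le_of_prime_index hp.out h.le h.card hAK hx hxK hxA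

theorem AbIdx.ne : A ≠ S := by
  intro he
  apply h.nab
  rw [← he]; exact h.comm

theorem AbIdx.norm : S ≤ Subgroup.normalizer (A : Set Ω) := by
  obtain ⟨s, hs, hsN, hsE⟩ := exists_mem_normalizer_of_isPGroup_lt h.pg (lt_of_le_of_ne h.le h.ne)
  exact h.gen hs hsE Subgroup.le_normalizer hsN

theorem AbIdx.conj_mem (hx : x ∈ S) (ha : a ∈ A) : x * a * x⁻¹ ∈ A :=
  (Subgroup.mem_normalizer_iff.1 (h.norm hx) a).1 ha

theorem AbIdx.Z_le : centralizerIn S S ≤ A := by
  intro z hz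
  by_contra hzA
  obtain ⟨hzS, hzc⟩ := mem_centralizerIn.1 hz
  exact h.nab (comm_of_gen (K := S) h.comm (fun b hb => hzc b (h.le hb)) (fun K hAK hzK => h.gen hzS hzA hAK hzK))

theorem AbIdx.fix (hx : x ∈ S) (hxA : x ∉ A) (ha : a ∈ A) (hxa : x * a = a * x) :
    a ∈ centralizerIn S S := by
  refine mem_centralizerIn.2 ⟨h.le ha, fun y hy => ?_⟩
  have h1 : S ≤ Subgroup.centralizer {a} := by
    apply h.gen hx hxA
    · intro b hb
      rw [Subgroup.mem_centralizer_singleton_iff]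
      exact h.comm b hb a ha
    · rw [Subgroup.mem_centralizer_singleton_iff]; exact hxa
  exact (Subgroup.mem_centralizer_singleton_iff.1 (h1 hy)).symm

theorem AbIdx.card_gt : p * Nat.card (centralizerIn S S) < Nat.card A := by
  by_contra hcon
  push Not at hcon
  obtain ⟨x, hx, hxA⟩ := SetLike.exists_of_lt (lt_of_le_of_ne h.le h.ne)
  have hZ : Nat.card S ≤ p ^ 2 * Nat.card (centralizerIn S S) := by
    rw [h.card, sq, mul_assoc]; exact Nat.mul_le_mul_left _ hcon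
  obtain ⟨E, hE⟩ : ∃ E, E = centralizerIn S (Subgroup.zpowers x) := ⟨_, rfl⟩
  have hES : E ≤ S := by rw [hE]; exact centralizerIn_le
  have hxE : x ∈ E := by
    rw [hE]
    refine mem_centralizerIn.2 ⟨hx, ?_⟩
    rintro _ ⟨n, rfl⟩
    exact (Commute.refl x).zpow_right n
  have hC : centralizerIn S E ≤ E := by
    intro y hy
    obtain ⟨hyS, hyc⟩ := mem_centralizerIn.1 hy
    rw [hE]
    refine mem_centralizerIn.2 ⟨hyS, ?_⟩
    rintro _ ⟨n, rfl⟩
    exact (show Commute y x from hyc x hxE).zpow_right n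
  have hne : E ≠ S := by
    intro he
    apply hxA
    apply h.Z_le
    refine mem_centralizerIn.2 ⟨hx, fun y hy => ?_⟩
    rw [← he, hE] at hy
    exact ((mem_centralizerIn.1 hy).2 x (Subgroup.mem_zpowers x)).symm
  have h1 := h.uniq E hES (ci_comm h.pg hZ hES hne hC) (ci_card h.pg hZ hES hne hC).2
  exact hxA (h1 ▸ hxE)

/-- Automorphisms of `S` preserve `A`. -/
theorem AbIdx.card_inf (hR : R ≤ S) (hRA : ¬ R ≤ A) :
    Nat.card R = p * Nat.card (R ⊓ A : Subgroup Ω) := by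
  have hRf : Finite R := finite_of_le hR
  obtain ⟨x, hxR, hxA⟩ := SetLike.not_le_iff_exists.1 hRA
  have h1 : A.relIndex S = p := by
    have h2 := (A.subgroupOf S).card_mul_index
    rw [Nat.card_congr (Subgroup.subgroupOfEquivOfLe h.le).toEquiv, h.card, mul_comm p] at h2
    have : Finite A := finite_of_le h.le
    exact Nat.eq_of_mul_eq_mul_left Nat.card_pos h2
  have h2 : A.relIndex R ≤ p := by
    rw [← h1]
    apply Subgroup.relIndex_le_of_le_right hR
    rw [h1]; exact hp.out.ne_zero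
  have h3 := ((R ⊓ A).subgroupOf R).card_mul_index
  rw [Nat.card_congr (Subgroup.subgroupOfEquivOfLe (inf_le_left : R ⊓ A ≤ R)).toEquiv] at h3
  have h4 : ((R ⊓ A).subgroupOf R).index = A.relIndex R := by
    show (R ⊓ A).relIndex R = _
    rw [Subgroup.inf_relIndex_left]
  rw [h4] at h3
  have h5 : A.relIndex R ≠ 1 := by
    intro h6
    rw [h6, mul_one] at h3
    have h7 : R ⊓ A = R := eq_of_le_of_card inf_le_left h3.ge
    exact hRA (inf_eq_left.1 h7)
  obtain ⟨n, hn⟩ := IsPGroup.iff_card.1 (h.pg.to_le hR)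
  have h6 : A.relIndex R ∣ p ^ n := by rw [← hn, ← h3]; exact dvd_mul_left _ _
  obtain ⟨j, -, hj⟩ := (Nat.dvd_prime_pow hp.out).1 h6
  have h7 : p ≤ A.relIndex R := by
    rw [hj]; apply Nat.le_self_pow
    rintro rfl
    exact h5 (by rw [hj, pow_zero])
  have h8 : A.relIndex R = p := le_antisymm h2 h7
  rw [← h3, h8, mul_comm]

/-- The action of an outer element on `A`. -/
theorem AbIdx.um (hx : x ∈ S) (hxA : x ∉ A) :
    letI := cg h.comm
    let α := conjAut A x (h.norm hx)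
    (∃ k, α ^ p ^ k = 1) ∧ (∀ a : A, a ∈ Cf α ↔ (a : Ω) ∈ centralizerIn S S) ∧
      (∀ a : A, a ∈ Um α ↔ (a : Ω) ∈ ⁅S, S⁆) ∧ ⁅S, S⁆ ≤ A := by
  letI := cg h.comm
  intro α
  have hAf : Finite A := finite_of_le h.le
  have hα : ∀ a : A, (α a : Ω) = x * a * x⁻¹ := fun a => rfl
  have hCf : ∀ a : A, a ∈ Cf α ↔ (a : Ω) ∈ centralizerIn S S := by
    intro a
    rw [mem_Cf]
    constructor
    · intro h1
      refine h.fix hx hxA a.2 ?_
      have h2 : x * (a : Ω) * x⁻¹ = a := by rw [← hα, h1]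
      exact mul_inv_eq_iff_eq_mul.1 h2
    · intro h1
      apply Subtype.ext
      rw [hα, mul_inv_eq_iff_eq_mul]
      exact ((mem_centralizerIn.1 h1).2 x hx).symm
  have hpow : ∃ k, α ^ p ^ k = 1 := by
    obtain ⟨k, hk⟩ := h.pg ⟨x, hx⟩
    refine ⟨k, ?_⟩
    have h1 : x ^ p ^ k = 1 := congrArg Subtype.val hk
    have h2 : ∀ (n : ℕ) (a : A), ((α ^ n) a : Ω) = x ^ n * a * (x ^ n)⁻¹ := by
      intro n
      induction n with
      | zero => intro a; rw [pow_zero, pow_zero, one_mul, inv_one, mul_one]; rfl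
      | succ n ih =>
        intro a
        rw [pow_succ', MulAut.mul_apply, hα, ih, pow_succ']
        group
    ext a
    rw [h2, h1, one_mul, inv_one, mul_one]; rfl
  obtain ⟨W, hW⟩ : ∃ W, W = (Um α).map A.subtype := ⟨_, rfl⟩
  have hWA : W ≤ A := by rw [hW]; rintro _ ⟨w, -, rfl⟩; exact w.2
  have hWf : Finite W := finite_of_le hWA
  have hWS : ∀ g ∈ S, ∀ w ∈ W, g * w * g⁻¹ ∈ W := by
    have h1 : S ≤ Subgroup.normalizer (W : Set Ω) := by
      apply h.gen hx hxA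
      · intro a ha
        apply mem_normalizer_of_finite
        intro w hw
        rw [h.comm a ha w (hWA hw), mul_inv_cancel_right]; exact hw
      · apply mem_normalizer_of_finite
        intro w hw
        rw [hW] at hw ⊢
        obtain ⟨_, ⟨y, rfl⟩, rfl⟩ := hw
        refine ⟨α (α y * y⁻¹), ⟨α y, ?_⟩, rfl⟩
        show α (α y) * (α y)⁻¹ = α (α y * y⁻¹)
        rw [map_mul, map_inv]
    intro g hg w hw
    exact (Subgroup.mem_normalizer_iff.1 (h1 hg) w).1 hw
  have key : ∀ a ∈ S, (∀ e ∈ A, a * e * a⁻¹ * e⁻¹ ∈ W) →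
      a * x * a⁻¹ * x⁻¹ ∈ W → ∀ b ∈ S, a * b * a⁻¹ * b⁻¹ ∈ W := by
    intro a ha h1 h2
    let K : Subgroup Ω :=
      { carrier := {b | b ∈ S ∧ a * b * a⁻¹ * b⁻¹ ∈ W}
        one_mem' := ⟨one_mem _, by
          have : a * 1 * a⁻¹ * 1⁻¹ = 1 := by group
          rw [this]; exact one_mem _⟩
        mul_mem' := by
          rintro b c ⟨hb, hb'⟩ ⟨hc, hc'⟩
          refine ⟨mul_mem hb hc, ?_⟩
          have h3 := mul_mem hb' (hWS b hb _ hc')
          have h4 : a * b * a⁻¹ * b⁻¹ * (b * (a * c * a⁻¹ * c⁻¹) * b⁻¹) = a * (b * c) * a⁻¹ * (b * c)⁻¹ := by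
            group
          rwa [h4] at h3
        inv_mem' := by
          rintro b ⟨hb, hb'⟩
          refine ⟨inv_mem hb, ?_⟩
          have h3 := hWS b⁻¹ (inv_mem hb) _ (inv_mem hb')
          have h4 : b⁻¹ * (a * b * a⁻¹ * b⁻¹)⁻¹ * b⁻¹⁻¹ = a * b⁻¹ * a⁻¹ * b⁻¹⁻¹ := by group
          rwa [h4] at h3 }
    have h3 : S ≤ K := by
      apply h.gen hx hxA
      · intro e he; exact ⟨h.le he, h1 e he⟩
      · exact ⟨hx, h2⟩
    intro b hb
    exact (h3 hb).2
  have hone : ∀ {y : Ω}, y = 1 → y ∈ W := fun h => h ▸ one_mem _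
  have hse : ∀ e ∈ A, x * e * x⁻¹ * e⁻¹ ∈ W := by
    intro e he
    rw [hW]
    exact ⟨_, dl_mem_Um α ⟨e, he⟩, rfl⟩
  have hE1 : ∀ e ∈ A, ∀ b ∈ S, e * b * e⁻¹ * b⁻¹ ∈ W := by
    intro e he
    apply key e (h.le he)
    · intro e' he'
      apply hone
      rw [h.comm e he e' he']; group
    · have h1 := inv_mem (hse e he)
      have h2 : (x * e * x⁻¹ * e⁻¹)⁻¹ = e * x * e⁻¹ * x⁻¹ := by group
      rwa [h2] at h1
  have hS1 : ∀ b ∈ S, x * b * x⁻¹ * b⁻¹ ∈ W := by
    apply key x hx hse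
    apply hone; group
  have hall : ∀ a ∈ S, ∀ b ∈ S, a * b * a⁻¹ * b⁻¹ ∈ W := by
    intro a ha
    apply key a ha
    · intro e he
      have h1 := inv_mem (hE1 e he a ha)
      have h2 : (e * a * e⁻¹ * a⁻¹)⁻¹ = a * e * a⁻¹ * e⁻¹ := by group
      rwa [h2] at h1
    · have h1 := inv_mem (hS1 a ha)
      have h2 : (x * a * x⁻¹ * a⁻¹)⁻¹ = a * x * a⁻¹ * x⁻¹ := by group
      rwa [h2] at h1
  have hcm : ⁅S, S⁆ = W := by
    apply le_antisymm
    · rw [Subgroup.commutator_le]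
      intro a ha b hb
      rw [commutatorElement_def]; exact hall a ha b hb
    · rw [hW]
      rintro _ ⟨y, ⟨z, rfl⟩, rfl⟩
      have h1 := Subgroup.commutator_mem_commutator hx (h.le z.2)
      rw [commutatorElement_def] at h1
      exact h1
  refine ⟨hpow, hCf, fun y => ?_, hcm ▸ hWA⟩
  rw [hcm, hW]
  constructor
  · intro h1; exact ⟨y, h1, rfl⟩
  · rintro ⟨z, hz, hzy⟩
    rwa [← Subtype.ext hzy]

theorem AbIdx.D_le : ⁅S, S⁆ ≤ A := by
  obtain ⟨x, hx, hxA⟩ := SetLike.exists_of_lt (lt_of_le_of_ne h.le h.ne)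
  exact (h.um hx hxA).2.2.2

/-- `|A| = |Z| |D|`. -/
theorem AbIdx.card_A : Nat.card A = Nat.card (centralizerIn S S) * Nat.card (⁅S, S⁆ : Subgroup Ω) := by
  obtain ⟨x, hx, hxA⟩ := SetLike.exists_of_lt (lt_of_le_of_ne h.le h.ne)
  letI := cg h.comm
  obtain ⟨-, h2, h3, h4⟩ := h.um hx hxA
  have hAf : Finite A := finite_of_le h.le
  have h5 := card_um_cf (conjAut A x (h.norm hx))
  have h6 : Nat.card (Um (conjAut A x (h.norm hx))) = Nat.card (⁅S, S⁆ : Subgroup Ω) :=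
    Nat.card_congr
      { toFun := fun y => ⟨(y : A), (h3 y).1 y.2⟩
        invFun := fun z => ⟨⟨z, h4 z.2⟩, (h3 _).2 z.2⟩
        left_inv := fun x => rfl
        right_inv := fun z => rfl }
  have h7 : Nat.card (Cf (conjAut A x (h.norm hx))) = Nat.card (centralizerIn S S) :=
    Nat.card_congr
      { toFun := fun y => ⟨(y : A), (h2 y).1 y.2⟩
        invFun := fun z => ⟨⟨z, h.Z_le z.2⟩, (h2 _).2 z.2⟩
        left_inv := fun x => rfl
        right_inv := fun z => rfl }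
  rw [h5, h6, h7, mul_comm]

theorem AbIdx.card_D_gt : p < Nat.card (⁅S, S⁆ : Subgroup Ω) := by
  have h1 := h.card_gt
  rw [h.card_A, mul_comm p] at h1
  exact Nat.lt_of_mul_lt_mul_left h1

end

end Cfsg.Agent.H28
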