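import Mathlib
import Cfsg.Agent.H28.AbIdx2

/-!
Essential subgroups over `p`-groups with a unique abelian subgroup of index `p`.
-/

set_option autoImplicit false

namespace Cfsg.Agent.H28

open Cfsg.FusionSystem
open scoped commutatorElement Pointwise

universe u v

section
variable {Ω : Type u} [Group Ω] {S A B R P : Subgroup Ω} {p : ℕ} [hp : Fact p.Prime] [Finite S]
  {x y a b : Ω} {F : FusionSystem S}

theorem card_subgroupOf' {H K : Subgroup Ω} (h : H ≤ K) : Nat.card (H.subgroupOf K) = Nat.card H :=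
  Nat.card_congr (Subgroup.subgroupOfEquivOfLe h).toEquiv

variable (h : AbIdx p S A)
include h

/-- Facts on a subgroup not contained in `A`. -/
theorem AbIdx.sup_eq (hR : R ≤ S) (hxR : x ∈ R) (hxA : x ∉ A) :
    ∀ K : Subgroup Ω, R ⊓ A ≤ K → x ∈ K → R ≤ K := by
  intro K hK hxK
  have hRf : Finite R := finite_of_le hR
  exact le_of_prime_index hp.out inf_le_left (h.card_inf hR (fun hle => hxA (hle hxR))) hK hxR hxK
    (fun hx => hxA hx.2)

/-- The normalizer of `P` inside `A`. -/
theorem AbIdx.mem_norm_iff (hP : P ≤ S) (hxP : x ∈ P) (hxA : x ∉ A) (ha : a ∈ A) :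
    a ∈ Subgroup.normalizer (P : Set Ω) ↔ x * a * x⁻¹ * a⁻¹ ∈ P := by
  have hPf : Finite P := finite_of_le hP
  constructor
  · intro h1
    have h2 := (Subgroup.mem_normalizer_iff.1 h1 x⁻¹).1 (inv_mem hxP)
    have h3 := mul_mem hxP h2
    have h4 : x * (a * x⁻¹ * a⁻¹) = x * a * x⁻¹ * a⁻¹ := by group
    rwa [h4] at h3
  · intro h1
    apply mem_normalizer_of_finite
    have h2 : P ≤ P.comap (MulAut.conj a).toMonoidHom := by
      apply h.sup_eq hP hxP hxA
      · intro y hy
        show a * y * a⁻¹ ∈ P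
        rw [h.comm a ha y hy.2, mul_inv_cancel_right]; exact hy.1
      · show a * x * a⁻¹ ∈ P
        have h3 := mul_mem (inv_mem h1) hxP
        have h4 : (x * a * x⁻¹ * a⁻¹)⁻¹ * x = a * x * a⁻¹ := by group
        rwa [h4] at h3
    intro y hy
    exact h2 hy

theorem AbIdx.not_le_of_centric (hP : P ≤ S) (hC : centralizerIn S P ≤ P) (hPA : P ≠ A) : ¬ P ≤ A := by
  intro hle
  apply hPA
  apply le_antisymm hle
  refine le_trans (fun a ha => mem_centralizerIn.2 ⟨h.le ha, fun y hy => h.comm a ha y (hle hy)⟩) hC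

theorem AbIdx.comm_inf (hP : P ≤ S) (hxA : x ∉ A) (hxS : x ∈ S) (hx : ∀ b ∈ P ⊓ A, x * b = b * x) :
    P ⊓ A ≤ centralizerIn S S := fun b hb => h.fix hxS hxA hb.2 (hx b hb)

variable (hF : F.IsSaturated p)
include hF

/-- The size of the normalizer in the abelian case. -/
theorem AbIdx.ab_card_norm (hPe : F.IsEssential p P) (hPA : P ≠ A)
    (hPc : ∀ a ∈ P, ∀ b ∈ P, a * b = b * a) (hxP : x ∈ P) (hxA : x ∉ A) :
    P ⊓ A = centralizerIn S S ∧ Nat.card (normalizerIn S P) = p * Nat.card P := by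
  have hS := h.pg
  have hc := hPe.1
  have hPS := hc.1
  have hC := centric_centralizer hc
  have hxS := hPS hxP
  have hPf : Finite P := finite_of_le hPS
  have hne : P ≠ S := fun he => not_essential_top hS hF (he ▸ hPe)
  have hPnA : ¬ P ≤ A := fun hle => hxA (hle hxP)
  have hZP : centralizerIn S S ≤ P := le_trans (centralizerIn_anti hPS) hC
  have hinf : P ⊓ A = centralizerIn S S := by
    apply le_antisymm
    · intro b hb
      exact h.fix hxS hxA hb.2 (hPc x hxP b hb.1)
    · exact le_inf hZP h.Z_le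
  refine ⟨hinf, ?_⟩
  have hcardP : Nat.card P = p * Nat.card (centralizerIn S S) := by
    rw [← hinf]; exact h.card_inf hPS hPnA
  obtain ⟨N, hN⟩ : ∃ N, N = normalizerIn S P := ⟨_, rfl⟩
  have hNS : N ≤ S := hN ▸ normalizerIn_le
  have hPN : P ≤ N := hN ▸ le_normalizerIn hPS
  have hNf : Finite N := finite_of_le hNS
  have hlt : P < N := hN ▸ lt_normalizerIn hS (lt_of_le_of_ne hPS hne)
  have hdecomp : ∀ g ∈ N, ∃ u ∈ P, ∃ a ∈ N ⊓ A, u * a = g := by
    intro g hg
    have h1 : N ⊓ A ≤ Subgroup.normalizer (P : Set Ω) := fun y hy => by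
      have := hy.1; rw [hN] at this; exact this.2
    have h2 : N ≤ P ⊔ (N ⊓ A) := h.sup_eq hNS (hPN hxP) hxA _ le_sup_right ((le_sup_left : P ≤ _) hxP)
    have h3 := h2 hg
    have h4 : g ∈ (P : Set Ω) * ((N ⊓ A : Subgroup Ω) : Set Ω) := by
      rw [← Subgroup.coe_mul_of_right_le_normalizer_left P (N ⊓ A) h1]; exact h3
    obtain ⟨u, hu, a, ha, hua⟩ := Set.mem_mul.1 h4
    exact ⟨u, hu, a, ha, hua⟩
  have hcN : ∀ g ∈ N, ∀ y ∈ P, y⁻¹ * (g * y * g⁻¹) ∈ centralizerIn S S := by
    intro g hg y hy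
    rw [← hinf]
    have hgN : g ∈ Subgroup.normalizer (P : Set Ω) := by rw [hN] at hg; exact hg.2
    refine Subgroup.mem_inf.2 ⟨mul_mem (Subgroup.inv_mem _ hy) ((Subgroup.mem_normalizer_iff.1 hgN y).1 hy), h.D_le ?_⟩
    have h3 := Subgroup.commutator_mem_commutator (inv_mem (hPS hy)) (hNS hg)
    rw [commutatorElement_def, inv_inv] at h3
    have h4 : y⁻¹ * (g * y * g⁻¹) = y⁻¹ * g * y * g⁻¹ := by group
    rw [h4]; exact h3
  have hcentZ : ∀ z ∈ centralizerIn S S, ∀ g ∈ S, g * z * g⁻¹ = z := by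
    intro z hz g hg
    rw [← (mem_centralizerIn.1 hz).2 g hg, mul_inv_cancel_right]
  letI := cg hPc
  have hPp : IsPGroup p P := hS.to_le hPS
  have hQ : Nat.card (autInducedBy S P) ≤ p := by
    refine card_le_of_axis hPp (A := F.autGroup P) (Z := (centralizerIn S S).subgroupOf P) ?_
      (autInducedBy_le hPS le_rfl) (isPGroup_autInducedBy hS) ?_ ?_ ?_
    · rw [card_subgroupOf' hZP]; exact hcardP
    · intro q hq hq1
      obtain ⟨g, hg, hgq⟩ := mem_autInducedBy'.1 hq
      have hgN : g ∈ Subgroup.normalizer (P : Set Ω) := normalizer_of_autFun hgq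
      have hgN' : g ∈ N := by rw [hN]; exact ⟨hg, hgN⟩
      have hgP : g ∉ P := by
        intro hgP
        apply hq1
        apply mulAut_ext
        intro y hy
        rw [hgq y hy, autFun_one hy, hPc g hgP y hy, mul_inv_cancel_right]
      ext y
      rw [mem_Cf, Subgroup.mem_subgroupOf]
      constructor
      · intro hy
        by_contra hyZ
        have hyA : (y : Ω) ∉ A := fun hyA => hyZ (hinf ▸ (⟨y.2, hyA⟩ : (y : Ω) ∈ P ⊓ A))
        have h1 : g * y * g⁻¹ = y := by
          rw [← hgq y y.2, autFun_coe, hy]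
        obtain ⟨u, hu, a, ha, hua⟩ := hdecomp g hgN'
        have hay : a * y * a⁻¹ ∈ P := by
          have := ha.1; rw [hN] at this
          exact (Subgroup.mem_normalizer_iff.1 this.2 y).1 y.2
        have h2 : a * y * a⁻¹ = y := by
          have h3 : g * y * g⁻¹ = u * (a * y * a⁻¹) * u⁻¹ := by rw [← hua]; group
          rw [h1, hPc u hu _ hay, mul_inv_cancel_right] at h3
          exact h3.symm
        have h3 : a ∈ centralizerIn S S := h.fix (hPS y.2) hyA ha.2 (mul_inv_eq_iff_eq_mul.1 h2).symm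
        apply hgP
        rw [← hua]; exact mul_mem hu (hZP h3)
      · intro hy
        apply Subtype.ext
        rw [← autFun_coe, hgq y y.2]
        exact hcentZ y hy g hg
    · intro T hT hTp
      exact exists_conj_le_autInduced (FN.fa hS hF hPe.2.1) hT hTp
    · by_contra hcon
      push Not at hcon
      obtain ⟨g, hgN, hgP⟩ := SetLike.exists_of_lt hlt
      have hgN2 : g ∈ Subgroup.normalizer (P : Set Ω) := by
        have := hgN; rw [hN] at this; exact this.2
      refine hgP (radical_chain hS hF (essential_radical hS hPe) hc hZP ?_ (hNS hgN) hgN2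
        (fun w hw => hcentZ w hw g (hNS hgN)) (fun y hy => hcN g hgN y hy))
      intro δ hδ w hw
      have h1 := hcon δ hδ ⟨w, hZP hw⟩ hw
      rw [autFun_apply δ (hZP hw)]; exact h1
  -- the order of the normalizer
  have hle : Nat.card N ≤ p * Nat.card P := by
    let θ : N →* MulAut P := (Subgroup.normalizerMonoidHom P).comp
      (Subgroup.inclusion (fun g hg => by rw [hN] at hg; exact hg.2 : N ≤ Subgroup.normalizer (P : Set Ω)))
    have h1 := card_map_ker θ ⊤
    rw [Subgroup.card_top, top_inf_eq] at h1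
    have h2 : (⊤ : Subgroup N).map θ ≤ autInducedBy S P := by
      rintro _ ⟨g, -, rfl⟩
      exact mem_autInducedBy.2 ⟨g, hNS g.2, fun y => rfl⟩
    have h3 : Nat.card ((⊤ : Subgroup N).map θ) ≤ p :=
      (Nat.card_le_card_of_injective _ (Subgroup.inclusion_injective h2)).trans hQ
    have h4 : Nat.card θ.ker ≤ Nat.card P := by
      have h5 : ∀ g : θ.ker, ((g : N) : Ω) ∈ P := by
        rintro ⟨g, hg⟩
        apply hC
        refine mem_centralizerIn.2 ⟨hNS g.2, fun y hy => ?_⟩
        have h6 := congrArg (fun q : MulAut P => ((q ⟨y, hy⟩ : P) : Ω)) (MonoidHom.mem_ker.1 hg)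
        have h7 : (g : Ω) * y * (g : Ω)⁻¹ = y := h6
        exact mul_inv_eq_iff_eq_mul.1 h7
      refine Nat.card_le_card_of_injective (fun g : θ.ker => (⟨_, h5 g⟩ : P)) ?_
      intro g g' hgg
      have hgg' : ((g : N) : Ω) = ((g' : N) : Ω) := congrArg (fun z : P => (z : Ω)) hgg
      exact Subtype.ext (Subtype.ext hgg')
    rw [h1, mul_comm]
    exact Nat.mul_le_mul h3 h4
  rw [← hN]
  apply le_antisymm hle
  obtain ⟨m, hm⟩ := Subgroup.card_dvd_of_le hPN
  have hm1 : m ≠ 1 := by
    rintro rfl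
    rw [mul_one] at hm
    exact hlt.ne (eq_of_le_of_card hPN hm.le)
  obtain ⟨n, hn⟩ := IsPGroup.iff_card.1 (hS.to_le hNS)
  have hd : m ∣ p ^ n := by rw [← hn, hm]; exact dvd_mul_left _ _
  obtain ⟨j, -, hj⟩ := (Nat.dvd_prime_pow hp.out).1 hd
  have hpm : p ≤ m := by
    rw [hj]; apply Nat.le_self_pow
    rintro rfl
    exact hm1 (by rw [hj, pow_zero])
  rw [hm, mul_comm]
  exact Nat.mul_le_mul_left _ hpm

end

end Cfsg.Agent.H28
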