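import Mathlib
import Cfsg.Agent.H28.AbIdx3

/-!
Essential subgroups over `p`-groups with a unique abelian subgroup of index `p`.
-/

set_option autoImplicit false

namespace Cfsg.Agent.H28

open Cfsg.FusionSystem
open scoped commutatorElement Pointwise

universe u v

section
variable {Ω : Type u} [Group Ω] {S A B R P : Subgroup Ω} {p : ℕ} [hp : Fact p.Prime] [Finite S]
  {x y a b : Ω} {F : FusionSystem S}

/-- The second centre. -/
def z2 {Ω : Type u} [Group Ω] (S : Subgroup Ω) : Subgroup Ω := (Subgroup.upperCentralSeries ↥S 2).map S.subtype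

theorem mem_z2 : y ∈ z2 S ↔ y ∈ S ∧ ∀ s ∈ S, y * s * y⁻¹ * s⁻¹ ∈ centralizerIn S S := by
  constructor
  · rintro ⟨z, hz, rfl⟩
    refine ⟨z.2, fun s hs => ?_⟩
    have h1 := Subgroup.mem_upperCentralSeries_succ_iff.1 hz ⟨s, hs⟩
    rw [Subgroup.upperCentralSeries_one, commutatorElement_def] at h1
    refine mem_centralizerIn.2 ⟨mul_mem (mul_mem (mul_mem z.2 hs) (inv_mem z.2)) (inv_mem hs), fun y hy => ?_⟩
    exact (congrArg Subtype.val (Subgroup.mem_center_iff.1 h1 ⟨y, hy⟩)).symm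
  · rintro ⟨hy, h⟩
    refine ⟨⟨y, hy⟩, ?_, rfl⟩
    rw [SetLike.mem_coe, Subgroup.mem_upperCentralSeries_succ_iff]
    intro s
    rw [Subgroup.upperCentralSeries_one, commutatorElement_def, Subgroup.mem_center_iff]
    intro t
    exact Subtype.ext ((mem_centralizerIn.1 (h s s.2)).2 t t.2).symm

variable (h : AbIdx p S A)
include h

theorem AbIdx.dl_iff (hx : x ∈ S) (hxA : x ∉ A) (ha : a ∈ A) :
    a ∈ z2 S ↔ x * a * x⁻¹ * a⁻¹ ∈ centralizerIn S S := by
  rw [mem_z2]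
  have hZS : ∀ z ∈ centralizerIn S S, ∀ g ∈ S, g * z * g⁻¹ = z := by
    intro z hz g hg
    rw [← (mem_centralizerIn.1 hz).2 g hg, mul_inv_cancel_right]
  constructor
  · rintro ⟨-, h1⟩
    have h2 := inv_mem (h1 x hx)
    have h3 : (a * x * a⁻¹ * x⁻¹)⁻¹ = x * a * x⁻¹ * a⁻¹ := by group
    rwa [h3] at h2
  · intro h1
    refine ⟨h.le ha, fun s hs => ?_⟩
    let K : Subgroup Ω :=
      { carrier := {b | b ∈ S ∧ a * b * a⁻¹ * b⁻¹ ∈ centralizerIn S S}
        one_mem' := ⟨one_mem _, by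
          have : a * 1 * a⁻¹ * 1⁻¹ = 1 := by group
          rw [this]; exact one_mem _⟩
        mul_mem' := by
          rintro b c ⟨hb, hb'⟩ ⟨hc, hc'⟩
          refine ⟨mul_mem hb hc, ?_⟩
          have h3 := mul_mem hb' hc'
          rw [← hZS _ hc' b hb] at h3
          have h4 : a * b * a⁻¹ * b⁻¹ * (b * (a * c * a⁻¹ * c⁻¹) * b⁻¹) = a * (b * c) * a⁻¹ * (b * c)⁻¹ := by
            group
          rwa [h4] at h3
        inv_mem' := by
          rintro b ⟨hb, hb'⟩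
          refine ⟨inv_mem hb, ?_⟩
          have h3 := inv_mem hb'
          rw [← hZS _ h3 b⁻¹ (inv_mem hb)] at h3
          have h4 : b⁻¹ * (a * b * a⁻¹ * b⁻¹)⁻¹ * b⁻¹⁻¹ = a * b⁻¹ * a⁻¹ * b⁻¹⁻¹ := by group
          rwa [h4] at h3 }
    have h3 : S ≤ K := by
      apply h.gen hx hxA
      · intro e he
        refine ⟨h.le he, ?_⟩
        rw [h.comm a ha e he]
        have : e * a * a⁻¹ * e⁻¹ = 1 := by group
        rw [this]; exact one_mem _
      · refine ⟨hx, ?_⟩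
        have h4 := inv_mem h1
        have h5 : (x * a * x⁻¹ * a⁻¹)⁻¹ = a * x * a⁻¹ * x⁻¹ := by group
        rwa [h5] at h4
    exact (h3 hs).2

/-- `Z₂(S) ≤ A` as soon as `|Z ∩ [S,S]| = p`. -/
theorem AbIdx.z2_le (hZD : Nat.card (centralizerIn S S ⊓ ⁅S, S⁆ : Subgroup Ω) = p) : z2 S ≤ A := by
  intro y hy
  by_contra hyA
  obtain ⟨hyS, hyc⟩ := mem_z2.1 hy
  letI := cg h.comm
  obtain ⟨-, h2, h3, h4⟩ := h.um hyS hyA
  have h5 : ⁅S, S⁆ ≤ centralizerIn S S := by
    intro d hd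
    obtain ⟨b, hb⟩ := (h3 ⟨d, h4 hd⟩).2 hd
    have h6 : y * (b : Ω) * y⁻¹ * (b : Ω)⁻¹ = d := congrArg Subtype.val hb
    rw [← h6]; exact hyc b (h.le b.2)
  rw [inf_eq_right.2 h5] at hZD
  exact absurd hZD h.card_D_gt.ne'

omit h in
/-- The cardinality of `Cf ⊓ Um`. -/
theorem AbIdx.card_inf_eq (h : AbIdx p S A) (hx : x ∈ S) (hxA : x ∉ A) :
    letI := cg h.comm
    Nat.card (Cf (conjAut A x (h.norm hx)) ⊓ Um (conjAut A x (h.norm hx)) : Subgroup A) =
      Nat.card (centralizerIn S S ⊓ ⁅S, S⁆ : Subgroup Ω) ∧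
    Nat.card (Cf (conjAut A x (h.norm hx))) = Nat.card (centralizerIn S S) := by
  letI := cg h.comm
  obtain ⟨-, h2, h3, h4⟩ := h.um hx hxA
  constructor
  · exact Nat.card_congr
      { toFun := fun y => ⟨(y : A), (h2 y).1 y.2.1, (h3 y).1 y.2.2⟩
        invFun := fun z => ⟨⟨z, h4 z.2.2⟩, (h2 _).2 z.2.1, (h3 _).2 z.2.2⟩
        left_inv := fun x => rfl
        right_inv := fun z => rfl }
  · exact Nat.card_congr
      { toFun := fun y => ⟨(y : A), (h2 y).1 y.2⟩
        invFun := fun z => ⟨⟨z, h.Z_le z.2⟩, (h2 _).2 z.2⟩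
        left_inv := fun x => rfl
        right_inv := fun z => rfl }

/-- `|Z₂ ∩ A| = |Z| |Z ∩ D|`. -/
theorem AbIdx.card_z2 :
    Nat.card (z2 S ⊓ A : Subgroup Ω) =
      Nat.card (centralizerIn S S) * Nat.card (centralizerIn S S ⊓ ⁅S, S⁆ : Subgroup Ω) := by
  obtain ⟨x, hx, hxA⟩ := SetLike.exists_of_lt (lt_of_le_of_ne h.le h.ne)
  letI := cg h.comm
  obtain ⟨-, h2, h3, h4⟩ := h.um hx hxA
  obtain ⟨h5, h6⟩ := h.card_inf_eq hx hxA
  have hAf : Finite A := finite_of_le h.le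
  have h7 := card_comap_dl (conjAut A x (h.norm hx)) (Cf (conjAut A x (h.norm hx)))
  rw [h5, h6] at h7
  rw [← h7]
  have h8 : ∀ a : A, (a : Ω) ∈ z2 S ↔ a ∈ (Cf (conjAut A x (h.norm hx))).comap (dl (conjAut A x (h.norm hx))) := by
    intro a
    rw [h.dl_iff hx hxA a.2, Subgroup.mem_comap, h2]; rfl
  exact Nat.card_congr
      { toFun := fun y => ⟨⟨y, y.2.2⟩, (h8 _).1 y.2.1⟩
        invFun := fun z => ⟨(z : A), (h8 _).2 z.2, (z : A).2⟩
        left_inv := fun x => rfl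
        right_inv := fun z => rfl }

variable (hF : F.IsSaturated p)
include hF

/-- The nonabelian case. -/
theorem AbIdx.nab_facts (hPe : F.IsEssential p P) (hPA : P ≠ A)
    (hPn : ¬ ∀ a ∈ P, ∀ b ∈ P, a * b = b * a) (hxP : x ∈ P) (hxA : x ∉ A) :
    Nat.card (P ⊓ A : Subgroup Ω) = p * Nat.card (centralizerIn S S) ∧
    Nat.card (centralizerIn S S ⊓ ⁅S, S⁆ : Subgroup Ω) = p ∧
    Nat.card (normalizerIn S P) = p * Nat.card P ∧
    (∀ δ ∈ F.autGroup P, ∀ z ∈ centralizerIn S S, autFun δ z ∈ centralizerIn S S) := by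
  have hS := h.pg
  have hc := hPe.1
  have hPS := hc.1
  have hC := centric_centralizer hc
  have hxS := hPS hxP
  have hPf : Finite P := finite_of_le hPS
  have hBf0 : Finite (P ⊓ A : Subgroup Ω) := finite_of_le inf_le_left
  have hAf : Finite A := finite_of_le h.le
  have hne : P ≠ S := fun he => not_essential_top hS hF (he ▸ hPe)
  have hPnA : ¬ P ≤ A := fun hle => hxA (hle hxP)
  have hZP : centralizerIn S S ≤ P := le_trans (centralizerIn_anti hPS) hC
  have hZB : centralizerIn S S ≤ P ⊓ A := le_inf hZP h.Z_le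
  have hcardP : Nat.card P = p * Nat.card (P ⊓ A : Subgroup Ω) := h.card_inf hPS hPnA
  have hZ0 : 0 < Nat.card (centralizerIn S S) := by
    have : Finite (centralizerIn S S) := finite_of_le centralizerIn_le
    exact Nat.card_pos
  have hcentZ : ∀ z ∈ centralizerIn S S, ∀ g ∈ S, g * z * g⁻¹ = z := by
    intro z hz g hg
    rw [← (mem_centralizerIn.1 hz).2 g hg, mul_inv_cancel_right]
  -- if `P ⊓ A` commutes with some `y ∈ P \ A` then `P` is abelian
  have habP : ∀ y ∈ P, y ∉ A → ¬ ∀ b ∈ P ⊓ A, y * b = b * y := by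
    intro y hy hyA hcomm
    apply hPn
    exact comm_of_gen (K := P) (B := P ⊓ A) (x := y) (fun a ha b hb => h.comm a ha.2 b hb.2) hcomm
      (h.sup_eq hPS hy hyA)
  -- the centre of P
  have hZc : ∀ y ∈ P, (∀ z ∈ P, y * z = z * y) → y ∈ centralizerIn S S := by
    intro y hy hyc
    by_cases hyA : y ∈ A
    · exact h.fix hxS hxA hyA (hyc x hxP).symm
    · exact absurd (fun b hb => hyc b hb.1) (habP y hy hyA)
  have hZinv : ∀ δ ∈ F.autGroup P, ∀ z ∈ centralizerIn S S, autFun δ z ∈ centralizerIn S S := by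
    intro δ hδ z hz
    have hm := mor_autFun hPS hδ
    apply hZc _ (autFun_mem _ (hZP hz))
    intro y hy
    have h1 : autFun δ (autFun δ⁻¹ y) = y := autFun_apply_inv _ hy
    have h2 : autFun δ⁻¹ y ∈ P := autFun_mem _ hy
    rw [← h1, ← hm.mul (hZP hz) h2, ← hm.mul h2 (hZP hz), (mem_centralizerIn.1 hz).2 _ (hPS h2)]
  obtain ⟨N, hN⟩ : ∃ N, N = normalizerIn S P := ⟨_, rfl⟩
  have hNS : N ≤ S := hN ▸ normalizerIn_le
  have hPN : P ≤ N := hN ▸ le_normalizerIn hPS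
  have hNf : Finite N := finite_of_le hNS
  have hlt : P < N := hN ▸ lt_normalizerIn hS (lt_of_le_of_ne hPS hne)
  have hNnA : ¬ N ≤ A := fun hle => hxA (hle (hPN hxP))
  have hcardN : Nat.card N = p * Nat.card (N ⊓ A : Subgroup Ω) := h.card_inf hNS hNnA
  have hND : ∀ g ∈ N, ∀ y ∈ P, y⁻¹ * (g * y * g⁻¹) ∈ P ⊓ A := by
    intro g hg y hy
    have hgN : g ∈ Subgroup.normalizer (P : Set Ω) := by rw [hN] at hg; exact hg.2
    refine Subgroup.mem_inf.2 ⟨mul_mem (Subgroup.inv_mem _ hy) ((Subgroup.mem_normalizer_iff.1 hgN y).1 hy), h.D_le ?_⟩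
    have h3 := Subgroup.commutator_mem_commutator (Subgroup.inv_mem _ (hPS hy)) (hNS hg)
    rw [commutatorElement_def, inv_inv] at h3
    have h4 : y⁻¹ * (g * y * g⁻¹) = y⁻¹ * g * y * g⁻¹ := by group
    rw [h4]; exact h3
  -- an element of N ⊓ A outside P
  obtain ⟨g₀, hg₀N, hg₀A, hg₀P⟩ : ∃ g ∈ N, g ∈ A ∧ g ∉ P := by
    by_contra hcon
    push Not at hcon
    have h1 : N ⊓ A = P ⊓ A := le_antisymm (le_inf (fun g hg => hcon g hg.1 hg.2) inf_le_right)
      (inf_le_inf_right _ hPN)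
    rw [h1, ← hcardP] at hcardN
    exact hlt.ne (eq_of_le_of_card hPN hcardN.le)
  have hg₀N' : g₀ ∈ Subgroup.normalizer (P : Set Ω) := by rw [hN] at hg₀N; exact hg₀N.2
  -- |P ⊓ A : Z| = p
  have hB1 : Nat.card (P ⊓ A : Subgroup Ω) ≤ p * Nat.card (centralizerIn S S) := by
    by_contra hcon
    push Not at hcon
    -- P ⊓ A is invariant
    have hinv : ∀ δ ∈ F.autGroup P, ∀ w ∈ P ⊓ A, autFun δ w ∈ P ⊓ A := by
      intro δ hδ
      have hm := mor_autFun hPS hδ
      have hmB := hm.mono (inf_le_left : P ⊓ A ≤ P)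
      obtain ⟨B, hB⟩ : ∃ B, B = img (P ⊓ A) (autFun δ) := ⟨_, rfl⟩
      have hBP : B ≤ P := by
        rw [hB, img_le_iff]; intro w hw; exact autFun_mem _ hw.1
      have hBc : Nat.card B = Nat.card (P ⊓ A : Subgroup Ω) := by rw [hB, hmB.card_img]
      have hBf : Finite B := finite_of_le hBP
      have hBA : B ≤ A := by
        by_contra hBA
        obtain ⟨y, hyB, hyA⟩ := SetLike.not_le_iff_exists.1 hBA
        have h1 := h.card_inf (le_trans hBP hPS) hBA
        have h2 : B ⊓ A ≤ centralizerIn S S := by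
          intro b hb
          apply h.fix (hPS (hBP hyB)) hyA hb.2
          have hb1 := hb.1
          rw [hB] at hb1 hyB
          obtain ⟨b', hb', rfl⟩ := hmB.mem_img.1 hb1
          obtain ⟨y', hy', rfl⟩ := hmB.mem_img.1 hyB
          rw [← hmB.mul hy' hb', ← hmB.mul hb' hy', h.comm y' hy'.2 b' hb'.2]
        have h3 : Nat.card (B ⊓ A : Subgroup Ω) ≤ Nat.card (centralizerIn S S) := by
          have : Finite (centralizerIn S S) := finite_of_le centralizerIn_le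
          exact card_le_of_le h2
        rw [hBc] at h1
        have h4 := Nat.mul_le_mul_left p h3
        omega
      have h1 : B = P ⊓ A := by
        exact eq_of_le_of_card (le_inf hBP hBA) hBc.ge
      intro w hw
      rw [← h1, hB]
      exact mem_img_of_mem hw
    refine hg₀P (radical_chain hS hF (essential_radical hS hPe) hc inf_le_left hinv (hNS hg₀N) hg₀N' ?_
      (fun y hy => hND g₀ hg₀N y hy))
    intro w hw
    rw [h.comm g₀ hg₀A w hw.2, mul_inv_cancel_right]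
  have hB2 : Nat.card (P ⊓ A : Subgroup Ω) = p * Nat.card (centralizerIn S S) := by
    apply le_antisymm hB1
    obtain ⟨m, hm⟩ := Subgroup.card_dvd_of_le hZB
    have hm1 : m ≠ 1 := by
      rintro rfl
      rw [mul_one] at hm
      have hBf : Finite (P ⊓ A : Subgroup Ω) := finite_of_le inf_le_left
      have h1 : centralizerIn S S = P ⊓ A := eq_of_le_of_card hZB hm.le
      apply habP x hxP hxA
      intro b hb
      rw [← h1] at hb
      exact ((mem_centralizerIn.1 hb).2 x hxS).symm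
    obtain ⟨n, hn⟩ := IsPGroup.iff_card.1 (hS.to_le (le_trans (inf_le_left : P ⊓ A ≤ P) hPS))
    have hd : m ∣ p ^ n := by rw [← hn, hm]; exact dvd_mul_left _ _
    obtain ⟨j, -, hj⟩ := (Nat.dvd_prime_pow hp.out).1 hd
    have hpm : p ≤ m := by
      rw [hj]; apply Nat.le_self_pow
      rintro rfl
      exact hm1 (by rw [hj, pow_zero])
    rw [hm, mul_comm]
    exact Nat.mul_le_mul_left _ hpm
  -- counting
  letI := cg h.comm
  obtain ⟨⟨k, hk⟩, h2, h3, h4⟩ := h.um hxS hxA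
  obtain ⟨h5, h6⟩ := h.card_inf_eq hxS hxA
  obtain ⟨α, hα⟩ : ∃ α, α = conjAut A x (h.norm hxS) := ⟨_, rfl⟩
  rw [← hα] at h2 h3 h5 h6 hk
  have hαx : ∀ a : A, (α a : Ω) = x * a * x⁻¹ := fun a => by rw [hα]; rfl
  have hdl : ∀ a : A, ((dl α a : A) : Ω) = x * a * x⁻¹ * (a : Ω)⁻¹ := fun a => by
    rw [dl_apply, Subgroup.coe_mul, hαx, Subgroup.coe_inv]
  have hAp : IsPGroup p A := hS.to_le h.le
  have hcardB : Nat.card ((P ⊓ A).subgroupOf A) = Nat.card (P ⊓ A : Subgroup Ω) := card_subgroupOf' inf_le_right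
  have hcomap : ∀ a : A, a ∈ ((P ⊓ A).subgroupOf A).comap (dl α) ↔ (a : Ω) ∈ N ⊓ A := by
    intro a
    rw [Subgroup.mem_comap, Subgroup.mem_subgroupOf, hdl]
    constructor
    · intro ha
      refine ⟨?_, a.2⟩
      rw [hN]
      exact ⟨h.le a.2, (h.mem_norm_iff hPS hxP hxA a.2).2 ha.1⟩
    · rintro ⟨ha, -⟩
      rw [hN] at ha
      have h7 := (h.mem_norm_iff hPS hxP hxA a.2).1 ha.2
      refine ⟨h7, ?_⟩
      rw [← hdl]; exact (dl α a).2
  have hcardNA : Nat.card (((P ⊓ A).subgroupOf A).comap (dl α)) = Nat.card (N ⊓ A : Subgroup Ω) :=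
    Nat.card_congr
      { toFun := fun y => ⟨(y : A), (hcomap _).1 y.2⟩
        invFun := fun z => ⟨⟨z, z.2.2⟩, (hcomap _).2 z.2⟩
        left_inv := fun x => rfl
        right_inv := fun z => rfl }
  have cs : Nat.card (((P ⊓ A).subgroupOf A).comap (dl α)) = p * Nat.card ((P ⊓ A).subgroupOf A) ∧
      Nat.card (Cf α ⊓ Um α : Subgroup A) = p := by
    refine count_step (α := α) (B := (P ⊓ A).subgroupOf A) (p := p) ?_ ?_ hAp ?_ ?_ ?_
    · intro a ha
      rw [Subgroup.mem_subgroupOf]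
      exact hZB ((h2 a).1 ha)
    · rw [hcardB, h6, hB2]
    · refine ⟨⟨g₀, hg₀A⟩, ?_, ?_⟩
      · exact (hcomap _).2 ⟨hg₀N, hg₀A⟩
      · intro h7
        rw [Subgroup.mem_subgroupOf] at h7
        exact hg₀P h7.1
    · intro g hg
      have hgZ : x * (g : Ω) * x⁻¹ * (g : Ω)⁻¹ ∈ centralizerIn S S := by
        rw [← hdl]; exact (h2 _).1 hg
      rw [Subgroup.mem_subgroupOf]
      have hgN' : (g : Ω) ∈ Subgroup.normalizer (P : Set Ω) :=
        (h.mem_norm_iff hPS hxP hxA g.2).2 (hZP hgZ)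
      refine ⟨?_, g.2⟩
      refine radical_chain hS hF (essential_radical hS hPe) hc hZP hZinv (h.le g.2) hgN'
        (fun w hw => hcentZ w hw g (h.le g.2)) ?_
      -- y⁻¹ g y g⁻¹ ∈ Z for all y ∈ P
      have h7 : (g : Ω) ∈ z2 S := (h.dl_iff hxS hxA g.2).2 hgZ
      intro y hy
      have h8 := (mem_z2.1 h7).2 y⁻¹ (Subgroup.inv_mem _ (hPS hy))
      have h9 := hcentZ _ h8 y (hPS hy)
      -- g y⁻¹ g⁻¹ y central
      have h10 : y⁻¹ * (g * y * (g : Ω)⁻¹) = (g * y⁻¹ * (g : Ω)⁻¹ * y⁻¹⁻¹)⁻¹ := by group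
      rw [h10]; exact inv_mem h8
    · intro a ha
      rw [Subgroup.mem_comap, Subgroup.mem_subgroupOf, hdl]
      rw [Subgroup.mem_subgroupOf] at ha
      refine Subgroup.mem_inf.2 ⟨mul_mem (mul_mem (mul_mem hxP ha.1) (Subgroup.inv_mem _ hxP))
        (Subgroup.inv_mem _ ha.1), ?_⟩
      rw [← hdl]; exact (dl α a).2
  obtain ⟨c1, c2⟩ := cs
  refine ⟨hB2, by rw [← h5]; exact c2, ?_, hZinv⟩
  rw [← hN, hcardN, ← hcardNA, c1, hcardB, hcardP]

end

end Cfsg.Agent.H28
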