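import Mathlib
import Cfsg.Agent.H28.AbIdx4
import Cfsg.Agent.H1.Hall

/-!
Essential subgroups over `p`-groups with a unique abelian subgroup of index `p`.
-/

set_option autoImplicit false

namespace Cfsg.Agent.H28

open Cfsg.FusionSystem
open scoped commutatorElement Pointwise

universe u v

section
variable {Ω : Type u} [Group Ω] {S A B R P : Subgroup Ω} {p : ℕ} [hp : Fact p.Prime] [Finite S]
  {x y a b : Ω} {F : FusionSystem S}

theorem AbIdx.of_index (hS : IsPGroup p S) (hna : ¬ IsMulCommutative ↥S)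
    (hA : A ≤ S ∧ IsMulCommutative ↥A ∧ (A.subgroupOf S).index = p)
    (huniq : ∀ B : Subgroup Ω, B ≤ S → IsMulCommutative ↥B → (B.subgroupOf S).index = p → B = A) :
    AbIdx p S A := by
  have hcard : ∀ B : Subgroup Ω, B ≤ S → ((B.subgroupOf S).index = p ↔ Nat.card S = p * Nat.card B) := by
    intro B hB
    have hBf : Finite B := finite_of_le hB
    have h1 := (B.subgroupOf S).card_mul_index
    rw [card_subgroupOf' hB] at h1
    rw [← h1, mul_comm p]
    exact ⟨fun h => by rw [h], fun h => Nat.eq_of_mul_eq_mul_left Nat.card_pos h⟩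
  refine ⟨hS, hA.1, fun a ha b hb => congrArg Subtype.val (hA.2.1.is_comm.comm (⟨a, ha⟩ : A) ⟨b, hb⟩),
    (hcard A hA.1).1 hA.2.2, fun h => hna ⟨⟨fun a b => Subtype.ext (h a a.2 b b.2)⟩⟩,
    fun B hB hBc hBi => huniq B hB ⟨⟨fun a b => Subtype.ext (hBc a a.2 b b.2)⟩⟩ ((hcard B hB).2 hBi)⟩

theorem index_of_card {H K : Subgroup Ω} [Finite K] (h : H ≤ K) (hc : Nat.card K = p * Nat.card H) :
    (H.subgroupOf K).index = p := by
  have hf : Finite H := finite_of_le h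
  have h1 := (H.subgroupOf K).card_mul_index
  rw [card_subgroupOf' h, hc, mul_comm p] at h1
  exact Nat.eq_of_mul_eq_mul_left Nat.card_pos h1

variable (h : AbIdx p S A)
include h

theorem AbIdx.eq_sup (hR : R ≤ S) (hxR : x ∈ R) (hxA : x ∉ A) : R = (R ⊓ A) ⊔ Subgroup.zpowers x :=
  le_antisymm (h.sup_eq hR hxR hxA _ le_sup_left ((le_sup_right : Subgroup.zpowers x ≤ _) (Subgroup.mem_zpowers x)))
    (sup_le inf_le_left (Subgroup.zpowers_le.2 hxR))

variable (hF : F.IsSaturated p)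
include hF

theorem AbIdx.ess_main (hPe : F.IsEssential p P) (hPA : P ≠ A) :
    Nat.card (centralizerIn S S ⊓ ⁅S, S⁆ : Subgroup Ω) = p ∧
    Nat.card (normalizerIn S P) = p * Nat.card P ∧
    ∃ x ∈ P, x ∉ A ∧
      (((∀ a ∈ P, ∀ b ∈ P, a * b = b * a) ∧ P ⊓ A = centralizerIn S S ∧
        P = centralizerIn S S ⊔ Subgroup.zpowers x) ∨
      ((¬ ∀ a ∈ P, ∀ b ∈ P, a * b = b * a) ∧ P ⊓ A = z2 S ∧ P = z2 S ⊔ Subgroup.zpowers x ∧
        ∀ δ ∈ F.autGroup P, ∀ z ∈ centralizerIn S S, autFun δ z ∈ centralizerIn S S)) := by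
  have hS := h.pg
  have hc := hPe.1
  have hPS := hc.1
  have hC := centric_centralizer hc
  have hPnA := h.not_le_of_centric hPS hC hPA
  obtain ⟨x, hxP, hxA⟩ := SetLike.not_le_iff_exists.1 hPnA
  have hxS := hPS hxP
  have hZf : Finite (centralizerIn S S) := finite_of_le centralizerIn_le
  have hZ0 : 0 < Nat.card (centralizerIn S S) := Nat.card_pos
  have hZP : centralizerIn S S ≤ P := le_trans (centralizerIn_anti hPS) hC
  by_cases hPc : ∀ a ∈ P, ∀ b ∈ P, a * b = b * a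
  · obtain ⟨h1, h2⟩ := h.ab_card_norm hF hPe hPA hPc hxP hxA
    have hPn : P ≤ normalizerIn S P := le_normalizerIn hPS
    have h3 := h.card_inf (R := normalizerIn S P) normalizerIn_le (fun hle => hxA (hle (hPn hxP)))
    have h4 := h.card_inf hPS hPnA
    rw [h1] at h4
    have h5 : Nat.card (normalizerIn S P ⊓ A : Subgroup Ω) = p * Nat.card (centralizerIn S S) := by
      rw [h2, h4] at h3
      exact (Nat.eq_of_mul_eq_mul_left hp.out.pos h3).symm
    have h6 : normalizerIn S P ⊓ A = z2 S ⊓ A := by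
      ext a
      constructor
      · rintro ⟨ha, haA⟩
        refine ⟨(h.dl_iff hxS hxA haA).2 ?_, haA⟩
        have h7 := (h.mem_norm_iff hPS hxP hxA haA).1 ha.2
        rw [← h1]
        refine Subgroup.mem_inf.2 ⟨h7, mul_mem (h.conj_mem hxS haA) (Subgroup.inv_mem _ haA)⟩
      · rintro ⟨ha, haA⟩
        refine ⟨⟨h.le haA, (h.mem_norm_iff hPS hxP hxA haA).2 ?_⟩, haA⟩
        exact hZP ((h.dl_iff hxS hxA haA).1 ha)
    have h7 : Nat.card (centralizerIn S S ⊓ ⁅S, S⁆ : Subgroup Ω) = p := by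
      have h8 := h.card_z2
      rw [← h6, h5, mul_comm] at h8
      exact (Nat.eq_of_mul_eq_mul_left hZ0 h8).symm
    refine ⟨h7, h2, x, hxP, hxA, Or.inl ⟨hPc, h1, ?_⟩⟩
    conv_lhs => rw [h.eq_sup hPS hxP hxA, h1]
  · obtain ⟨h1, h2, h3, h4⟩ := h.nab_facts hF hPe hPA hPc hxP hxA
    have hz2 := h.z2_le h2
    refine ⟨h2, h3, x, hxP, hxA, Or.inr ⟨hPc, ?_⟩⟩
    have h5 : P ⊓ A = z2 S := by
      letI := cg h.comm
      obtain ⟨⟨k, hk⟩, e2, e3, e4⟩ := h.um hxS hxA
      obtain ⟨h5, h6⟩ := h.card_inf_eq hxS hxA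
      obtain ⟨α, hα⟩ : ∃ α, α = conjAut A x (h.norm hxS) := ⟨_, rfl⟩
      rw [← hα] at e2 e3 h5 h6 hk
      have hAf : Finite A := finite_of_le h.le
      have hz2f : Finite (z2 S) := finite_of_le (B := S) (fun y hy => (mem_z2.1 hy).1)
      have hαx : ∀ a : A, (α a : Ω) = x * a * x⁻¹ := fun a => by rw [hα]; rfl
      have hdl : ∀ a : A, ((dl α a : A) : Ω) = x * a * x⁻¹ * (a : Ω)⁻¹ := fun a => by
        rw [dl_apply, Subgroup.coe_mul, hαx, Subgroup.coe_inv]
      have hAp : IsPGroup p A := hS.to_le h.le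
      have h7 : P ⊓ A ≤ z2 S := by
        intro b hb
        have h8 := dl_mem_Cf_of_index hAp hk (B := (P ⊓ A).subgroupOf A) ?_ ?_ ?_ ⟨b, hb.2⟩ hb
        · rw [h.dl_iff hxS hxA hb.2, ← hdl ⟨b, hb.2⟩]
          exact (e2 _).1 h8
        · intro a ha
          rw [Subgroup.mem_subgroupOf]
          exact Subgroup.mem_inf.2 ⟨hZP ((e2 a).1 ha), a.2⟩
        · rw [card_subgroupOf' inf_le_right, h1, h6]
        · intro a ha
          rw [Subgroup.mem_subgroupOf] at ha ⊢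
          rw [hαx]
          exact Subgroup.mem_inf.2 ⟨mul_mem (mul_mem hxP ha.1) (Subgroup.inv_mem _ hxP), h.conj_mem hxS a.2⟩
      apply eq_of_le_of_card h7
      have h8 := h.card_z2
      rw [inf_eq_left.2 hz2, h2, mul_comm] at h8
      rw [h8, h1]
    refine ⟨h5, ?_, h4⟩
    conv_lhs => rw [h.eq_sup hPS hxP hxA, h5]

omit hF in
/-- The lower central series avoids the centre long enough. -/
theorem AbIdx.lcs (hZD : Nat.card (centralizerIn S S ⊓ ⁅S, S⁆ : Subgroup Ω) = p) (n : ℕ) :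
    Nat.card (⁅S, S⁆ : Subgroup Ω) ≤ p ^ n * Nat.card (Subgroup.lowerCentralSeries S (n + 1) ⊓ ⁅S, S⁆ : Subgroup Ω) := by
  obtain ⟨x, hx, hxA⟩ := SetLike.exists_of_lt (lt_of_le_of_ne h.le h.ne)
  letI := cg h.comm
  obtain ⟨⟨k, hk⟩, e2, e3, e4⟩ := h.um hx hxA
  obtain ⟨h5, h6⟩ := h.card_inf_eq hx hxA
  obtain ⟨α, hα⟩ : ∃ α, α = conjAut A x (h.norm hx) := ⟨_, rfl⟩
  rw [← hα] at e2 e3 h5 h6 hk
  have hAf : Finite A := finite_of_le h.le
  have hαx : ∀ a : A, (α a : Ω) = x * a * x⁻¹ := fun a => by rw [hα]; rfl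
  have h7 := card_itD (α := α) (p := p) (by rw [h5, hZD]) n
  have h8 : Nat.card (Um α) = Nat.card (⁅S, S⁆ : Subgroup Ω) :=
    Nat.card_congr
      { toFun := fun y => ⟨(y : A), (e3 y).1 y.2⟩
        invFun := fun z => ⟨⟨z, e4 z.2⟩, (e3 _).2 z.2⟩
        left_inv := fun x => rfl
        right_inv := fun z => rfl }
  have h9 : ∀ n, ∀ y ∈ itD α n, (y : Ω) ∈ Subgroup.lowerCentralSeries S n := by
    intro n
    induction n with
    | zero => intro y _; exact h.le y.2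
    | succ n ih =>
      rintro _ ⟨y, hy, rfl⟩
      have h10 := Subgroup.commutator_mem_commutator (ih y hy) hx
      have h11 := inv_mem h10
      rw [commutatorElement_inv, commutatorElement_def] at h11
      have h12 : ((dl α y : A) : Ω) = x * y * x⁻¹ * (y : Ω)⁻¹ := by
        rw [dl_apply, Subgroup.coe_mul, hαx, Subgroup.coe_inv]
      rw [h12]; exact h11
  rw [← h8]
  refine h7.trans (Nat.mul_le_mul_left _ ?_)
  have hfin : Finite (Subgroup.lowerCentralSeries S (n + 1) ⊓ ⁅S, S⁆ : Subgroup Ω) :=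
    finite_of_le (B := S) (fun y hy => h.le (h.D_le hy.2))
  refine Nat.card_le_card_of_injective (fun y : itD α (n + 1) =>
    (⟨(y : A), h9 _ y y.2, (e3 y).1 (itD_le α n y.2)⟩ :
      (Subgroup.lowerCentralSeries S (n + 1) ⊓ ⁅S, S⁆ : Subgroup Ω))) ?_
  intro y z hyz
  exact Subtype.ext (Subtype.ext (congrArg (fun w :
    (Subgroup.lowerCentralSeries S (n + 1) ⊓ ⁅S, S⁆ : Subgroup Ω) => (w : Ω)) hyz))

end

end Cfsg.Agent.H28
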