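import Mathlib
import Cfsg.Agent.H28.AbIdx5
import Cfsg.Agent.H28.CIdx4

/-!
Extension of morphisms for `p`-groups with a unique abelian subgroup of index `p`.
-/

set_option autoImplicit false

namespace Cfsg.Agent.H28

open Cfsg.FusionSystem
open scoped commutatorElement Pointwise

universe u v

section Good
variable {Ω : Type u} [Group Ω] {S U : Subgroup Ω} {F : FusionSystem S} {p : ℕ}
  [hp : Fact p.Prime] [Finite S] (hS : IsPGroup p S) (hF : F.IsSaturated p)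

/-- Good automorphisms with respect to `U ≤ Z(S)`. -/
def GoodU (S U : Subgroup Ω) (g : MulAut S) : Prop :=
  (∀ u ∈ U, autFun g u = u⁻¹) ∧ ∀ z ∈ centralizerIn S S, autFun g z * z⁻¹ ∈ U

include hS hF

theorem triv_of_U (hUZ : U ≤ centralizerIn S S) (hU : Nat.card U = p) {δ : MulAut S} (hδ : δ ∈ F.autGroup S)
    (h1 : ∀ u ∈ U, autFun δ u = u) {z : Ω} (hz : z ∈ centralizerIn S S)
    (h2 : autFun δ z * z⁻¹ ∈ U) : autFun δ z = z := by
  obtain ⟨r, hr, h3⟩ := exists_pprime_exp hS hF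
  obtain ⟨t, ht, h4⟩ := h3 δ hδ
  have hzS := (mem_centralizerIn.1 hz).1
  obtain ⟨u, hu⟩ : ∃ u, u = autFun δ z * z⁻¹ := ⟨_, rfl⟩
  rw [← hu] at h2
  have huS : u ∈ S := centralizerIn_le (hUZ h2)
  have hm := mor_autFun le_rfl hδ
  have hδz : autFun δ z = u * z := by rw [hu, inv_mul_cancel_right]
  have h5 : ∀ n : ℕ, autFun (δ ^ n) z = u ^ n * z := by
    intro n
    induction n with
    | zero => rw [pow_zero, autFun_one hzS, pow_zero, one_mul]
    | succ n ih =>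
      rw [pow_succ', autFun_mul _ _ hzS, ih, hm.mul (pow_mem huS n) hzS, hδz, h1 _ (pow_mem h2 n),
        pow_succ, mul_assoc]
  have h6 := h4 z hzS
  rw [h5, ← (mem_centralizerIn.1 hz).2 t ht, mul_inv_cancel_right] at h6
  have h7 : u ^ r = 1 := mul_eq_right.1 h6
  have h8 : u ^ p = 1 := by
    have h9 : (⟨u, h2⟩ : U) ^ Nat.card U = 1 := pow_card_eq_one'
    rw [hU] at h9
    exact congrArg Subtype.val h9
  have h9 : orderOf u ∣ 1 := by
    rw [← hr]
    exact Nat.dvd_gcd (orderOf_dvd_of_pow_eq_one h7) (orderOf_dvd_of_pow_eq_one h8)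
  have h10 : u = 1 := orderOf_eq_one_iff.1 (Nat.dvd_one.1 h9)
  rw [hδz, h10, one_mul]

theorem goodU_unique (hUZ : U ≤ centralizerIn S S) (hU : Nat.card U = p)
    {g h : MulAut S} (hg : g ∈ F.autGroup S) (hh : h ∈ F.autGroup S)
    (hgg : GoodU S U g) (hhg : GoodU S U h) {z : Ω} (hz : z ∈ centralizerIn S S) :
    autFun g z = autFun h z := by
  have hzS := (mem_centralizerIn.1 hz).1
  have hmg := mor_autFun le_rfl hg
  have hmh := mor_autFun le_rfl hh
  have hmem : ∀ u ∈ U, u ∈ S := fun u hu => centralizerIn_le (hUZ hu)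
  have hδ : h⁻¹ * g ∈ F.autGroup S := mul_mem (inv_mem hh) hg
  have h1 : ∀ u ∈ U, autFun (h⁻¹ * g) u = u := by
    intro u hu
    rw [autFun_mul _ _ (hmem u hu), hgg.1 u hu, ← hhg.1 u hu, autFun_inv_apply _ (hmem u hu)]
  have h2 : autFun (h⁻¹ * g) z * z⁻¹ ∈ U := by
    have hu1 := hgg.2 z hz
    have hu2 := hhg.2 z hz
    obtain ⟨u1, e1⟩ : ∃ u, u = autFun g z * z⁻¹ := ⟨_, rfl⟩
    obtain ⟨u2, e2⟩ : ∃ u, u = autFun h z * z⁻¹ := ⟨_, rfl⟩
    rw [← e1] at hu1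
    rw [← e2] at hu2
    have e1' : autFun g z = u1 * z := by rw [e1, inv_mul_cancel_right]
    have e2' : autFun h z = u2 * z := by rw [e2, inv_mul_cancel_right]
    have h3 : u1⁻¹ * u2 ∈ U := mul_mem (inv_mem hu1) hu2
    have h4 : autFun h (u1⁻¹ * u2 * z) = autFun g z := by
      rw [hmh.mul (hmem _ h3) hzS, hhg.1 _ h3, e2', e1', mul_inv_rev, inv_inv]
      have h6 : u1 * u2 = u2 * u1 := (mem_centralizerIn.1 (hUZ hu1)).2 u2 (hmem _ hu2)
      calc u2⁻¹ * u1 * (u2 * z) = u2⁻¹ * (u1 * u2) * z := by group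
        _ = u1 * z := by rw [h6]; group
    rw [autFun_mul _ _ hzS, ← h4, autFun_inv_apply _ (mul_mem (hmem _ h3) hzS), mul_inv_cancel_right]
    exact h3
  have h3 := triv_of_U hS hF hUZ hU hδ h1 hz h2
  rw [autFun_mul _ _ hzS] at h3
  rw [← autFun_apply_inv h (autFun_mem g hzS), h3]

omit hS hF in
theorem goodU_conj (hUZ : U ≤ centralizerIn S S) (hUinv : ∀ γ ∈ F.autGroup S, ∀ u ∈ U, autFun γ u ∈ U)
    {g γ : MulAut S} (hγ : γ ∈ F.autGroup S) (hg : GoodU S U g) :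
    GoodU S U (γ * g * γ⁻¹) := by
  have hγ' : γ⁻¹ ∈ F.autGroup S := inv_mem hγ
  have hm := mor_autFun le_rfl hγ
  constructor
  · intro u hu
    have huS := centralizerIn_le (hUZ hu)
    have h1 := hUinv _ hγ' u hu
    rw [autFun_mul _ _ huS, autFun_mul _ _ (autFun_mem _ huS), hg.1 _ h1, hm.inv (autFun_mem _ huS),
      autFun_apply_inv _ huS]
  · intro z hz
    have hzS := (mem_centralizerIn.1 hz).1
    have h1 := aut_center hγ' hz
    have h2 := hUinv _ hγ _ (hg.2 _ h1)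
    have h3 : autFun γ⁻¹ z ∈ S := autFun_mem _ hzS
    rw [hm.mul (autFun_mem _ h3) (inv_mem h3), hm.inv h3, autFun_apply_inv _ hzS] at h2
    rw [autFun_mul _ _ hzS, autFun_mul _ _ h3]
    exact h2

end Good

section
variable {Ω : Type u} [Group Ω] {S A B R P Q K : Subgroup Ω} {p : ℕ} [hp : Fact p.Prime] [Finite S]
  {x y a b : Ω} {F : FusionSystem S} {f : Ω → Ω}

variable (h : AbIdx p S A)
include h

theorem AbIdx.z2_card (hZD : Nat.card (centralizerIn S S ⊓ ⁅S, S⁆ : Subgroup Ω) = p) :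
    Nat.card (z2 S) = p * Nat.card (centralizerIn S S) := by
  have h4 := h.card_z2
  rw [inf_eq_left.2 (h.z2_le hZD), hZD, mul_comm] at h4
  exact h4

omit h in
theorem Z_le_z2 : centralizerIn S S ≤ z2 S := by
  intro z hz
  refine mem_z2.2 ⟨hz.1, fun s hs => ?_⟩
  have h4 : z * s * z⁻¹ * s⁻¹ = 1 := by
    rw [(mem_centralizerIn.1 hz).2 s hs]; group
  rw [h4]; exact one_mem _

variable (hF : F.IsSaturated p)
include hF

/-- In a nonabelian essential subgroup all subgroups of order `p |Z|` over `Z` are conjugate to `Z₂`. -/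
theorem AbIdx.conj_z2 (hQe : F.IsEssential p Q) (hQA : Q ≠ A)
    (hQn : ¬ ∀ a ∈ Q, ∀ b ∈ Q, a * b = b * a) (hKQ : K ≤ Q) (hZK : centralizerIn S S ≤ K)
    (hK : Nat.card K = p * Nat.card (centralizerIn S S)) : F.IsConj K (z2 S) := by
  have hS := h.pg
  have hc := hQe.1
  have hQS := hc.1
  have hC := centric_centralizer hc
  have hZf : Finite (centralizerIn S S) := finite_of_le centralizerIn_le
  obtain ⟨hZD, hN, x₀, hx₀Q, hx₀A, h1⟩ := h.ess_main hF hQe hQA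
  rcases h1 with ⟨h1, -⟩ | ⟨-, hQz, hQeq, hZinv⟩
  · exact absurd h1 hQn
  have hz2 := h.z2_le hZD
  have hz2c := h.z2_card hZD
  have hz2Q : z2 S ≤ Q := by rw [← hQz]; exact inf_le_left
  have hQf : Finite Q := finite_of_le hQS
  have hz2f : Finite (z2 S) := finite_of_le hz2Q
  have hKS : K ≤ S := hKQ.trans hQS
  have hKf : Finite K := finite_of_le hKQ
  have hne : Q ≠ S := fun he => not_essential_top hS hF (he ▸ hQe)
  by_cases hKA : K ≤ A
  · have h2 : K = z2 S := by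
      apply eq_of_le_of_card
      · rw [← hQz]; exact le_inf hKQ hKA
      · rw [hz2c, hK]
    rw [h2]; exact isConj_refl (hz2Q.trans hQS)
  obtain ⟨y, hyK, hyA⟩ := SetLike.not_le_iff_exists.1 hKA
  have hyQ := hKQ hyK
  have hyS := hQS hyQ
  have hinfK : K ⊓ A = centralizerIn S S := by
    have h2 := h.card_inf hKS hKA
    have h3 : centralizerIn S S ≤ K ⊓ A := le_inf hZK h.Z_le
    have h4 : Finite (K ⊓ A : Subgroup Ω) := finite_of_le inf_le_left
    apply (eq_of_le_of_card h3 _).symm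
    rw [hK] at h2
    exact (Nat.eq_of_mul_eq_mul_left hp.out.pos h2).ge
  -- an element of N_S(Q) ⊓ A outside Q
  obtain ⟨N, hNdef⟩ : ∃ N, N = normalizerIn S Q := ⟨_, rfl⟩
  have hNS : N ≤ S := hNdef ▸ normalizerIn_le
  have hQN : Q ≤ N := hNdef ▸ le_normalizerIn hQS
  have hNf : Finite N := finite_of_le hNS
  have hlt : Q < N := hNdef ▸ lt_normalizerIn hS (lt_of_le_of_ne hQS hne)
  have hNnA : ¬ N ≤ A := fun hle => hyA (hle (hQN hyQ))
  have hQnA : ¬ Q ≤ A := fun hle => hyA (hle hyQ)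
  obtain ⟨g, hgN, hgA, hgQ⟩ : ∃ g ∈ N, g ∈ A ∧ g ∉ Q := by
    by_contra hcon
    push Not at hcon
    have h1 : N ⊓ A = Q ⊓ A := le_antisymm (le_inf (fun g hg => hcon g hg.1 hg.2) inf_le_right)
      (inf_le_inf_right _ hQN)
    have hcardN := h.card_inf hNS hNnA
    rw [h1, ← h.card_inf hQS hQnA] at hcardN
    exact hlt.ne (eq_of_le_of_card hQN hcardN.le)
  have hgN' : g ∈ Subgroup.normalizer (Q : Set Ω) := by rw [hNdef] at hgN; exact hgN.2
  have hgS := hNS hgN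
  -- δ moving z2
  obtain ⟨δ, hδ, w, hw, hδw⟩ : ∃ δ ∈ F.autGroup Q, ∃ w ∈ z2 S, autFun δ w ∉ z2 S := by
    by_contra hcon
    push Not at hcon
    apply hgQ
    refine radical_chain hS hF (essential_radical hS hQe) hc hz2Q hcon hgS hgN' ?_ ?_
    · intro w hw
      rw [h.comm g hgA w (hz2 hw), mul_inv_cancel_right]
    · intro y hy
      rw [← hQz]
      refine Subgroup.mem_inf.2 ⟨mul_mem (Subgroup.inv_mem _ hy) ((Subgroup.mem_normalizer_iff.1 hgN' y).1 hy), h.D_le ?_⟩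
      have h3 := Subgroup.commutator_mem_commutator (Subgroup.inv_mem _ (hQS hy)) hgS
      rw [commutatorElement_def, inv_inv] at h3
      have h4 : y⁻¹ * (g * y * g⁻¹) = y⁻¹ * g * y * g⁻¹ := by group
      rw [h4]; exact h3
  have hδm := mor_autFun hQS hδ
  have hδz := hδm.mono hz2Q
  obtain ⟨L, hL⟩ : ∃ L, L = img (z2 S) (autFun δ) := ⟨_, rfl⟩
  have hLQ : L ≤ Q := by rw [hL, img_le_iff]; intro v hv; exact autFun_mem _ (hz2Q hv)
  have hLc : Nat.card L = Nat.card K := by rw [hL, hδz.card_img, hz2c, hK]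
  have hLf : Finite L := finite_of_le hLQ
  have hyL : autFun δ w ∈ L := by rw [hL]; exact mem_img_of_mem hw
  have hδwA : autFun δ w ∉ A := fun hA => hδw (by rw [← hQz]; exact ⟨hLQ hyL, hA⟩)
  have hZL : centralizerIn S S ≤ L := by
    intro z hz
    have h2 := hZinv δ⁻¹ (inv_mem hδ) z hz
    have hzQ : z ∈ Q := hz2Q (Z_le_z2 hz)
    rw [hL, hδz.mem_img]
    exact ⟨autFun δ⁻¹ z, Z_le_z2 h2, autFun_apply_inv _ hzQ⟩
  -- c' = g y g⁻¹ y⁻¹
  obtain ⟨c, hcdef⟩ : ∃ c, c = g * y * g⁻¹ * y⁻¹ := ⟨_, rfl⟩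
  have hcQ : c ∈ z2 S := by
    rw [← hQz, hcdef]
    refine Subgroup.mem_inf.2 ⟨mul_mem ((Subgroup.mem_normalizer_iff.1 hgN' y).1 hyQ) (Subgroup.inv_mem _ hyQ), h.D_le ?_⟩
    rw [← commutatorElement_def]
    exact Subgroup.commutator_mem_commutator hgS hyS
  have hcZ : c ∉ centralizerIn S S := by
    intro hcZ
    apply hgQ
    apply hz2Q
    rw [h.dl_iff hyS hyA hgA]
    have h2 := inv_mem hcZ
    rw [hcdef] at h2
    have h3 : (g * y * g⁻¹ * y⁻¹)⁻¹ = y * g * y⁻¹ * g⁻¹ := by group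
    rwa [h3] at h2
  -- y = w'' (δw)^k
  have h2 : y ∈ z2 S ⊔ Subgroup.zpowers (autFun δ w) := by
    have h3 := h.sup_eq hQS (hLQ hyL) hδwA (z2 S ⊔ Subgroup.zpowers (autFun δ w))
      (by rw [hQz]; exact le_sup_left) ((le_sup_right : Subgroup.zpowers (autFun δ w) ≤ _) (Subgroup.mem_zpowers _))
    exact h3 hyQ
  have hz2norm : Subgroup.zpowers (autFun δ w) ≤ Subgroup.normalizer (z2 S : Set Ω) := by
    rw [Subgroup.zpowers_le]
    apply mem_normalizer_of_finite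
    intro v hv
    rw [← hQz] at hv ⊢
    exact Subgroup.mem_inf.2 ⟨mul_mem (mul_mem (hLQ hyL) hv.1) (Subgroup.inv_mem _ (hLQ hyL)),
      h.conj_mem (hQS (hLQ hyL)) hv.2⟩
  obtain ⟨w', hw', k', ⟨k, rfl⟩, hyk⟩ : ∃ w' ∈ z2 S, ∃ k' ∈ Subgroup.zpowers (autFun δ w), w' * k' = y := by
    have h4 : y ∈ ((z2 S : Subgroup Ω) : Set Ω) * ((Subgroup.zpowers (autFun δ w) : Subgroup Ω) : Set Ω) := by
      rw [← Subgroup.coe_mul_of_right_le_normalizer_left _ _ hz2norm]; exact h2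
    obtain ⟨u, hu, a, ha, hua⟩ := Set.mem_mul.1 h4
    exact ⟨u, hu, a, ha, hua⟩
  have hyk' : w' * (autFun δ w) ^ k = y := hyk
  -- w'⁻¹ ∈ Z ⊔ ⟨c⟩
  have h3 : z2 S ≤ centralizerIn S S ⊔ Subgroup.zpowers c :=
    le_of_prime_index hp.out Z_le_z2 hz2c le_sup_left hcQ
      ((le_sup_right : Subgroup.zpowers c ≤ _) (Subgroup.mem_zpowers c)) hcZ
  have hZnorm : Subgroup.zpowers c ≤ Subgroup.normalizer ((centralizerIn S S : Subgroup Ω) : Set Ω) := by
    rw [Subgroup.zpowers_le]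
    apply mem_normalizer_of_finite
    intro v hv
    rw [← (mem_centralizerIn.1 hv).2 c (hQS (hz2Q hcQ)), mul_inv_cancel_right]; exact hv
  obtain ⟨z, hz, i, hzi⟩ : ∃ z ∈ centralizerIn S S, ∃ i : ℤ, z * c ^ i = w'⁻¹ := by
    have h4 : w'⁻¹ ∈ ((centralizerIn S S : Subgroup Ω) : Set Ω) * ((Subgroup.zpowers c : Subgroup Ω) : Set Ω) := by
      rw [← Subgroup.coe_mul_of_right_le_normalizer_left _ _ hZnorm]; exact h3 (inv_mem hw')
    obtain ⟨u, hu, a, ⟨i, rfl⟩, hua⟩ := Set.mem_mul.1 h4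
    exact ⟨u, hu, i, hua⟩
  -- g^i y g^-i = c^i y
  have hgi : ∀ n : ℤ, g ^ n * y * (g ^ n)⁻¹ = c ^ n * y := by
    letI := cg h.comm
    have h4 := map_zpow (dl (conjAut A y (h.norm hyS))) (⟨g, hgA⟩ : A)
    intro n
    have h5 := congrArg (fun t : A => (t : Ω)) (h4 n)
    have h6 : y * g ^ n * y⁻¹ * (g ^ n)⁻¹ = (y * g * y⁻¹ * g⁻¹) ^ n := h5
    have h7 : g ^ n * y * (g ^ n)⁻¹ * y⁻¹ = c ^ n := by
      have h8 : (y * g ^ n * y⁻¹ * (g ^ n)⁻¹)⁻¹ = ((y * g * y⁻¹ * g⁻¹) ^ n)⁻¹ := by rw [h6]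
      have h9 : (y * g ^ n * y⁻¹ * (g ^ n)⁻¹)⁻¹ = g ^ n * y * (g ^ n)⁻¹ * y⁻¹ := by group
      have h10 : ((y * g * y⁻¹ * g⁻¹) ^ n)⁻¹ = c ^ n := by
        rw [← inv_zpow, hcdef]
        congr 1
        group
      rw [← h9, h8, h10]
    rw [← h7, inv_mul_cancel_right]
  have hmem : g ^ i * y * (g ^ i)⁻¹ ∈ L := by
    rw [hgi]
    have h4 : c ^ i * y = z⁻¹ * (autFun δ w) ^ k := by
      have h5 : c ^ i = z⁻¹ * w'⁻¹ := by rw [← hzi]; group
      rw [h5, ← hyk']; group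
    rw [h4]
    exact mul_mem (inv_mem (hZL hz)) (zpow_mem hyL k)
  have hgiS : g ^ i ∈ S := zpow_mem hgS i
  have hcm : Mor F K (fun x => g ^ i * x * (g ^ i)⁻¹) := mor_conj hKS hgiS
  have himg : img K (fun x => g ^ i * x * (g ^ i)⁻¹) = L := by
    have h4 : img K (fun x => g ^ i * x * (g ^ i)⁻¹) ≤ L := by
      rw [img_le_iff]
      have h5 : K ≤ L.comap (MulAut.conj (g ^ i)).toMonoidHom := by
        apply h.sup_eq hKS hyK hyA
        · rw [hinfK]
          intro v hv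
          show g ^ i * v * (g ^ i)⁻¹ ∈ L
          rw [← (mem_centralizerIn.1 hv).2 (g ^ i) hgiS, mul_inv_cancel_right]
          exact hZL hv
        · exact hmem
      intro v hv
      exact h5 hv
    apply eq_of_le_of_card h4
    rw [hcm.card_img, hLc]
  have hconj1 : F.IsConj K L := isConj_iff.2 ⟨_, hcm, himg⟩
  have hconj2 : F.IsConj (z2 S) L := isConj_iff.2 ⟨_, hδz, hL.symm⟩
  exact isConj_trans hconj1 (isConj_symm hconj2)

end

end Cfsg.Agent.H28
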