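import Mathlib
import Cfsg.Agent.H28.AbIdx6

/-!
Extension of morphisms for `p`-groups with a unique abelian subgroup of index `p`.
-/

set_option autoImplicit false

namespace Cfsg.Agent.H28

open Cfsg.FusionSystem
open scoped commutatorElement Pointwise

universe u v

section
variable {Ω : Type u} [Group Ω] {S A B R P Q K : Subgroup Ω} {p : ℕ} [hp : Fact p.Prime] [Finite S]
  {x y a b : Ω} {F : FusionSystem S} {f : Ω → Ω}

theorem comm_img_iff (hf : Mor F P f) : (∀ a ∈ img P f, ∀ b ∈ img P f, a * b = b * a) ↔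
    (∀ a ∈ P, ∀ b ∈ P, a * b = b * a) := by
  constructor
  · intro h a ha b hb
    have h1 := h (f a) (mem_img_of_mem ha) (f b) (mem_img_of_mem hb)
    rw [← hf.mul ha hb, ← hf.mul hb ha] at h1
    exact hf.inj (mul_mem ha hb) (mul_mem hb ha) h1
  · rintro h _ ha _ hb
    obtain ⟨a, ha', rfl⟩ := hf.mem_img.1 ha
    obtain ⟨b, hb', rfl⟩ := hf.mem_img.1 hb
    rw [← hf.mul ha' hb', h a ha' b hb', hf.mul hb' ha']

variable (h : AbIdx p S A)
include h

theorem normalizer_z2 : S ≤ Subgroup.normalizer ((z2 S : Subgroup Ω) : Set Ω) := by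
  intro g hg
  have hz2S : z2 S ≤ S := fun y hy => (mem_z2.1 hy).1
  haveI : Finite (z2 S) := finite_of_le hz2S
  apply mem_normalizer_of_finite
  intro y hy
  obtain ⟨hyS, hy2⟩ := mem_z2.1 hy
  have h1 : g * y * g⁻¹ * y⁻¹ ∈ z2 S := by
    apply Z_le_z2
    have h2 := inv_mem (hy2 g hg)
    have h3 : (y * g * y⁻¹ * g⁻¹)⁻¹ = g * y * g⁻¹ * y⁻¹ := by group
    rwa [h3] at h2
  have h2 := mul_mem h1 hy
  rwa [inv_mul_cancel_right] at h2

variable (hF : F.IsSaturated p)
include hF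

/-- Maps defined on big nonabelian subgroups extend to `S`. -/
theorem AbIdx.ext_big (hRS : R ≤ S) (hRn : ¬ ∀ a ∈ R, ∀ b ∈ R, a * b = b * a)
    (hR : p ^ 2 * Nat.card (centralizerIn S S) < Nat.card R) (hf : Mor F R f) :
    ∃ γ ∈ F.autGroup S, ∀ x ∈ R, f x = autFun γ x := by
  have hS := h.pg
  refine mor_extends_top hS hF
    (fun R => (¬ ∀ a ∈ R, ∀ b ∈ R, a * b = b * a) ∧ (Finite R → p ^ 2 * Nat.card (centralizerIn S S) < Nat.card R))
    ?_ ?_ ?_ hf ⟨hRn, fun _ => hR⟩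
  · rintro P Q hPQ ⟨h1, h2⟩
    refine ⟨fun h3 => h1 fun a ha b hb => h3 a (hPQ ha) b (hPQ hb), fun hQ => ?_⟩
    exact lt_of_lt_of_le (h2 (finite_of_le hPQ)) (card_le_of_le hPQ)
  · intro P f hf
    have hPf : Finite P := finite_of_le hf.le
    have hIf : Finite (img P f) := finite_of_le hf.img_le
    rw [comm_img_iff hf, hf.card_img]
    exact ⟨fun h1 => ⟨h1.1, fun _ => h1.2 hIf⟩, fun h1 => ⟨h1.1, fun _ => h1.2 hPf⟩⟩
  · rintro Q hQ hQS ⟨h1, h2⟩
    by_cases hQA : Q = A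
    · exact h1 (hQA ▸ h.comm)
    have hQf : Finite Q := finite_of_le hQ.1.1
    obtain ⟨hZD, hN, x, hxQ, hxA, h3⟩ := h.ess_main hF hQ hQA
    rcases h3 with ⟨h3, -⟩ | ⟨-, h3, -⟩
    · exact h1 h3
    have h4 := h.card_inf hQ.1.1 (fun hle => hxA (hle hxQ))
    rw [h3, h.z2_card hZD] at h4
    have h5 := h2 hQf
    rw [h4] at h5
    have h6 : p ^ 2 * Nat.card (centralizerIn S S) = p * (p * Nat.card (centralizerIn S S)) := by ring
    omega

/-- Maps defined on the normalizer of an abelian essential subgroup extend to `S`. -/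
theorem AbIdx.ext_norm (hPe : F.IsEssential p P) (hPA : P ≠ A) (hPc : ∀ a ∈ P, ∀ b ∈ P, a * b = b * a)
    (hf : Mor F (normalizerIn S P) f) :
    ∃ γ ∈ F.autGroup S, ∀ x ∈ normalizerIn S P, f x = autFun γ x := by
  have hS := h.pg
  have hPS := hPe.1.1
  have hC := centric_centralizer hPe.1
  have hZf : Finite (centralizerIn S S) := finite_of_le centralizerIn_le
  have hZpos : 0 < Nat.card (centralizerIn S S) := Nat.card_pos
  obtain ⟨hZD, hN, x, hxP, hxA, h1⟩ := h.ess_main hF hPe hPA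
  obtain ⟨-, hinf, hPeq⟩ : (∀ a ∈ P, ∀ b ∈ P, a * b = b * a) ∧ P ⊓ A = centralizerIn S S ∧
      P = centralizerIn S S ⊔ Subgroup.zpowers x := by
    rcases h1 with h1 | ⟨h1, -⟩
    · exact h1
    · exact absurd hPc h1
  obtain ⟨N, hNdef⟩ : ∃ N, N = normalizerIn S P := ⟨_, rfl⟩
  rw [← hNdef] at hf hN ⊢
  have hNS : N ≤ S := hNdef ▸ normalizerIn_le
  have hPN : P ≤ N := hNdef ▸ le_normalizerIn hPS
  have hNf : Finite N := finite_of_le hNS
  have hcardP : Nat.card P = p * Nat.card (centralizerIn S S) := by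
    rw [← hinf]; exact h.card_inf hPS (fun hle => hxA (hle hxP))
  have hcardN : Nat.card N = p ^ 2 * Nat.card (centralizerIn S S) := by rw [hN, hcardP]; ring
  have hNn : ¬ ∀ a ∈ N, ∀ b ∈ N, a * b = b * a := by
    intro hcon
    have h2 : N ⊓ A ≤ centralizerIn S S :=
      h.comm_inf hNS hxA (hPS hxP) (fun b hb => hcon x (hPN hxP) b hb.1)
    have h3 := h.card_inf hNS (fun hle => hxA (hle (hPN hxP)))
    have h4 := card_le_of_le h2
    rw [hcardN, pow_two, mul_assoc] at h3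
    have h5 := Nat.eq_of_mul_eq_mul_left hp.out.pos h3
    have := hp.out.one_lt
    nlinarith
  refine mor_extends_top hS hF
    (fun R => (¬ ∀ a ∈ R, ∀ b ∈ R, a * b = b * a) ∧
      (Finite R → p ^ 2 * Nat.card (centralizerIn S S) < Nat.card R ∨ F.IsConj N R))
    ?_ ?_ ?_ hf ⟨hNn, fun _ => Or.inr (isConj_refl hNS)⟩
  · rintro P Q hPQ ⟨h1, h2⟩
    refine ⟨fun h3 => h1 fun a ha b hb => h3 a (hPQ ha) b (hPQ hb), fun hQ => ?_⟩
    have hPf : Finite P := finite_of_le hPQ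
    rcases h2 hPf with h2 | h2
    · exact Or.inl (lt_of_lt_of_le h2 (card_le_of_le hPQ))
    · by_cases hPQ' : P = Q
      · subst hPQ'; exact Or.inr h2
      · left
        obtain ⟨g, hg, hgi⟩ := isConj_iff.1 h2
        have h3 : Nat.card P = p ^ 2 * Nat.card (centralizerIn S S) := by
          rw [← hgi, hg.card_img, hcardN]
        rw [← h3]
        apply lt_of_le_of_ne (card_le_of_le hPQ)
        intro h4
        exact hPQ' (eq_of_le_of_card hPQ h4.ge)
  · intro P f hf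
    have hPf : Finite P := finite_of_le hf.le
    have hIf : Finite (img P f) := finite_of_le hf.img_le
    rw [comm_img_iff hf, hf.card_img]
    refine ⟨fun h1 => ⟨h1.1, fun _ => (h1.2 hIf).imp id fun h2 => isConj_trans h2 (isConj_symm hf.isConj)⟩,
      fun h1 => ⟨h1.1, fun _ => (h1.2 hPf).imp id fun h2 => isConj_trans h2 hf.isConj⟩⟩
  · rintro Q hQ hQS ⟨h1, h2⟩
    by_cases hQA : Q = A
    · exact h1 (hQA ▸ h.comm)
    have hQf : Finite Q := finite_of_le hQ.1.1
    obtain ⟨-, -, x', hxQ, hxA', h3⟩ := h.ess_main hF hQ hQA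
    rcases h3 with ⟨h3, -⟩ | ⟨-, h3, -⟩
    · exact h1 h3
    have h4 := h.card_inf hQ.1.1 (fun hle => hxA' (hle hxQ))
    rw [h3, h.z2_card hZD] at h4
    rcases h2 hQf with h5 | h5
    · rw [h4] at h5
      have h6 : p ^ 2 * Nat.card (centralizerIn S S) = p * (p * Nat.card (centralizerIn S S)) := by ring
      omega
    · obtain ⟨g, hg, hgi⟩ := isConj_iff.1 h5
      have hgP := hg.mono hPN
      have hKc := centric_img hPe.1 hgP
      have hKQ : img P g ≤ Q := by
        rw [← hgi, img_le_iff]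
        intro y hy
        exact mem_img_of_mem (hPN hy)
      have hZK : centralizerIn S S ≤ img P g := le_trans (centralizerIn_anti hKc.1) (centric_centralizer hKc)
      have h6 := h.conj_z2 hF hQ hQA h1 hKQ hZK (by rw [hgP.card_img, hcardP])
      have h7 := isConj_trans hgP.isConj h6
      have h8 := hPe.2.1.2 _ h7
      rw [← hNdef, hcardN] at h8
      have h9 : normalizerIn S (z2 S) = S := inf_eq_left.2 (normalizer_z2 h)
      rw [h9, h.card] at h8
      have h10 := h.card_gt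
      have := hp.out.pos
      nlinarith

/-- The automizer of an abelian essential subgroup. -/
theorem AbIdx.ab_data (hPe : F.IsEssential p P) (hPA : P ≠ A) (hPc : ∀ a ∈ P, ∀ b ∈ P, a * b = b * a)
    {s : Ω} (hs : s ∈ S) (hsA : s ∈ A) (hsN : s ∈ Subgroup.normalizer (P : Set Ω)) (hsP : s ∉ P) :
    letI := cg hPc
    let α := conjAut P s hsN
    IsTv p α ∧ α ∈ F.autGroup P ∧ (∀ B ≤ F.autGroup P, IsPGroup p B → Nat.card B ≤ p) ∧
      (∃ γ ∈ F.autGroup P, γ * α * γ⁻¹ ∉ Subgroup.zpowers α) ∧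
      (∀ γ ∈ F.autGroup P, γ * α * γ⁻¹ ∈ Subgroup.zpowers α →
        ∃ g ∈ F.autGroup S, ∀ x ∈ P, autFun g x = autFun γ x) ∧
      (∀ x : P, x ∈ Cf α ↔ (x : Ω) ∈ centralizerIn S S) ∧
      (∀ x : P, x ∈ Um α ↔ (x : Ω) ∈ centralizerIn S S ⊓ ⁅S, S⁆) ∧
      centralizerIn S S ≤ P ∧ centralizerIn S S ⊓ ⁅S, S⁆ ≤ P := by
  letI := cg hPc
  intro α
  have hS := h.pg
  have hPS := hPe.1.1
  have hC := centric_centralizer hPe.1
  have hPf : Finite P := finite_of_le hPS
  have hZf : Finite (centralizerIn S S) := finite_of_le centralizerIn_le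
  have hZpos : 0 < Nat.card (centralizerIn S S) := Nat.card_pos
  obtain ⟨hZD, hN, x, hxP, hxA, h1⟩ := h.ess_main hF hPe hPA
  obtain ⟨-, hinf, hPeq⟩ : (∀ a ∈ P, ∀ b ∈ P, a * b = b * a) ∧ P ⊓ A = centralizerIn S S ∧
      P = centralizerIn S S ⊔ Subgroup.zpowers x := by
    rcases h1 with h1 | ⟨h1, -⟩
    · exact h1
    · exact absurd hPc h1
  obtain ⟨N, hNdef⟩ : ∃ N, N = normalizerIn S P := ⟨_, rfl⟩
  have hNS : N ≤ S := hNdef ▸ normalizerIn_le
  have hPN : P ≤ N := hNdef ▸ le_normalizerIn hPS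
  have hNf : Finite N := finite_of_le hNS
  rw [← hNdef] at hN
  have hsN' : s ∈ N := by rw [hNdef]; exact ⟨hs, hsN⟩
  have hZP : centralizerIn S S ≤ P := le_trans (centralizerIn_anti hPS) hC
  have hcardP : Nat.card P = p * Nat.card (centralizerIn S S) := by
    rw [← hinf]; exact h.card_inf hPS (fun hle => hxA (hle hxP))
  have hα : ∀ x ∈ P, autFun α x = s * x * s⁻¹ := fun x hx => autFun_conjAut _ hx
  have hαA : α ∈ F.autGroup P := autInducedBy_le hPS le_rfl (conjAut_mem _ hs)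
  have hCf : ∀ x : P, x ∈ Cf α ↔ (x : Ω) ∈ centralizerIn S S := by
    intro y
    rw [mem_Cf]
    constructor
    · intro hy
      have h2 : s * y * s⁻¹ = y := by rw [← hα y y.2, autFun_coe, hy]
      by_contra hyZ
      have hyA : (y : Ω) ∉ A := fun hyA => hyZ (hinf ▸ (⟨y.2, hyA⟩ : (y : Ω) ∈ P ⊓ A))
      exact hsP (hZP (h.fix (hPS y.2) hyA hsA (mul_inv_eq_iff_eq_mul.1 h2).symm))
    · intro hy
      apply Subtype.ext
      rw [← autFun_coe, hα y y.2, ← (mem_centralizerIn.1 hy).2 s hs, mul_inv_cancel_right]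
  have hUle : (Um α).map P.subtype ≤ centralizerIn S S ⊓ ⁅S, S⁆ := by
    rintro _ ⟨w, hw, rfl⟩
    obtain ⟨y, rfl⟩ := mem_Um.1 hw
    have h2 : ((α y * y⁻¹ : P) : Ω) = s * y * s⁻¹ * (y : Ω)⁻¹ := by
      rw [Subgroup.coe_mul, ← autFun_coe, hα y y.2]; rfl
    have h3 : s * y * s⁻¹ * (y : Ω)⁻¹ ∈ ⁅S, S⁆ := by
      rw [← commutatorElement_def]
      exact Subgroup.commutator_mem_commutator hs (hPS y.2)
    refine ⟨?_, ?_⟩
    · show ((α y * y⁻¹ : P) : Ω) ∈ centralizerIn S S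
      rw [← hinf]
      exact ⟨(α y * y⁻¹ : P).2, by rw [h2]; exact h.D_le h3⟩
    · show ((α y * y⁻¹ : P) : Ω) ∈ ⁅S, S⁆
      rw [h2]; exact h3
  have hcardU : Nat.card (Um α) = p := by
    have h2 := card_map_ker (dl α) ⊤
    rw [Subgroup.card_top, top_inf_eq, ← MonoidHom.range_eq_map] at h2
    have h3 : (dl α).ker = (centralizerIn S S).subgroupOf P := by
      ext y; exact (hCf y)
    rw [h3, card_subgroupOf' hZP, hcardP, mul_comm] at h2
    exact (Nat.eq_of_mul_eq_mul_left hZpos h2).symm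
  have hUeq : (Um α).map P.subtype = centralizerIn S S ⊓ ⁅S, S⁆ := by
    have hfin : Finite (centralizerIn S S ⊓ ⁅S, S⁆ : Subgroup Ω) := finite_of_le inf_le_left
    apply eq_of_le_of_card hUle
    rw [hZD, ← hcardU]
    exact (Nat.card_congr ((Um α).equivMapOfInjective _ (Subgroup.subtype_injective P)).toEquiv).le
  have hUm : ∀ x : P, x ∈ Um α ↔ (x : Ω) ∈ centralizerIn S S ⊓ ⁅S, S⁆ := by
    intro y
    rw [← hUeq]
    constructor
    · intro hy; exact ⟨y, hy, rfl⟩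
    · rintro ⟨z, hz, hzy⟩
      have : z = y := Subtype.ext hzy
      exact this ▸ hz
  have hPp : IsPGroup p P := hS.to_le hPS
  have htv : IsTv p α := by
    refine ⟨?_, hcardU⟩
    apply pElement_of_chain hPp (U := Um α) (fun x => dl_mem_Um α x)
    intro u hu
    exact mem_Cf.1 ((hCf u).2 ((hUm u).1 hu).1)
  have hfn : F.IsFullyNormalized P := hPe.2.1
  have hαz : ∀ (n : ℤ), ∀ x ∈ P, autFun (α ^ n) x = s ^ n * x * (s ^ n)⁻¹ := by
    have hnat : ∀ (n : ℕ), ∀ x ∈ P, autFun (α ^ n) x = s ^ n * x * (s ^ n)⁻¹ := by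
      intro n
      induction n with
      | zero => intro x hx; rw [pow_zero, autFun_one hx, pow_zero]; simp
      | succ n ih =>
        intro x hx
        rw [pow_succ', autFun_mul _ _ hx, hα _ (autFun_mem _ hx), ih x hx, pow_succ']; group
    intro n x hx
    cases n with
    | ofNat n => rw [Int.ofNat_eq_natCast, zpow_natCast, zpow_natCast]; exact hnat n x hx
    | negSucc n =>
      rw [zpow_negSucc, zpow_negSucc]
      have h1 : (s ^ (n + 1))⁻¹ * x * (s ^ (n + 1))⁻¹⁻¹ ∈ P :=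
        (Subgroup.mem_normalizer_iff.1 (inv_mem (pow_mem hsN (n + 1))) x).1 hx
      have h2 := hnat (n + 1) _ h1
      have h3 : s ^ (n + 1) * ((s ^ (n + 1))⁻¹ * x * (s ^ (n + 1))⁻¹⁻¹) * (s ^ (n + 1))⁻¹ = x := by group
      rw [h3] at h2
      conv_lhs => rw [← h2]
      rw [autFun_inv_apply _ h1]
  have hconj : ∀ g ∈ N, ∃ n : ℤ, ∀ x ∈ P, g * x * g⁻¹ = s ^ n * x * (s ^ n)⁻¹ := by
    have hcj : ∀ g ∈ N, ∀ x ∈ P, g * x * g⁻¹ ∈ P := fun g hg x hx => by
      rw [hNdef] at hg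
      exact (Subgroup.mem_normalizer_iff.1 hg.2 x).1 hx
    let K : Subgroup Ω :=
      { carrier := {g | g ∈ N ∧ ∃ n : ℤ, ∀ x ∈ P, g * x * g⁻¹ = s ^ n * x * (s ^ n)⁻¹}
        one_mem' := ⟨one_mem _, 0, fun x _ => by simp⟩
        mul_mem' := by
          rintro g h ⟨hg, m, hm⟩ ⟨hh, n, hn⟩
          refine ⟨mul_mem hg hh, m + n, fun x hx => ?_⟩
          have h1 := hm _ (hcj (s ^ n) (zpow_mem hsN' n) x hx)
          have h2 : g * h * x * (g * h)⁻¹ = g * (h * x * h⁻¹) * g⁻¹ := by group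
          rw [h2, hn x hx, h1, zpow_add]; group
        inv_mem' := by
          rintro g ⟨hg, m, hm⟩
          refine ⟨inv_mem hg, -m, fun x hx => ?_⟩
          have h1 := hcj g⁻¹ (inv_mem hg) x hx
          have h2 := hm _ h1
          have h3 : g * (g⁻¹ * x * g⁻¹⁻¹) * g⁻¹ = x := by group
          rw [h3] at h2
          conv_rhs => rw [h2]
          rw [zpow_neg]; group }
    have h1 : N ≤ K := by
      apply le_of_prime_index hp.out hPN hN _ hsN' _ hsP
      · intro e he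
        refine ⟨hPN he, 0, fun x hx => ?_⟩
        rw [hPc e he x hx]; simp
      · exact ⟨hsN', 1, fun x _ => by rw [zpow_one]⟩
    intro g hg
    exact (h1 hg).2
  have hind : ∀ b ∈ autInducedBy S P, b ∈ Subgroup.zpowers α := by
    intro b hb
    obtain ⟨g, hg, h1⟩ := mem_autInducedBy'.1 hb
    have hgN : g ∈ N := by rw [hNdef]; exact ⟨hg, normalizer_of_autFun h1⟩
    obtain ⟨n, hn⟩ := hconj g hgN
    refine ⟨n, ?_⟩
    apply mulAut_ext
    intro x hx
    show autFun (α ^ n) x = autFun b x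
    rw [hαz n x hx, h1 x hx, hn x hx]
  have hord : Nat.card (Subgroup.zpowers α) = p := by
    rw [Nat.card_zpowers]
    exact orderOf_eq_prime htv.pow_p htv.ne_one
  have hsyl : ∀ B ≤ F.autGroup P, IsPGroup p B → Nat.card B ≤ p := by
    intro B hB hBp
    obtain ⟨β, hβ, h1⟩ := exists_conj_le_autInduced (FN.fa hS hF hfn) hB hBp
    rw [← hord]
    have hfin : Finite (Subgroup.zpowers α) := inferInstance
    refine Nat.card_le_card_of_injective (fun b : B => (⟨β * b * β⁻¹, hind _ (h1 b b.2)⟩ : Subgroup.zpowers α)) ?_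
    intro b c hbc
    have h2 : β * (b : MulAut P) * β⁻¹ = β * c * β⁻¹ := congrArg Subtype.val hbc
    exact Subtype.ext (mul_left_cancel (mul_right_cancel h2))
  refine ⟨htv, hαA, hsyl, ?_, ?_, hCf, hUm, hZP, inf_le_left.trans hZP⟩
  · by_contra hcon
    push Not at hcon
    apply hsP
    refine radical_chain hS hF (essential_radical hS hPe) hPe.1 (inf_le_left.trans hZP : centralizerIn S S ⊓ ⁅S, S⁆ ≤ P)
      ?_ hs hsN ?_ ?_
    · intro δ hδ u hu
      have huP : u ∈ P := hZP hu.1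
      have h1 : (⟨u, huP⟩ : P) ∈ Um α := (hUm _).2 hu
      have h2 : δ ⟨u, huP⟩ ∈ Um (δ * α * δ⁻¹) := by
        rw [mem_Um_conj, MulAut.inv_apply_self]; exact h1
      obtain ⟨n, hn⟩ := hcon δ hδ
      have hn' : α ^ n = δ * α * δ⁻¹ := hn
      rw [← hn'] at h2
      have h3 := Um_zpow_le α le_rfl htv.fix n h2
      rw [autFun_apply δ huP]
      exact (hUm _).1 h3
    · intro w hw
      rw [← (mem_centralizerIn.1 hw.1).2 s hs, mul_inv_cancel_right]
    · intro y hy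
      have h2 : y⁻¹ * (s * y * s⁻¹) = s * y * s⁻¹ * y⁻¹ :=
        hPc _ (inv_mem hy) _ ((Subgroup.mem_normalizer_iff.1 hsN y).1 hy)
      rw [h2, ← hUeq]
      refine ⟨⟨s * y * s⁻¹ * y⁻¹, mul_mem ((Subgroup.mem_normalizer_iff.1 hsN y).1 hy) (inv_mem hy)⟩, ?_, rfl⟩
      apply mem_Um.2
      refine ⟨⟨y, hy⟩, Subtype.ext ?_⟩
      rw [Subgroup.coe_mul, ← autFun_coe, hα y hy]; rfl
  · rintro γ hγ ⟨n, hn⟩
    have hn' : α ^ n = γ * α * γ⁻¹ := hn
    have hγm := mor_autFun hPS hγ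
    have him : img P (autFun γ) = P := img_autFun γ
    have hrec : F.IsReceptive (img P (autFun γ)) := by rw [him]; exact FN.rec hS hF hfn
    obtain ⟨g, hg, hgx⟩ := receptive_extend hrec hγm
    have hSN : N ≤ Nf S P (autFun γ) := by
      intro t ht
      rw [mem_Nf]
      have htN : t ∈ normalizerIn S P := hNdef ▸ ht
      refine ⟨htN.1, htN.2, ?_⟩
      obtain ⟨m, hm⟩ := hconj t ht
      refine ⟨s ^ (n * m), zpow_mem hs _, fun x hx => ?_⟩
      rw [hm x hx, ← hαz m x hx, ← hαz (n * m) _ (autFun_mem _ hx), ← autFun_mul _ _ hx,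
        ← autFun_mul _ _ hx]
      congr 1
      have h1 : γ * α ^ m * γ⁻¹ = α ^ (n * m) := by
        rw [← conj_zpow, ← hn', zpow_mul]
      rw [← h1, inv_mul_cancel_right]
    have hgN := hg.mono hSN
    rw [hNdef] at hgN
    obtain ⟨g', hg', hg'x⟩ := h.ext_norm hF hPe hPA hPc hgN
    exact ⟨g', hg', fun x hx => by rw [← hg'x x (le_normalizerIn hPS hx), hgx x hx]⟩

end

end Cfsg.Agent.H28
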