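import Mathlib
import Cfsg.Agent.H2.NPCFun3
import Cfsg.Agent.H28.Mach4

/-!
An axiomatic version of the ZJ theorem and of the Glauberman-Thompson criterion, for finite groups.
-/

set_option autoImplicit false
open Cfsg
open scoped commutatorElement

namespace Cfsg.Agent.H28

universe u

section
variable {G : Type*} [Group G] {p : ℕ}

/-- The intersection of the members of `𝒜` inside `Q`. -/
def AI (𝒜 : Set (Subgroup G)) (Q : Subgroup G) : Subgroup G := sInf {A | A ∈ 𝒜 ∧ A ≤ Q}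

/-- Axiomatic families. -/
structure AxFam (T D : Subgroup G) (𝒜 : Set (Subgroup G)) : Prop where
  leD : ∀ A ∈ 𝒜, A ≤ D
  DT : D ≤ T
  ab : ∀ A ∈ 𝒜, ∀ x ∈ A, ∀ y ∈ A, x * y = y * x
  ne : 𝒜.Nonempty
  inv : ∀ Q ≤ T, (∃ A ∈ 𝒜, A ≤ Q) →
    Subgroup.normalizer (Q : Set G) ≤ Subgroup.normalizer ((AI 𝒜 Q : Subgroup G) : Set G)
  sc : ∀ g : G, ∀ x ∈ D, g * x * g⁻¹ ∈ T → g * x * g⁻¹ ∈ D
  rep : ∀ B ≤ D, T ≤ Subgroup.normalizer (B : Set G) → ⁅⁅B, B⁆, B⁆ = ⊥ →
    (∃ U ∈ 𝒜, ⁅B, B⁆ ≤ U ∧ ¬ B ≤ U) →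
    ∃ A ∈ 𝒜, ⁅B, B⁆ ≤ A ∧ ¬ B ≤ A ∧ B ≤ Subgroup.normalizer (A : Set G)

theorem AI_le {𝒜 : Set (Subgroup G)} {A Q : Subgroup G} (hA : A ∈ 𝒜) (hAQ : A ≤ Q) : AI 𝒜 Q ≤ A :=
  sInf_le ⟨hA, hAQ⟩

theorem AI_anti {𝒜 : Set (Subgroup G)} {Q R : Subgroup G} (h : Q ≤ R) : AI 𝒜 R ≤ AI 𝒜 Q :=
  le_sInf fun _ hA => sInf_le ⟨hA.1, hA.2.trans h⟩

namespace AxFam
variable {T D : Subgroup G} {𝒜 : Set (Subgroup G)} (hF : AxFam T D 𝒜)
include hF

theorem leT {A : Subgroup G} (hA : A ∈ 𝒜) : A ≤ T := (hF.leD A hA).trans hF.DT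

theorem I_le : AI 𝒜 T ≤ D := by
  obtain ⟨A, hA⟩ := hF.ne
  exact (AI_le hA (hF.leT hA)).trans (hF.leD A hA)

theorem I_comm : ∀ x ∈ AI 𝒜 T, ∀ y ∈ AI 𝒜 T, x * y = y * x := by
  obtain ⟨A, hA⟩ := hF.ne
  intro x hx y hy
  exact hF.ab A hA x (AI_le hA (hF.leT hA) hx) y (AI_le hA (hF.leT hA) hy)

theorem I_norm : T ≤ Subgroup.normalizer ((AI 𝒜 T : Subgroup G) : Set G) := by
  obtain ⟨A, hA⟩ := hF.ne
  exact Subgroup.le_normalizer.trans (hF.inv T le_rfl ⟨A, hA, hF.leT hA⟩)

end AxFam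
end

section
variable {G : Type*} [Group G] {p : ℕ}

theorem ax_inf_normal [Finite G] [Fact p.Prime] (S : Sylow p G) {D : Subgroup G}
    {𝒜 : Set (Subgroup G)} (hF : AxFam (S : Subgroup G) D 𝒜)
    (hst : ∀ (P : Subgroup G) [P.Normal], IsPGroup p P → IsPStableOn p P) (n : ℕ) :
    ∀ (B : Subgroup G) [B.Normal], IsPGroup p B → Nat.card B = n →
      (AI 𝒜 (S : Subgroup G) ⊓ B).Normal := by
  induction n using Nat.strong_induction_on with
  | _ n ih =>
  intro B hBn hBp hcard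
  have hBS : B ≤ (S : Subgroup G) := hBp.le_sylow_of_normal S
  obtain ⟨Z, hZ⟩ : ∃ Z, Z = AI 𝒜 (S : Subgroup G) := ⟨_, rfl⟩
  have hZD : Z ≤ D := hZ ▸ hF.I_le
  have hZS : Z ≤ (S : Subgroup G) := hZD.trans hF.DT
  have hZc : ∀ x ∈ Z, ∀ y ∈ Z, x * y = y * x := hZ ▸ hF.I_comm
  have hZn : (S : Subgroup G) ≤ Subgroup.normalizer (Z : Set G) := hZ ▸ hF.I_norm
  rw [← hZ]
  by_cases hB1 : B = ⊥
  · rw [hB1, inf_bot_eq]; infer_instance
  -- the normal closure of Z ∩ B
  obtain ⟨B₁, hB₁⟩ : ∃ B₁, B₁ = Subgroup.normalClosure ((Z ⊓ B : Subgroup G) : Set G) := ⟨_, rfl⟩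
  haveI hB₁n : B₁.Normal := by rw [hB₁]; infer_instance
  have hle1 : B₁ ≤ B := by
    rw [hB₁]
    exact Subgroup.normalClosure_le_normal (inf_le_right : Z ⊓ B ≤ B)
  have hle2 : Z ⊓ B ≤ B₁ := by rw [hB₁]; exact Subgroup.subset_normalClosure
  by_cases hlt : B₁ < B
  · have h1 : Nat.card B₁ < Nat.card B :=
      lt_of_le_of_ne (Subgroup.card_le_of_le hle1)
        (fun h => hlt.ne (Subgroup.eq_of_le_of_card_ge hle1 h.ge))
    have h2 := ih _ (hcard ▸ h1) B₁ (hBp.to_le hle1) rfl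
    rw [← hZ] at h2
    have h3 : Z ⊓ B₁ = Z ⊓ B := le_antisymm (inf_le_inf_left Z hle1) (le_inf inf_le_left hle2)
    rwa [h3] at h2
  have hB₁B : B₁ = B := eq_of_le_of_not_lt hle1 hlt
  -- B' < B
  have hder : ⁅B, B⁆ < B := by
    refine lt_of_le_of_ne (Subgroup.commutator_le_left B B) ?_
    intro h
    exact hB1 (H18.eq_bot_of_commutator_eq hBp hBp Subgroup.le_normalizer h.ge)
  have hK : (Z ⊓ ⁅B, B⁆).Normal := by
    have h1 : Nat.card (⁅B, B⁆ : Subgroup G) < Nat.card B :=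
      lt_of_le_of_ne (Subgroup.card_le_of_le hder.le)
        (fun h => hder.ne (Subgroup.eq_of_le_of_card_ge hder.le h.ge))
    have h2 := ih _ (hcard ▸ h1) ⁅B, B⁆ (hBp.to_le hder.le) rfl
    rwa [← hZ] at h2
  have hBc : B = Subgroup.closure (Group.conjugatesOfSet ((Z ⊓ B : Subgroup G) : Set G)) :=
    hB₁B.symm.trans hB₁
  -- B ≤ D
  have hBD : B ≤ D := by
    rw [hBc, Subgroup.closure_le]
    intro x hx
    obtain ⟨z, hz, hzx⟩ := Group.mem_conjugatesOfSet_iff.1 hx
    obtain ⟨g, rfl⟩ := _root_.isConj_iff.1 hzx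
    exact hF.sc g z (hZD (Subgroup.mem_inf.1 hz).1) (hBS (hBn.conj_mem z (Subgroup.mem_inf.1 hz).2 g))
  -- B' ≤ Z
  have hderZ : ⁅B, B⁆ ≤ Z := by
    refine le_trans ?_ (inf_le_left : Z ⊓ ⁅B, B⁆ ≤ Z)
    have hnorm : ∀ x : G, x ∈ Subgroup.normalizer ((Z ⊓ ⁅B, B⁆ : Subgroup G) : Set G) := by
      intro x; rw [Subgroup.normalizer_eq_top]; exact Subgroup.mem_top x
    have h1 : ⁅Subgroup.closure (Group.conjugatesOfSet ((Z ⊓ B : Subgroup G) : Set G)),
        Subgroup.closure (B : Set G)⁆ ≤ Z ⊓ ⁅B, B⁆ := by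
      apply H2.commutator_closure_le (fun x _ => hnorm x) (fun x _ => hnorm x)
      intro x hx y hy
      obtain ⟨z, hz, hzx⟩ := Group.mem_conjugatesOfSet_iff.1 hx
      obtain ⟨g, rfl⟩ := _root_.isConj_iff.1 hzx
      have e1 : ⁅g * z * g⁻¹, y⁆ = g * ⁅z, g⁻¹ * y * g⁆ * g⁻¹ := by
        simp only [commutatorElement_def]; group
      rw [e1]
      refine hK.conj_mem _ ?_ g
      have hzZ : z ∈ Z := (Subgroup.mem_inf.1 hz).1
      have hzB : z ∈ B := (Subgroup.mem_inf.1 hz).2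
      have hyB : g⁻¹ * y * g ∈ B := by
        have := hBn.conj_mem y hy g⁻¹
        rwa [inv_inv] at this
      refine Subgroup.mem_inf.2 ⟨?_, Subgroup.commutator_mem_commutator hzB hyB⟩
      have e2 : ⁅z, g⁻¹ * y * g⁆ = z * ((g⁻¹ * y * g) * z⁻¹ * (g⁻¹ * y * g)⁻¹) := by
        rw [commutatorElement_def]; group
      rw [e2]
      exact mul_mem hzZ ((Subgroup.mem_normalizer_iff.1 (hZn (hBS hyB)) _).1 (inv_mem hzZ))
    rw [← hBc, Subgroup.closure_eq] at h1
    exact h1
  -- class at most two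
  have hcl2 : ⁅⁅B, B⁆, B⁆ = ⊥ := by
    rw [Subgroup.commutator_eq_bot_iff_le_centralizer, Subgroup.le_centralizer_iff]
    conv_lhs => rw [hBc]
    rw [Subgroup.closure_le]
    intro x hx
    obtain ⟨z, hz, hzx⟩ := Group.mem_conjugatesOfSet_iff.1 hx
    obtain ⟨g, rfl⟩ := _root_.isConj_iff.1 hzx
    rw [SetLike.mem_coe, Subgroup.mem_centralizer_iff]
    intro c hc
    have hc1 : g⁻¹ * c * g ∈ ⁅B, B⁆ := by
      have hn : (⁅B, B⁆ : Subgroup G).Normal := inferInstance
      have := hn.conj_mem c hc g⁻¹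
      rwa [inv_inv] at this
    have h2 := hZc _ (hderZ hc1) z (Subgroup.mem_inf.1 hz).1
    calc c * (g * z * g⁻¹) = g * ((g⁻¹ * c * g) * z) * g⁻¹ := by group
      _ = g * (z * (g⁻¹ * c * g)) * g⁻¹ := by rw [h2]
      _ = g * z * g⁻¹ * c := by group
  -- are all members above B?
  by_cases hall : ∀ A ∈ 𝒜, B ≤ A
  · have h1 : B ≤ Z := by rw [hZ]; exact le_sInf fun A hA => hall A hA.1
    rw [inf_eq_right.2 h1]; exact hBn
  push Not at hall
  obtain ⟨U, hU, hBU⟩ := hall
  obtain ⟨A, hA, _, hBA, hBNA⟩ := hF.rep B hBD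
    (by rw [Subgroup.normalizer_eq_top]; exact le_top) hcl2
    ⟨U, hU, hderZ.trans (hZ ▸ AI_le hU (hF.leT hU)), hBU⟩
  exfalso
  apply hBA
  have hAc := hF.ab _ hA
  have hAS : A ≤ (S : Subgroup G) := hF.leT hA
  -- A acts quadratically on B
  have hBA' : ⁅B, A⁆ ≤ A := Subgroup.le_normalizer_iff_commutator_le_right.1 hBNA
  obtain ⟨C, hC⟩ : ∃ C, C = Subgroup.centralizer (B : Set G) := ⟨_, rfl⟩
  haveI hCn : C.Normal := by rw [hC]; infer_instance
  have hAL : ∀ a ∈ A, (QuotientGroup.mk a : G ⧸ C) ∈ pCore p (G ⧸ C) := by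
    subst hC
    intro a ha
    exact hst B hBp a (by
      rw [eq_bot_iff]
      have hza : Subgroup.zpowers a ≤ A := by rwa [Subgroup.zpowers_le]
      have h2 : ⁅⁅B, Subgroup.zpowers a⁆, Subgroup.zpowers a⁆ ≤ ⁅A, A⁆ :=
        Subgroup.commutator_mono ((Subgroup.commutator_mono le_rfl hza).trans hBA') hza
      refine h2.trans ?_
      rw [Subgroup.commutator_le]
      intro x hx y hy
      rw [commutatorElement_eq_one_iff_mul_comm.2 (hAc x hx y hy)]
      exact one_mem _)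
  obtain ⟨L, hL⟩ : ∃ L, L = (pCore p (G ⧸ C)).comap (QuotientGroup.mk' C) := ⟨_, rfl⟩
  haveI hLn : L.Normal := by rw [hL]; infer_instance
  have hAleL : A ≤ L := by
    intro a ha
    rw [hL]; exact hAL a ha
  have hCL : C ≤ L := by
    intro c hc
    rw [hL, Subgroup.mem_comap]
    have : QuotientGroup.mk' C c = 1 := (QuotientGroup.eq_one_iff c).2 hc
    rw [this]; exact one_mem _
  obtain ⟨T, hT⟩ : ∃ T, T = (S : Subgroup G) ⊓ L := ⟨_, rfl⟩
  have hAT : A ≤ T := by rw [hT]; exact le_inf hAS hAleL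
  have hTS : T ≤ (S : Subgroup G) := by rw [hT]; exact inf_le_left
  have hZT : Z ≤ AI 𝒜 T := by rw [hZ]; exact AI_anti hTS
  have hTn := hF.inv T hTS ⟨A, hA, hAT⟩
  -- X = Zf T ∩ B is normal in G
  have hXn : (AI 𝒜 T ⊓ B).Normal := by
    constructor
    intro x hx g
    obtain ⟨n, hn, y, hy, rfl⟩ := H2.exists_frattini' S L g
    rw [← hT] at hn
    have hy' : (QuotientGroup.mk y : G ⧸ C) ∈ pCore p (G ⧸ C) := by
      rw [hL] at hy; exact hy
    obtain ⟨s, hs, c, hc, rfl⟩ := H2.exists_mul_of_mem_pCore_quotient S hy'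
    have hsL : s ∈ L := by
      have := mul_mem hy (inv_mem (hCL hc))
      rwa [mul_inv_cancel_right] at this
    have hsT : s ∈ T := by rw [hT]; exact Subgroup.mem_inf.2 ⟨hs, hsL⟩
    have hcx : c * x * c⁻¹ = x := by
      rw [hC] at hc
      have := H2.comm_of_mem_centralizer hc (Subgroup.mem_inf.1 hx).2
      rw [← this, mul_inv_cancel_right]
    have e1 : n * (s * c) * x * (n * (s * c))⁻¹ = (n * s) * (c * x * c⁻¹) * (n * s)⁻¹ := by group
    rw [e1, hcx]
    refine Subgroup.mem_inf.2 ⟨?_, hBn.conj_mem _ (Subgroup.mem_inf.1 hx).2 _⟩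
    exact H2.conj_mem_of_norm (hTn (mul_mem hn (Subgroup.le_normalizer hsT)))
      (Subgroup.mem_inf.1 hx).1
  have hBX : B ≤ AI 𝒜 T ⊓ B := by
    have h1 : B₁ ≤ AI 𝒜 T ⊓ B := by
      rw [hB₁]
      haveI := hXn
      apply Subgroup.normalClosure_le_normal
      intro x hx
      have hx' := Subgroup.mem_inf.1 hx
      exact Subgroup.mem_inf.2 ⟨hZT hx'.1, hx'.2⟩
    exact hB₁B.symm.le.trans h1
  exact (hBX.trans inf_le_left).trans (AI_le hA hAT)

theorem ax_normal [Finite G] [Fact p.Prime] (S : Sylow p G) {D : Subgroup G}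
    {𝒜 : Set (Subgroup G)} (hF : AxFam (S : Subgroup G) D 𝒜)
    (hc : Subgroup.centralizer (pCore p G : Set G) ≤ pCore p G)
    (hst : ∀ (P : Subgroup G) [P.Normal], IsPGroup p P → IsPStableOn p P) :
    (AI 𝒜 (S : Subgroup G)).Normal := by
  have h1 := ax_inf_normal S hF hst _ (pCore p G) (H18.isPGroup_pCore p G) rfl
  have h2 : AI 𝒜 (S : Subgroup G) ≤ pCore p G := by
    intro z hz
    apply H2.mem_pCore_of_quad hc (hst _ (H18.isPGroup_pCore p G))
    rw [eq_bot_iff]
    have hza : Subgroup.zpowers z ≤ AI 𝒜 (S : Subgroup G) := by rwa [Subgroup.zpowers_le]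
    have h3 : ⁅pCore p G, AI 𝒜 (S : Subgroup G)⁆ ≤ AI 𝒜 (S : Subgroup G) := by
      rw [← Subgroup.le_normalizer_iff_commutator_le_right]
      exact (H18.pCore_le_sylow S).trans hF.I_norm
    have h4 : ⁅⁅pCore p G, Subgroup.zpowers z⁆, Subgroup.zpowers z⁆ ≤
        ⁅AI 𝒜 (S : Subgroup G), AI 𝒜 (S : Subgroup G)⁆ :=
      Subgroup.commutator_mono ((Subgroup.commutator_mono le_rfl hza).trans h3) hza
    refine h4.trans ?_
    rw [Subgroup.commutator_le]
    intro x hx y hy
    rw [commutatorElement_eq_one_iff_mul_comm.2 (hF.I_comm x hx y hy)]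
    exact one_mem _
  rwa [inf_eq_left.2 h2] at h1

/-- Restriction of the family to an overgroup of the Sylow subgroup. -/
theorem AxFam.restrict {T D X : Subgroup G} {𝒜 : Set (Subgroup G)} (hF : AxFam T D 𝒜) (hTX : T ≤ X) :
    AxFam (T.subgroupOf X) (D.subgroupOf X) {A : Subgroup X | A.map X.subtype ∈ 𝒜} := by
  have hmap : ∀ A ∈ 𝒜, (A.subgroupOf X).map X.subtype = A := fun A hA =>
    Subgroup.map_subgroupOf_eq_of_le ((hF.leT hA).trans hTX)
  have hAI : ∀ Q : Subgroup X, (∃ A : Subgroup X, A.map X.subtype ∈ 𝒜 ∧ A ≤ Q) →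
      (AI {A : Subgroup X | A.map X.subtype ∈ 𝒜} Q).map X.subtype = AI 𝒜 (Q.map X.subtype) := by
    rintro Q ⟨A₀, hA₀, hA₀Q⟩
    apply le_antisymm
    · refine le_sInf fun A hA => ?_
      rw [← hmap A hA.1]
      refine Subgroup.map_mono (sInf_le ⟨?_, ?_⟩)
      · show (A.subgroupOf X).map X.subtype ∈ 𝒜
        rw [hmap A hA.1]; exact hA.1
      · rw [← Subgroup.map_le_map_iff_of_injective X.subtype_injective, hmap A hA.1]
        exact hA.2
    · intro x hx
      have h1 : x ∈ A₀.map X.subtype := AI_le hA₀ (Subgroup.map_mono hA₀Q) hx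
      obtain ⟨y, -, rfl⟩ := h1
      refine ⟨y, ?_, rfl⟩
      rw [SetLike.mem_coe, AI, Subgroup.mem_sInf]
      intro A hA
      have h2 : X.subtype y ∈ A.map X.subtype :=
        AI_le (show A.map X.subtype ∈ 𝒜 from hA.1) (Subgroup.map_mono hA.2) hx
      exact (Subgroup.mem_map_iff_mem X.subtype_injective).1 h2
  refine ⟨?_, ?_, ?_, ?_, ?_, ?_, ?_⟩
  · intro A hA
    rw [← Subgroup.map_le_map_iff_of_injective X.subtype_injective,
      Subgroup.map_subgroupOf_eq_of_le (hF.DT.trans hTX)]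
    exact hF.leD _ hA
  · exact fun x hx => hF.DT hx
  · intro A hA x hx y hy
    exact Subtype.ext (hF.ab _ hA x ⟨x, hx, rfl⟩ y ⟨y, hy, rfl⟩)
  · obtain ⟨A, hA⟩ := hF.ne
    refine ⟨A.subgroupOf X, ?_⟩
    show (A.subgroupOf X).map X.subtype ∈ 𝒜
    rw [hmap A hA]; exact hA
  · rintro Q hQ ⟨A, hA, hAQ⟩ g hg
    have hQT : Q.map X.subtype ≤ T := by
      rw [← Subgroup.map_subgroupOf_eq_of_le hTX]; exact Subgroup.map_mono hQ
    have h1 := hF.inv _ hQT ⟨_, hA, Subgroup.map_mono hAQ⟩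
      (Subgroup.le_normalizer_map X.subtype ⟨g, hg, rfl⟩)
    rw [← hAI Q ⟨A, hA, hAQ⟩] at h1
    rw [Subgroup.mem_normalizer_iff] at h1 ⊢
    intro x
    have h2 := h1 x
    constructor
    · intro hx
      obtain ⟨y, hy, hy'⟩ := h2.1 ⟨x, hx, rfl⟩
      have : y = g * x * g⁻¹ := Subtype.ext hy'
      rwa [← this]
    · intro hx
      obtain ⟨y, hy, hy'⟩ := h2.2 ⟨_, hx, rfl⟩
      have : y = x := Subtype.ext hy'
      rwa [← this]
  · intro g x hx h
    exact hF.sc g x hx h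
  · intro B hB hT hcl ⟨U, hU, h1, h2⟩
    have hTm : T ≤ Subgroup.normalizer ((B.map X.subtype : Subgroup G) : Set G) := by
      intro t ht
      exact Subgroup.le_normalizer_map X.subtype ⟨⟨t, hTX ht⟩, hT ht, rfl⟩
    have hBD : B.map X.subtype ≤ D := by
      rw [← Subgroup.map_subgroupOf_eq_of_le (hF.DT.trans hTX)]; exact Subgroup.map_mono hB
    obtain ⟨A, hA, h3, h4, h5⟩ := hF.rep (B.map X.subtype) hBD hTm (by
      rw [← Subgroup.map_commutator, ← Subgroup.map_commutator, hcl, Subgroup.map_bot])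
      ⟨U.map X.subtype, hU, by rw [← Subgroup.map_commutator]; exact Subgroup.map_mono h1,
        fun h => h2 ((Subgroup.map_le_map_iff_of_injective X.subtype_injective).1 h)⟩
    refine ⟨A.subgroupOf X, ?_, ?_, ?_, ?_⟩
    · show (A.subgroupOf X).map X.subtype ∈ 𝒜
      rw [hmap A hA]; exact hA
    · rw [← Subgroup.map_le_map_iff_of_injective X.subtype_injective, hmap A hA,
        Subgroup.map_commutator]
      exact h3
    · intro h
      apply h4
      rw [← hmap A hA]; exact Subgroup.map_mono h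
    · intro b hb
      have h6 := h5 ⟨b, hb, rfl⟩
      rw [Subgroup.mem_normalizer_iff] at h6 ⊢
      intro x
      exact h6 x

end

/-- The axiomatic Glauberman-Thompson theorem, for groups of characteristic `p`. -/
theorem ax_npc {p : ℕ} [hp : Fact p.Prime] (hp2 : p ≠ 2) (n : ℕ) :
    ∀ (G : Type u) [Group G] [Finite G], Nat.card G = n → ∀ (S : Sylow p G) (D : Subgroup G)
      (𝒜 : Set (Subgroup G)), AxFam (S : Subgroup G) D 𝒜 →
      Subgroup.centralizer (pCore p G : Set G) ≤ pCore p G →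
      HasNormalPComplement p ↥(Subgroup.normalizer ((AI 𝒜 (S : Subgroup G) : Subgroup G) : Set G)) →
      HasNormalPComplement p G := by
  induction n using Nat.strong_induction_on with
  | _ n ih =>
  intro G _ _ hcard S D 𝒜 hF hc hN
  by_contra hG
  have hcore : pCore p G ≠ ⊥ := by
    intro h
    apply hG
    rw [h] at hc
    have h1 : (⊤ : Subgroup G) = ⊥ := by
      rw [eq_bot_iff]
      refine le_trans ?_ hc
      intro x _
      rw [Subgroup.mem_centralizer_iff]
      intro y hy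
      rw [Subgroup.coe_bot, Set.mem_singleton_iff] at hy
      rw [hy, one_mul, mul_one]
    apply H2.HasNormalPComplement.of_not_dvd
    have h2 : Nat.card G = 1 := by
      rw [← Subgroup.card_top, h1, Subgroup.card_bot]
    rw [h2]
    exact hp.out.one_lt.not_ge ∘ Nat.le_of_dvd one_pos
  have hcoreS : pCore p G ≤ (S : Subgroup G) := H18.pCore_le_sylow S
  have hsubS : ∀ X : Subgroup G, X ≠ ⊤ → (S : Subgroup G) ≤ X → HasNormalPComplement p X := by
    intro X hX hSX
    have h1 : ((S.subtype hSX : Sylow p X) : Subgroup X) = (S : Subgroup G).subgroupOf X := rfl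
    refine ih (Nat.card X) (hcard ▸ H2.card_sub_lt hX) X rfl (S.subtype hSX) (D.subgroupOf X) _
      (by rw [h1]; exact hF.restrict hSX) ?_ ?_
    · -- characteristic p
      have h2 : (pCore p G).subgroupOf X ≤ pCore p X := by
        apply H18.le_pCore inferInstance
        exact (H18.isPGroup_pCore p G).of_injective
          (Subgroup.subgroupOfEquivOfLe (hcoreS.trans hSX)).toMonoidHom
          (Subgroup.subgroupOfEquivOfLe (hcoreS.trans hSX)).injective
      intro x hx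
      apply h2
      rw [Subgroup.mem_subgroupOf]
      apply hc
      rw [Subgroup.mem_centralizer_iff] at hx ⊢
      intro y hy
      exact congrArg Subtype.val (hx ⟨y, hSX (hcoreS hy)⟩ (h2 hy))
    · rw [h1]
      have h3 : ∀ x : ↥(Subgroup.normalizer ((AI {A : Subgroup X | A.map X.subtype ∈ 𝒜}
          ((S : Subgroup G).subgroupOf X) : Subgroup X) : Set X)),
          ((x : X) : G) ∈ Subgroup.normalizer ((AI 𝒜 (S : Subgroup G) : Subgroup G) : Set G) := by
        intro x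
        have h4 := Subgroup.le_normalizer_map X.subtype ⟨(x : X), x.2, rfl⟩
        have h5 : (AI {A : Subgroup X | A.map X.subtype ∈ 𝒜} ((S : Subgroup G).subgroupOf X)).map
            X.subtype = AI 𝒜 (S : Subgroup G) := by
          obtain ⟨A₀, hA₀⟩ := hF.ne
          apply le_antisymm
          · refine le_sInf fun A hA => ?_
            rw [← Subgroup.map_subgroupOf_eq_of_le (hA.2.trans hSX)]
            refine Subgroup.map_mono (sInf_le ⟨?_, fun x hx => hA.2 hx⟩)
            show (A.subgroupOf X).map X.subtype ∈ 𝒜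
            rw [Subgroup.map_subgroupOf_eq_of_le (hA.2.trans hSX)]; exact hA.1
          · intro x hx
            have h1 : x ∈ X := hSX (hF.leT hA₀ (AI_le hA₀ (hF.leT hA₀) hx))
            refine ⟨⟨x, h1⟩, ?_, rfl⟩
            rw [SetLike.mem_coe, AI, Subgroup.mem_sInf]
            intro A hA
            have h2 : x ∈ A.map X.subtype :=
              AI_le (show A.map X.subtype ∈ 𝒜 from hA.1) (hF.leT hA.1) hx
            obtain ⟨y, hy, hy'⟩ := h2
            have : y = ⟨x, h1⟩ := Subtype.ext hy'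
            rwa [← this]
        rw [h5] at h4
        exact h4
      refine H2.HasNormalPComplement.of_injective hN
        ((X.subtype.comp (Subgroup.subtype _)).codRestrict _ h3) ?_
      intro x y hxy
      have h4 := congrArg Subtype.val hxy
      exact Subtype.ext (Subtype.ext h4)
  -- the quotient
  have hPp : IsPGroup p (pCore p G) := H18.isPGroup_pCore p G
  have hquot : HasNormalPComplement p (G ⧸ pCore p G) := by
    obtain ⟨P, hPdef⟩ : ∃ P, P = pCore p G := ⟨_, rfl⟩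
    haveI hPn : P.Normal := by rw [hPdef]; infer_instance
    have key : HasNormalPComplement p (G ⧸ P) := by
      obtain ⟨Sb, hSb⟩ : ∃ Sb : Sylow p (G ⧸ P), Sb = S.mapSurjective (QuotientGroup.mk'_surjective P) :=
        ⟨_, rfl⟩
      have hSbc : (Sb : Subgroup (G ⧸ P)) = (S : Subgroup G).map (QuotientGroup.mk' P) := by
        rw [hSb]; exact Sylow.coe_mapSurjective _ _
      by_cases hSb1 : (Sb : Subgroup (G ⧸ P)) = ⊥
      · apply H2.HasNormalPComplement.of_not_dvd
        intro hd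
        have h1 := Sb.not_dvd_index
        rw [hSb1, Subgroup.index_bot] at h1
        exact h1 hd
      · have hW := npcFun_ZJaF.{u} (p := p) hp2
        refine H2.npc_functor hp2 hW _ Sb ?_
        obtain ⟨Wb, hWb⟩ : ∃ Wb, Wb = H2.WA (fun (S : Type u) [Group S] => ZJaF S)
          (Sb : Subgroup (G ⧸ P)) := ⟨_, rfl⟩
        have hle : Subgroup.normalizer ((Sb : Subgroup (G ⧸ P)) : Set (G ⧸ P)) ≤
            Subgroup.normalizer (Wb : Set (G ⧸ P)) := hWb ▸ hW.normalizer_le _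
        have hWb1 : Wb ≠ ⊥ := hWb ▸ hW.WA_ne_bot Sb.2 hSb1
        have hWbp : IsPGroup p Wb := Sb.2.to_le (hWb ▸ H2.WA_le _)
        rw [← hWb]
        have hSbN : (Sb : Subgroup (G ⧸ P)) ≤ Subgroup.normalizer (Wb : Set (G ⧸ P)) :=
          Subgroup.le_normalizer.trans hle
        have hXtop : (Subgroup.normalizer (Wb : Set (G ⧸ P))).comap (QuotientGroup.mk' P) ≠ ⊤ := by
          intro h
          rw [Subgroup.comap_normalizer_eq_of_surjective _ (QuotientGroup.mk'_surjective P)] at h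
          have h1 : (Wb.comap (QuotientGroup.mk' P)).Normal := Subgroup.normalizer_eq_top_iff.1 h
          have h2 : IsPGroup p (Wb.comap (QuotientGroup.mk' P)) := by
            rw [H18.isPGroup_iff_mem]
            intro x hx
            obtain ⟨i, hi⟩ := H18.isPGroup_of_mem hWbp (Subgroup.mem_comap.1 hx)
            rw [← map_pow] at hi
            have h3 : x ^ p ^ i ∈ P := (QuotientGroup.eq_one_iff _).1 hi
            rw [hPdef] at h3
            obtain ⟨j, hj⟩ := H18.isPGroup_of_mem hPp h3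
            exact ⟨i + j, by rw [pow_add, pow_mul]; exact hj⟩
          have h3 := H18.le_pCore h1 h2
          apply hWb1
          rw [eq_bot_iff]
          intro w hw
          obtain ⟨x, rfl⟩ := QuotientGroup.mk'_surjective P w
          have h4 : x ∈ pCore p G := h3 hw
          rw [← hPdef] at h4
          exact (QuotientGroup.eq_one_iff x).2 h4
        have h1 := hsubS _ hXtop (by
          rw [← Subgroup.map_le_iff_le_comap, ← hSbc]
          exact hSbN)
        have h2 : ((Subgroup.normalizer (Wb : Set (G ⧸ P))).comap (QuotientGroup.mk' P)).map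
            (QuotientGroup.mk' P) = Subgroup.normalizer (Wb : Set (G ⧸ P)) :=
          Subgroup.map_comap_eq_self_of_surjective (QuotientGroup.mk'_surjective P) _
        rw [← h2]
        exact H2.HasNormalPComplement.of_surjective h1 ((QuotientGroup.mk' P).subgroupMap _)
          (MonoidHom.subgroupMap_surjective _ _)
    subst hPdef
    exact key
  have hsolv : IsPSolvable p G :=
    H23.isPSolvable_of_quotient (pCore p G) (Or.inl (IsPGroup.iff_card.1 hPp))
      (H2.isPSolvable_of_npc hquot)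
  have h2 := H2.sylow_two_comm_of_minimal hp2 hcore hc hquot S hsubS
  have h3 := ax_normal S hF hc (fun P _ hP =>
    H2.isPStableOn_of_not_SLConcl hp2 (H2.not_SLConcl_of_ab h2) P hP)
  rw [Subgroup.normalizer_eq_top_iff.2 h3] at hN
  exact hG ((H2.hasNormalPComplement_congr Subgroup.topEquiv).1 hN)

end Cfsg.Agent.H28
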