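import Mathlib
import Cfsg.Prelude.Def_FusionSystem
import Cfsg.Prelude.Def_FusionReduction
import Cfsg.Agent.H28.AxZJ
import Cfsg.Agent.H28.Mach10

/-!
An axiomatic version of the Glauberman-Thompson criterion, for fusion systems.
-/

set_option autoImplicit false
open Cfsg Cfsg.FusionSystem
open scoped commutatorElement

namespace Cfsg.Agent.H28

universe u v w

section
variable {Ω : Type u} [Group Ω] {S T : Subgroup Ω} {F E D' : FusionSystem S} {P Q R V U X D : Subgroup Ω}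
  {f g k χ : Ω → Ω} {x y s t : Ω} {p : ℕ} {G : Type v} [Group G] {ι : S →* G} {𝒜 : Set (Subgroup Ω)}

structure AxFamF (F : FusionSystem S) (D : Subgroup Ω) (𝒜 : Set (Subgroup Ω)) : Prop where
  leD : ∀ A ∈ 𝒜, A ≤ D
  ab : ∀ A ∈ 𝒜, ∀ x ∈ A, ∀ y ∈ A, x * y = y * x
  ne : 𝒜.Nonempty
  inv : ∀ Q ≤ S, (∃ A ∈ 𝒜, A ≤ Q) → ∀ g, Mor F Q g → img Q g = Q → ∀ x ∈ AI 𝒜 Q, g x ∈ AI 𝒜 Q
  sc : F.StronglyClosed D
  rep : ∀ B ≤ D, S ≤ Subgroup.normalizer (B : Set Ω) → ⁅⁅B, B⁆, B⁆ = ⊥ →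
    (∃ U ∈ 𝒜, ⁅B, B⁆ ≤ U ∧ ¬ B ≤ U) →
    ∃ A ∈ 𝒜, ⁅B, B⁆ ≤ A ∧ ¬ B ≤ A ∧ B ≤ Subgroup.normalizer (A : Set Ω)

theorem AxFamF.mono (h : AxFamF F D 𝒜) (hE : E ≤ F) : AxFamF E D 𝒜 where
  leD := h.leD
  ab := h.ab
  ne := h.ne
  inv := fun Q hQ hA g hg => h.inv Q hQ hA g (le_iff_mor.1 hE _ _ hg)
  sc := by
    have h1 := stronglyClosed_iff.1 h.sc
    exact stronglyClosed_iff.2 ⟨h1.1, fun R f hR hf => h1.2 R f hR (le_iff_mor.1 hE _ _ hf)⟩
  rep := h.rep

theorem AI_leS (h : AxFamF F D 𝒜) : AI 𝒜 S ≤ D := by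
  obtain ⟨A, hA⟩ := h.ne
  exact (AI_le hA ((h.leD A hA).trans h.sc.1)).trans (h.leD A hA)

theorem preimage_image_inj (hι : Function.Injective ι) (hP : P ≤ S) :
    preimageAlong ι (imageAlong ι P) = P := by
  ext x
  rw [mem_preimageAlong, mem_imageAlong]
  constructor
  · rintro ⟨hx, y, hy, hyP, h⟩
    rw [← tf_inj hι hy hx h]; exact hyP
  · intro hx
    exact ⟨hP hx, x, hP hx, hx, rfl⟩

theorem image_preimage_range {P' : Subgroup G} (h : P' ≤ ι.range) :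
    imageAlong ι (preimageAlong ι P') = P' := imageAlong_preimageAlong (S' := ι.range) rfl h

theorem imageAlong_mono (h : P ≤ Q) : imageAlong ι P ≤ imageAlong ι Q := by
  intro y hy
  obtain ⟨x, hx, hxP, rfl⟩ := mem_imageAlong.1 hy
  exact mem_imageAlong.2 ⟨x, hx, h hxP, rfl⟩

theorem imageAlong_commutator (hP : P ≤ S) (hQ : Q ≤ S) :
    imageAlong ι ⁅P, Q⁆ = ⁅imageAlong ι P, imageAlong ι Q⁆ := by
  unfold imageAlong
  have h1 : (⁅P, Q⁆ : Subgroup Ω).subgroupOf S = ⁅P.subgroupOf S, Q.subgroupOf S⁆ := by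
    apply Subgroup.map_injective S.subtype_injective
    rw [Subgroup.map_commutator, Subgroup.map_subgroupOf_eq_of_le hP, Subgroup.map_subgroupOf_eq_of_le hQ,
      Subgroup.map_subgroupOf_eq_of_le]
    rw [Subgroup.commutator_le]
    intro a ha b hb
    rw [commutatorElement_def]
    exact mul_mem (mul_mem (mul_mem (hP ha) (hQ hb)) (inv_mem (hP ha))) (inv_mem (hQ hb))
  rw [h1, Subgroup.map_commutator]

theorem mem_of_tf_mem_image (hι : Function.Injective ι) (hx : x ∈ S) (h : tf ι x ∈ imageAlong ι P) :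
    x ∈ P := by
  obtain ⟨y, hy, hyP, h1⟩ := mem_imageAlong.1 h
  rwa [← tf_inj hι hy hx h1]

theorem AI_image (hι : Function.Injective ι) (hle : ∀ A ∈ 𝒜, A ≤ S) {Q' : Subgroup G}
    (hex : ∃ A' : Subgroup G, A' ≤ ι.range ∧ preimageAlong ι A' ∈ 𝒜 ∧ A' ≤ Q') :
    AI {A' : Subgroup G | A' ≤ ι.range ∧ preimageAlong ι A' ∈ 𝒜} Q' =
      imageAlong ι (AI 𝒜 (preimageAlong ι Q')) := by
  obtain ⟨A₀, hA₀r, hA₀, hA₀Q⟩ := hex
  apply le_antisymm
  · intro y hy
    have h1 : y ∈ A₀ := AI_le (𝒜 := {A' : Subgroup G | A' ≤ ι.range ∧ preimageAlong ι A' ∈ 𝒜})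
      ⟨hA₀r, hA₀⟩ hA₀Q hy
    obtain ⟨a, rfl⟩ := hA₀r h1
    rw [← tf_coe] at hy ⊢
    refine mem_imageAlong.2 ⟨a, a.2, ?_, rfl⟩
    rw [AI, Subgroup.mem_sInf]
    intro A hA
    have h2 : tf ι (a : Ω) ∈ imageAlong ι A := by
      refine AI_le (𝒜 := {A' : Subgroup G | A' ≤ ι.range ∧ preimageAlong ι A' ∈ 𝒜})
        ⟨imageAlong_le_range, ?_⟩ ?_ hy
      · rw [preimage_image_inj hι (hle A hA.1)]; exact hA.1
      · intro z hz
        obtain ⟨b, hb, hbA, rfl⟩ := mem_imageAlong.1 hz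
        exact (mem_preimageAlong.1 (hA.2 hbA)).2
    exact mem_of_tf_mem_image hι a.2 h2
  · intro y hy
    obtain ⟨x, hx, hxA, rfl⟩ := mem_imageAlong.1 hy
    rw [AI, Subgroup.mem_sInf]
    intro A' hA'
    have h1 : x ∈ preimageAlong ι A' := AI_le hA'.1.2 (preimage_mono hA'.2) hxA
    exact (mem_preimageAlong.1 h1).2

theorem AxFamF.real [Finite S] (h : AxFamF F D 𝒜) (hr : F.IsRealizedBy ι) :
    AxFam ι.range (imageAlong ι D) {A' : Subgroup G | A' ≤ ι.range ∧ preimageAlong ι A' ∈ 𝒜} := by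
  have hι : Function.Injective ι := hr.1
  haveI hfr : Finite ι.range := Set.finite_range ι
  have hDS : D ≤ S := h.sc.1
  have hle : ∀ A ∈ 𝒜, A ≤ S := fun A hA => (h.leD A hA).trans hDS
  refine ⟨?_, imageAlong_le_range, ?_, ?_, ?_, ?_, ?_⟩
  · rintro A' ⟨h1, h2⟩
    rw [← image_preimage_range h1]
    exact imageAlong_mono (h.leD _ h2)
  · rintro A' ⟨h1, h2⟩ x hx y hy
    obtain ⟨a, rfl⟩ := h1 hx
    obtain ⟨b, rfl⟩ := h1 hy
    have h3 := h.ab _ h2 a (mem_preimageAlong.2 ⟨a.2, by rw [tf_coe]; exact hx⟩) b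
      (mem_preimageAlong.2 ⟨b.2, by rw [tf_coe]; exact hy⟩)
    rw [← map_mul, ← map_mul]
    exact congrArg ι (Subtype.ext h3)
  · obtain ⟨A, hA⟩ := h.ne
    exact ⟨imageAlong ι A, imageAlong_le_range, by rw [preimage_image_inj hι (hle A hA)]; exact hA⟩
  · rintro Q' hQ' ⟨A', hA', hA'Q⟩ g hg
    have hAI := AI_image (ι := ι) hι hle ⟨A', hA'.1, hA'.2, hA'Q⟩
    rw [hAI]
    haveI : Finite ↥(imageAlong ι (AI 𝒜 (preimageAlong ι Q'))) := finite_of_le imageAlong_le_range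
    haveI : Finite ↥(preimageAlong ι Q') := finite_of_le preimageAlong_le
    apply mem_normalizer_of_finite
    intro y hy
    obtain ⟨x, hx, hxA, rfl⟩ := mem_imageAlong.1 hy
    have hconj : ∀ z ∈ preimageAlong ι Q', g * tf ι z * g⁻¹ ∈ Q' := fun z hz =>
      (Subgroup.mem_normalizer_iff.1 hg _).1 (mem_preimageAlong.1 hz).2
    obtain ⟨h1, h2⟩ := mor_real_conj hr g (P := preimageAlong ι Q') preimageAlong_le
      (fun z hz => hQ' (hconj z hz))
    have h3 : img (preimageAlong ι Q') (fun x => tfi ι (g * tf ι x * g⁻¹)) = preimageAlong ι Q' := by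
      apply eq_of_le_of_card
      · rw [img_le_iff]
        intro z hz
        refine mem_preimageAlong.2 ⟨h1.mem hz, ?_⟩
        rw [h2 z hz]; exact hconj z hz
      · rw [h1.card_img]
    have hne : ∃ A ∈ 𝒜, A ≤ preimageAlong ι Q' := ⟨_, hA'.2, preimage_mono hA'Q⟩
    have hxQ : x ∈ preimageAlong ι Q' := by
      obtain ⟨A, hA, hAQ⟩ := hne
      exact hAQ (AI_le hA hAQ hxA)
    have h4 := h.inv _ preimageAlong_le hne _ h1 h3 x hxA
    rw [← h2 x hxQ]
    exact mem_imageAlong.2 ⟨_, h1.mem hxQ, h4, rfl⟩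
  · intro g y hy hyr
    obtain ⟨x, hx, hxD, rfl⟩ := mem_imageAlong.1 hy
    obtain ⟨w, hw⟩ := hyr
    have hz' : ∀ n : ℤ, tf ι (x ^ n) = tf ι x ^ n := by
      intro n
      rw [tf_apply _ hx, tf_apply _ (S.zpow_mem hx n)]
      have : (⟨x ^ n, S.zpow_mem hx n⟩ : S) = ⟨x, hx⟩ ^ n := rfl
      rw [this, map_zpow]
    obtain ⟨h1, h2⟩ := mor_real_conj hr g (P := Subgroup.zpowers x)
      (by rw [Subgroup.zpowers_le]; exact hx) (by
        rintro _ ⟨n, rfl⟩
        show g * tf ι (x ^ n) * g⁻¹ ∈ _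
        rw [hz', ← conj_zpow, ← hw]
        exact ι.range.zpow_mem ⟨w, rfl⟩ n)
    have h3 := sc_apply h.sc h1 (Subgroup.mem_zpowers x) hxD
    rw [← h2 x (Subgroup.mem_zpowers x)]
    exact mem_imageAlong.2 ⟨_, hDS h3, h3, rfl⟩
  · rintro B' hB' hTB hcl ⟨U', hU', h1, h2⟩
    have hB'r : B' ≤ ι.range := hB'.trans imageAlong_le_range
    set B := preimageAlong ι B' with hB
    have hBe : imageAlong ι B = B' := image_preimage_range hB'r
    have hBS : B ≤ S := preimageAlong_le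
    haveI : Finite B := finite_of_le hBS
    have hBD : B ≤ D := by
      have := preimage_mono (θ := ι) hB'
      rwa [preimage_image_inj hι hDS] at this
    have hSB : S ≤ Subgroup.normalizer (B : Set Ω) := by
      intro s hs
      apply mem_normalizer_of_finite
      intro x hx
      refine mem_preimageAlong.2 ⟨mul_mem (mul_mem hs (hBS hx)) (inv_mem hs), ?_⟩
      rw [tf_conj hs (hBS hx)]
      exact (Subgroup.mem_normalizer_iff.1 (hTB (tf_mem_range hs)) _).1 (mem_preimageAlong.1 hx).2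
    have hcS : ∀ {P Q : Subgroup Ω}, P ≤ S → Q ≤ S → ⁅P, Q⁆ ≤ S := by
      intro P Q hP hQ
      rw [Subgroup.commutator_le]
      intro a ha b hb
      rw [commutatorElement_def]
      exact mul_mem (mul_mem (mul_mem (hP ha) (hQ hb)) (inv_mem (hP ha))) (inv_mem (hQ hb))
    have hcl' : ⁅⁅B, B⁆, B⁆ = ⊥ := by
      rw [eq_bot_iff]
      intro x hx
      have h3 : tf ι x ∈ imageAlong ι ⁅⁅B, B⁆, B⁆ := tf_mem_imageAlong (hcS (hcS hBS hBS) hBS) hx
      rw [imageAlong_commutator (hcS hBS hBS) hBS, imageAlong_commutator hBS hBS, hBe, hcl,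
        Subgroup.mem_bot] at h3
      rw [Subgroup.mem_bot]
      refine tf_inj hι (hcS (hcS hBS hBS) hBS hx) S.one_mem ?_
      rw [h3, tf_one]
    have hder : ∀ A' : Subgroup G, A' ≤ ι.range → (⁅B', B'⁆ ≤ A' ↔ ⁅B, B⁆ ≤ preimageAlong ι A') := by
      intro A' hA'
      constructor
      · intro h3 x hx
        refine mem_preimageAlong.2 ⟨hcS hBS hBS hx, h3 ?_⟩
        rw [← hBe, ← imageAlong_commutator hBS hBS]
        exact tf_mem_imageAlong (hcS hBS hBS) hx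
      · intro h3
        rw [← hBe, ← imageAlong_commutator hBS hBS, ← image_preimage_range hA']
        exact imageAlong_mono h3
    have hle' : ∀ A' : Subgroup G, A' ≤ ι.range → (B' ≤ A' ↔ B ≤ preimageAlong ι A') := by
      intro A' hA'
      constructor
      · exact fun h3 => preimage_mono h3
      · intro h3
        rw [← hBe, ← image_preimage_range hA']
        exact imageAlong_mono h3
    obtain ⟨A, hA, h3, h4, h5⟩ := h.rep B hBD hSB hcl'
      ⟨_, hU'.2, (hder U' hU'.1).1 h1, fun h3 => h2 ((hle' U' hU'.1).2 h3)⟩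
    have hAS := hle A hA
    have hpre := preimage_image_inj hι hAS
    refine ⟨imageAlong ι A, ⟨imageAlong_le_range, by rw [hpre]; exact hA⟩, ?_, ?_, ?_⟩
    · rw [hder _ imageAlong_le_range, hpre]; exact h3
    · rw [hle' _ imageAlong_le_range, hpre]; exact h4
    · intro b hb
      obtain ⟨b', rfl⟩ := hB'r hb
      haveI : Finite ↥(imageAlong ι A) := finite_of_le imageAlong_le_range
      have hbB : (b' : Ω) ∈ B := mem_preimageAlong.2 ⟨b'.2, by rw [tf_coe]; exact hb⟩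
      apply mem_normalizer_of_finite
      intro y hy
      obtain ⟨a, ha, haA, rfl⟩ := mem_imageAlong.1 hy
      rw [← tf_coe, ← tf_conj b'.2 ha]
      refine tf_mem_imageAlong hAS ?_
      exact (Subgroup.mem_normalizer_iff.1 (h5 hbB) _).1 haA

end

/-- The class for the machine. -/
theorem innerCls_ax {p : ℕ} [Fact p.Prime] (hp2 : p ≠ 2) :
    InnerCls.{u} p (fun (Ω : Type u) [Group Ω] (S : Subgroup Ω) F =>
      (∃ (D : Subgroup Ω) (𝒜 : Set (Subgroup Ω)), AxFamF F D 𝒜 ∧ InnerAt F (AI 𝒜 S)) ∨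
      (∀ V ≤ S, V ≠ ⊥ → (V.subgroupOf S).Characteristic → InnerAt F V))
      (fun _ _ _ _ => True) where
  A1 := by
    rintro Ω _ S E F (⟨D, 𝒜, h1, h2⟩ | h) hE
    · exact Or.inl ⟨D, 𝒜, h1.mono hE, h2.mono hE⟩
    · exact Or.inr fun V h1 h2 h3 => (h V h1 h2 h3).mono hE
  A2 := fun Ω _ S _ F hS hF hSne h => Or.inr h
  C1 := fun _ _ _ _ _ _ _ _ _ _ => trivial
  C2 := fun _ _ _ _ _ _ _ _ _ _ _ _ _ _ _ _ => trivial
  M := by
    rintro Ω _ S _ F hS ⟨hF, Q, hQ, hc⟩ hA -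
    rcases hA with ⟨D, 𝒜, hA, hI⟩ | hA
    · obtain ⟨G, _, ι, hG⟩ := model_exists hS hF hQ hc
      haveI := hG.1
      have hle : ∀ A ∈ 𝒜, A ≤ S := fun A hA' => (hA.leD A hA').trans hA.sc.1
      have hIS : AI 𝒜 S ≤ S := (AI_leS hA).trans hA.sc.1
      have hn : S ≤ Subgroup.normalizer ((AI 𝒜 S : Subgroup Ω) : Set Ω) := by
        intro s hs
        haveI : Finite ↥(AI 𝒜 S) := finite_of_le hIS
        apply mem_normalizer_of_finite
        intro x hx
        obtain ⟨A, hA'⟩ := hA.ne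
        refine hA.inv S le_rfl ⟨A, hA', hle A hA'⟩ (fun x => s * x * s⁻¹) (mor_conj le_rfl hs) ?_ x hx
        apply eq_of_le_of_card
        · rw [img_le_iff]
          intro z hz
          exact mul_mem (mul_mem hs hz) (inv_mem hs)
        · rw [(mor_conj (F := F) le_rfl hs).card_img]
      have h1 := npc_of_innerAt hG.2.1 hG.2.2.1 hIS hn hI
      have hfam := hA.real hG.2.1
      obtain ⟨T, hT⟩ := hG.2.2.1
      have hex : ∃ A' : Subgroup G, A' ≤ ι.range ∧ preimageAlong ι A' ∈ 𝒜 ∧ A' ≤ ι.range := by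
        obtain ⟨A', h1, h2⟩ := hfam.ne
        exact ⟨A', h1, h2, h1⟩
      have h2 := AI_image hG.2.1.1 hle hex
      have h3 : preimageAlong ι ι.range = S := by
        ext x
        rw [mem_preimageAlong]
        exact ⟨fun h => h.1, fun h => ⟨h, tf_mem_range h⟩⟩
      rw [h3] at h2
      rw [← h2] at h1
      rw [← hT] at hfam h1
      have h4 := ax_npc hp2 _ G rfl T _ _ hfam hG.2.2.2 h1
      have h5 := H2.isPGroup_of_npc hG.2.2.2 le_top (H2.HasNormalPComplement.subgroup h4 ⊤)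
      exact inner_of_model_pgroup hG (h5.of_equiv Subgroup.topEquiv)
    · exact inner_of_char hS hF (Or.inl hp2) hA

/-- The axiomatic Glauberman-Thompson criterion. -/
theorem inner_of_ax {p : ℕ} [Fact p.Prime] (hp2 : p ≠ 2) {Ω : Type u} [Group Ω]
    {S : Subgroup Ω} [Finite S] (hS : IsPGroup p S) {F : FusionSystem S} (hF : F.IsSaturated p)
    {D : Subgroup Ω} {𝒜 : Set (Subgroup Ω)} (h : AxFamF F D 𝒜) (hI : InnerAt F (AI 𝒜 S)) :
    F = innerFusionSystem S :=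
  machine (innerCls_ax hp2) _ Ω S F le_rfl hS hF (Or.inl ⟨D, 𝒜, h, hI⟩) trivial

end Cfsg.Agent.H28
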