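import Mathlib
import Cfsg.Prelude.Def_FusionSystem
import Cfsg.Prelude.Def_FusionComponents
import Cfsg.Agent.H28.PIdx2
import Cfsg.Agent.S5136

/-!
Products of fusion systems.
-/

set_option autoImplicit false
open Cfsg Cfsg.FusionSystem
open scoped commutatorElement

namespace Cfsg.Agent.H28

universe u v w

section

variable {Ω₁ : Type u} {Ω₂ : Type v} [Group Ω₁] [Group Ω₂] {S₁ : Subgroup Ω₁} {S₂ : Subgroup Ω₂}
  {F₁ : FusionSystem S₁} {F₂ : FusionSystem S₂} {E : FusionSystem (S₁.prod S₂)}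
  {P Q : Subgroup (Ω₁ × Ω₂)} {f g : Ω₁ × Ω₂ → Ω₁ × Ω₂} {x y : Ω₁ × Ω₂} {p : ℕ}

/-- First projection of a subgroup. -/
abbrev pr1 (P : Subgroup (Ω₁ × Ω₂)) : Subgroup Ω₁ := P.map (MonoidHom.fst Ω₁ Ω₂)
/-- Second projection of a subgroup. -/
abbrev pr2 (P : Subgroup (Ω₁ × Ω₂)) : Subgroup Ω₂ := P.map (MonoidHom.snd Ω₁ Ω₂)

theorem mem_pr1 (hx : x ∈ P) : x.1 ∈ pr1 P := ⟨_, hx, rfl⟩
theorem mem_pr2 (hx : x ∈ P) : x.2 ∈ pr2 P := ⟨_, hx, rfl⟩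

theorem pr1_le (hP : P ≤ S₁.prod S₂) : pr1 P ≤ S₁ := by
  rintro _ ⟨x, hx, rfl⟩; exact (hP hx).1
theorem pr2_le (hP : P ≤ S₁.prod S₂) : pr2 P ≤ S₂ := by
  rintro _ ⟨x, hx, rfl⟩; exact (hP hx).2

theorem pr1_mono (h : P ≤ Q) : pr1 P ≤ pr1 Q := Subgroup.map_mono h
theorem pr2_mono (h : P ≤ Q) : pr2 P ≤ pr2 Q := Subgroup.map_mono h

theorem mor_prod (hE : IsProductSystem F₁ F₂ E) : Mor E P f ↔ P ≤ S₁.prod S₂ ∧
    ∃ f₁ f₂, Mor F₁ (pr1 P) f₁ ∧ Mor F₂ (pr2 P) f₂ ∧ ∀ x ∈ P, f x = (f₁ x.1, f₂ x.2) := by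
  constructor
  · rintro ⟨φ, hφ, h1⟩
    obtain ⟨hP, φ₁, h2, φ₂, h3, h4⟩ := (hE P φ).1 hφ
    refine ⟨hP, toFun φ₁, toFun φ₂, mor_toFun h2, mor_toFun h3, fun x hx => ?_⟩
    rw [← h1 ⟨x, hx⟩, h4 ⟨x, hx⟩ (mem_pr1 hx) (mem_pr2 hx), toFun_apply φ₁ (mem_pr1 hx),
      toFun_apply φ₂ (mem_pr2 hx)]
  · rintro ⟨hP, f₁, f₂, ⟨φ₁, h1, h2⟩, ⟨φ₂, h3, h4⟩, h5⟩
    refine ⟨{ toFun := fun x => f x, map_one' := ?_, map_mul' := ?_ }, (hE P _).2 ⟨hP, φ₁, h1, φ₂, h3, ?_⟩, fun x => rfl⟩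
    · have h6 := h5 1 (one_mem _)
      have e1 : f₁ (1 : Ω₁) = 1 := by rw [← h2 ⟨1, one_mem _⟩]; exact map_one φ₁
      have e2 : f₂ (1 : Ω₂) = 1 := by rw [← h4 ⟨1, one_mem _⟩]; exact map_one φ₂
      show f 1 = 1
      rw [h6]
      exact Prod.ext e1 e2
    · intro a b
      show f ((a : Ω₁ × Ω₂) * b) = f a * f b
      rw [h5 _ (mul_mem a.2 b.2), h5 _ a.2, h5 _ b.2]
      apply Prod.ext
      · show f₁ ((a : Ω₁ × Ω₂).1 * (b : Ω₁ × Ω₂).1) = f₁ (a : Ω₁ × Ω₂).1 * f₁ (b : Ω₁ × Ω₂).1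
        rw [← h2 ⟨_, mem_pr1 a.2⟩, ← h2 ⟨_, mem_pr1 b.2⟩, ← map_mul, ← h2 ⟨_, mul_mem (mem_pr1 a.2) (mem_pr1 b.2)⟩]
        rfl
      · show f₂ ((a : Ω₁ × Ω₂).2 * (b : Ω₁ × Ω₂).2) = f₂ (a : Ω₁ × Ω₂).2 * f₂ (b : Ω₁ × Ω₂).2
        rw [← h4 ⟨_, mem_pr2 a.2⟩, ← h4 ⟨_, mem_pr2 b.2⟩, ← map_mul, ← h4 ⟨_, mul_mem (mem_pr2 a.2) (mem_pr2 b.2)⟩]
        rfl
    · intro x h6 h7
      show f x = _
      rw [h5 x x.2, h2, h4]

/-- A `p`-element of the automorphism group of the top is inner. -/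
theorem aut_top_inner {Ω : Type*} [Group Ω] {S : Subgroup Ω} {F : FusionSystem S} [Fact p.Prime] [Finite S]
    (hS : IsPGroup p S) (hF : F.IsSaturated p)
    {α : MulAut S} (hα : α ∈ F.autGroup S) {n : ℕ} (hn : α ^ p ^ n = 1) : α ∈ autInducedBy S S := by
  have hfa : F.IsFullyAutomized p S := FN.fa hS hF fullyNormalized_top
  have h1 : IsPGroup p (Subgroup.zpowers α) := isPGroup_zpowers_of_pow hn
  obtain ⟨β, hβ, h2⟩ := exists_conj_le_autInduced hfa (T := Subgroup.zpowers α)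
    (by rw [Subgroup.zpowers_le]; exact hα) h1
  have h3 := h2 α (Subgroup.mem_zpowers α)
  obtain ⟨s, hs, h4⟩ := mem_autInducedBy'.1 h3
  rw [mem_autInducedBy']
  refine ⟨autFun β⁻¹ s, autFun_mem _ hs, fun x hx => ?_⟩
  have h5 := h4 _ (autFun_mem β hx)
  rw [autFun_mul _ _ (autFun_mem _ hx), autFun_mul _ _ (autFun_mem _ (autFun_mem _ hx)), autFun_inv_apply _ hx] at h5
  have h6 : autFun α x = autFun β⁻¹ (autFun β (autFun α x)) := (autFun_inv_apply _ (autFun_mem _ hx)).symm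
  rw [h6, h5]
  have hm : Mor F S (autFun β⁻¹) := mor_autFun le_rfl (inv_mem hβ)
  rw [hm.conj hs (autFun_mem _ hx), autFun_inv_apply _ hx]

theorem mem_centralizerIn_prod {x : Ω₁ × Ω₂} : x ∈ centralizerIn (S₁.prod S₂) P ↔
    x.1 ∈ centralizerIn S₁ (pr1 P) ∧ x.2 ∈ centralizerIn S₂ (pr2 P) := by
  rw [mem_centralizerIn, mem_centralizerIn, mem_centralizerIn]
  constructor
  · rintro ⟨h1, h2⟩
    refine ⟨⟨h1.1, ?_⟩, h1.2, ?_⟩
    · rintro _ ⟨y, hy, rfl⟩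
      exact congrArg Prod.fst (h2 y hy)
    · rintro _ ⟨y, hy, rfl⟩
      exact congrArg Prod.snd (h2 y hy)
  · rintro ⟨⟨h1, h2⟩, h3, h4⟩
    exact ⟨⟨h1, h3⟩, fun y hy => Prod.ext (h2 _ (mem_pr1 hy)) (h4 _ (mem_pr2 hy))⟩

theorem normalizer_pr1 (h : x ∈ normalizerIn (S₁.prod S₂) P) : x.1 ∈ normalizerIn S₁ (pr1 P) := by
  rw [mem_normalizerIn] at h ⊢
  refine ⟨h.1.1, fun y => ?_⟩
  constructor
  · rintro ⟨z, hz, rfl⟩
    exact ⟨_, (h.2 z).1 hz, rfl⟩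
  · rintro ⟨z, hz, h1⟩
    have h2 : x * (x⁻¹ * z * x) * x⁻¹ = z := by group
    have h3 : x⁻¹ * z * x ∈ P := (h.2 _).2 (by rw [h2]; exact hz)
    refine ⟨_, h3, ?_⟩
    show x.1⁻¹ * z.1 * x.1 = y
    have h4 : z.1 = x.1 * y * x.1⁻¹ := h1
    rw [h4]; group

theorem normalizer_pr2 (h : x ∈ normalizerIn (S₁.prod S₂) P) : x.2 ∈ normalizerIn S₂ (pr2 P) := by
  rw [mem_normalizerIn] at h ⊢
  refine ⟨h.1.2, fun y => ?_⟩
  constructor
  · rintro ⟨z, hz, rfl⟩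
    exact ⟨_, (h.2 z).1 hz, rfl⟩
  · rintro ⟨z, hz, h1⟩
    have h2 : x * (x⁻¹ * z * x) * x⁻¹ = z := by group
    have h3 : x⁻¹ * z * x ∈ P := (h.2 _).2 (by rw [h2]; exact hz)
    refine ⟨_, h3, ?_⟩
    show x.2⁻¹ * z.2 * x.2 = y
    have h4 : z.2 = x.2 * y * x.2⁻¹ := h1
    rw [h4]; group

theorem fc_of_card {Ω : Type*} [Group Ω] {S : Subgroup Ω} {F : FusionSystem S} {P Q : Subgroup Ω}
    (hQ : F.IsFullyCentralized Q) (h : F.IsConj P Q) (hP : P ≤ S)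
    (hc : Nat.card (centralizerIn S Q) ≤ Nat.card (centralizerIn S P)) : F.IsFullyCentralized P :=
  ⟨hP, fun R hR => (hQ.2 R (isConj_trans (isConj_symm h) hR)).trans hc⟩

theorem pPow_autFun {Ω : Type*} [Group Ω] {P : Subgroup Ω} {α : MulAut P} {f : Ω → Ω} (h : ∀ x ∈ P, autFun α x = f x)
    (n : ℕ) : ∀ x ∈ P, autFun (α ^ n) x = f^[n] x := by
  induction n with
  | zero => intro x hx; rw [pow_zero, autFun_one hx]; rfl
  | succ n ih =>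
    intro x hx
    rw [pow_succ', autFun_mul _ _ hx, Function.iterate_succ', h _ (autFun_mem _ hx), ih x hx]
    rfl

theorem iterate_prod {f₁ : Ω₁ → Ω₁} {f₂ : Ω₂ → Ω₂} (hf : ∀ x ∈ P, f x ∈ P) (h : ∀ x ∈ P, f x = (f₁ x.1, f₂ x.2))
    (n : ℕ) : ∀ x ∈ P, f^[n] x = (f₁^[n] x.1, f₂^[n] x.2) ∧ f^[n] x ∈ P := by
  induction n with
  | zero => intro x hx; exact ⟨rfl, hx⟩
  | succ n ih =>
    intro x hx
    rw [Function.iterate_succ', Function.iterate_succ', Function.iterate_succ']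
    obtain ⟨h1, h2⟩ := ih x hx
    refine ⟨?_, hf _ h2⟩
    show f (f^[n] x) = _
    rw [h _ h2, h1]; rfl

theorem prod_saturated [Fact p.Prime] [Finite S₁] [Finite S₂] (h₁ : IsPGroup p S₁) (h₂ : IsPGroup p S₂)
    (hF₁ : F₁.IsSaturated p) (hF₂ : F₂.IsSaturated p) (hE : IsProductSystem F₁ F₂ E) : E.IsSaturated p := by
  haveI hfin : Finite (S₁.prod S₂) := Finite.of_equiv _ (S₁.prodEquiv S₂).symm.toEquiv
  have hSp : IsPGroup p (S₁.prod S₂) := by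
    rintro ⟨⟨a, b⟩, ha, hb⟩
    obtain ⟨m, hm⟩ := h₁ ⟨a, ha⟩
    obtain ⟨n, hn⟩ := h₂ ⟨b, hb⟩
    refine ⟨m + n, ?_⟩
    apply Subtype.ext
    have e1 : a ^ p ^ m = 1 := congrArg Subtype.val hm
    have e2 : b ^ p ^ n = 1 := congrArg Subtype.val hn
    apply Prod.ext
    · show a ^ p ^ (m + n) = 1
      rw [pow_add, pow_mul, e1, one_pow]
    · show b ^ p ^ (m + n) = 1
      rw [add_comm, pow_add, pow_mul, e2, one_pow]
  have htop1 : pr1 (S₁.prod S₂) = S₁ := by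
    apply le_antisymm (pr1_le le_rfl)
    intro a ha
    exact ⟨(a, 1), ⟨ha, one_mem _⟩, rfl⟩
  have htop2 : pr2 (S₁.prod S₂) = S₂ := by
    apply le_antisymm (pr2_le le_rfl)
    intro a ha
    exact ⟨(1, a), ⟨one_mem _, ha⟩, rfl⟩
  rw [saturated_iff_top hSp]
  constructor
  · rw [fullyAutomized_iff hSp]
    refine ⟨le_rfl, fun R hR hRp _ α hα => ?_⟩
    obtain ⟨-, f₁, f₂, hf₁, hf₂, h1⟩ := (mor_prod hE).1 (mor_autFun le_rfl (hR hα))
    rw [htop1] at hf₁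
    rw [htop2] at hf₂
    have him1 : img S₁ f₁ = S₁ := isConj_top hf₁.isConj
    have him2 : img S₂ f₂ = S₂ := isConj_top hf₂.isConj
    obtain ⟨α₁, hα₁, e1⟩ := hf₁.exists_aut him1
    obtain ⟨α₂, hα₂, e2⟩ := hf₂.exists_aut him2
    obtain ⟨n, hn⟩ := hRp ⟨α, hα⟩
    have hn' : α ^ p ^ n = 1 := congrArg Subtype.val hn
    have hit : ∀ a ∈ S₁, ∀ b ∈ S₂, f₁^[p ^ n] a = a ∧ f₂^[p ^ n] b = b := by
      intro a ha b hb
      have hmem : ((a, b) : Ω₁ × Ω₂) ∈ S₁.prod S₂ := ⟨ha, hb⟩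
      have h2 := pPow_autFun (α := α) (f := autFun α) (fun _ _ => rfl) (p ^ n) _ hmem
      rw [hn', autFun_one hmem, (iterate_prod (fun x hx => autFun_mem _ hx) h1 (p ^ n) _ hmem).1, Prod.mk.injEq] at h2
      exact ⟨h2.1.symm, h2.2.symm⟩
    have hp1 : α₁ ^ p ^ n = 1 := by
      apply mulAut_ext
      intro a ha
      rw [pPow_autFun e1 _ a ha, autFun_one ha]
      exact (hit a ha 1 (one_mem _)).1
    have hp2 : α₂ ^ p ^ n = 1 := by
      apply mulAut_ext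
      intro a ha
      rw [pPow_autFun e2 _ a ha, autFun_one ha]
      exact (hit 1 (one_mem _) a ha).2
    obtain ⟨s₁, hs₁, k1⟩ := mem_autInducedBy'.1 (aut_top_inner h₁ hF₁ hα₁ hp1)
    obtain ⟨s₂, hs₂, k2⟩ := mem_autInducedBy'.1 (aut_top_inner h₂ hF₂ hα₂ hp2)
    rw [mem_autInducedBy']
    refine ⟨(s₁, s₂), ⟨hs₁, hs₂⟩, fun x hx => ?_⟩
    rw [h1 x hx, ← e1 _ hx.1, ← e2 _ hx.2, k1 _ hx.1, k2 _ hx.2]
    rfl
  · intro P hPn
    have hP := hPn.1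
    have hP1 := pr1_le hP
    have hP2 := pr2_le hP
    -- the projections are fully centralized
    obtain ⟨Q₁, hQ₁, hfn1⟩ := exists_fullyNormalized (F := F₁) hP1
    obtain ⟨Q₂, hQ₂, hfn2⟩ := exists_fullyNormalized (F := F₂) hP2
    obtain ⟨ψ₁, hψ₁, im1⟩ := FN.exists_map h₁ hF₁ hfn1 hQ₁
    obtain ⟨ψ₂, hψ₂, im2⟩ := FN.exists_map h₂ hF₂ hfn2 hQ₂
    let ψ : Ω₁ × Ω₂ → Ω₁ × Ω₂ := fun x => (ψ₁ x.1, ψ₂ x.2)
    have hψN : Mor E (normalizerIn (S₁.prod S₂) P) ψ := by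
      refine (mor_prod hE).2 ⟨normalizerIn_le, ψ₁, ψ₂, hψ₁.mono ?_, hψ₂.mono ?_, fun x _ => rfl⟩
      · rintro _ ⟨x, hx, rfl⟩; exact normalizer_pr1 hx
      · rintro _ ⟨x, hx, rfl⟩; exact normalizer_pr2 hx
    have hψP : Mor E P ψ := hψN.mono (le_normalizerIn hP)
    have himg : img (normalizerIn (S₁.prod S₂) P) ψ = normalizerIn (S₁.prod S₂) (img P ψ) := by
      haveI : Finite (normalizerIn (S₁.prod S₂) (img P ψ)) := finite_of_le normalizerIn_le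
      apply eq_of_le_of_card (img_normalizerIn_le hψN hP)
      rw [hψN.card_img]
      exact (fullyNormalized_iff.1 hPn).2 ψ hψP
    have hpr1 : pr1 (img P ψ) = Q₁ := by
      rw [← im1]
      ext a
      rw [(hψ₁.mono (le_normalizerIn hP1)).mem_img]
      constructor
      · rintro ⟨y, hy, rfl⟩
        obtain ⟨x, hx, rfl⟩ := hψP.mem_img.1 hy
        exact ⟨x.1, mem_pr1 hx, rfl⟩
      · rintro ⟨_, ⟨x, hx, rfl⟩, rfl⟩
        exact ⟨ψ x, mem_img_of_mem hx, rfl⟩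
    have hpr2 : pr2 (img P ψ) = Q₂ := by
      rw [← im2]
      ext a
      rw [(hψ₂.mono (le_normalizerIn hP2)).mem_img]
      constructor
      · rintro ⟨y, hy, rfl⟩
        obtain ⟨x, hx, rfl⟩ := hψP.mem_img.1 hy
        exact ⟨x.2, mem_pr2 hx, rfl⟩
      · rintro ⟨_, ⟨x, hx, rfl⟩, rfl⟩
        exact ⟨ψ x, mem_img_of_mem hx, rfl⟩
    have hfc1 : F₁.IsFullyCentralized (pr1 P) := by
      refine fc_of_card (FN.fc h₁ hF₁ hfn1) hQ₁ hP1 ?_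
      haveI : Finite (centralizerIn S₁ (pr1 P)) := finite_of_le centralizerIn_le
      have hle : centralizerIn S₁ Q₁ ≤ img (centralizerIn S₁ (pr1 P)) ψ₁ := by
        intro c hc
        have h1 : ((c, 1) : Ω₁ × Ω₂) ∈ centralizerIn (S₁.prod S₂) (img P ψ) := by
          rw [mem_centralizerIn_prod, hpr1]
          exact ⟨hc, one_mem _⟩
        have h2 := centralizerIn_le_normalizerIn h1
        rw [← himg] at h2
        obtain ⟨n, hn, h3⟩ := hψN.mem_img.1 h2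
        have h4 : ψ₁ n.1 = c := congrArg Prod.fst h3
        rw [(hψ₁.mono centralizerIn_le_normalizerIn).mem_img]
        refine ⟨n.1, ?_, h4⟩
        have hnn := normalizer_pr1 hn
        rw [mem_centralizerIn]
        refine ⟨normalizerIn_le hnn, fun y hy => ?_⟩
        have hyN : y ∈ normalizerIn S₁ (pr1 P) := le_normalizerIn hP1 hy
        apply hψ₁.inj (mul_mem hnn hyN) (mul_mem hyN hnn)
        rw [hψ₁.mul hnn hyN, hψ₁.mul hyN hnn, h4]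
        refine (mem_centralizerIn.1 hc).2 _ ?_
        rw [← im1]; exact mem_img_of_mem hy
      haveI : Finite (img (centralizerIn S₁ (pr1 P)) ψ₁) :=
        finite_of_le (hψ₁.mono centralizerIn_le_normalizerIn).img_le
      exact (card_le_of_le hle).trans_eq ((hψ₁.mono centralizerIn_le_normalizerIn).card_img)
    have hfc2 : F₂.IsFullyCentralized (pr2 P) := by
      refine fc_of_card (FN.fc h₂ hF₂ hfn2) hQ₂ hP2 ?_
      haveI : Finite (centralizerIn S₂ (pr2 P)) := finite_of_le centralizerIn_le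
      have hle : centralizerIn S₂ Q₂ ≤ img (centralizerIn S₂ (pr2 P)) ψ₂ := by
        intro c hc
        have h1 : ((1, c) : Ω₁ × Ω₂) ∈ centralizerIn (S₁.prod S₂) (img P ψ) := by
          rw [mem_centralizerIn_prod, hpr2]
          exact ⟨one_mem _, hc⟩
        have h2 := centralizerIn_le_normalizerIn h1
        rw [← himg] at h2
        obtain ⟨n, hn, h3⟩ := hψN.mem_img.1 h2
        have h4 : ψ₂ n.2 = c := congrArg Prod.snd h3
        rw [(hψ₂.mono centralizerIn_le_normalizerIn).mem_img]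
        refine ⟨n.2, ?_, h4⟩
        have hnn := normalizer_pr2 hn
        rw [mem_centralizerIn]
        refine ⟨normalizerIn_le hnn, fun y hy => ?_⟩
        have hyN : y ∈ normalizerIn S₂ (pr2 P) := le_normalizerIn hP2 hy
        apply hψ₂.inj (mul_mem hnn hyN) (mul_mem hyN hnn)
        rw [hψ₂.mul hnn hyN, hψ₂.mul hyN hnn, h4]
        refine (mem_centralizerIn.1 hc).2 _ ?_
        rw [← im2]; exact mem_img_of_mem hy
      haveI : Finite (img (centralizerIn S₂ (pr2 P)) ψ₂) :=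
        finite_of_le (hψ₂.mono centralizerIn_le_normalizerIn).img_le
      exact (card_le_of_le hle).trans_eq ((hψ₂.mono centralizerIn_le_normalizerIn).card_img)
    -- receptivity
    have hrec1 := fullyCentralized_receptive h₁ hF₁ hfc1
    have hrec2 := fullyCentralized_receptive h₂ hF₂ hfc2
    rw [isReceptive_iff]
    refine ⟨hP, fun Q f hf hfP => ?_⟩
    obtain ⟨hQ, f₁, f₂, hf₁, hf₂, h1⟩ := (mor_prod hE).1 hf
    have him1 : img (pr1 Q) f₁ = pr1 P := by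
      ext a
      rw [hf₁.mem_img]
      constructor
      · rintro ⟨_, ⟨x, hx, rfl⟩, rfl⟩
        refine ⟨f x, by rw [← hfP]; exact mem_img_of_mem hx, ?_⟩
        show (f x).1 = _
        rw [h1 x hx]; rfl
      · rintro ⟨y, hy, rfl⟩
        rw [SetLike.mem_coe, ← hfP] at hy
        obtain ⟨x, hx, rfl⟩ := hf.mem_img.1 hy
        refine ⟨x.1, mem_pr1 hx, ?_⟩
        show f₁ x.1 = (f x).1
        rw [h1 x hx]
    have him2 : img (pr2 Q) f₂ = pr2 P := by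
      ext a
      rw [hf₂.mem_img]
      constructor
      · rintro ⟨_, ⟨x, hx, rfl⟩, rfl⟩
        refine ⟨f x, by rw [← hfP]; exact mem_img_of_mem hx, ?_⟩
        show (f x).2 = _
        rw [h1 x hx]; rfl
      · rintro ⟨y, hy, rfl⟩
        rw [SetLike.mem_coe, ← hfP] at hy
        obtain ⟨x, hx, rfl⟩ := hf.mem_img.1 hy
        refine ⟨x.2, mem_pr2 hx, ?_⟩
        show f₂ x.2 = (f x).2
        rw [h1 x hx]
    obtain ⟨g₁, hg₁, e1⟩ := (isReceptive_iff.1 hrec1).2 _ f₁ hf₁ him1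
    obtain ⟨g₂, hg₂, e2⟩ := (isReceptive_iff.1 hrec2).2 _ f₂ hf₂ him2
    have hN : ∀ n ∈ Nf (S₁.prod S₂) Q f, n.1 ∈ Nf S₁ (pr1 Q) f₁ ∧ n.2 ∈ Nf S₂ (pr2 Q) f₂ := by
      intro n hn
      rw [mem_Nf] at hn
      obtain ⟨hnS, hnQ, u, hu, h2⟩ := hn
      have hnn : n ∈ normalizerIn (S₁.prod S₂) Q := ⟨hnS, hnQ⟩
      have h3 : ∀ x ∈ Q, n * x * n⁻¹ ∈ Q := fun x hx => ((mem_normalizerIn.1 hnn).2 x).1 hx
      rw [mem_Nf, mem_Nf]
      refine ⟨⟨hnS.1, (normalizer_pr1 hnn).2, u.1, hu.1, ?_⟩, hnS.2, (normalizer_pr2 hnn).2, u.2, hu.2, ?_⟩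
      · rintro _ ⟨x, hx, rfl⟩
        have h4 := h2 x hx
        rw [h1 _ (h3 x hx), h1 x hx] at h4
        exact congrArg Prod.fst h4
      · rintro _ ⟨x, hx, rfl⟩
        have h4 := h2 x hx
        rw [h1 _ (h3 x hx), h1 x hx] at h4
        exact congrArg Prod.snd h4
    refine ⟨fun x => (g₁ x.1, g₂ x.2), (mor_prod hE).2 ⟨Nf_le, g₁, g₂, hg₁.mono ?_, hg₂.mono ?_, fun x _ => rfl⟩, ?_⟩
    · rintro _ ⟨n, hn, rfl⟩; exact (hN n hn).1
    · rintro _ ⟨n, hn, rfl⟩; exact (hN n hn).2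
    · intro x hx
      show (g₁ x.1, g₂ x.2) = f x
      rw [h1 x hx, e1 _ (mem_pr1 hx), e2 _ (mem_pr2 hx)]

end

end Cfsg.Agent.H28
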