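import Mathlib
import Cfsg.Prelude.Def_PLocal
import Cfsg.Prelude.Def_FusionSystem
import Cfsg.Agent.H28.GCtl4
import Cfsg.Agent.H2.FratArg

/-!
Glauberman's theorem on weakly closed central elements, constrained case, odd primes.
-/

set_option autoImplicit false
open Cfsg Cfsg.FusionSystem
open scoped commutatorElement

namespace Cfsg.Agent.H28

universe u v w

/-- Products over sets without fixed points of a permutation of prime order. -/
theorem prod_perm_orbits {I A : Type*} [DecidableEq I] [CommGroup A] {p : ℕ} (hp : p.Prime) (σ : I → I)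
    (u : I → A) (s : Finset I) (h1 : ∀ i ∈ s, σ i ∈ s) (h2 : ∀ i ∈ s, σ^[p] i = i)
    (h3 : ∀ i ∈ s, σ i ≠ i) (h4 : ∀ i ∈ s, ∏ k ∈ Finset.range p, u (σ^[k] i) = 1) : ∏ i ∈ s, u i = 1 := by
  induction s using Finset.strongInduction with
  | H s ih =>
  by_cases hs : s = ∅
  · rw [hs, Finset.prod_empty]
  obtain ⟨i₀, hi₀⟩ := Finset.nonempty_iff_ne_empty.2 hs
  have hit : ∀ k, ∀ i ∈ s, σ^[k] i ∈ s := by
    intro k
    induction k with
    | zero => intro i hi; exact hi
    | succ k ihk => intro i hi; rw [Function.iterate_succ_apply']; exact h1 _ (ihk i hi)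
  have hmin : Function.minimalPeriod σ i₀ = p := by
    have hd : Function.minimalPeriod σ i₀ ∣ p := Function.IsPeriodicPt.minimalPeriod_dvd (h2 i₀ hi₀)
    rcases (Nat.dvd_prime hp).1 hd with h | h
    · exact absurd (Function.minimalPeriod_eq_one_iff_isFixedPt.1 h) (h3 i₀ hi₀)
    · exact h
  have hinj : Set.InjOn (fun k => σ^[k] i₀) (Finset.range p : Set ℕ) := by
    intro a ha b hb hab
    rw [Finset.coe_range, Set.mem_Iio] at ha hb
    exact (Function.iterate_injOn_Iio_minimalPeriod (f := σ) (x := i₀)) (by rw [hmin]; exact ha)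
      (by rw [hmin]; exact hb) hab
  set o := (Finset.range p).image (fun k => σ^[k] i₀) with ho
  have hos : o ⊆ s := by
    intro j hj
    obtain ⟨k, -, rfl⟩ := Finset.mem_image.1 hj
    exact hit k _ hi₀
  have hoσ : ∀ j, σ j ∈ o → j ∈ s → j ∈ o := by
    intro j hj hjs
    obtain ⟨k, -, hk⟩ := Finset.mem_image.1 hj
    have h5 : j = σ^[p - 1 + k] i₀ := by
      rw [Function.iterate_add_apply, hk, ← Function.iterate_succ_apply, Nat.succ_eq_add_one,
        Nat.sub_add_cancel hp.one_lt.le, h2 j hjs]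
    have h6 : σ^[(p - 1 + k) % p] i₀ = σ^[p - 1 + k] i₀ := by
      conv_rhs => rw [← Nat.mod_add_div (p - 1 + k) p]
      rw [Function.iterate_add_apply]
      congr 1
      have : ∀ q, σ^[p * q] i₀ = i₀ := by
        intro q
        induction q with
        | zero => rfl
        | succ q ihq => rw [Nat.mul_succ, Function.iterate_add_apply, h2 i₀ hi₀, ihq]
      exact (this _).symm
    rw [h5, ← h6]
    exact Finset.mem_image.2 ⟨_, Finset.mem_range.2 (Nat.mod_lt _ hp.pos), rfl⟩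
  have h5 : ∏ i ∈ o, u i = 1 := by
    rw [ho, Finset.prod_image hinj]
    exact h4 i₀ hi₀
  rw [← Finset.sdiff_union_of_subset hos, Finset.prod_union Finset.sdiff_disjoint, h5, mul_one]
  have hi₀o : i₀ ∈ o := Finset.mem_image.2 ⟨0, Finset.mem_range.2 hp.pos, rfl⟩
  refine ih (s \ o) ?_ ?_ ?_ ?_ ?_
  · refine Finset.ssubset_iff_subset_ne.2 ⟨Finset.sdiff_subset, fun h => ?_⟩
    have := h.symm ▸ hi₀
    rw [Finset.mem_sdiff] at this
    exact this.2 hi₀o
  · intro i hi
    rw [Finset.mem_sdiff] at hi ⊢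
    exact ⟨h1 i hi.1, fun h => hi.2 (hoσ i h hi.1)⟩
  · intro i hi; exact h2 i (Finset.sdiff_subset hi)
  · intro i hi; exact h3 i (Finset.sdiff_subset hi)
  · intro i hi; exact h4 i (Finset.sdiff_subset hi)

/-- The norm of a quadratic automorphism of odd prime order vanishes. -/
theorem norm_quad {A : Type*} [CommGroup A] {p : ℕ} (hp : p.Prime) (hp2 : p ≠ 2) (x : A ≃* A) {u : A}
    (hu : u ^ p = 1) (hq : x (u⁻¹ * x u) = u⁻¹ * x u) :
    ∏ k ∈ Finset.range p, x^[k] u = 1 := by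
  obtain ⟨c, hc⟩ : ∃ c, c = u⁻¹ * x u := ⟨_, rfl⟩
  rw [← hc] at hq
  have hxu : x u = u * c := by rw [hc]; group
  have h1 : ∀ k : ℕ, x^[k] u = u * c ^ k := by
    intro k
    induction k with
    | zero => simp
    | succ k ih =>
      rw [Function.iterate_succ_apply', ih, map_mul, map_pow, hq, hxu, pow_succ', mul_assoc]
  have hcp : c ^ p = 1 := by
    rw [hc, mul_pow, inv_pow, ← map_pow, hu]; simp
  rw [Finset.prod_congr rfl fun k _ => h1 k, Finset.prod_mul_distrib, Finset.prod_const,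
    Finset.card_range, hu, one_mul, Finset.prod_pow_eq_pow_sum, Finset.sum_range_id]
  have h2 : p ∣ p * (p - 1) / 2 := by
    have hodd := hp.eq_two_or_odd'.resolve_left hp2
    obtain ⟨m, hm⟩ := hodd
    refine ⟨m, ?_⟩
    rw [hm]
    have : (2 * m + 1) * (2 * m + 1 - 1) = (2 * m + 1) * m * 2 := by
      rw [Nat.add_sub_cancel]; ring
    rw [this, Nat.mul_div_cancel _ (by norm_num)]
  obtain ⟨m, hm⟩ := h2
  rw [hm, pow_mul, hcp, one_pow]

/-- Climbing along a normal subset of a `p`-group. -/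
theorem climb {G : Type*} [Group G] [Finite G] {p : ℕ} [Fact p.Prime] {P : Subgroup G}
    (hP : IsPGroup p P) (𝒬 : Set G) (h𝒬P : ∀ x ∈ 𝒬, x ∈ P)
    (hconj : ∀ g ∈ P, ∀ x ∈ 𝒬, g * x * g⁻¹ ∈ 𝒬) (hpow : ∀ x ∈ 𝒬, ∀ k : ℕ, x ^ k ∈ 𝒬)
    (Pr : Subgroup G → Prop) (h0 : Pr ⊥)
    (hstep : ∀ M, M ≤ P → Pr M → ∀ x ∈ 𝒬, x ∈ Subgroup.normalizer (M : Set G) → x ∉ M → x ^ p ∈ M →
      Pr (M ⊔ Subgroup.zpowers x)) : Pr (Subgroup.closure 𝒬) := by
  classical
  set J := Subgroup.closure 𝒬 with hJ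
  have hJP : J ≤ P := by rw [hJ, Subgroup.closure_le]; exact h𝒬P
  obtain ⟨M, ⟨hM1, hM2⟩, hM3⟩ := Set.Finite.exists_maximal
    (s := {M : Subgroup G | Pr M ∧ M = Subgroup.closure (𝒬 ∩ M)}) (Set.toFinite _)
    ⟨⊥, h0, by
      refine le_antisymm bot_le ?_
      rw [Subgroup.closure_le]
      exact Set.inter_subset_right⟩
  have hMJ : M ≤ J := by
    rw [hM2]; exact Subgroup.closure_mono Set.inter_subset_left
  rcases eq_or_lt_of_le hMJ with h | hlt
  · rwa [h] at hM1
  exfalso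
  -- a quadratic element outside `M` normalizing `M`
  obtain ⟨x, hx𝒬, hxN, hxM⟩ : ∃ x ∈ 𝒬, x ∈ Subgroup.normalizer (M : Set G) ∧ x ∉ M := by
    by_contra hno
    push Not at hno
    set N := J ⊓ Subgroup.normalizer (M : Set G) with hN
    have hMN : M ≤ N := le_inf hMJ Subgroup.le_normalizer
    have hcl : M = Subgroup.closure (𝒬 ∩ N) := by
      apply le_antisymm
      · conv_lhs => rw [hM2]
        exact Subgroup.closure_mono (Set.inter_subset_inter_right _ hMN)
      · rw [Subgroup.closure_le]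
        rintro x ⟨hx1, hx2⟩
        exact hno x hx1 hx2.2
    have hNJ : N = J := by
      by_contra hne
      have hNJ : N < J := lt_of_le_of_ne inf_le_left hne
      have hJp : IsPGroup p J := isPGroup_of_le hP hJP
      obtain ⟨b, hbJ, hbN, hb⟩ := exists_mem_normalizer_of_isPGroup_lt hJp hNJ
      apply hb
      refine ⟨hbJ, ?_⟩
      apply mem_normalizer_of_finite
      intro y hy
      have h5 : M ≤ M.comap (MulAut.conj b).toMonoidHom := by
        conv_lhs => rw [hcl]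
        rw [Subgroup.closure_le]
        rintro y ⟨hy1, hy2⟩
        have h6 : b * y * b⁻¹ ∈ N := (Subgroup.mem_normalizer_iff.1 hbN y).1 hy2
        exact hno _ (hconj b (hJP hbJ) y hy1) h6.2
      exact h5 hy
    have hle : J ≤ M := by
      rw [hJ, Subgroup.closure_le]
      intro x hx
      refine hno x hx ?_
      have : x ∈ N := by rw [hNJ]; exact Subgroup.subset_closure hx
      exact this.2
    exact (lt_of_lt_of_le hlt hle).false
  -- replace `x` by a power
  obtain ⟨y, hy𝒬, hyN, hyM, hyp⟩ : ∃ y ∈ 𝒬, y ∈ Subgroup.normalizer (M : Set G) ∧ y ∉ M ∧ y ^ p ∈ M := by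
    obtain ⟨n, hn⟩ := isPGroup_pow_one hP (h𝒬P x hx𝒬)
    have hex : ∃ m, x ^ p ^ m ∈ M := ⟨n, by rw [hn]; exact M.one_mem⟩
    have hm0 : Nat.find hex ≠ 0 := by
      intro h
      have := Nat.find_spec hex
      rw [h, pow_zero, pow_one] at this
      exact hxM this
    obtain ⟨e, he⟩ := Nat.exists_eq_succ_of_ne_zero hm0
    refine ⟨x ^ p ^ e, hpow x hx𝒬 _, pow_mem hxN _, Nat.find_min hex (by omega), ?_⟩
    rw [← pow_mul, ← pow_succ]
    have := Nat.find_spec hex
    rwa [he] at this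
  have hnew := hstep M (hMJ.trans hJP) hM1 y hy𝒬 hyN hyM hyp
  have hmem : (M ⊔ Subgroup.zpowers y) ∈ {M : Subgroup G | Pr M ∧ M = Subgroup.closure (𝒬 ∩ M)} := by
    refine ⟨hnew, le_antisymm (sup_le ?_ ?_) ?_⟩
    · conv_lhs => rw [hM2]
      exact Subgroup.closure_mono (Set.inter_subset_inter_right _ (SetLike.coe_subset_coe.2 le_sup_left))
    · rw [Subgroup.zpowers_le]
      exact Subgroup.subset_closure ⟨hy𝒬, le_sup_right (a := M) (Subgroup.mem_zpowers y)⟩
    · rw [Subgroup.closure_le]; exact Set.inter_subset_right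
  have h7 := hM3 hmem le_sup_left
  exact hyM (h7 (le_sup_right (a := M) (Subgroup.mem_zpowers y)))

theorem quad_pow {G : Type*} [Group G] {v x : G} (h : ⁅⁅v, x⁆, x⁆ = 1) (k : ℕ) :
    ⁅⁅v, x ^ k⁆, x ^ k⁆ = 1 := by
  rw [commutatorElement_eq_one_iff_mul_comm] at h ⊢
  have h1 : ⁅v, x ^ k⁆ = ⁅v, x⁆ ^ k := by
    have h2 : v * x * v⁻¹ = ⁅v, x⁆ * x := by rw [commutatorElement_def]; group
    have h3 : v * x ^ k * v⁻¹ = ⁅v, x⁆ ^ k * x ^ k := by
      rw [← conj_pow, h2]
      exact Commute.mul_pow h k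
    rw [commutatorElement_def, h3]; group
  rw [h1]
  exact ((show Commute ⁅v, x⁆ x from h).pow_left k).pow_right k

/-- The product argument. -/
theorem central_of_quad {G : Type*} [Group G] [Finite G] {p : ℕ} [hp : Fact p.Prime] (hp2 : p ≠ 2)
    (P : Sylow p G) (V : Subgroup G) [hVn : V.Normal] (hVab : ∀ a ∈ V, ∀ b ∈ V, a * b = b * a)
    {z : G} (hzV : z ∈ V) (hzP : z ∈ (P : Subgroup G)) (hPz : ∀ x ∈ (P : Subgroup G), x * z = z * x)
    (hzp : ∀ g : G, (g * z * g⁻¹ * z⁻¹) ^ p = 1)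
    (hmax : ∀ g : G, (∀ x ∈ (P : Subgroup G), (∀ v ∈ V, ⁅⁅v, x⁆, x⁆ = 1) → g * x * g⁻¹ ∈ (P : Subgroup G)) →
      g * z = z * g) : ∀ g : G, g * z = z * g := by
  classical
  letI : CommGroup ↥V := { (inferInstance : Group ↥V) with
    mul_comm := fun a b => Subtype.ext (hVab a a.2 b b.2) }
  haveI : Fintype ↥V := Fintype.ofFinite _
  let φ : G →* MulAut ↥V := MulAut.conjNormal
  have hφ : ∀ (g : G) (v : ↥V), ((φ g v : ↥V) : G) = g * v * g⁻¹ := fun g v => MulAut.conjNormal_apply g v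
  let zV : ↥V := ⟨z, hzV⟩
  let Δ : Finset ↥V := Finset.univ.filter fun v => ∃ g : G, φ g zV = v
  have hΔ : ∀ v, v ∈ Δ ↔ ∃ g : G, φ g zV = v := fun v => by simp [Δ]
  have hΔc : ∀ (g : G), ∀ v ∈ Δ, φ g v ∈ Δ := by
    intro g v hv
    obtain ⟨h, rfl⟩ := (hΔ v).1 hv
    exact (hΔ _).2 ⟨g * h, by rw [map_mul]; rfl⟩
  have hφP : ∀ x ∈ (P : Subgroup G), φ x zV = zV := by
    intro x hx
    apply Subtype.ext
    rw [hφ]
    show x * z * x⁻¹ = z
    rw [hPz x hx, mul_inv_cancel_right]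
  let fx : Subgroup G → Finset ↥V := fun M => Δ.filter fun v => ∀ m ∈ M, φ m v = v
  have hfx : ∀ M v, v ∈ fx M ↔ v ∈ Δ ∧ ∀ m ∈ M, φ m v = v := fun M v => by simp [fx]
  let 𝒬 : Set G := {x | x ∈ (P : Subgroup G) ∧ ∀ v ∈ V, ⁅⁅v, x⁆, x⁆ = 1}
  have hquad : ∀ x ∈ 𝒬, ∀ v : ↥V, φ x (v⁻¹ * φ x v) = v⁻¹ * φ x v := by
    rintro x ⟨-, hx⟩ v
    have h1 := hx (v : G) v.2
    rw [commutatorElement_eq_one_iff_mul_comm] at h1
    apply Subtype.ext
    rw [hφ, Subgroup.coe_mul, Subgroup.coe_inv, hφ]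
    have h2 : (v : G)⁻¹ * (x * v * x⁻¹) = ⁅(v : G), x⁆⁻¹ := by
      have h3 : (v : G)⁻¹ * (x * v * x⁻¹) = (x * v * x⁻¹) * (v : G)⁻¹ :=
        hVab _ (inv_mem v.2) _ (hVn.conj_mem _ v.2 x)
      rw [h3, commutatorElement_def]; group
    rw [h2]
    have h4 : x * ⁅(v : G), x⁆⁻¹ = ⁅(v : G), x⁆⁻¹ * x :=
      (Commute.inv_right (show Commute x ⁅(v : G), x⁆ from h1.symm)).eq
    rw [h4, mul_inv_cancel_right]
  -- the function
  let f : Subgroup G → ↥V := fun M => ∏ v ∈ fx M, v * zV⁻¹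
  have hstep : ∀ M, M ≤ (P : Subgroup G) → f M = f ⊥ → ∀ x ∈ 𝒬,
      x ∈ Subgroup.normalizer (M : Set G) → x ∉ M → x ^ p ∈ M →
      f (M ⊔ Subgroup.zpowers x) = f ⊥ := by
    intro M hM hfM x hx hxN hxM hxp
    rw [← hfM]
    have hsub : fx (M ⊔ Subgroup.zpowers x) ⊆ fx M := by
      intro v hv
      rw [hfx] at hv ⊢
      exact ⟨hv.1, fun m hm => hv.2 m (le_sup_left (b := Subgroup.zpowers x) hm)⟩
    show ∏ v ∈ fx (M ⊔ Subgroup.zpowers x), v * zV⁻¹ = ∏ v ∈ fx M, v * zV⁻¹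
    rw [← Finset.prod_sdiff hsub]
    have hmem : ∀ v, v ∈ fx M \ fx (M ⊔ Subgroup.zpowers x) ↔ v ∈ fx M ∧ φ x v ≠ v := by
      intro v
      rw [Finset.mem_sdiff]
      refine and_congr_right fun hv => not_congr ?_
      rw [hfx]
      constructor
      · intro h
        exact h.2 x (le_sup_right (a := M) (Subgroup.mem_zpowers x))
      · intro h
        refine ⟨((hfx M v).1 hv).1, ?_⟩
        have hle : M ⊔ Subgroup.zpowers x ≤ (MulAction.stabilizer (MulAut ↥V) v).comap φ := by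
          refine sup_le (fun m hm => ?_) ?_
          · exact ((hfx M v).1 hv).2 m hm
          · rw [Subgroup.zpowers_le]; exact h
        intro m hm
        exact hle hm
    have hstab : ∀ k : ℕ, ∀ v : ↥V, (⇑(φ x))^[k] v = φ (x ^ k) v := by
      intro k
      induction k with
      | zero => intro v; simp
      | succ k ih =>
        intro v
        rw [Function.iterate_succ_apply', ih, pow_succ', map_mul]; rfl
    have h5 : ∏ v ∈ fx M \ fx (M ⊔ Subgroup.zpowers x), v * zV⁻¹ = 1 := by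
      refine prod_perm_orbits hp.out (φ x) (fun v => v * zV⁻¹) _ ?_ ?_ ?_ ?_
      · intro v hv
        rw [hmem] at hv ⊢
        refine ⟨(hfx _ _).2 ⟨hΔc x v ((hfx M v).1 hv.1).1, fun m hm => ?_⟩, fun h => hv.2 ?_⟩
        · have h6 : x⁻¹ * m * x ∈ M := by
            have := (Subgroup.mem_normalizer_iff.1 (inv_mem hxN) m).1 hm
            rwa [inv_inv] at this
          have h7 := ((hfx M v).1 hv.1).2 _ h6
          have h8 : φ m (φ x v) = φ x (φ (x⁻¹ * m * x) v) := by
            have : m * x = x * (x⁻¹ * m * x) := by group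
            calc φ m (φ x v) = φ (m * x) v := by rw [map_mul]; rfl
              _ = φ (x * (x⁻¹ * m * x)) v := by rw [← this]
              _ = φ x (φ (x⁻¹ * m * x) v) := by rw [map_mul]; rfl
          rw [h8, h7]
        · exact (φ x).injective h
      · intro v hv
        rw [hmem] at hv
        rw [hstab]
        exact ((hfx M v).1 hv.1).2 _ hxp
      · intro v hv
        rw [hmem] at hv
        exact hv.2
      · intro v hv
        rw [hmem] at hv
        obtain ⟨g, hg⟩ := (hΔ v).1 ((hfx M v).1 hv.1).1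
        have h6 := norm_quad hp.out hp2 (φ x) (u := v * zV⁻¹) (by
          apply Subtype.ext
          rw [Subgroup.coe_pow, Subgroup.coe_mul, Subgroup.coe_inv, ← hg, hφ]
          exact hzp g) (hquad x hx _)
        rw [← h6]
        refine Finset.prod_congr rfl fun k _ => ?_
        rw [hstab, hstab, map_mul, map_inv, hφP _ (pow_mem hx.1 k)]
    rw [h5, one_mul]
  have hfin := climb (P := (P : Subgroup G)) P.isPGroup' 𝒬 (fun x hx => hx.1) (by
      rintro g hg x ⟨hx1, hx2⟩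
      refine ⟨mul_mem (mul_mem hg hx1) (inv_mem hg), fun v hv => ?_⟩
      have h1 := hx2 (g⁻¹ * v * g) (by
        have := hVn.conj_mem v hv g⁻¹
        rwa [inv_inv] at this)
      have h2 : ⁅⁅v, g * x * g⁻¹⁆, g * x * g⁻¹⁆ = g * ⁅⁅g⁻¹ * v * g, x⁆, x⁆ * g⁻¹ := by
        simp only [commutatorElement_def]; group
      rw [h2, h1]; group) (by
      rintro x hx k
      exact ⟨pow_mem hx.1 k, fun v hv => quad_pow (hx.2 v hv) k⟩) (fun M => f M = f ⊥) rfl hstep
  -- the fixed points of `J`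
  have hfixJ : fx (Subgroup.closure 𝒬) ⊆ {zV} := by
    intro v hv
    rw [Finset.mem_singleton]
    obtain ⟨hv1, hv2⟩ := (hfx _ _).1 hv
    obtain ⟨g, rfl⟩ := (hΔ v).1 hv1
    -- `J ≤ C(z^g)`
    have hJ : ∀ x ∈ 𝒬, g⁻¹ * x * g ∈ Subgroup.centralizer {z} := by
      intro x hx
      have h1 := hv2 x (Subgroup.subset_closure hx)
      have h2 := congrArg Subtype.val h1
      rw [hφ, hφ] at h2
      change x * (g * z * g⁻¹) * x⁻¹ = g * z * g⁻¹ at h2
      rw [Subgroup.mem_centralizer_singleton_iff]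
      have h3 : x * (g * z * g⁻¹) = g * z * g⁻¹ * x := by
        calc x * (g * z * g⁻¹) = x * (g * z * g⁻¹) * x⁻¹ * x := by group
          _ = g * z * g⁻¹ * x := by rw [h2]
      calc g⁻¹ * x * g * z = g⁻¹ * (x * (g * z * g⁻¹)) * g := by group
        _ = g⁻¹ * (g * z * g⁻¹ * x) * g := by rw [h3]
        _ = z * (g⁻¹ * x * g) := by group
    set C := Subgroup.centralizer {z} with hC
    have hPC : (P : Subgroup G) ≤ C := fun x hx => Subgroup.mem_centralizer_singleton_iff.2 (hPz x hx)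
    -- the conjugate of `J` is a `p`-subgroup of `C`
    set J := Subgroup.closure 𝒬 with hJdef
    have hJP : J ≤ (P : Subgroup G) := by rw [hJdef, Subgroup.closure_le]; exact fun x hx => hx.1
    have hJC : J.map (MulAut.conj g⁻¹).toMonoidHom ≤ C := by
      rw [hJdef, MonoidHom.map_closure, Subgroup.closure_le]
      rintro _ ⟨x, hx, rfl⟩
      have := hJ x hx
      show g⁻¹ * x * g⁻¹⁻¹ ∈ C
      rwa [inv_inv]
    have hJp : IsPGroup p (J.map (MulAut.conj g⁻¹).toMonoidHom) := (isPGroup_of_le P.isPGroup' hJP).map _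
    obtain ⟨c, hcC, hc⟩ : ∃ c ∈ C, ∀ y ∈ J.map (MulAut.conj g⁻¹).toMonoidHom,
        c * y * c⁻¹ ∈ (P : Subgroup G) := by
      obtain ⟨R, hR⟩ := IsPGroup.exists_le_sylow (G := C)
        (hJp.comap_of_injective C.subtype C.subtype_injective)
      obtain ⟨c, hc⟩ := MulAction.exists_smul_eq C R (P.subtype hPC)
      refine ⟨c, c.2, fun y hy => ?_⟩
      have h1 : (⟨y, hJC hy⟩ : C) ∈ (R : Subgroup C) := hR hy
      have h2 : c * ⟨y, hJC hy⟩ * c⁻¹ ∈ (P.subtype hPC : Subgroup C) := by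
        rw [← hc]
        exact ⟨_, h1, rfl⟩
      exact h2
    have h4 := hmax (c * g⁻¹) (fun x hx hxq => by
      have h5 : g⁻¹ * x * g⁻¹⁻¹ ∈ J.map (MulAut.conj g⁻¹).toMonoidHom :=
        ⟨x, Subgroup.subset_closure ⟨hx, hxq⟩, rfl⟩
      have h6 := hc _ h5
      have h7 : c * g⁻¹ * x * (c * g⁻¹)⁻¹ = c * (g⁻¹ * x * g⁻¹⁻¹) * c⁻¹ := by group
      rw [h7]; exact h6)
    have h5 := Subgroup.mem_centralizer_singleton_iff.1 hcC
    apply Subtype.ext
    rw [hφ]
    show g * z * g⁻¹ = z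
    have h6 : g⁻¹ * z = z * g⁻¹ := by
      have h7 : c * (g⁻¹ * z) = c * (z * g⁻¹) := by
        rw [← mul_assoc, h4, ← mul_assoc, ← mul_assoc, h5]
      exact mul_left_cancel h7
    have h8 : g * (g⁻¹ * z) = g * (z * g⁻¹) := by rw [h6]
    rw [← mul_assoc, mul_inv_cancel, one_mul, ← mul_assoc] at h8
    exact h8.symm
  have hfJ : f (Subgroup.closure 𝒬) = 1 := by
    refine Finset.prod_eq_one fun v hv => ?_
    have := Finset.mem_singleton.1 (hfixJ hv)
    rw [this, mul_inv_cancel]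
  have hf1 : f ⊥ = 1 := by rw [← hfin, hfJ]
  have hfx1 : fx ⊥ = Δ := by
    ext v
    rw [hfx]
    refine ⟨fun h => h.1, fun h => ⟨h, fun m hm => ?_⟩⟩
    rw [Subgroup.mem_bot] at hm
    rw [hm, map_one]; rfl
  have hprod : ∏ v ∈ Δ, v = zV ^ Δ.card := by
    have h1 : ∏ v ∈ Δ, v * zV⁻¹ = 1 := by rw [← hfx1]; exact hf1
    rw [Finset.prod_mul_distrib, Finset.prod_const, inv_pow] at h1
    exact mul_inv_eq_one.1 h1
  have hinv : ∀ g : G, φ g (∏ v ∈ Δ, v) = ∏ v ∈ Δ, v := by
    intro g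
    rw [map_prod]
    refine Finset.prod_bij (fun v _ => φ g v) (fun v hv => hΔc g v hv) (fun v _ w _ h => (φ g).injective h)
      (fun v hv => ⟨φ g⁻¹ v, hΔc _ v hv, ?_⟩) (fun _ _ => rfl)
    rw [map_inv]; exact (φ g).apply_symm_apply v
  -- the size of `Δ` is prime to `p`
  have hcard : ¬ p ∣ Δ.card := by
    letI : MulAction G ↥V := MulAction.compHom ↥V φ
    have h1 : (MulAction.orbit G zV) = (Δ : Set ↥V) := by
      ext v
      rw [Finset.mem_coe, hΔ]
      exact Iff.rfl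
    have h2 : (MulAction.stabilizer G zV).index = (MulAction.orbit G zV).ncard :=
      MulAction.index_stabilizer G zV
    rw [h1, Set.ncard_coe_finset] at h2
    rw [← h2]
    have h3 : (P : Subgroup G) ≤ MulAction.stabilizer G zV := fun x hx => hφP x hx
    intro hd
    exact P.not_dvd_index (hd.trans (Subgroup.index_dvd_of_le h3))
  intro g
  obtain ⟨j, hj⟩ := isPGroup_pow_one P.isPGroup' hzP
  have hcop : Nat.Coprime Δ.card (p ^ j) :=
    (Nat.Coprime.pow_right j ((Nat.Prime.coprime_iff_not_dvd hp.out).2 hcard).symm)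
  have h1 := hinv g
  rw [hprod, map_pow] at h1
  -- take a power
  have h2 : ∀ n : ℕ, (φ g zV) ^ (Δ.card * n) = zV ^ (Δ.card * n) := by
    intro n
    rw [pow_mul, h1, ← pow_mul]
  have h3 : φ g zV = zV := by
    have hz1 : zV ^ p ^ j = 1 := Subtype.ext hj
    have hz2 : (φ g zV) ^ p ^ j = 1 := by rw [← map_pow, hz1, map_one]
    obtain ⟨k, hk⟩ : ∃ k, Δ.card * k ≡ 1 [MOD p ^ j] := by
      obtain ⟨k, hk⟩ := Nat.exists_mul_mod_eq_of_coprime 1 hcop (pow_pos hp.out.pos j).ne'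
      exact ⟨k, hk.2⟩
    have e1 : ∀ a : ↥V, a ^ p ^ j = 1 → a ^ (Δ.card * k) = a := by
      intro a ha
      conv_rhs => rw [← pow_one a]
      exact pow_eq_pow_iff_modEq.2 (hk.of_dvd (orderOf_dvd_of_pow_eq_one ha))
    rw [← e1 _ hz2, h2 k, e1 _ hz1]
  have h4 := congrArg Subtype.val h3
  rw [hφ] at h4
  change g * z * g⁻¹ = z at h4
  calc g * z = g * z * g⁻¹ * g := by group
    _ = z * g := by rw [h4]

/-- A quadratic element for `Z(O_p(G))`, in elementwise form. -/
theorem J_quad' {G : Type u} [Group G] [Finite G] {p : ℕ} [Fact p.Prime] (T : Sylow p G)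
    (hJ : ¬ (thompsonSubgroupAOf (T : Subgroup G)).Normal) :
    ∃ g ∈ (T : Subgroup G), g ∉ pCore p G ∧ 
      ∀ v ∈ (Subgroup.center ↥(pCore p G)).map (pCore p G).subtype, ⁅⁅v, g⁆, g⁆ = 1 := by
  obtain ⟨g, hg1, hg2, hg3⟩ := J_quad T hJ
  refine ⟨g, hg1, hg2, fun v hv => ?_⟩
  have : ⁅⁅v, g⁆, g⁆ ∈ ⁅⁅(Subgroup.center ↥(pCore p G)).map (pCore p G).subtype, Subgroup.zpowers g⁆,
      Subgroup.zpowers g⁆ :=
    Subgroup.commutator_mem_commutator (Subgroup.commutator_mem_commutator hv (Subgroup.mem_zpowers g))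
      (Subgroup.mem_zpowers g)
  rw [hg3, Subgroup.mem_bot] at this
  exact this

theorem frat_decomp {G : Type*} [Group G] [Finite G] {p : ℕ} [Fact p.Prime] (P : Sylow p G)
    (C : Subgroup G) [C.Normal] (g : G) : ∃ c ∈ C,
      ∃ k ∈ Subgroup.normalizer ((C ⊓ (P : Subgroup G) : Subgroup G) : Set G), g = c * k := by
  obtain ⟨c, hc, k, hk, h⟩ := H2.exists_frattini P C g
  rw [inf_comm] at hk
  exact ⟨c, hc, k, hk, h⟩

/-- Glauberman's theorem for constrained groups, `p` odd. -/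
theorem glauberman_center {p : ℕ} [hp : Fact p.Prime] (hp2 : p ≠ 2) :
    ∀ (n : ℕ) (G : Type u) [Group G] [Finite G], Nat.card G = n → ∀ (P : Sylow p G),
      Subgroup.centralizer ((Cfsg.pCore p G : Subgroup G) : Set G) ≤ Cfsg.pCore p G →
      ∀ z ∈ (P : Subgroup G), (∀ x ∈ (P : Subgroup G), x * z = z * x) →
      (∀ g ∈ Subgroup.normalizer ((thompsonSubgroupAOf (P : Subgroup G) : Subgroup G) : Set G),
        g * z = z * g) → ∀ g : G, g * z = z * g := by
  intro n
  induction n using Nat.strong_induction_on with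
  | _ n ih =>
  intro G _ _ hn P hc z hz hPz hN
  by_cases hJ : (thompsonSubgroupAOf (P : Subgroup G)).Normal
  · intro g
    apply hN
    rw [Subgroup.normalizer_eq_top]
    exact Subgroup.mem_top g
  -- proper subgroups containing `P` centralize `z`
  have hH : ∀ H : Subgroup G, (P : Subgroup G) ≤ H → H ≠ ⊤ → ∀ h ∈ H, h * z = z * h := by
    intro H hPH hHt h hh
    have hlt : Nat.card H < n := by
      rw [← hn]
      refine lt_of_le_of_ne (Subgroup.card_le_card_group H) fun h => hHt (Subgroup.eq_top_of_card_eq H h)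
    have hO : ∀ x ∈ pCore p G, ∀ hx : x ∈ H, (⟨x, hx⟩ : H) ∈ pCore p H := by
      intro x hx hxH
      have h1 : ((pCore p G).subgroupOf H) ≤ pCore p H := by
        refine le_pCore ?_ ?_
        · haveI : (pCore p G).Normal := inferInstance
          infer_instance
        · exact (isPGroup_pCore (p := p) (X := G)).comap_of_injective H.subtype H.subtype_injective
      exact h1 hx
    have hOH : pCore p G ≤ H := (pCore_le_sylow P).trans hPH
    have key := ih (Nat.card H) hlt H rfl (P.subtype hPH) ?_ ⟨z, hPH hz⟩ ?_ ?_ ?_ ⟨h, hh⟩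
    · exact congrArg Subtype.val key
    · intro x hx
      have h2 : (x : G) ∈ pCore p G := by
        apply hc
        rw [Subgroup.mem_centralizer_iff]
        intro y hy
        have := Subgroup.mem_centralizer_iff.1 hx ⟨y, hOH hy⟩ (hO y hy (hOH hy))
        exact congrArg Subtype.val this
      exact hO x h2 x.2
    · exact hz
    · intro x hx
      exact Subtype.ext (hPz x hx)
    · intro x hx
      apply Subtype.ext
      refine hN (x : G) ?_
      have h3 : (P : Subgroup G) = (P.subtype hPH : Subgroup H).map H.subtype := by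
        rw [Sylow.coe_subtype, Subgroup.subgroupOf_map_subtype, inf_eq_left.2 hPH]
      rw [h3, JA_map H.subtype_injective]
      apply mem_normalizer_of_finite
      rintro _ ⟨y, hy, rfl⟩
      exact ⟨x * y * x⁻¹, (Subgroup.mem_normalizer_iff.1 hx y).1 hy, rfl⟩
  set O : Subgroup G := pCore p G with hO
  set V : Subgroup G := (Subgroup.center ↥O).map O.subtype with hV
  have hOT : O ≤ (P : Subgroup G) := pCore_le_sylow P
  have hVO : ∀ v ∈ V, ∀ o ∈ O, v * o = o * v := by
    rintro _ ⟨v, hv, rfl⟩ o ho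
    rw [SetLike.mem_coe, Subgroup.mem_center_iff] at hv
    exact congrArg Subtype.val (hv ⟨o, ho⟩).symm
  have hVle : V ≤ O := by rintro _ ⟨v, -, rfl⟩; exact v.2
  have hVab : ∀ v ∈ V, ∀ w ∈ V, v * w = w * v := fun v hv w hw => hVO v hv w (hVle hw)
  haveI hOn : O.Normal := by rw [hO]; infer_instance
  haveI hVn : V.Normal := by rw [hV]; infer_instance
  have hzV : z ∈ V := by
    have hzO : z ∈ O := hc (Subgroup.mem_centralizer_iff.2 fun y hy => hPz y (hOT hy))
    exact ⟨⟨z, hzO⟩, Subgroup.mem_center_iff.2 fun y => Subtype.ext (hPz y (hOT y.2)), rfl⟩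
  obtain ⟨q, hqP, hqO, hq⟩ := J_quad P hJ
  -- `z ^ p` is central
  obtain ⟨m, hm⟩ := isPGroup_pow_one P.isPGroup' hqP
  obtain ⟨h, hhq, hhO, hhV⟩ := quad_pth hVO hVab (n := m) (by rw [hm]; exact O.one_mem) hqO hq
  have hhP : h ∈ (P : Subgroup G) := by
    have : Subgroup.zpowers q ≤ (P : Subgroup G) := by rw [Subgroup.zpowers_le]; exact hqP
    exact this hhq
  set X : Subgroup G := Subgroup.closure ((fun v => v ^ p) '' (V : Set G)) with hXdef
  have hXn : X.Normal := by
    have hc : ∀ g : G, X ≤ X.comap (MulAut.conj g).toMonoidHom := by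
      intro g
      conv_lhs => rw [hXdef]
      rw [Subgroup.closure_le]
      rintro _ ⟨v, hv, rfl⟩
      show g * v ^ p * g⁻¹ ∈ X
      rw [← conj_pow]
      exact Subgroup.subset_closure ⟨_, hVn.conj_mem v hv g, rfl⟩
    exact ⟨fun x hx g => hc g hx⟩
  have hhX : h ∈ Subgroup.centralizer (X : Set G) := by
    have : X ≤ Subgroup.centralizer {h} := by
      rw [hXdef, Subgroup.closure_le]
      rintro _ ⟨v, hv, rfl⟩
      exact Subgroup.mem_centralizer_singleton_iff.2 (hhV v hv).symm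
    rw [Subgroup.mem_centralizer_iff]
    intro x hx
    exact Subgroup.mem_centralizer_singleton_iff.1 (this hx)
  haveI hCn : (Subgroup.centralizer (X : Set G)).Normal := inferInstance
  obtain ⟨C, hC⟩ : ∃ C, C = Subgroup.centralizer (X : Set G) := ⟨_, rfl⟩
  rw [← hC] at hhX hCn
  have hzX : z ^ p ∈ X := Subgroup.subset_closure ⟨z, hzV, rfl⟩
  have hzp : ∀ g : G, g * z ^ p = z ^ p * g := by
    have hNP : (P : Subgroup G) ≤ Subgroup.normalizer ((C ⊓ (P : Subgroup G) : Subgroup G) : Set G) := by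
      intro x hx
      apply mem_normalizer_of_finite
      rintro y ⟨hy1, hy2⟩
      exact ⟨hCn.conj_mem y hy1 x, mul_mem (mul_mem hx hy2) ((P : Subgroup G).inv_mem hx)⟩
    have hNt : Subgroup.normalizer ((C ⊓ (P : Subgroup G) : Subgroup G) : Set G) ≠ ⊤ := by
      intro htop
      apply hhO
      have hn : (C ⊓ (P : Subgroup G)).Normal := Subgroup.normalizer_eq_top_iff.1 htop
      exact le_pCore hn (isPGroup_of_le P.isPGroup' inf_le_right) ⟨hhX, hhP⟩
    have hN' := hH _ hNP hNt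
    intro g
    obtain ⟨c, hcC, k, hk, rfl⟩ := frat_decomp P C g
    have h1 := hN' k hk
    have h2 : c * z ^ p = z ^ p * c := by
      rw [hC] at hcC
      exact (Subgroup.mem_centralizer_iff.1 hcC _ hzX).symm
    have h3 : k * z ^ p = z ^ p * k := (show Commute k z from h1).pow_right p
    rw [mul_assoc, h3, ← mul_assoc, h2, mul_assoc]
  refine central_of_quad hp2 P V hVab hzV hz hPz (fun g => ?_) (fun g hg => ?_)
  · have h1 : g * z * g⁻¹ ∈ V := hVn.conj_mem z hzV g
    have h2 : Commute (g * z * g⁻¹) z⁻¹ := hVab _ h1 _ (inv_mem hzV)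
    rw [h2.mul_pow, conj_pow, hzp g, inv_pow]; group
  · set J : Subgroup G := Subgroup.closure {x | x ∈ (P : Subgroup G) ∧ ∀ v ∈ V, ⁅⁅v, x⁆, x⁆ = 1} with hJdef
    have hJP : J ≤ (P : Subgroup G) := by rw [hJdef, Subgroup.closure_le]; exact fun x hx => hx.1
    have hconj : ∀ k : G, (∀ x ∈ (P : Subgroup G), (∀ v ∈ V, ⁅⁅v, x⁆, x⁆ = 1) → k * x * k⁻¹ ∈ (P : Subgroup G)) →
        k ∈ Subgroup.normalizer (J : Set G) := by
      intro k hk
      apply mem_normalizer_of_finite
      intro y hy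
      have h5 : J ≤ J.comap (MulAut.conj k).toMonoidHom := by
        conv_lhs => rw [hJdef]
        rw [Subgroup.closure_le]
        rintro x ⟨hx1, hx2⟩
        refine Subgroup.subset_closure ⟨hk x hx1 hx2, fun v hv => ?_⟩
        have h1 := hx2 (k⁻¹ * v * k) (by
          have := hVn.conj_mem v hv k⁻¹
          rwa [inv_inv] at this)
        have h2 : ⁅⁅v, k * x * k⁻¹⁆, k * x * k⁻¹⁆ = k * ⁅⁅k⁻¹ * v * k, x⁆, x⁆ * k⁻¹ := by
          simp only [commutatorElement_def]; group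
        show ⁅⁅v, k * x * k⁻¹⁆, k * x * k⁻¹⁆ = 1
        rw [h2, h1]; group
      exact h5 hy
    refine hH (Subgroup.normalizer (J : Set G)) (fun x hx => hconj x fun y hy _ =>
      mul_mem (mul_mem hx hy) ((P : Subgroup G).inv_mem hx)) (fun htop => ?_) g (hconj g hg)
    obtain ⟨q', hq'1, hq'2, hq'3⟩ := J_quad' P hJ
    have hn : J.Normal := Subgroup.normalizer_eq_top_iff.1 htop
    exact hq'2 (le_pCore hn (isPGroup_of_le P.isPGroup' hJP) (Subgroup.subset_closure ⟨hq'1, hq'3⟩))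

end Cfsg.Agent.H28
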