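import Mathlib
import Cfsg.Prelude.Def_FusionSystem
import Cfsg.Prelude.Def_FusionReduction
import Cfsg.Agent.H28.GlauC
import Cfsg.Agent.H28.GCtl5

/-!
Glauberman's theorem on central elements for fusion systems, odd primes; the centre is a direct factor.
-/

set_option autoImplicit false
open Cfsg Cfsg.FusionSystem
open scoped commutatorElement

namespace Cfsg.Agent.H28

universe u v w

section
variable {Ω : Type u} [Group Ω] {S T : Subgroup Ω} {F E D : FusionSystem S} {P Q R V U X K : Subgroup Ω}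
  {f g k χ : Ω → Ω} {x y z s t : Ω} {p : ℕ} {ρ : Ω → Ω → Prop}

/-- Control of central elements, with the condition for constrained groups only. -/
theorem relCls_center' [Fact p.Prime] (W : ∀ (Q : Type u) [Group Q], Subgroup Q)
    (hW1 : ∀ (Q : Type u) [Group Q] [Finite Q], IsPGroup p Q → Nontrivial Q → W Q ≠ ⊥)
    (hW2 : ∀ (Q R : Type u) [Group Q] [Group R] [Finite Q], IsPGroup p Q → ∀ φ : Q ≃* R,
      (W Q).map φ.toMonoidHom = W R)
    (hWZ : ∀ (Q : Type u) [Group Q] [Finite Q], IsPGroup p Q → Subgroup.center Q ≤ W Q)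
    (hC : ∀ (G : Type u) [Group G] [Finite G] (P : Sylow p G),
      Subgroup.centralizer ((Cfsg.pCore p G : Subgroup G) : Set G) ≤ Cfsg.pCore p G →
      ∀ z ∈ (P : Subgroup G), (∀ x ∈ (P : Subgroup G), x * z = z * x) →
      (∀ g ∈ Subgroup.normalizer (((W ↥(P : Subgroup G)).map (P : Subgroup G).subtype : Subgroup G) : Set G),
        g * z = z * g) → ∀ g : G, g * z = z * g) :
    RelCls.{u} p (fun (Ω : Type u) [Group Ω] S => WF p W Ω S) (RelZ p 0) := by
  have W1 := fun (Ω : Type u) [Group Ω] (S : Subgroup Ω) [Finite S] => WF_ne_bot (Ω := Ω) hW1 S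
  have W2 := fun (Ω : Type u) [Group Ω] (S : Subgroup Ω) => WF_le (p := p) (W := W) S
  have W3 := fun (Ω : Type u) [Group Ω] (S : Subgroup Ω) [Finite S] (_ : IsPGroup p S) =>
    WF_char (p := p) (Ω := Ω) hW2 S
  have W4 := ctr_functor (p := p) hWZ
  refine ⟨W1, W2, W3, fun Ω _ S ρ h => RelZ.ok h, fun Ω _ S ρ h U hU => h.sub hU, ?_, ?_⟩
  · rintro Ω _ S _ F ρ hS ⟨hF, Q', hQ'n, hQ'c⟩ hcore ⟨z, hz, hzc, rfl⟩ hN IH1 IH2
    rw [pow_zero, pow_one] at hN IH2 ⊢
    obtain ⟨G, _, ι, hG⟩ := exists_model hS hF hQ'n hQ'c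
    haveI := hG.1
    obtain ⟨T, hTr⟩ := hG.2.2.1
    have hι : Function.Injective ι := hG.2.1.1
    have hzV : z ∈ WF p W Ω S := W4 Ω S hS z hz hzc
    refine rsat_of_group_central hG.2.1 hz ?_
    have h4 : (W ↥(T : Subgroup G)).map (T : Subgroup G).subtype = imageAlong ι (WF p W Ω S) := by
      rw [WF_image hW2 hι, ← hTr, WF_eq T.isPGroup']
    have h5 := hC G T hG.2.2.2 (tf ι z) (by rw [hTr]; exact tf_mem_range hz) (fun x hx => by
      rw [hTr] at hx
      obtain ⟨a, rfl⟩ := hx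
      rw [← tf_coe, ← tf_mul a.2 hz, hzc a a.2, tf_mul hz a.2])
    rw [h4] at h5
    refine h5 fun u hu => ?_
    have h7 : u * tf ι z * u⁻¹ ∈ imageAlong ι (WF p W Ω S) :=
      (Subgroup.mem_normalizer_iff.1 hu _).1 (tf_mem_imageAlong (WF_le S) hzV)
    obtain ⟨y, hy, -, hy'⟩ := mem_imageAlong.1 h7
    have h8 := nsat_real hG.2.1 (WF_le S) hN hu hz hy hy'
    have h9 : y = z := h8.1 rfl
    rw [h9] at hy'
    conv_rhs => rw [hy']
    group
  · rintro Ω _ S _ F ρ hS hF hcore hcen hin ⟨z, hz, hzc, rfl⟩ hN IH1 IH2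
    have hQ : F.IsNormal F.core := core_normal
    have h1 := center_step (j := 0) W1 W2 W3 W4 hS hF hQ hcore (fun V hV => le_core hV) IH1 hz hzc IH2
    refine center_inn hS hF hQ hin (pow_mem hz _) (fun s hs => ?_) h1
    exact Commute.pow_right (hzc s hs : Commute s z) _

theorem thompsonSubgroupA_ne_bot (Q : Type u) [Group Q] [Finite Q] (h : Nontrivial Q) :
    thompsonSubgroupA Q ≠ ⊥ := by
  intro h1
  have h2 : thompsonSubgroupAOf (⊤ : Subgroup Q) ≠ ⊥ := JA_ne_bot' (by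
    haveI := Subgroup.nontrivial_iff.2 h
    exact top_ne_bot)
  apply h2
  have h3 := thompsonSubgroupA_map (Subgroup.topEquiv (G := Q))
  rw [h1] at h3
  have h4 : thompsonSubgroupA (↥(⊤ : Subgroup Q)) = ⊥ := by
    have := congrArg (Subgroup.map (Subgroup.topEquiv (G := Q)).symm.toMonoidHom) h3
    rw [Subgroup.map_map, Subgroup.map_bot] at this
    convert this using 1
    ext x
    simp
  unfold thompsonSubgroupAOf
  rw [h4, Subgroup.map_bot]

theorem center_le_thompsonSubgroupA (Q : Type u) [Group Q] [Finite Q] :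
    Subgroup.center Q ≤ thompsonSubgroupA Q := by
  intro z hz
  obtain ⟨A, hA⟩ := H2.exists_abIn (⊤ : Subgroup Q)
  have h1 : z ∈ A := hA.mem_of_centralize (Subgroup.mem_top z) fun a _ =>
    Subgroup.mem_center_iff.1 hz a
  have h2 : A ∈ maxAbelianSubgroups Q := ⟨hA.2.1, fun B hB => hA.2.2 B le_top hB⟩
  exact (le_sSup h2 : A ≤ thompsonSubgroupA Q) h1

theorem relCls_J [Fact p.Prime] (hp2 : p ≠ 2) :
    RelCls.{u} p (fun (Ω : Type u) [Group Ω] S =>
      WF p (fun (Q : Type u) [Group Q] => thompsonSubgroupA Q) Ω S) (RelZ p 0) :=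
  relCls_center' (fun (Q : Type u) [Group Q] => thompsonSubgroupA Q)
    (fun Q _ _ _ h => thompsonSubgroupA_ne_bot Q h) (fun Q R _ _ _ _ e => thompsonSubgroupA_map e)
    (fun Q _ _ _ => center_le_thompsonSubgroupA Q)
    (fun G _ _ P hc z hz hPz hN => glauberman_center hp2 _ G rfl P hc z hz hPz hN)

theorem relCls_Jp [Fact p.Prime] :
    RelCls.{u} p (fun (Ω : Type u) [Group Ω] S =>
      WF p (fun (Q : Type u) [Group Q] => thompsonSubgroupA Q) Ω S) (RelZ p 1) :=
  relCls_pth (fun (Q : Type u) [Group Q] => thompsonSubgroupA Q)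
    (fun Q _ _ _ h => thompsonSubgroupA_ne_bot Q h) (fun Q R _ _ _ _ e => thompsonSubgroupA_map e)
    (fun Q _ _ _ => center_le_thompsonSubgroupA Q)
    (fun G _ _ P _ h => by
      obtain ⟨g, h1, h2, h3⟩ := J_quad P h
      exact ⟨g, h1, h2, h3⟩)

theorem WF_JA [Finite S] (hS : IsPGroup p S) :
    WF p (fun (Q : Type u) [Group Q] => thompsonSubgroupA Q) Ω S = thompsonSubgroupAOf S := WF_eq hS

/-- The centre of `F` is controlled by `N_F(J(S))`. -/
theorem center_J [Fact p.Prime] [Finite S] (hp2 : p ≠ 2) (hS : IsPGroup p S) (hF : F.IsSaturated p)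
    (hn : S ≤ Subgroup.normalizer ((thompsonSubgroupAOf S : Subgroup Ω) : Set Ω)) :
    (normS F (thompsonSubgroupAOf S) (JA_le S) hn).center = F.center := by
  have hNs := normS_saturated hS hF (hQ := JA_le S) (hn := hn)
  apply le_antisymm
  · intro z hz
    have hzS : z ∈ S := center_le' hz
    have hzc := central_comm hz
    have hzV : z ∈ thompsonSubgroupAOf S := by
      rw [← WF_JA hS]
      exact ctr_functor (fun Q _ _ _ => center_le_thompsonSubgroupA Q) Ω S hS z hzS hzc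
    refine mem_center_of_rsat hS hF hzS hzc ?_
    have h1 := rel_machine (relCls_J hp2) hS hF (ρ := relZ z) ⟨z, hzS, hzc, by rw [pow_zero, pow_one]⟩ ?_
    · exact h1
    · rintro X f ⟨hf, g, hg, h1, h2⟩ x hx
      rw [WF_JA hS] at hg h2
      have hgN : Mor (normS F (thompsonSubgroupAOf S) (JA_le S) hn) (X ⊔ thompsonSubgroupAOf S) g :=
        mor_normS.2 ⟨hg.le, g, by rw [sup_eq_left.2 le_sup_right]; exact hg, fun _ _ => rfl, h2⟩
      have h3 := rsat_of_mem_center hz _ g hgN x (le_sup_left (b := thompsonSubgroupAOf S) hx)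
      rwa [h1 x hx] at h3
  · intro z hz
    exact mem_center_of_rsat hS hNs (center_le' hz) (central_comm hz)
      fun P f hf => rsat_of_mem_center hz P f (le_iff_mor.1 normS_le P f hf)

/-- For a constrained system, `Z(F)` is a direct factor of `Z(S)`. -/
theorem center_direct_factor [Fact p.Prime] [Finite S] (hS : IsPGroup p S) (hF : F.IsSaturated p)
    (hQ : F.IsNormal Q) (hQc : F.IsCentric Q) :
    ∃ K : Subgroup Ω, K ≤ (S ⊓ Subgroup.centralizer (S : Set Ω)) ∧ F.center ⊓ K = ⊥ ∧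
      F.center ⊔ K = (S ⊓ Subgroup.centralizer (S : Set Ω)) := by
  classical
  obtain ⟨G, _, ι, hG⟩ := exists_model hS hF hQ hQc
  haveI := hG.1
  obtain ⟨T, hTr⟩ := hG.2.2.1
  have hι : Function.Injective ι := hG.2.1.1
  set O : Subgroup G := pCore p G with hO
  set V : Subgroup G := (Subgroup.center ↥O).map O.subtype with hV
  have hOT : O ≤ (T : Subgroup G) := pCore_le_sylow T
  have hVO : ∀ v ∈ V, ∀ o ∈ O, v * o = o * v := by
    rintro _ ⟨v, hv, rfl⟩ o ho
    rw [SetLike.mem_coe, Subgroup.mem_center_iff] at hv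
    exact congrArg Subtype.val (hv ⟨o, ho⟩).symm
  have hVle : V ≤ O := by rintro _ ⟨v, -, rfl⟩; exact v.2
  have hVab : ∀ v ∈ V, ∀ w ∈ V, v * w = w * v := fun v hv w hw => hVO v hv w (hVle hw)
  haveI hOn : O.Normal := by rw [hO]; infer_instance
  haveI hVn : V.Normal := by rw [hV]; infer_instance
  letI : CommGroup ↥V := { (inferInstance : Group ↥V) with
    mul_comm := fun a b => Subtype.ext (hVab a a.2 b b.2) }
  let φ : G →* MulAut ↥V := MulAut.conjNormal
  have hφ : ∀ (g : G) (v : ↥V), ((φ g v : ↥V) : G) = g * v * g⁻¹ := fun g v => MulAut.conjNormal_apply g v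
  set Z : Subgroup Ω := S ⊓ Subgroup.centralizer (S : Set Ω) with hZ
  have hZS : Z ≤ S := inf_le_left
  have hZc : ∀ z ∈ Z, ∀ s ∈ S, s * z = z * s := fun z hz s hs =>
    Subgroup.mem_centralizer_iff.1 hz.2 s hs
  have hZV : ∀ z ∈ Z, tf ι z ∈ V := by
    intro z hz
    have hyO : tf ι z ∈ O := by
      have h1 := mem_centric_of_central hQc (hZS hz) (hZc z hz)
      exact (mem_preimageAlong.1 (le_preimage_pCore hG (isPGroup_of_le hS hQ.1) hQ h1)).2
    refine ⟨⟨tf ι z, hyO⟩, ?_, rfl⟩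
    rw [SetLike.mem_coe, Subgroup.mem_center_iff]
    intro u
    apply Subtype.ext
    show (u : G) * tf ι z = tf ι z * (u : G)
    have hu : (u : G) ∈ ι.range := by rw [← hTr]; exact hOT u.2
    obtain ⟨a, ha⟩ := hu
    rw [← ha, ← tf_coe, ← tf_mul a.2 (hZS hz), hZc z hz a a.2, tf_mul (hZS hz) a.2]
  -- the centre in terms of `G`
  have hcen : ∀ z, z ∈ F.center ↔ z ∈ Z ∧ ∀ g : G, g * tf ι z = tf ι z * g := by
    intro z
    constructor
    · intro hz
      have hzS := center_le' hz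
      have hzc := central_comm hz
      have hzZ : z ∈ Z := ⟨hzS, Subgroup.mem_centralizer_iff.2 hzc⟩
      refine ⟨hzZ, fun g => ?_⟩
      have hgV : g * tf ι z * g⁻¹ ∈ ι.range := by
        rw [← hTr]; exact hOT (hVle (hVn.conj_mem _ (hZV z hzZ) g))
      obtain ⟨y, hy⟩ := hgV
      have hz' : ∀ n : ℤ, tf ι (z ^ n) = tf ι z ^ n := by
        intro n
        rw [tf_apply _ hzS, tf_apply _ (S.zpow_mem hzS n)]
        have : (⟨z ^ n, S.zpow_mem hzS n⟩ : S) = ⟨z, hzS⟩ ^ n := rfl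
        rw [this, map_zpow]
      obtain ⟨h1, h2⟩ := mor_real_conj hG.2.1 g (P := Subgroup.zpowers z)
        (by rw [Subgroup.zpowers_le]; exact hzS) (by
          rintro _ ⟨n, rfl⟩
          show g * tf ι (z ^ n) * g⁻¹ ∈ _
          rw [hz', ← conj_zpow, ← hy]
          exact ι.range.zpow_mem ⟨y, rfl⟩ n)
      have h3 := central_fix' hz h1 (Subgroup.mem_zpowers z)
      have h4 := h2 z (Subgroup.mem_zpowers z)
      change tfi ι (g * tf ι z * g⁻¹) = z at h3
      rw [h3] at h4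
      calc g * tf ι z = g * tf ι z * g⁻¹ * g := by group
        _ = tf ι z * g := by rw [← h4]
    · rintro ⟨hz, hg⟩
      exact mem_center_of_rsat hS hF (hZS hz) (hZc z hz) (rsat_of_group_central hG.2.1 (hZS hz) hg)
  -- the norm map
  haveI : Fintype (G ⧸ (T : Subgroup G)) := Fintype.ofFinite _
  let r : ↥V → ↥V := fun v => ∏ q : G ⧸ (T : Subgroup G), φ q.out v
  have hr_mul : ∀ v w, r (v * w) = r v * r w := by
    intro v w
    show ∏ q : G ⧸ (T : Subgroup G), φ q.out (v * w) = _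
    rw [← Finset.prod_mul_distrib]
    exact Finset.prod_congr rfl fun q _ => map_mul _ _ _
  have hr_fix : ∀ v : ↥V, (∀ g : G, φ g v = v) → r v = v ^ (T : Subgroup G).index := by
    intro v hv
    show ∏ q : G ⧸ (T : Subgroup G), φ q.out v = _
    rw [Finset.prod_congr rfl fun q _ => hv q.out, Finset.prod_const, Finset.card_univ,
      Subgroup.index_eq_card, Nat.card_eq_fintype_card]
  have hr_inv : ∀ v : ↥V, (∀ t ∈ (T : Subgroup G), φ t v = v) → ∀ g : G, φ g (r v) = r v := by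
    intro v hv g
    show φ g (∏ q : G ⧸ (T : Subgroup G), φ q.out v) = ∏ q : G ⧸ (T : Subgroup G), φ q.out v
    rw [map_prod]
    refine Fintype.prod_equiv (MulAction.toPerm g) _ _ fun q => ?_
    show φ g (φ q.out v) = φ (g • q).out v
    have h1 : (((g • q).out : G) : G ⧸ (T : Subgroup G)) = ((g * q.out : G) : G ⧸ (T : Subgroup G)) := by
      have h11 : (((g • q).out : G) : G ⧸ (T : Subgroup G)) = g • q := QuotientGroup.out_eq' _
      have h12 : ((q.out : G) : G ⧸ (T : Subgroup G)) = q := QuotientGroup.out_eq' _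
      rw [h11]
      conv_lhs => rw [← h12]
      rfl
    rw [eq_comm, QuotientGroup.eq] at h1
    have h2 := hv _ h1
    have h3 : (g • q).out = (g * q.out) * ((g * q.out)⁻¹ * (g • q).out) := by group
    rw [h3, map_mul, map_mul]
    show _ = φ g (φ q.out (φ ((g * q.out)⁻¹ * (g • q).out) v))
    rw [h2]
  have hcop : ∀ (v : ↥V), v ∈ V.subgroupOf V → True := fun _ _ => trivial
  have hVp : ∀ v : ↥V, ∃ j, v ^ p ^ j = 1 := by
    intro v
    obtain ⟨j, hj⟩ := isPGroup_pow_one T.isPGroup' (hOT (hVle v.2))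
    exact ⟨j, Subtype.ext hj⟩
  have hidx : ¬ p ∣ (T : Subgroup G).index := T.not_dvd_index
  -- the complement
  have hφT : ∀ z (hz : z ∈ Z), ∀ t ∈ (T : Subgroup G), φ t ⟨tf ι z, hZV z hz⟩ = ⟨tf ι z, hZV z hz⟩ := by
    intro z hz t ht
    apply Subtype.ext
    rw [hφ]
    show t * tf ι z * t⁻¹ = tf ι z
    rw [hTr] at ht
    obtain ⟨a, rfl⟩ := ht
    rw [← tf_coe, ← tf_mul a.2 (hZS hz), hZc z hz a a.2, tf_mul (hZS hz) a.2, mul_inv_cancel_right]
  let K : Subgroup Ω :=
    { carrier := {z | ∃ hz : z ∈ Z, r ⟨tf ι z, hZV z hz⟩ = 1}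
      one_mem' := ⟨Z.one_mem, by
        have : (⟨tf ι 1, hZV 1 Z.one_mem⟩ : ↥V) = 1 := Subtype.ext tf_one
        rw [this, hr_fix 1 fun g => map_one _, one_pow]⟩
      mul_mem' := by
        rintro a b ⟨ha, ha'⟩ ⟨hb, hb'⟩
        refine ⟨mul_mem ha hb, ?_⟩
        have : (⟨tf ι (a * b), hZV _ (mul_mem ha hb)⟩ : ↥V) = ⟨tf ι a, hZV a ha⟩ * ⟨tf ι b, hZV b hb⟩ :=
          Subtype.ext (tf_mul (hZS ha) (hZS hb))
        rw [this, hr_mul, ha', hb', one_mul]
      inv_mem' := by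
        rintro a ⟨ha, ha'⟩
        refine ⟨Z.inv_mem ha, ?_⟩
        have h1 : (⟨tf ι a⁻¹, hZV _ (Z.inv_mem ha)⟩ : ↥V) = (⟨tf ι a, hZV a ha⟩ : ↥V)⁻¹ :=
          Subtype.ext (tf_inv (hZS ha))
        have h2 : r (⟨tf ι a, hZV a ha⟩ * (⟨tf ι a, hZV a ha⟩ : ↥V)⁻¹) = 1 := by
          rw [mul_inv_cancel, hr_fix 1 fun g => map_one _, one_pow]
        rw [hr_mul, ha', one_mul] at h2
        rw [h1]; exact h2 }
  have hKmem : ∀ z, z ∈ K ↔ ∃ hz : z ∈ Z, r ⟨tf ι z, hZV z hz⟩ = 1 := fun z => Iff.rfl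
  have hφG : ∀ z (hz : z ∈ Z), (∀ g : G, g * tf ι z = tf ι z * g) → ∀ g : G,
      φ g ⟨tf ι z, hZV z hz⟩ = ⟨tf ι z, hZV z hz⟩ := by
    intro z hz h g
    apply Subtype.ext
    rw [hφ]
    show g * tf ι z * g⁻¹ = tf ι z
    rw [h g, mul_inv_cancel_right]
  refine ⟨K, fun z hz => hz.1, ?_, ?_⟩
  · rw [eq_bot_iff]
    rintro z ⟨hz1, hz2⟩
    obtain ⟨hzZ, hzg⟩ := (hcen z).1 hz1
    obtain ⟨_, hrz⟩ := (hKmem z).1 hz2
    rw [hr_fix _ (hφG z hzZ hzg)] at hrz
    obtain ⟨j, hj⟩ := hVp ⟨tf ι z, hZV z hzZ⟩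
    have h1 := eq_one_of_pow_coprime hidx hrz hj
    have h2 : tf ι z = tf ι 1 := by rw [tf_one]; exact congrArg Subtype.val h1
    rw [Subgroup.mem_bot]
    exact tf_inj hι (hZS hzZ) S.one_mem h2
  · apply le_antisymm
    · refine sup_le (fun z hz => ((hcen z).1 hz).1) (fun z hz => hz.1)
    · intro y hy
      set v : ↥V := ⟨tf ι y, hZV y hy⟩ with hv
      have hinv := hr_inv v (hφT y hy)
      -- find `w` in the centre with `w ^ m = r v`
      obtain ⟨j, hj⟩ := hVp (r v)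
      have hco : Nat.Coprime (T : Subgroup G).index (p ^ j) :=
        (Nat.Coprime.pow_right j ((Nat.Prime.coprime_iff_not_dvd Fact.out).2 hidx).symm)
      obtain ⟨k, hk⟩ : ∃ k, (T : Subgroup G).index * k ≡ 1 [MOD p ^ j] := by
        obtain ⟨k, hk⟩ := Nat.exists_mul_mod_eq_of_coprime 1 hco
          (pow_pos (Fact.out : p.Prime).pos j).ne'
        exact ⟨k, hk.2⟩
      have hrk : (r v) ^ ((T : Subgroup G).index * k) = r v := by
        conv_rhs => rw [← pow_one (r v)]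
        exact pow_eq_pow_iff_modEq.2 (hk.of_dvd (orderOf_dvd_of_pow_eq_one hj))
      set w : ↥V := (r v) ^ k with hw
      have hwg : ∀ g : G, φ g w = w := fun g => by rw [hw, map_pow, hinv]
      have hwT : (w : G) ∈ ι.range := by rw [← hTr]; exact hOT (hVle w.2)
      obtain ⟨w', hw'⟩ := hwT
      have hwc : ∀ g : G, g * (w : G) = w * g := by
        intro g
        have := congrArg Subtype.val (hwg g)
        rw [hφ] at this
        calc g * (w : G) = g * w * g⁻¹ * g := by group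
          _ = w * g := by rw [this]
      have hw'Z : (w' : Ω) ∈ Z := by
        refine ⟨w'.2, Subgroup.mem_centralizer_iff.2 fun s hs => ?_⟩
        apply tf_inj hι (mul_mem hs w'.2) (mul_mem w'.2 hs)
        rw [tf_mul hs w'.2, tf_mul w'.2 hs, tf_coe, hw']
        exact hwc _
      have hw'c : (w' : Ω) ∈ F.center := (hcen _).2 ⟨hw'Z, fun g => by
        rw [tf_coe, hw']; exact hwc g⟩
      have hyK : (w' : Ω)⁻¹ * y ∈ K := by
        refine ⟨mul_mem (Z.inv_mem hw'Z) hy, ?_⟩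
        have h1 : (⟨tf ι ((w' : Ω)⁻¹ * y), hZV _ (mul_mem (Z.inv_mem hw'Z) hy)⟩ : ↥V) = w⁻¹ * v := by
          apply Subtype.ext
          show tf ι ((w' : Ω)⁻¹ * y) = (w : G)⁻¹ * tf ι y
          rw [tf_mul (S.inv_mem w'.2) (hZS hy), tf_inv w'.2, tf_coe, hw']
        have h2 : r (w⁻¹) * r w = 1 := by
          rw [← hr_mul, inv_mul_cancel, hr_fix 1 fun g => map_one _, one_pow]
        have h3 : r w = r v := by
          rw [hr_fix w hwg, hw, ← pow_mul, mul_comm k, hrk]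
        rw [h1, hr_mul, ← h3]
        exact h2
      have h5 : y = (w' : Ω) * ((w' : Ω)⁻¹ * y) := by group
      rw [h5]
      exact mul_mem (le_sup_left (b := K) hw'c) (le_sup_right (a := F.center) hyK)

end
end Cfsg.Agent.H28
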