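import Mathlib
import Cfsg.Agent.H23.MaxClass3

/-!
The first two centres of a `p`-group of maximal class.
-/

set_option autoImplicit false

namespace Cfsg.Agent.H28

universe u

section
variable {X : Type u} [Group X] [Finite X] {p : ℕ} [hp : Fact p.Prime]

theorem lcs_one_bot_of_comm (h : IsMulCommutative X) : (⊤ : Subgroup X).lowerCentralSeries 1 = ⊥ := by
  rw [Subgroup.top_lowerCentralSeries_one, commutator_def, Subgroup.commutator_eq_bot_iff_le_centralizer]
  intro x _ y _
  exact h.is_comm.comm y x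

theorem class_bound {m c : ℕ} (hX : Nat.card X = p ^ m) (hc1 : 1 ≤ c)
    (hc : (⊤ : Subgroup X).lowerCentralSeries c ≠ ⊥) : c + 2 ≤ m := by
  have hG : IsPGroup p X := IsPGroup.of_card hX
  have h1 := H23.card_lcs_ge hG c hc (c - 1) (Nat.sub_le _ _)
  have h2 : c - (c - 1) = 1 := by omega
  have h3 : c - 1 + 1 = c := by omega
  rw [h2, h3, Subgroup.top_lowerCentralSeries_one] at h1
  obtain ⟨k, hk⟩ := hG.index (commutator X)
  have h4 := Subgroup.card_mul_index (commutator X)
  rw [hk, hX] at h4
  have hk2 : 2 ≤ k := by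
    by_contra hlt
    have hcyc := H23.isCyclic_of_index_commutator_le hG (by
      rw [hk]
      calc p ^ k ≤ p ^ 1 := Nat.pow_le_pow_right hp.out.pos (by omega)
        _ = p := pow_one p)
    have hcm : IsMulCommutative X := IsCyclic.commutative
    apply hc
    rw [eq_bot_iff, ← lcs_one_bot_of_comm hcm]
    exact (⊤ : Subgroup X).lowerCentralSeries_antitone hc1
  have h5 : p ^ (c + 2) ≤ p ^ m := by
    rw [← h4, pow_add]
    exact Nat.mul_le_mul h1 (Nat.pow_le_pow_right hp.out.pos hk2)
  exact (Nat.pow_le_pow_iff_right hp.out.one_lt).1 h5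

theorem center_maxclass {m : ℕ} (hm : 3 ≤ m) (hX : Nat.card X = p ^ m)
    (hc : (⊤ : Subgroup X).lowerCentralSeries (m - 2) ≠ ⊥) :
    Nat.card (Subgroup.center X) = p ∧ Nat.card (X ⧸ Subgroup.center X) = p ^ (m - 1) ∧
      (⊤ : Subgroup (X ⧸ Subgroup.center X)).lowerCentralSeries (m - 3) ≠ ⊥ := by
  have hG : IsPGroup p X := IsPGroup.of_card hX
  have hlcs : (⊤ : Subgroup (X ⧸ Subgroup.center X)).lowerCentralSeries (m - 3) ≠ ⊥ := by
    intro h
    apply hc
    have h1 : ((⊤ : Subgroup X).lowerCentralSeries (m - 3)).map (QuotientGroup.mk' (Subgroup.center X)) = ⊥ := by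
      rw [Subgroup.map_lowerCentralSeries, Subgroup.map_top_of_surjective _ (QuotientGroup.mk'_surjective _), h]
    rw [Subgroup.map_eq_bot_iff, QuotientGroup.ker_mk'] at h1
    have h2 : m - 2 = m - 3 + 1 := by omega
    rw [h2, Subgroup.lowerCentralSeries_succ, Subgroup.commutator_eq_bot_iff_le_centralizer]
    intro x hx y _
    exact (Subgroup.mem_center_iff.1 (h1 hx) y)
  obtain ⟨i, hi⟩ := IsPGroup.iff_card.1 (hG.to_subgroup (Subgroup.center X))
  have h1 := Subgroup.card_mul_index (Subgroup.center X)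
  haveI : Nontrivial X := by
    rw [← Finite.one_lt_card_iff_nontrivial, hX]
    exact Nat.one_lt_pow (by omega) hp.out.one_lt
  have hi1 : 1 ≤ i := by
    by_contra h
    have h2 : i = 0 := by omega
    rw [h2, pow_zero] at hi
    have h3 := hG.bot_lt_center
    rw [Subgroup.card_eq_one.1 hi] at h3
    exact lt_irrefl _ h3
  obtain ⟨k, hk⟩ := hG.index (Subgroup.center X)
  rw [hi, hk, hX, ← pow_add] at h1
  have h2 : i + k = m := Nat.pow_right_injective hp.out.two_le h1
  have hcard : Nat.card (X ⧸ Subgroup.center X) = p ^ k := hk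
  have hi2 : i ≤ 1 := by
    by_cases h3 : 1 ≤ m - 3
    · have := class_bound hcard h3 hlcs
      omega
    · by_contra h4
      have hm3 : m = 3 := by omega
      have h5 : IsMulCommutative X := H23.isMulCommutative_of_central_index hG le_rfl (by
        rw [hk]
        calc p ^ k ≤ p ^ 1 := Nat.pow_le_pow_right hp.out.pos (by omega)
          _ = p := pow_one p)
      apply hc
      rw [hm3]
      exact lcs_one_bot_of_comm h5
  have hi' : i = 1 := by omega
  refine ⟨by rw [hi, hi', pow_one], ?_, hlcs⟩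
  rw [hcard]
  congr 1
  omega

theorem second_center_card {m : ℕ} (hm : 4 ≤ m) (hX : Nat.card X = p ^ m)
    (hc : (⊤ : Subgroup X).lowerCentralSeries (m - 2) ≠ ⊥) :
    Nat.card (Subgroup.upperCentralSeries X 2) = p ^ 2 := by
  obtain ⟨-, h2, h3⟩ := center_maxclass (by omega) hX hc
  have h4 : m - 3 = (m - 1) - 2 := by omega
  rw [h4] at h3
  obtain ⟨h5, h6, -⟩ := center_maxclass (by omega) h2 h3
  rw [← Subgroup.comap_upperCentralSeries_quotient_center 1, Subgroup.upperCentralSeries_one]
  set K := (Subgroup.center (X ⧸ Subgroup.center X)).comap (QuotientGroup.mk' (Subgroup.center X)) with hK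
  have h7 : K.index = p ^ (m - 2) := by
    rw [hK, Subgroup.index_comap_of_surjective _ (QuotientGroup.mk'_surjective _)]
    have h8 : (Subgroup.center (X ⧸ Subgroup.center X)).index = p ^ (m - 1 - 1) := h6
    rw [h8]; congr 1
  have h8 := Subgroup.card_mul_index K
  rw [h7, hX] at h8
  have h9 : p ^ m = p ^ 2 * p ^ (m - 2) := by rw [← pow_add]; congr 1; omega
  rw [h9] at h8
  exact Nat.eq_of_mul_eq_mul_right (pow_pos hp.out.pos _) h8

end

end Cfsg.Agent.H28
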