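import Mathlib
import Cfsg.Agent.H28.Metac1

/-!
Metacyclic strongly closed subgroups for odd `p`: the group theoretic part.
-/

set_option autoImplicit false

namespace Cfsg.Agent.H28

open Subgroup
open scoped commutatorElement

universe u v

section
variable {G : Type u} [Group G] [Finite G] {p : ℕ} [hp : Fact p.Prime]

theorem normalizer_of_normal {A N : Subgroup G} [N.Normal] : A ≤ normalizer (N : Set G) := by
  rw [Subgroup.normalizer_eq_top]; exact le_top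

/-- The kernel of the action of `C_G(O/Q)` on the Frattini quotient of `Q` is a `p`-group. -/
theorem isPGroup_cmod_ker {O Q : Subgroup G} [O.Normal] [Q.Normal] (hO : IsPGroup p O)
    (hC : centralizer (O : Set G) ≤ O) (hQO : Q ≤ O) {E : Type u} [CommGroup E] [Finite E]
    {π : Q →* E} {ρ : G →* MulAut E} (h2 : ∀ q, π q = 1 ↔ (q : G) ∈ (frattini Q).map Q.subtype)
    (h3 : ∀ (g : G) (q : Q) (h : g * q * g⁻¹ ∈ Q), ρ g (π q) = π ⟨g * q * g⁻¹, h⟩) :
    IsPGroup p (cmod O Q ⊓ ρ.ker : Subgroup G) := by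
  apply isPGroup_of_pprime
  rintro d ⟨hd1, hd2⟩ hcop
  have hcard : Nat.card (zpowers d) = orderOf d := Nat.card_zpowers d
  have hcopO : (Nat.card (zpowers d)).Coprime (Nat.card O) := by
    obtain ⟨n, hn⟩ := IsPGroup.iff_card.1 hO
    rw [hcard, hn]; exact hcop.pow_right n
  have hcopQ : (Nat.card (zpowers d)).Coprime (Nat.card Q) := by
    obtain ⟨n, hn⟩ := IsPGroup.iff_card.1 (hO.to_le hQO)
    rw [hcard, hn]; exact hcop.pow_right n
  have hsol : Group.IsSolvable (zpowers d) := by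
    have : IsMulCommutative (zpowers d) := inferInstance
    exact isSolvable_of_comm (fun a b => this.is_comm.comm a b)
  have hQc : Q ≤ centralizer (zpowers d : Set G) := by
    apply H23.le_centralizer_of_commutator_le_frattini normalizer_of_normal hcopQ (Or.inl hsol)
    rw [commutator_le]
    intro q hq a ha
    have ha2 : a ∈ ρ.ker := (zpowers_le.2 hd2) ha
    have h4 : a * q * a⁻¹ ∈ Q := Normal.conj_mem inferInstance q hq a
    have h5 := h3 a ⟨q, hq⟩ h4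
    rw [MonoidHom.mem_ker.1 ha2] at h5
    have h6 : π (⟨q, hq⟩ * ⟨a * q * a⁻¹, h4⟩⁻¹) = 1 := by
      rw [map_mul, map_inv, ← h5]; exact mul_inv_cancel _
    have h7 := (h2 _).1 h6
    have h8 : ((⟨q, hq⟩ * ⟨a * q * a⁻¹, h4⟩⁻¹ : Q) : G) = ⁅q, a⁆ := by
      show q * (a * q * a⁻¹)⁻¹ = _
      rw [commutatorElement_def]; group
    rwa [h8] at h7
  have hOc : O ≤ centralizer (zpowers d : Set G) := by
    apply H23.le_centralizer_of_commutator_le normalizer_of_normal hcopO (N := Q) _ hQc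
    rw [commutator_le]
    intro o ho a ha
    have ha2 : a ∈ cmod O Q := (zpowers_le.2 hd1) ha
    have h4 := inv_mem (ha2 o ho)
    have h5 : (a * o * a⁻¹ * o⁻¹)⁻¹ = ⁅o, a⁆ := by rw [commutatorElement_def]; group
    rwa [h5] at h4
  have hdO : d ∈ O := hC (by
    rw [mem_centralizer_iff]
    intro o ho
    exact ((mem_centralizer_iff.1 (hOc ho)) d (mem_zpowers d)).symm)
  obtain ⟨k, hk⟩ := hO ⟨d, hdO⟩
  have hk' : d ^ p ^ k = 1 := congrArg Subtype.val hk
  have h9 : orderOf d ∣ p ^ k := orderOf_dvd_of_pow_eq_one hk'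
  have h10 : orderOf d = 1 := Nat.Coprime.eq_one_of_dvd (hcop.pow_right k) h9
  exact orderOf_eq_one_iff.1 h10

/-- `(q z)^p` in the normal closure, for odd `p`. -/
theorem pow_mem_frattini_of_act (hp2 : p ≠ 2) {Q : Subgroup G} [Q.Normal] (hQ : IsPGroup p Q)
    {E : Type u} [CommGroup E] [Finite E]
    {π : Q →* E} {ρ : G →* MulAut E} (h2 : ∀ q, π q = 1 ↔ (q : G) ∈ (frattini Q).map Q.subtype)
    (hsur : Function.Surjective π) (hexp : ∀ v : E, v ^ p = 1)
    (h3 : ∀ (g : G) (q : Q) (h : g * q * g⁻¹ ∈ Q), ρ g (π q) = π ⟨g * q * g⁻¹, h⟩)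
    (hc : Nat.card E ≤ p ^ 2) {z : G} (hz : ∃ k, z ^ p ^ k = 1)
    (hzp : z ^ p ∈ (frattini Q).map Q.subtype) {q : G} (hq : q ∈ Q) :
    (q * z) ^ p ∈ (frattini Q).map Q.subtype := by
  set Φ := (frattini Q).map Q.subtype with hΦ
  have hΦn : Φ.Normal := by
    refine ⟨fun x hx g => ?_⟩
    obtain ⟨x', hx', rfl⟩ := hx
    have h4 : g * x' * g⁻¹ ∈ Q := Normal.conj_mem inferInstance _ x'.2 g
    have h5 := h3 g x' h4
    rw [(h2 x').2 ⟨x', hx', rfl⟩, map_one] at h5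
    exact (h2 _).1 h5.symm
  have hE : IsPGroup p E := fun v => ⟨1, by rw [pow_one]; exact hexp v⟩
  obtain ⟨k, hk⟩ := hz
  have hρk : (ρ z) ^ p ^ k = 1 := by rw [← map_pow, hk, map_one]
  have hzq : z * q * z⁻¹ ∈ Q := Normal.conj_mem inferInstance _ hq z
  let c : Q := ⟨z * q * z⁻¹, hzq⟩ * ⟨q, hq⟩⁻¹
  have hc0 : (c : G) = ⁅z, q⁆ := by
    show z * q * z⁻¹ * q⁻¹ = _
    rw [commutatorElement_def]
  have hπc : π c = ρ z (π ⟨q, hq⟩) * (π ⟨q, hq⟩)⁻¹ := by
    rw [h3 z ⟨q, hq⟩ hzq]; show π (_ * _) = _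
    rw [map_mul, map_inv]
  have comm_of : ∀ a b : G, a * b * a⁻¹ * b⁻¹ ∈ Φ →
      Commute (QuotientGroup.mk' Φ a) (QuotientGroup.mk' Φ b) := by
    intro a b hab
    have h4 : QuotientGroup.mk' Φ (a * b * a⁻¹ * b⁻¹) = 1 := by
      rw [← MonoidHom.mem_ker, QuotientGroup.ker_mk']; exact hab
    rw [map_mul, map_mul, map_mul, map_inv, map_inv] at h4
    have h5 := mul_inv_eq_one.1 h4
    have h6 := mul_inv_eq_iff_eq_mul.1 h5
    exact h6
  have hcc : QuotientGroup.mk' Φ (c : G) = ⁅QuotientGroup.mk' Φ z, QuotientGroup.mk' Φ q⁆ := by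
    rw [hc0, map_commutatorElement]
  have h5 : Commute (QuotientGroup.mk' Φ q) ⁅QuotientGroup.mk' Φ z, QuotientGroup.mk' Φ q⁆ := by
    rw [← hcc]
    apply comm_of
    have h6 : π (⟨q, hq⟩ * c * ⟨q, hq⟩⁻¹ * c⁻¹) = 1 := by
      rw [map_mul, map_mul, map_mul, map_inv, map_inv, mul_comm (π ⟨q, hq⟩), mul_inv_cancel_right,
        mul_inv_cancel]
    exact (h2 _).1 h6
  have h6 : Commute (QuotientGroup.mk' Φ z) ⁅QuotientGroup.mk' Φ z, QuotientGroup.mk' Φ q⁆ := by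
    rw [← hcc]
    apply comm_of
    have h7 : z * c * z⁻¹ ∈ Q := Normal.conj_mem inferInstance _ c.2 z
    have h8 : π (⟨z * c * z⁻¹, h7⟩ * c⁻¹) = 1 := by
      rw [map_mul, map_inv, ← h3 z c h7, hπc, sq_of_card hE hc hρk, mul_inv_cancel]
    exact (h2 _).1 h8
  have h7 := H2.mul_pow_of_comm h5 h6 p
  have h8 : QuotientGroup.mk' Φ (z ^ p) = 1 := by
    rw [← MonoidHom.mem_ker, QuotientGroup.ker_mk']; exact hzp
  have hqp : ∀ q' : Q, QuotientGroup.mk' Φ ((q' : G) ^ p) = 1 := by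
    intro q'
    rw [← MonoidHom.mem_ker, QuotientGroup.ker_mk']
    have h9 : π (q' ^ p) = 1 := by rw [map_pow, hexp]
    exact (h2 _).1 h9
  have hdiv : p ∣ p * (p - 1) / 2 := by
    have h9 : 2 ∣ p - 1 := by
      rcases hp.out.eq_two_or_odd' with h | h
      · exact absurd h hp2
      · obtain ⟨k, hk⟩ := h
        exact ⟨k, by omega⟩
    rw [Nat.mul_div_assoc _ h9]
    exact dvd_mul_right _ _
  obtain ⟨l, hl⟩ := hdiv
  have h10 : QuotientGroup.mk' Φ ((q * z) ^ p) = 1 := by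
    rw [map_pow, map_mul, h7, ← map_pow, ← map_pow, h8, hqp ⟨q, hq⟩, ← hcc, hl, pow_mul, ← map_pow, hqp c,
      one_pow, mul_one, mul_one]
  rwa [← MonoidHom.mem_ker, QuotientGroup.ker_mk'] at h10

end

end Cfsg.Agent.H28
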