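import Mathlib
import Cfsg.Agent.H28.Metac2

/-!
Metacyclic strongly closed subgroups for odd `p`: the group theoretic part.
-/

set_option autoImplicit false

namespace Cfsg.Agent.H28

open Subgroup
open scoped commutatorElement

universe u v

section
variable {G : Type u} [Group G] [Finite G] {p : ℕ} [hp : Fact p.Prime]

theorem solv_zpowers (d : G) : Group.IsSolvable (zpowers d) := by
  have : IsMulCommutative (zpowers d) := inferInstance
  exact isSolvable_of_comm (fun a b => this.is_comm.comm a b)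

/-- The contradiction in the case of an inverting element. -/
theorem metac_invert (hp2 : p ≠ 2) {O Q P : Subgroup G} [O.Normal] [Q.Normal] (hO : IsPGroup p O)
    (hQO : Q ≤ O) (hQP : Q = P ⊓ O) (hPp : IsPGroup p P) (hm : IsMetacyclic P)
    {E : Type u} [CommGroup E] [Finite E]
    {π : Q →* E} {ρ : G →* MulAut E} (h2 : ∀ q, π q = 1 ↔ (q : G) ∈ (frattini Q).map Q.subtype)
    (hsur : Function.Surjective π) (hexp : ∀ v : E, v ^ p = 1)
    (h3 : ∀ (g : G) (q : Q) (h : g * q * g⁻¹ ∈ Q), ρ g (π q) = π ⟨g * q * g⁻¹, h⟩)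
    (hcQ : Nat.card Q = Nat.card E * Nat.card ((frattini Q).map Q.subtype : Subgroup G))
    (hcE : Nat.card E = p ^ 2) (hDO : (cmod O Q ⊓ ρ.ker : Subgroup G) ≤ O)
    {x t : G} (hxP : x ∈ P) (hxO : x ∉ O) (hxH : x ∈ cmod O Q) (htH : t ∈ cmod O Q)
    (htp : (orderOf t).Coprime p) (hinv : ∀ v, ρ t v = v⁻¹) : False := by
  have hQp : IsPGroup p Q := hO.to_le hQO
  set D : Subgroup G := cmod O Q ⊓ ρ.ker with hD
  have hDp : IsPGroup p D := hO.to_le hDO
  have hDn : D.Normal := inferInstance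
  have hcard : Nat.card (zpowers t) = orderOf t := Nat.card_zpowers t
  have hcop : ∀ {N : Subgroup G}, IsPGroup p N → (Nat.card (zpowers t)).Coprime (Nat.card N) := by
    intro N hN
    obtain ⟨n, hn⟩ := IsPGroup.iff_card.1 hN
    rw [hcard, hn]; exact htp.pow_right n
  have hρt : ∀ a : MulAut E, a * ρ t = ρ t * a := by
    intro a
    ext v
    rw [MulAut.mul_apply, MulAut.mul_apply, hinv, hinv, map_inv]
  have hρa : ∀ a ∈ zpowers t, ∀ b : MulAut E, b * ρ a = ρ a * b := by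
    rintro _ ⟨n, rfl⟩ b
    show b * ρ (t ^ n) = ρ (t ^ n) * b
    rw [map_zpow]
    exact (Commute.zpow_right (hρt b) n).eq
  -- first step
  obtain ⟨c, hc, d, hd, hx1⟩ := H23.mem_sup_of_commutator_mem (A := zpowers t) (N := D) (g := x)
    normalizer_of_normal (hcop hDp) (Or.inl (solv_zpowers t)) (by
      intro a ha
      have haH : a ∈ cmod O Q := (zpowers_le.2 htH) ha
      refine ⟨?_, ?_⟩
      · show ⁅x⁻¹, a⁆ ∈ cmod O Q
        rw [commutatorElement_def]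
        exact mul_mem (mul_mem (mul_mem (inv_mem hxH) haH) (inv_mem (inv_mem hxH))) (inv_mem haH)
      · show _ ∈ ρ.ker
        rw [MonoidHom.mem_ker, map_commutatorElement, commutatorElement_eq_one_iff_mul_comm]
        exact hρa a ha _)
  obtain ⟨c', hc', q, hq, hd1⟩ := H23.mem_sup_of_commutator_mem (A := zpowers t) (N := Q) (g := d)
    normalizer_of_normal (hcop hQp) (Or.inl (solv_zpowers t)) (by
      intro a ha
      have haH : a ∈ cmod O Q := (zpowers_le.2 htH) ha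
      have hdO : d⁻¹ ∈ O := inv_mem (hDO hd)
      have h4 := inv_mem (haH _ hdO)
      have h5 : (a * d⁻¹ * a⁻¹ * d⁻¹⁻¹)⁻¹ = ⁅d⁻¹, a⁆ := by rw [commutatorElement_def]; group
      rwa [h5] at h4)
  obtain ⟨y, hy⟩ : ∃ y, y = c * c' := ⟨_, rfl⟩
  have hxy : x = y * q := by rw [hx1, hd1, hy, mul_assoc]
  have hyc : y ∈ centralizer (zpowers t : Set G) := by rw [hy]; exact mul_mem hc hc'
  have hqP : q ∈ P := by rw [hQP] at hq; exact hq.1
  have hyP : y ∈ P := by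
    have : y = x * q⁻¹ := by rw [hxy, mul_inv_cancel_right]
    rw [this]; exact mul_mem hxP (inv_mem hqP)
  have hyO : y ∉ O := fun h => hxO (by rw [hxy]; exact mul_mem h (hQO hq))
  have hyQ : y ∉ Q := fun h => hyO (hQO h)
  obtain ⟨k, hk⟩ : ∃ k, y ^ p ^ k = 1 := by
    obtain ⟨k, hk⟩ := hPp ⟨y, hyP⟩
    exact ⟨k, congrArg Subtype.val hk⟩
  -- the last power outside Q
  obtain ⟨i, hi1, hi2⟩ : ∃ i, y ^ p ^ i ∉ Q ∧ y ^ p ^ (i + 1) ∈ Q := by
    by_contra h
    push Not at h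
    have : ∀ i, y ^ p ^ i ∉ Q := by
      intro i
      induction i with
      | zero => rwa [pow_zero, pow_one]
      | succ i ih => exact h i ih
    exact this k (by rw [hk]; exact one_mem _)
  obtain ⟨z, hz⟩ : ∃ z, z = y ^ p ^ i := ⟨_, rfl⟩
  have hzP : z ∈ P := by rw [hz]; exact pow_mem hyP _
  have hzQ : z ∉ Q := by rw [hz]; exact hi1
  have hzp : z ^ p ∈ Q := by rw [hz, ← pow_mul, ← pow_succ]; exact hi2
  have hzc : z ∈ centralizer (zpowers t : Set G) := by rw [hz]; exact pow_mem hyc _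
  have hzk : ∃ k, z ^ p ^ k = 1 := ⟨k, by rw [hz, ← pow_mul, mul_comm, pow_mul, hk, one_pow]⟩
  set Φ := (frattini Q).map Q.subtype with hΦ
  have hzΦ : z ^ p ∈ Φ := by
    have h4 : t * z ^ p * t⁻¹ = z ^ p := by
      have h5 := mem_centralizer_iff.1 (pow_mem hzc p) t (mem_zpowers t)
      rw [h5, mul_inv_cancel_right]
    have h5 := h3 t ⟨z ^ p, hzp⟩ (by rw [h4]; exact hzp)
    have h6 : (⟨t * z ^ p * t⁻¹, by rw [h4]; exact hzp⟩ : Q) = ⟨z ^ p, hzp⟩ := Subtype.ext h4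
    have h5' : ρ t (π ⟨z ^ p, hzp⟩) = π ⟨z ^ p, hzp⟩ := h5.trans (congrArg π h6)
    rw [hinv] at h5'
    have h7 : (π ⟨z ^ p, hzp⟩) ^ 2 = 1 := by
      rw [sq]; nth_rewrite 1 [← h5']; exact inv_mul_cancel _
    have h8 := hexp (π ⟨z ^ p, hzp⟩)
    have h9 : orderOf (π ⟨z ^ p, hzp⟩) ∣ 1 := by
      have h10 : Nat.Coprime p 2 := (Nat.coprime_primes hp.out Nat.prime_two).2 hp2
      rw [← h10]
      exact Nat.dvd_gcd (orderOf_dvd_of_pow_eq_one h8) (orderOf_dvd_of_pow_eq_one h7)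
    have h11 : π ⟨z ^ p, hzp⟩ = 1 := orderOf_eq_one_iff.1 (Nat.dvd_one.1 h9)
    exact (h2 _).1 h11
  -- powers of z
  have hzi : ∀ n : ℤ, ∀ q ∈ Q, (q * z ^ n) ^ p ∈ Φ := by
    intro n q hq
    obtain ⟨k, hk⟩ := hzk
    refine pow_mem_frattini_of_act hp2 hQp h2 hsur hexp h3 hcE.le ⟨k, ?_⟩ ?_ hq
    · rw [← zpow_natCast, ← zpow_mul, mul_comm, zpow_mul, zpow_natCast, hk, one_zpow]
    · rw [← zpow_natCast, ← zpow_mul, mul_comm, zpow_mul, zpow_natCast]
      exact zpow_mem hzΦ n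
  set P₁ := Q ⊔ zpowers z with hP₁
  have hP₁P : P₁ ≤ P := sup_le (by rw [hQP]; exact inf_le_left) (zpowers_le.2 hzP)
  have hexpP : ∀ w ∈ P₁, w ^ p ∈ Φ := by
    intro w hw
    obtain ⟨q, hq, b, ⟨n, rfl⟩, rfl⟩ := (H23.mem_sup_iff_of_le_normalizer normalizer_of_normal).1 hw
    exact hzi n q hq
  have hag : H22.agemo p P₁ ≤ Φ := by
    unfold H22.agemo
    rw [closure_le]
    rintro _ ⟨w, hw, rfl⟩
    exact hexpP w hw
  have hm1 := H22.metacyclic_card_le' (p := p) (H22.isMetacyclic_of_le hm hP₁P)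
  have hm2 : Nat.card P₁ ≤ p ^ 2 * Nat.card Φ :=
    hm1.trans (Nat.mul_le_mul_left _ (Subgroup.card_le_of_le hag))
  have hlt : Nat.card Q < Nat.card P₁ := by
    apply lt_of_le_of_ne (Subgroup.card_le_of_le le_sup_left)
    intro h
    have h4 : Q = P₁ := by
      apply SetLike.coe_injective
      apply Set.eq_of_subset_of_ncard_le (le_sup_left : Q ≤ P₁) _ (Set.toFinite _)
      exact h.ge
    exact hzQ (h4 ▸ (le_sup_right : zpowers z ≤ P₁) (mem_zpowers z))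
  rw [hcQ, hcE] at hlt
  omega

/-- Metacyclic strongly closed subgroups lie in `O_p(G)` for `p`-constrained `G` (`p` odd). -/
theorem metac_le (hp2 : p ≠ 2) {O T P : Subgroup G} [O.Normal] (hO : IsPGroup p O)
    (hOmax : ∀ N : Subgroup G, N.Normal → IsPGroup p N → N ≤ O)
    (hC : centralizer (O : Set G) ≤ O) (hOT : O ≤ T) (hT : IsPGroup p T) (hPT : P ≤ T)
    (hsc : ∀ x ∈ P, ∀ g : G, g * x * g⁻¹ ∈ T → g * x * g⁻¹ ∈ P) (hm : IsMetacyclic P) : P ≤ O := by
  intro x hxP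
  by_contra hxO
  obtain ⟨Q, hQ⟩ : ∃ Q, Q = P ⊓ O := ⟨_, rfl⟩
  have hQn : Q.Normal := by
    refine ⟨fun q hq g => ?_⟩
    rw [hQ] at hq ⊢
    have h1 : g * q * g⁻¹ ∈ O := Normal.conj_mem inferInstance _ hq.2 g
    exact ⟨hsc q hq.1 g (hOT h1), h1⟩
  have hQO : Q ≤ O := by rw [hQ]; exact inf_le_right
  have hQP : Q ≤ P := by rw [hQ]; exact inf_le_left
  have hQp : IsPGroup p Q := hO.to_le hQO
  have hPH : ∀ y ∈ P, y ∈ cmod O Q := by
    intro y hy o ho
    rw [hQ]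
    constructor
    · show y * o * y⁻¹ * o⁻¹ ∈ P
      have h1 : o * y⁻¹ * o⁻¹ ∈ P := hsc _ (inv_mem hy) o
        (mul_mem (mul_mem (hOT ho) (hPT (inv_mem hy))) (inv_mem (hOT ho)))
      have h2 := mul_mem hy h1
      have h3 : y * (o * y⁻¹ * o⁻¹) = y * o * y⁻¹ * o⁻¹ := by group
      rwa [h3] at h2
    · show y * o * y⁻¹ * o⁻¹ ∈ O
      exact mul_mem (Normal.conj_mem inferInstance _ ho y) (inv_mem ho)
  obtain ⟨E, _, _, π, ρ, hsur, h2, h3, hexp, hcQ⟩ := exists_vact (p := p) Q hQp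
  have hDp := isPGroup_cmod_ker hO hC hQO h2 h3
  have hDO : (cmod O Q ⊓ ρ.ker : Subgroup G) ≤ O := hOmax _ inferInstance hDp
  have hE : IsPGroup p E := fun v => ⟨1, by rw [pow_one]; exact hexp v⟩
  have hcE : Nat.card E ≤ p ^ 2 := by
    have h4 := H22.metacyclic_card_le' (p := p) (H22.isMetacyclic_of_le hm hQP)
    have h5 : H22.agemo p Q ≤ (frattini Q).map Q.subtype := by
      unfold H22.agemo
      rw [closure_le]
      rintro _ ⟨w, hw, rfl⟩
      have h6 : π (⟨w, hw⟩ ^ p) = 1 := by rw [map_pow, hexp]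
      exact (h2 _).1 h6
    have h6 := h4.trans (Nat.mul_le_mul_left _ (Subgroup.card_le_of_le h5))
    rw [hcQ] at h6
    exact Nat.le_of_mul_le_mul_right h6 Nat.card_pos
  obtain ⟨k, hk⟩ : ∃ k, x ^ p ^ k = 1 := by
    obtain ⟨k, hk⟩ := hT ⟨x, hPT hxP⟩
    exact ⟨k, congrArg Subtype.val hk⟩
  have hαk : (ρ x) ^ p ^ k = 1 := by rw [← map_pow, hk, map_one]
  have hα1 : ρ x ≠ 1 := fun h => hxO (hDO ⟨hPH x hxP, h⟩)
  obtain ⟨hα, hcE2, hUC⟩ := isTv_of_card hE hcE hαk hα1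
  by_cases hinv : ∀ g : G, ∀ v ∈ Um (ρ x), ρ g v ∈ Um (ρ x)
  · -- invariant line
    let B : Subgroup G := cmod O Q ⊓ (stU (Um (ρ x))).comap ρ
    have hBn : B.Normal := by
      have h4 : ((stU (Um (ρ x))).comap ρ).Normal := by
        refine ⟨fun b hb g => ?_⟩
        obtain ⟨hb1, hb2⟩ := hb
        refine ⟨fun u hu => ?_, fun v => ?_⟩
        · rw [map_mul, map_mul, map_inv, MulAut.mul_apply, MulAut.mul_apply]
          have h5 := hinv g⁻¹ u hu
          rw [map_inv] at h5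
          rw [hb1 _ h5, MulAut.apply_inv_self]
        · rw [map_mul, map_mul, map_inv, MulAut.mul_apply, MulAut.mul_apply]
          have h5 := hinv g _ (hb2 ((ρ g)⁻¹ v))
          rwa [map_mul, map_inv, MulAut.apply_inv_self] at h5
      exact inferInstance
    have hBp : IsPGroup p B := by
      rintro ⟨b, hb1, hb2⟩
      obtain ⟨j, hj⟩ := pElement_of_chain hE hb2.2 hb2.1
      obtain ⟨l, hl⟩ := hDp ⟨b ^ p ^ j, pow_mem hb1 _, by
        show b ^ p ^ j ∈ ρ.ker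
        rw [MonoidHom.mem_ker, map_pow]; exact hj⟩
      refine ⟨j + l, Subtype.ext ?_⟩
      have h4 : (b ^ p ^ j) ^ p ^ l = 1 := congrArg Subtype.val hl
      show b ^ p ^ (j + l) = 1
      rw [pow_add, pow_mul]; exact h4
    exact hxO (hOmax B hBn hBp ⟨hPH x hxP, hα.fix, fun v => dl_mem_Um _ v⟩)
  · push Not at hinv
    obtain ⟨g, v, hv, hgv⟩ := hinv
    have hβeq : ρ (g * x * g⁻¹) = ρ g * ρ x * (ρ g)⁻¹ := by rw [map_mul, map_mul, map_inv]
    have hUm : ∀ w, w ∈ Um (ρ (g * x * g⁻¹)) ↔ (ρ g)⁻¹ w ∈ Um (ρ x) := by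
      intro w
      constructor
      · rintro ⟨y, rfl⟩
        refine ⟨(ρ g)⁻¹ y, ?_⟩
        show ρ x ((ρ g)⁻¹ y) * ((ρ g)⁻¹ y)⁻¹ = (ρ g)⁻¹ (ρ (g * x * g⁻¹) y * y⁻¹)
        rw [hβeq, map_mul, MulAut.mul_apply, MulAut.mul_apply, MulAut.inv_apply_self, map_inv]
      · rintro ⟨y, hy⟩
        refine ⟨ρ g y, ?_⟩
        have hy' : ρ x y * y⁻¹ = (ρ g)⁻¹ w := hy
        show ρ (g * x * g⁻¹) (ρ g y) * (ρ g y)⁻¹ = w
        rw [hβeq, MulAut.mul_apply, MulAut.mul_apply, MulAut.inv_apply_self, ← map_inv, ← map_mul, hy',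
          MulAut.apply_inv_self]
    have hβk : (ρ (g * x * g⁻¹)) ^ p ^ k = 1 := by
      rw [← map_pow, conj_pow, hk, mul_one, mul_inv_cancel, map_one]
    have hβ1 : ρ (g * x * g⁻¹) ≠ 1 := by
      intro h
      rw [hβeq] at h
      apply hα1
      have h4 : (ρ g)⁻¹ * (ρ g * ρ x * (ρ g)⁻¹) * ρ g = ρ x := by group
      rw [← h4, h, mul_one, inv_mul_cancel]
    obtain ⟨hβ, -, hUC'⟩ := isTv_of_card hE hcE hβk hβ1
    have hn : ¬ IsPGroup p (closure ({ρ x, ρ (g * x * g⁻¹)} : Set (MulAut E))) := by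
      intro h
      have hnt : Nontrivial E := by
        by_contra h'
        rw [not_nontrivial_iff_subsingleton] at h'
        exact hα1 (MulEquiv.ext fun x => Subsingleton.elim _ _)
      obtain ⟨w, hw1, hw⟩ := exists_common_fixed hE h
      have hwα : w ∈ Um (ρ x) := by
        rw [hUC]; exact mem_Cf.2 (hw _ (subset_closure (by simp)))
      have hwβ : w ∈ Um (ρ (g * x * g⁻¹)) := by
        rw [hUC']; exact mem_Cf.2 (hw _ (subset_closure (by simp)))
      have h4 := (zpowers_eq_of_card hα.card hwα hw1).1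
      have h5 := (zpowers_eq_of_card hβ.card hwβ hw1).1
      apply hgv
      rw [← h4, h5, hUm, MulAut.inv_apply_self]
      exact hv
    obtain ⟨m, hm1, -⟩ := exists_inversion hE hα hβ hn
    have htop : Um (ρ x) ⊔ Um (ρ (g * x * g⁻¹)) = ⊤ := by
      apply Subgroup.eq_top_of_card_eq
      rw [card_V hE hα hβ hn, hcE2]
    rw [htop] at hm1
    obtain ⟨z, hz⟩ : ∃ z, z = (x ^ m * (g * x * g⁻¹) * x ^ m) ^ 2 := ⟨_, rfl⟩
    have hzinv : ∀ v, ρ z v = v⁻¹ := by
      intro v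
      rw [hz, map_pow, map_mul, map_mul, map_pow]
      exact hm1 v (mem_top v)
    have hxH := hPH x hxP
    have hzH : z ∈ cmod O Q := by
      rw [hz]
      exact pow_mem (mul_mem (mul_mem (pow_mem hxH m) (Normal.conj_mem inferInstance _ hxH g))
        (pow_mem hxH m)) 2
    obtain ⟨a, ha⟩ := exists_pprime_part p z
    have hodd : Odd (p ^ a) := (hp.out.odd_of_ne_two hp2).pow
    have htinv : ∀ v, ρ (z ^ p ^ a) v = v⁻¹ := by
      obtain ⟨b, hb⟩ := hodd
      have h4 : (ρ z) ^ 2 = 1 := by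
        ext v
        rw [sq, MulAut.mul_apply, hzinv, hzinv, inv_inv]; rfl
      intro v
      rw [hb, map_pow, pow_succ, pow_mul, h4, one_pow, one_mul]
      exact hzinv v
    exact metac_invert hp2 hO hQO hQ (hT.to_le hPT) hm h2 hsur hexp h3 hcQ hcE2 hDO hxP hxO hxH
      (pow_mem hzH _) ha htinv

end

end Cfsg.Agent.H28
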