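import Mathlib
import Cfsg.Agent.H28.Metac3
import Cfsg.Agent.H28.AxFus
import Cfsg.Agent.H28.FusNormal2

/-!
Metacyclic strongly closed subgroups for odd `p` are normal in the fusion system.
-/

set_option autoImplicit false

namespace Cfsg.Agent.H28

open Cfsg.FusionSystem

universe u v

theorem isMetacyclic_equiv {A : Type u} {B : Type v} [Group A] [Group B] (e : A ≃* B)
    (h : Cfsg.IsMetacyclic A) : Cfsg.IsMetacyclic B := by
  obtain ⟨N, hN, h1, h2⟩ := h
  have hN' : (N.map (e : A →* B)).Normal := hN.map _ e.surjective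
  refine ⟨N.map (e : A →* B), hN', ?_, ?_⟩
  · have e1 : N ≃* N.map (e : A →* B) := N.equivMapOfInjective _ e.injective
    exact isCyclic_of_surjective e1.toMonoidHom e1.surjective
  · have e2 : A ⧸ N ≃* B ⧸ N.map (e : A →* B) := QuotientGroup.congr _ _ e rfl
    exact isCyclic_of_surjective e2.toMonoidHom e2.surjective

theorem isMetacyclic_le {Ω : Type u} [Group Ω] {R T : Subgroup Ω} (h : Cfsg.IsMetacyclic R)
    (hT : T ≤ R) : Cfsg.IsMetacyclic T :=
  isMetacyclic_equiv (Subgroup.subgroupOfEquivOfLe hT) (H22.isMetacyclic_subgroup h (T.subgroupOf R))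

theorem isMetacyclic_imageAlong {Ω : Type u} [Group Ω] {S : Subgroup Ω} {G : Type v} [Group G]
    {ι : S →* G} (hι : Function.Injective ι) {P : Subgroup Ω} (hP : P ≤ S) (h : Cfsg.IsMetacyclic P) :
    Cfsg.IsMetacyclic (imageAlong ι P) :=
  isMetacyclic_equiv ((Subgroup.subgroupOfEquivOfLe hP).symm.trans
    ((P.subgroupOf S).equivMapOfInjective ι hι)) h

/-- If the elements of `N_Q(P)` lie in `P` then `Q ≤ P`, for `P ≤ N(Q)`. -/
theorem le_of_normalizer_le {Ω : Type u} [Group Ω] {S : Subgroup Ω} [Finite S] {p : ℕ} [Fact p.Prime]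
    (hS : IsPGroup p S) {P Q : Subgroup Ω} (hPS : P ≤ S) (hQS : Q ≤ S)
    (hPN : P ≤ Subgroup.normalizer (Q : Set Ω))
    (h2 : ∀ q ∈ Q, q ∈ Subgroup.normalizer (P : Set Ω) → q ∈ P) : Q ≤ P := by
  by_contra hcon
  have hlt : P < P ⊔ Q := by
    refine lt_of_le_of_ne le_sup_left fun he => hcon ?_
    rw [he]; exact le_sup_right
  have hfin : Finite (P ⊔ Q : Subgroup Ω) := finite_of_le (sup_le hPS hQS)
  obtain ⟨s, hs, hsN, hsP⟩ := exists_mem_normalizer_of_isPGroup_lt
    (hS.to_le (sup_le hPS hQS)) hlt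
  apply hsP
  rw [← SetLike.mem_coe, Subgroup.coe_mul_of_left_le_normalizer_right P Q hPN, Set.mem_mul] at hs
  obtain ⟨a, ha, b, hb, hab⟩ := hs
  subst hab
  have haN : a ∈ Subgroup.normalizer (P : Set Ω) := Subgroup.le_normalizer ha
  have hbN : b ∈ Subgroup.normalizer (P : Set Ω) := by
    have := mul_mem (inv_mem haN) hsN
    simpa using this
  exact mul_mem ha (h2 b hb hbN)

theorem metac_normal {Ω : Type u} [Group Ω] {S : Subgroup Ω} [Finite S] {p : ℕ} [Fact p.Prime]
    (hS : IsPGroup p S) {F : FusionSystem S} (hF : F.IsSaturated p) {P : Subgroup Ω}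
    (hP : F.StronglyClosed P) (hp : p ≠ 2) (hm : Cfsg.IsMetacyclic P) : F.IsNormal P := by
  apply normal_of_sc hS hF hP
  intro R hR
  have hn := hR.2.1
  have hc := hR.1
  have hrad : F.IsRadical p R := essential_radical hS hR
  obtain ⟨L, _, ι, hM⟩ := norm_model_exists hS hF hn hc
  haveI : Finite L := hM.1
  have hRN : R ≤ normalizerIn S R := le_normalizerIn hn.1
  have hradE : (normSys F R hn.1).IsRadical p R := ⟨hRN, by rw [norm_autGroup]; exact hrad.2⟩
  haveI : Finite (normalizerIn S R) := finite_of_le normalizerIn_le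
  have hNp : IsPGroup p (normalizerIn S R) := isPGroup_of_le hS normalizerIn_le
  have hpre := (model_radical_iff hNp hM (norm_normal hn.1) (norm_centric hn.1 hc hRN)).1 hradE
  have hr := hM.2.1
  obtain ⟨T, hT⟩ := hM.2.2.1
  have hTp : IsPGroup p ι.range := hT ▸ T.isPGroup'
  have hOT : Cfsg.pCore p L ≤ ι.range := by
    rw [← hT]; exact Cfsg.Agent.H28.pCore_le_sylow T
  have hcore : imageAlong ι (P ⊓ normalizerIn S R) ≤ Cfsg.pCore p L := by
    haveI : (Cfsg.pCore p L).Normal := inferInstance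
    refine metac_le hp (T := ι.range) isPGroup_pCore (fun N hN hNp => le_pCore hN hNp) hM.2.2.2 hOT hTp
      imageAlong_le_range ?_ ?_
    · intro y hy g hg
      obtain ⟨x, hx1, hx2, rfl⟩ := mem_imageAlong.1 hy
      obtain ⟨h3, h4⟩ := mor_real_conj (P := Subgroup.zpowers x) hr g (Subgroup.zpowers_le.2 hx1) (by
        rintro _ ⟨n, rfl⟩
        have h5 : tf ι (x ^ n) = tf ι x ^ n := by
          rw [tf_apply ι (zpow_mem hx1 n), tf_apply ι hx1, ← map_zpow]; rfl
        show g * tf ι (x ^ n) * g⁻¹ ∈ _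
        rw [h5, ← conj_zpow]
        exact zpow_mem hg n)
      have h5 := h4 x (Subgroup.mem_zpowers x)
      rw [← h5]
      refine mem_imageAlong.2 ⟨_, h3.mem (Subgroup.mem_zpowers x), ⟨?_, h3.mem (Subgroup.mem_zpowers x)⟩, rfl⟩
      exact sc_apply hP (mor_norm_sub h3) (Subgroup.mem_zpowers x) hx2.1
    · exact isMetacyclic_imageAlong hr.1 inf_le_right (isMetacyclic_le hm inf_le_left)
  refine le_of_normalizer_le hS hn.1 hP.1 (le_trans hn.1 (sc_normalizer hP)) ?_
  intro q hq hqN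
  have h1 : q ∈ normalizerIn S R := ⟨hP.1 hq, hqN⟩
  rw [← hpre]
  exact mem_preimageAlong.2 ⟨h1, hcore (mem_imageAlong.2 ⟨q, h1, ⟨hq, h1⟩, rfl⟩)⟩

end Cfsg.Agent.H28
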