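import Mathlib
import Cfsg.Agent.H28.Metac4
import Cfsg.Agent.H25.Rank2
import Cfsg.Agent.H23.CycSelf2
import Cfsg.Agent.S1896

/-!
Metacyclic strongly closed subgroups in `2`-constrained groups.
-/

set_option autoImplicit false

namespace Cfsg.Agent.H28

open Subgroup

universe u v

theorem cyc_cmp {Γ : Type u} [Group Γ] [Finite Γ] [IsCyclic Γ] {p : ℕ} [Fact p.Prime] (h : IsPGroup p Γ) (a b : Γ) :
    a ∈ zpowers b ∨ b ∈ zpowers a := by
  obtain ⟨g, hg⟩ := IsCyclic.exists_generator (α := Γ)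
  obtain ⟨N, hN⟩ := IsPGroup.iff_card.1 h
  have key : ∀ c : Γ, ∃ s : ℕ, g ^ p ^ s ∈ zpowers c ∧ c ∈ zpowers (g ^ p ^ s) := by
    intro c
    obtain ⟨i, hi⟩ := (mem_powers_iff_mem_zpowers (x := g)).2 (hg c)
    change g ^ i = c at hi
    have h1 : Nat.gcd i (p ^ N) ∣ p ^ N := Nat.gcd_dvd_right _ _
    obtain ⟨s, -, hs⟩ := (Nat.dvd_prime_pow (Fact.out : p.Prime)).1 h1
    refine ⟨s, ?_, ?_⟩
    · have h2 := Nat.gcd_eq_gcd_ab i (p ^ N)
      rw [hs] at h2
      refine ⟨Nat.gcdA i (p ^ N), ?_⟩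
      show c ^ Nat.gcdA i (p ^ N) = g ^ p ^ s
      have h3 : g ^ ((p ^ N : ℕ) : ℤ) = 1 := by
        rw [zpow_natCast, ← hN]; exact pow_card_eq_one'
      have h4 : g ^ ((p ^ s : ℕ) : ℤ) = g ^ ((i : ℤ) * Nat.gcdA i (p ^ N) + ((p ^ N : ℕ) : ℤ) * Nat.gcdB i (p ^ N)) := by
        rw [h2]
      rw [zpow_add, zpow_mul, zpow_mul, h3, one_zpow, mul_one, zpow_natCast, zpow_natCast, hi] at h4
      exact h4.symm
    · obtain ⟨t, ht⟩ : p ^ s ∣ i := by rw [← hs]; exact Nat.gcd_dvd_left _ _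
      refine ⟨(t : ℤ), ?_⟩
      show (g ^ p ^ s) ^ (t : ℤ) = c
      rw [zpow_natCast, ← pow_mul, ← ht, hi]
  obtain ⟨s, hs1, hs2⟩ := key a
  obtain ⟨t, ht1, ht2⟩ := key b
  have h5 : ∀ {s t : ℕ}, s ≤ t → g ^ p ^ t ∈ zpowers (g ^ p ^ s) := by
    intro s t hst
    obtain ⟨r, rfl⟩ := Nat.exists_eq_add_of_le hst
    rw [pow_add, pow_mul]
    exact pow_mem (mem_zpowers _) _
  rcases le_total s t with hst | hst
  · right
    exact (zpowers_le.2 hs1) ((zpowers_le.2 (h5 hst)) ht2)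
  · left
    exact (zpowers_le.2 ht1) ((zpowers_le.2 (h5 hst)) hs2)

theorem metac_step {P : Type u} [Group P] [Finite P] (hP : IsPGroup 2 P) (hm : Cfsg.IsMetacyclic P) {Q : Subgroup P}
    [Q.Normal] (hab : ∀ a ∈ Q, ∀ b ∈ Q, a * b = b * a) {x d : P} (hx2 : x ^ 2 ∈ Q) (hd : d ∈ Q)
    (he2 : (x * d * x⁻¹ * d⁻¹) ^ 2 ≠ 1) (hns : ∀ w ∈ Q, w ^ 2 ≠ x * d * x⁻¹ * d⁻¹) : False := by
  obtain ⟨N, hN, hNc, hPN⟩ := hm
  obtain ⟨e, he⟩ : ∃ e, e = x * d * x⁻¹ * d⁻¹ := ⟨_, rfl⟩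
  rw [← he] at he2
  have heQ : e ∈ Q := by rw [he]; exact mul_mem (Normal.conj_mem inferInstance _ hd x) (inv_mem hd)
  have hΓ : IsPGroup 2 (P ⧸ N) := hP.to_quotient N
  have hcΓ : ∀ a b : P ⧸ N, a * b = b * a := by
    letI := hPN.commGroup
    exact fun a b => mul_comm a b
  have hφ : ∀ a : P, QuotientGroup.mk' N a = 1 ↔ a ∈ N := fun a => QuotientGroup.eq_one_iff a
  have hcN : ∀ a ∈ N, ∀ b ∈ N, a * b = b * a := by
    letI := hNc.commGroup
    intro a ha b hb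
    have h1 : (⟨a, ha⟩ : N) * ⟨b, hb⟩ = ⟨b, hb⟩ * ⟨a, ha⟩ := mul_comm _ _
    exact congrArg Subtype.val h1
  have heN : e ∈ N := by
    rw [← hφ, he, map_mul, map_mul, map_mul, map_inv, map_inv, hcΓ (QuotientGroup.mk' N x)]
    group
  have hxd : x * x * d = d * (x * x) := by
    have h1 := hab _ hx2 _ hd
    rwa [sq] at h1
  have hxe : x * e * x⁻¹ = e⁻¹ := by
    rw [he]
    calc x * (x * d * x⁻¹ * d⁻¹) * x⁻¹ = (x * x * d) * x⁻¹ * d⁻¹ * x⁻¹ := by group
      _ = d * (x * x) * x⁻¹ * d⁻¹ * x⁻¹ := by rw [hxd]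
      _ = (x * d * x⁻¹ * d⁻¹)⁻¹ := by group
  have claim1 : ∀ q ∈ Q, x * q ∉ N := by
    intro q hq hy
    have h1 := hcN _ hy _ heN
    have h2 : x * q * e = x * e * q := by rw [mul_assoc, hab q hq e heQ, ← mul_assoc]
    have h3 : x * e = e⁻¹ * x := by rw [← hxe]; group
    rw [h2, h3] at h1
    have h4 : e⁻¹ = e := by
      have h5 : e⁻¹ * (x * q) = e * (x * q) := by rw [← h1]; group
      exact mul_right_cancel h5
    apply he2
    rw [sq]; nth_rewrite 1 [← h4]; exact inv_mul_cancel e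
  have hx2' : ∀ m : ℤ, (x * x) ^ m ∈ Q := fun m => zpow_mem (by rw [← sq]; exact hx2) m
  rcases cyc_cmp hΓ (QuotientGroup.mk' N x) (QuotientGroup.mk' N d) with ⟨k, hk⟩ | ⟨k, hk⟩
  · change (QuotientGroup.mk' N d) ^ k = QuotientGroup.mk' N x at hk
    apply claim1 (d ^ (-k)) (zpow_mem hd _)
    rw [← hφ, map_mul, map_zpow, ← hk, ← zpow_add, add_neg_cancel, zpow_zero]
  · change (QuotientGroup.mk' N x) ^ k = QuotientGroup.mk' N d at hk
    rcases Int.even_or_odd' k with ⟨m, hm | hm⟩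
    · obtain ⟨y, hy⟩ : ∃ y, y = (x * x) ^ (-m) * d := ⟨_, rfl⟩
      have hyN : y ∈ N := by
        rw [← hφ, hy, map_mul, map_zpow, map_mul, ← hk, hm, zpow_mul, zpow_neg]
        have h1 : QuotientGroup.mk' N x * QuotientGroup.mk' N x = (QuotientGroup.mk' N x) ^ (2 : ℤ) := by
          rw [zpow_two]
        rw [h1, inv_mul_cancel]
      have hyQ : y ∈ Q := by rw [hy]; exact mul_mem (hx2' _) hd
      have hdy : d = (x * x) ^ m * y := by rw [hy, zpow_neg]; group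
      have hxm : x * (x * x) ^ m = (x * x) ^ m * x := by
        have h1 : Commute x (x * x) := (Commute.refl x).mul_right (Commute.refl x)
        exact (h1.zpow_right m).eq
      have hey : e = x * y * x⁻¹ * y⁻¹ := by
        have h1 : e = (x * x) ^ m * (x * y * x⁻¹ * y⁻¹) * ((x * x) ^ m)⁻¹ := by
          rw [he, hdy]
          calc x * ((x * x) ^ m * y) * x⁻¹ * ((x * x) ^ m * y)⁻¹ = (x * (x * x) ^ m) * y * x⁻¹ * y⁻¹ * ((x * x) ^ m)⁻¹ := by group
            _ = ((x * x) ^ m * x) * y * x⁻¹ * y⁻¹ * ((x * x) ^ m)⁻¹ := by rw [hxm]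
            _ = _ := by group
        have h2 : x * y * x⁻¹ * y⁻¹ ∈ Q := mul_mem (Normal.conj_mem inferInstance _ hyQ x) (inv_mem hyQ)
        rw [h1, hab _ (hx2' m) _ h2]; group
      -- action on N
      obtain ⟨g, hg⟩ := hNc.exists_generator
      have hgN : (g : P) ∈ N := g.2
      have hmemg : ∀ z ∈ N, ∃ j : ℤ, (g : P) ^ j = z := by
        intro z hz
        obtain ⟨j, hj⟩ := hg ⟨z, hz⟩
        exact ⟨j, by rw [← Subgroup.coe_zpow]; exact congrArg Subtype.val hj⟩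
      obtain ⟨r, hr⟩ := hmemg _ (hN.conj_mem _ hgN x)
      obtain ⟨j, hj⟩ := hmemg _ hyN
      obtain ⟨n, hn⟩ := (haveI : Fact (Nat.Prime 2) := ⟨Nat.prime_two⟩; IsPGroup.iff_orderOf.mp hP (g : P))
      have hn0 : n ≠ 0 := by
        rintro rfl
        rw [pow_zero, orderOf_eq_one_iff] at hn
        apply he2
        obtain ⟨j', hj'⟩ := hmemg _ heN
        rw [← hj', hn, one_zpow, one_pow]
      obtain ⟨n', rfl⟩ := Nat.exists_eq_succ_of_ne_zero hn0
      have hodd := H23.odd_of_conj hn hr.symm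
      obtain ⟨t, ht⟩ := hodd
      apply hns (y ^ t) (zpow_mem hyQ t)
      rw [← he, hey]
      have h1 : x * y * x⁻¹ = y ^ r := by
        rw [← hj, ← conj_zpow, ← hr, ← zpow_mul, ← zpow_mul, mul_comm]
      rw [h1, ht, ← zpow_natCast, ← zpow_mul]
      have h2 : y ^ (2 * t + 1) * y⁻¹ = y ^ (2 * t) := by rw [zpow_add_one, mul_inv_cancel_right]
      rw [h2, mul_comm]; rfl
    · apply claim1 ((x * x) ^ m * d⁻¹) (mul_mem (hx2' _) (inv_mem hd))
      rw [← hφ, map_mul, map_mul, map_inv, map_zpow, map_mul, ← hk, hm, zpow_add, zpow_mul, zpow_one]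
      have h1 : QuotientGroup.mk' N x * QuotientGroup.mk' N x = (QuotientGroup.mk' N x) ^ (2 : ℤ) := by
        rw [zpow_two]
      rw [h1, mul_inv_rev]
      group

/-- A nonabelian subgroup of order eight. -/
def HasNA8 (G : Type u) [Group G] : Prop := ∃ H : Subgroup G, Nat.card H = 8 ∧ ¬ IsMulCommutative H

theorem HasNA8.map {A : Type u} {B : Type v} [Group A] [Group B] (h : HasNA8 A) (f : A →* B)
    (hf : Function.Injective f) : HasNA8 B := by
  obtain ⟨H, h1, h2⟩ := h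
  have e := H.equivMapOfInjective f hf
  refine ⟨H.map f, by rw [← h1]; exact (Nat.card_congr e.toEquiv).symm, fun h3 => h2 ⟨⟨fun a b => ?_⟩⟩⟩
  apply e.injective
  rw [map_mul, map_mul]
  exact h3.is_comm.comm _ _

theorem hasNA8_of_le {G : Type u} [Group G] {H P : Subgroup G} (hHP : H ≤ P) (h1 : Nat.card H = 8)
    (h2 : ¬ IsMulCommutative H) : HasNA8 P := by
  have h3 : HasNA8 H := ⟨⊤, by rw [Subgroup.card_top, h1], fun h => h2 ⟨⟨fun a b => by
    have h4 := h.is_comm.comm (⟨a, mem_top a⟩ : (⊤ : Subgroup H)) ⟨b, mem_top b⟩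
    exact congrArg Subtype.val h4⟩⟩⟩
  exact h3.map (Subgroup.inclusion hHP) (Subgroup.inclusion_injective hHP)

theorem isMetacyclic_surj {A : Type u} {B : Type v} [Group A] [Group B] (f : A →* B) (hf : Function.Surjective f)
    (h : Cfsg.IsMetacyclic A) : Cfsg.IsMetacyclic B := by
  obtain ⟨N, hN, h1, h2⟩ := h
  have hN' : (N.map f).Normal := hN.map _ hf
  refine ⟨N.map f, hN', ?_, ?_⟩
  · exact isCyclic_of_surjective (f.subgroupMap N) (f.subgroupMap_surjective N)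
  · refine isCyclic_of_surjective (QuotientGroup.map N (N.map f) f (Subgroup.le_comap_map f N)) ?_
    intro y
    obtain ⟨b, rfl⟩ := QuotientGroup.mk_surjective y
    obtain ⟨a, rfl⟩ := hf b
    exact ⟨(a : A ⧸ N), rfl⟩

theorem metac_sectional {P : Type u} [Group P] [Finite P] (hm : Cfsg.IsMetacyclic P) :
    Cfsg.SectionalPRankLE 2 2 P := by
  intro H N hN A hA hexp
  haveI : Fact (Nat.Prime 2) := ⟨Nat.prime_two⟩
  have h1 := H22.isMetacyclic_subgroup hm H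
  have h2 := isMetacyclic_surj (QuotientGroup.mk' N) (QuotientGroup.mk'_surjective N) h1
  have h3 := H22.isMetacyclic_subgroup h2 A
  exact H22.metacyclic_exp_card (p := 2) h3 hexp

theorem metac_named {P : Type u} [Group P] [Finite P] (hP : IsPGroup 2 P) (hm : Cfsg.IsMetacyclic P) (h : HasNA8 P) :
    (∃ m, Nonempty (P ≃* DihedralGroup m)) ∨ (∃ m, Nonempty (P ≃* QuaternionGroup m)) ∨ Cfsg.IsQuasiDihedral P := by
  obtain ⟨H, hcard, hna⟩ := h
  obtain ⟨n, hn⟩ := H25.dqs_of_nonabelian_eight hP H hcard hna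
    (H25.centralizer_le_of_sectionalRank hP (metac_sectional hm) H hcard hna)
  rcases hn.named with h | h | ⟨-, h⟩
  · exact Or.inl ⟨_, h⟩
  · exact Or.inr (Or.inl ⟨_, h⟩)
  · exact Or.inr (Or.inr h)

theorem zmod_sq {n : ℕ} (hn : 2 ≤ n) (a : ZMod (2 ^ n)) (h : a + a = 0) : ∃ b, b + b = a := by
  haveI : NeZero (2 ^ n) := ⟨by positivity⟩
  have h1 : ((a.val + a.val : ℕ) : ZMod (2 ^ n)) = 0 := by
    rw [Nat.cast_add, ZMod.natCast_zmod_val]; exact h
  rw [ZMod.natCast_eq_zero_iff] at h1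
  obtain ⟨n', rfl⟩ : ∃ n', n = n' + 2 := ⟨n - 2, by omega⟩
  obtain ⟨k, hk⟩ := h1
  have h2 : a.val = 2 * (2 ^ n' * k) := by
    generalize a.val = v at hk
    have h3 : 2 ^ (n' + 2) * k = 4 * (2 ^ n' * k) := by rw [pow_add]; ring
    rw [h3] at hk
    omega
  refine ⟨((2 ^ n' * k : ℕ) : ZMod _), ?_⟩
  rw [← Nat.cast_add, ← two_mul, ← h2, ZMod.natCast_zmod_val]

theorem homoc_sq {Q : Type u} [Group Q] {n : ℕ} (hn : 2 ≤ n)
    (f : Q ≃* Multiplicative (ZMod (2 ^ n)) × Multiplicative (ZMod (2 ^ n))) (e : Q) (he : e ^ 2 = 1) :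
    ∃ w : Q, w ^ 2 = e := by
  have h1 : (f e) ^ 2 = 1 := by rw [← map_pow, he, map_one]
  obtain ⟨x, hx⟩ := zmod_sq hn (Multiplicative.toAdd (f e).1) (by
    have h2 := congrArg (fun z => Multiplicative.toAdd z.1) h1
    simp only [sq] at h2
    exact h2)
  obtain ⟨y, hy⟩ := zmod_sq hn (Multiplicative.toAdd (f e).2) (by
    have h2 := congrArg (fun z => Multiplicative.toAdd z.2) h1
    simp only [sq] at h2
    exact h2)
  refine ⟨f.symm (Multiplicative.ofAdd x, Multiplicative.ofAdd y), ?_⟩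
  apply f.injective
  rw [map_pow, MulEquiv.apply_symm_apply, sq]
  apply Prod.ext
  · show Multiplicative.ofAdd (x + x) = _
    rw [hx]; rfl
  · show Multiplicative.ofAdd (y + y) = _
    rw [hy]; rfl

end Cfsg.Agent.H28
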