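import Mathlib
import Cfsg.Agent.H28.Metac5
import Cfsg.Agent.H28.AxFus
import Cfsg.Agent.H28.FusNormal2

/-!
Metacyclic strongly closed `2`-subgroups are normal in the fusion system, apart from maximal class.
-/

set_option autoImplicit false

namespace Cfsg.Agent.H28

open Subgroup

universe u v

/-- The union of a subgroup and a coset. -/
def twoCoset {G : Type u} [Group G] (Q : Subgroup G) [hQ : Q.Normal] (x : G) (hx2 : x ^ 2 ∈ Q) : Subgroup G where
  carrier := {g | g ∈ Q ∨ x * g ∈ Q}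
  one_mem' := Or.inl (one_mem _)
  mul_mem' := by
    rintro a b (ha | ha) (hb | hb)
    · exact Or.inl (mul_mem ha hb)
    · right
      have h1 : x * (a * b) = (x * a * x⁻¹) * (x * b) := by group
      rw [h1]; exact mul_mem (hQ.conj_mem _ ha x) hb
    · right
      have h1 : x * (a * b) = (x * a) * b := by group
      rw [h1]; exact mul_mem ha hb
    · left
      have h1 : a * b = x⁻¹ * ((x * a) * (x⁻¹ * (x * b) * x⁻¹⁻¹)) * x⁻¹⁻¹ * (x ^ 2)⁻¹ := by
        rw [sq]; group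
      rw [h1]
      refine mul_mem (hQ.conj_mem _ (mul_mem ha (hQ.conj_mem _ hb x⁻¹)) x⁻¹) (inv_mem hx2)
  inv_mem' := by
    rintro a (ha | ha)
    · exact Or.inl (inv_mem ha)
    · right
      have h1 : x * a⁻¹ = x ^ 2 * (x⁻¹ * (x * a)⁻¹ * x⁻¹⁻¹) := by rw [sq]; group
      rw [h1]
      exact mul_mem hx2 (hQ.conj_mem _ (inv_mem ha) x⁻¹)

theorem mem_twoCoset {G : Type u} [Group G] {Q : Subgroup G} [hQ : Q.Normal] {x g : G} {hx2 : x ^ 2 ∈ Q} :
    g ∈ twoCoset Q x hx2 ↔ g ∈ Q ∨ x * g ∈ Q := Iff.rfl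

theorem card_twoCoset {G : Type u} [Group G] [Finite G] {Q : Subgroup G} [hQ : Q.Normal] {x : G} {hx2 : x ^ 2 ∈ Q}
    (hx : x ∉ Q) : Nat.card (twoCoset Q x hx2) = 2 * Nat.card Q := by
  have hle : Q ≤ twoCoset Q x hx2 := fun g hg => Or.inl hg
  have hxm : x ∈ twoCoset Q x hx2 := Or.inr (by rw [← sq]; exact hx2)
  have h1 : (Q.subgroupOf (twoCoset Q x hx2)).index = 2 := by
    rw [Subgroup.index_eq_two_iff]
    refine ⟨⟨x, hxm⟩, fun b => ?_⟩
    have hbx : (b : G) * x ∈ Q ↔ x * (b : G) ∈ Q := by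
      constructor
      · intro h
        have h2 := hQ.conj_mem _ h x
        have h3 : x * ((b : G) * x) * x⁻¹ = x * b := by group
        rwa [h3] at h2
      · intro h
        have h2 := hQ.conj_mem _ h x⁻¹
        have h3 : x⁻¹ * (x * (b : G)) * x⁻¹⁻¹ = b * x := by group
        rwa [h3] at h2
    rw [Subgroup.mem_subgroupOf, Subgroup.mem_subgroupOf]
    show Xor' ((b : G) * x ∈ Q) ((b : G) ∈ Q)
    rw [hbx]
    rcases b.2 with hb | hb
    · right
      refine ⟨hb, fun h => hx ?_⟩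
      have h4 : x = (x * (b : G)) * (b : G)⁻¹ := by group
      rw [h4]; exact mul_mem h (inv_mem hb)
    · left
      refine ⟨hb, fun h => hx ?_⟩
      have h4 : x = (x * (b : G)) * (b : G)⁻¹ := by group
      rw [h4]; exact mul_mem hb (inv_mem h)
  have h2 := Subgroup.card_mul_index (Q.subgroupOf (twoCoset Q x hx2))
  rw [h1, Nat.card_congr (Subgroup.subgroupOfEquivOfLe hle).toEquiv] at h2
  omega

variable {G : Type u} [Group G] [Finite G]

theorem metac_le2 {O T P : Subgroup G} [O.Normal] (hO : IsPGroup 2 O)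
    (hOmax : ∀ N : Subgroup G, N.Normal → IsPGroup 2 N → N ≤ O)
    (hC : centralizer (O : Set G) ≤ O) (hOT : O ≤ T) (hT : IsPGroup 2 T) (hPT : P ≤ T)
    (hsc : ∀ x ∈ P, ∀ g : G, g * x * g⁻¹ ∈ T → g * x * g⁻¹ ∈ P) (hm : Cfsg.IsMetacyclic P) : P ≤ O ∨ HasNA8 P := by
  haveI : Fact (Nat.Prime 2) := ⟨Nat.prime_two⟩
  by_cases hPO : P ≤ O
  · exact Or.inl hPO
  right
  obtain ⟨x, hxP, hxO⟩ := SetLike.not_le_iff_exists.1 hPO
  obtain ⟨Q, hQ⟩ : ∃ Q, Q = P ⊓ O := ⟨_, rfl⟩
  have hQn : Q.Normal := by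
    refine ⟨fun q hq g => ?_⟩
    rw [hQ] at hq ⊢
    have h1 : g * q * g⁻¹ ∈ O := Normal.conj_mem inferInstance _ hq.2 g
    exact ⟨hsc q hq.1 g (hOT h1), h1⟩
  have hQO : Q ≤ O := by rw [hQ]; exact inf_le_right
  have hQP : Q ≤ P := by rw [hQ]; exact inf_le_left
  have hQp : IsPGroup 2 Q := hO.to_le hQO
  have hPH : ∀ y ∈ P, y ∈ cmod O Q := by
    intro y hy o ho
    rw [hQ]
    constructor
    · show y * o * y⁻¹ * o⁻¹ ∈ P
      have h1 : o * y⁻¹ * o⁻¹ ∈ P := hsc _ (inv_mem hy) o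
        (mul_mem (mul_mem (hOT ho) (hPT (inv_mem hy))) (inv_mem (hOT ho)))
      have h2 := mul_mem hy h1
      have h3 : y * (o * y⁻¹ * o⁻¹) = y * o * y⁻¹ * o⁻¹ := by group
      rwa [h3] at h2
    · show y * o * y⁻¹ * o⁻¹ ∈ O
      exact mul_mem (Normal.conj_mem inferInstance _ ho y) (inv_mem ho)
  obtain ⟨E, _, _, π, ρ, hsur, h2, h3, hexp, hcQ⟩ := exists_vact (p := 2) Q hQp
  have hDp := isPGroup_cmod_ker hO hC hQO h2 h3
  have hDO : (cmod O Q ⊓ ρ.ker : Subgroup G) ≤ O := hOmax _ inferInstance hDp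
  have hE : IsPGroup 2 E := fun v => ⟨1, by rw [pow_one]; exact hexp v⟩
  have hmQ : Cfsg.IsMetacyclic Q := H22.isMetacyclic_of_le hm hQP
  have hcE : Nat.card E ≤ 2 ^ 2 := by
    have h4 := H22.metacyclic_card_le' (p := 2) hmQ
    have h5 : H22.agemo 2 Q ≤ (frattini Q).map Q.subtype := by
      unfold H22.agemo
      rw [closure_le]
      rintro _ ⟨w, hw, rfl⟩
      have h6 : π (⟨w, hw⟩ ^ 2) = 1 := by rw [map_pow, hexp]
      exact (h2 _).1 h6
    have h6 := h4.trans (Nat.mul_le_mul_left _ (Subgroup.card_le_of_le h5))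
    rw [hcQ] at h6
    exact Nat.le_of_mul_le_mul_right h6 Nat.card_pos
  obtain ⟨k, hk⟩ : ∃ k, x ^ 2 ^ k = 1 := by
    obtain ⟨k, hk⟩ := hT ⟨x, hPT hxP⟩
    exact ⟨k, congrArg Subtype.val hk⟩
  have hαk : (ρ x) ^ 2 ^ k = 1 := by rw [← map_pow, hk, map_one]
  have hα1 : ρ x ≠ 1 := fun h => hxO (hDO ⟨hPH x hxP, h⟩)
  obtain ⟨hα, hcE2, hUC⟩ := isTv_of_card hE hcE hαk hα1
  -- x ^ 2 ∈ Q
  have hinv : ∀ v : E, v⁻¹ = v := fun v => by
    have h4 := hexp v
    rw [sq] at h4
    exact inv_eq_of_mul_eq_one_left h4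
  have hα2 : ρ (x ^ 2) = 1 := by
    rw [map_pow]
    ext v
    have h4 := sq_of_card hE hcE hαk v
    rw [map_mul, map_inv] at h4
    have h5 : (ρ x) ((ρ x) v) = v := by
      have h6 : (ρ x) ((ρ x) v) = (ρ x v * v⁻¹) * (ρ x v) := by rw [← h4]; group
      rw [h6, hinv]
      have h7 := hexp (ρ x v)
      rw [mul_right_comm, ← sq, h7, one_mul]
    rw [sq]
    exact h5
  have hx2Q : x ^ 2 ∈ Q := by
    rw [hQ]
    exact ⟨pow_mem hxP 2, hDO ⟨hPH _ (pow_mem hxP 2), hα2⟩⟩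
  have hxQ : x ∉ Q := fun h => hxO (hQO h)
  -- the element d
  obtain ⟨d, hd⟩ : ∃ d : Q, ρ x (π d) ≠ π d := by
    by_contra hcon
    push Not at hcon
    apply hα1
    ext v
    obtain ⟨d, rfl⟩ := hsur v
    exact hcon d
  have hxd : x * (d : G) * x⁻¹ ∈ Q := hQn.conj_mem _ d.2 x
  have heQ : x * (d : G) * x⁻¹ * (d : G)⁻¹ ∈ Q := mul_mem hxd (inv_mem d.2)
  have hπe : π ⟨_, heQ⟩ ≠ 1 := by
    intro h
    apply hd
    rw [h3 x d hxd]
    have h4 : (⟨x * (d : G) * x⁻¹, hxd⟩ : Q) = ⟨_, heQ⟩ * d := Subtype.ext (by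
      show x * (d : G) * x⁻¹ = x * (d : G) * x⁻¹ * (d : G)⁻¹ * d
      group)
    rw [h4, map_mul, h, one_mul]
  have hns : ∀ w ∈ Q, w ^ 2 ≠ x * (d : G) * x⁻¹ * (d : G)⁻¹ := by
    intro w hw h
    apply hπe
    have h4 : (⟨_, heQ⟩ : Q) = (⟨w, hw⟩ : Q) ^ 2 := Subtype.ext h.symm
    rw [h4, map_pow, hexp]
  -- an element of odd order
  have hA : ¬ IsPGroup 2 (MulAut Q) := by
    intro hA
    apply hPO
    have h4 : IsPGroup 2 (cmod O Q) := by
      apply isPGroup_of_pprime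
      intro c hc hco
      have hρ1 : ρ c = 1 := by
        obtain ⟨m, hm⟩ := hA (MulAut.conjNormal c)
        have h5 : ρ (c ^ 2 ^ m) = 1 := by
          ext v
          obtain ⟨q, rfl⟩ := hsur v
          have h6 : c ^ 2 ^ m * (q : G) * (c ^ 2 ^ m)⁻¹ = q := by
            have h7 : MulAut.conjNormal (c ^ 2 ^ m) q = q := by rw [map_pow, hm]; rfl
            have h8 := congrArg Subtype.val h7
            rwa [MulAut.conjNormal_apply] at h8
          rw [h3 _ q (by rw [h6]; exact q.2)]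
          show π _ = π q
          congr 1
          exact Subtype.ext h6
        rw [map_pow] at h5
        have h6 : orderOf (ρ c) ∣ 2 ^ m := orderOf_dvd_of_pow_eq_one h5
        have h7 : orderOf (ρ c) ∣ orderOf c := orderOf_map_dvd ρ c
        have h8 : orderOf (ρ c) ∣ 1 := by
          have h9 := Nat.dvd_gcd h7 h6
          rwa [Nat.Coprime.gcd_eq_one (Nat.Coprime.pow_right m hco)] at h9
        exact orderOf_eq_one_iff.1 (Nat.dvd_one.1 h8)
      have h5 : c ∈ (cmod O Q ⊓ ρ.ker : Subgroup G) := ⟨hc, hρ1⟩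
      obtain ⟨m, hm⟩ := hDp ⟨c, h5⟩
      have h6 : c ^ 2 ^ m = 1 := congrArg Subtype.val hm
      have h7 : orderOf c ∣ 1 := by
        have h9 := Nat.dvd_gcd (dvd_refl (orderOf c)) (orderOf_dvd_of_pow_eq_one h6)
        rwa [Nat.Coprime.gcd_eq_one (Nat.Coprime.pow_right m hco)] at h9
      exact orderOf_eq_one_iff.1 (Nat.dvd_one.1 h7)
    exact fun y hy => hOmax _ inferInstance h4 (hPH y hy)
  rcases Cfsg.Agent.S1896.result hQp hmQ hA with ⟨⟨f⟩⟩ | ⟨n, ⟨f⟩⟩
  · -- quaternion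
    refine hasNA8_of_le hQP ?_ ?_
    · rw [Nat.card_congr f.toEquiv, Nat.card_eq_fintype_card, QuaternionGroup.card]
    · intro h
      have h1 : ∀ a b : QuaternionGroup 2, a * b = b * a := by
        intro a b
        have h4 := h.is_comm.comm (f.symm a) (f.symm b)
        have h5 := congrArg f h4
        simpa using h5
      exact absurd (h1 (QuaternionGroup.a 1) (QuaternionGroup.xa 0)) (by decide)
  · have hab : ∀ a ∈ Q, ∀ b ∈ Q, a * b = b * a := by
      intro a ha b hb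
      have h4 : (⟨a, ha⟩ : Q) * ⟨b, hb⟩ = ⟨b, hb⟩ * ⟨a, ha⟩ := by
        apply f.injective
        rw [map_mul, map_mul, mul_comm]
      exact congrArg Subtype.val h4
    have hcard : Nat.card Q = 2 ^ n * 2 ^ n := by
      rw [Nat.card_congr f.toEquiv, Nat.card_prod]
      have h4 : Nat.card (Multiplicative (ZMod (2 ^ n))) = 2 ^ n := by
        rw [Nat.card_congr Multiplicative.toAdd, Nat.card_zmod]
      rw [h4]
    have he1 : x * (d : G) * x⁻¹ * (d : G)⁻¹ ≠ 1 := by
      intro h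
      apply hπe
      have h4 : (⟨_, heQ⟩ : Q) = 1 := Subtype.ext h
      rw [h4, map_one]
    by_cases hn : 2 ≤ n
    · exfalso
      have hPp : IsPGroup 2 P := hT.to_le hPT
      haveI : (Q.subgroupOf P).Normal := ⟨fun q hq g => by
        rw [Subgroup.mem_subgroupOf] at hq ⊢
        exact hQn.conj_mem _ hq g⟩
      refine metac_step (Q := Q.subgroupOf P) (x := ⟨x, hxP⟩) (d := ⟨d, hQP d.2⟩) hPp hm ?_ ?_ ?_ ?_ ?_
      · intro a ha b hb
        exact Subtype.ext (hab _ ha _ hb)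
      · exact hx2Q
      · exact d.2
      · intro h
        have h4 : (x * (d : G) * x⁻¹ * (d : G)⁻¹) ^ 2 = 1 := congrArg Subtype.val h
        obtain ⟨w, hw⟩ := homoc_sq hn f ⟨_, heQ⟩ (Subtype.ext h4)
        exact hns w w.2 (congrArg Subtype.val hw)
      · intro w hw h
        exact hns w hw (congrArg Subtype.val h)
    · have hn1 : n = 1 := by
        rcases Nat.lt_or_ge n 1 with h | h
        · exfalso
          have h0 : n = 0 := by omega
          rw [h0, pow_zero, mul_one] at hcard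
          have h4 : Q = ⊥ := Subgroup.card_eq_one.1 hcard
          have h5 : x * (d : G) * x⁻¹ * (d : G)⁻¹ ∈ (⊥ : Subgroup G) := h4.le heQ
          exact he1 (Subgroup.mem_bot.1 h5)
        · omega
      have hle : twoCoset Q x hx2Q ≤ P := by
        rintro g (hg | hg)
        · exact hQP hg
        · have h4 := mul_mem (inv_mem hxP) (hQP hg)
          rwa [inv_mul_cancel_left] at h4
      refine hasNA8_of_le hle ?_ ?_
      · rw [card_twoCoset hxQ, hcard, hn1]; norm_num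
      · intro h
        apply he1
        have h4 := h.is_comm.comm (⟨x, Or.inr (by rw [← sq]; exact hx2Q)⟩ : twoCoset Q x hx2Q)
          ⟨d, Or.inl d.2⟩
        have h5 : x * (d : G) = d * x := congrArg Subtype.val h4
        rw [h5]; group

section
open Cfsg.FusionSystem

theorem metac_normal2 {Ω : Type u} [Group Ω] {S : Subgroup Ω} [Finite S]
    (hS : IsPGroup 2 S) {F : FusionSystem S} (hF : F.IsSaturated 2) {P : Subgroup Ω}
    (hP : F.StronglyClosed P) (hm : Cfsg.IsMetacyclic P) (hna : ¬ HasNA8 P) : F.IsNormal P := by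
  haveI : Fact (Nat.Prime 2) := ⟨Nat.prime_two⟩
  apply normal_of_sc hS hF hP
  intro R hR
  have hn := hR.2.1
  have hc := hR.1
  have hrad : F.IsRadical 2 R := essential_radical hS hR
  obtain ⟨L, _, ι, hM⟩ := norm_model_exists hS hF hn hc
  haveI : Finite L := hM.1
  have hRN : R ≤ normalizerIn S R := le_normalizerIn hn.1
  have hradE : (normSys F R hn.1).IsRadical 2 R := ⟨hRN, by rw [norm_autGroup]; exact hrad.2⟩
  haveI : Finite (normalizerIn S R) := finite_of_le normalizerIn_le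
  have hNp : IsPGroup 2 (normalizerIn S R) := isPGroup_of_le hS normalizerIn_le
  have hpre := (model_radical_iff hNp hM (norm_normal hn.1) (norm_centric hn.1 hc hRN)).1 hradE
  have hr := hM.2.1
  obtain ⟨T, hT⟩ := hM.2.2.1
  have hTp : IsPGroup 2 ι.range := hT ▸ T.isPGroup'
  have hOT : Cfsg.pCore 2 L ≤ ι.range := by
    rw [← hT]; exact Cfsg.Agent.H28.pCore_le_sylow T
  have hcore : imageAlong ι (P ⊓ normalizerIn S R) ≤ Cfsg.pCore 2 L := by
    haveI : (Cfsg.pCore 2 L).Normal := inferInstance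
    refine (metac_le2 (T := ι.range) isPGroup_pCore (fun N hN hNp => le_pCore hN hNp) hM.2.2.2 hOT hTp
      imageAlong_le_range ?_ ?_).resolve_right ?_
    · intro y hy g hg
      obtain ⟨x, hx1, hx2, rfl⟩ := mem_imageAlong.1 hy
      obtain ⟨h3, h4⟩ := mor_real_conj (P := Subgroup.zpowers x) hr g (Subgroup.zpowers_le.2 hx1) (by
        rintro _ ⟨n, rfl⟩
        have h5 : tf ι (x ^ n) = tf ι x ^ n := by
          rw [tf_apply ι (zpow_mem hx1 n), tf_apply ι hx1, ← map_zpow]; rfl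
        show g * tf ι (x ^ n) * g⁻¹ ∈ _
        rw [h5, ← conj_zpow]
        exact zpow_mem hg n)
      have h5 := h4 x (Subgroup.mem_zpowers x)
      rw [← h5]
      refine mem_imageAlong.2 ⟨_, h3.mem (Subgroup.mem_zpowers x), ⟨?_, h3.mem (Subgroup.mem_zpowers x)⟩, rfl⟩
      exact sc_apply hP (mor_norm_sub h3) (Subgroup.mem_zpowers x) hx2.1
    · exact isMetacyclic_imageAlong hr.1 inf_le_right (isMetacyclic_le hm inf_le_left)
    · intro h8
      have e := (Subgroup.subgroupOfEquivOfLe (inf_le_right : P ⊓ normalizerIn S R ≤ normalizerIn S R)).symm.trans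
        (((P ⊓ normalizerIn S R).subgroupOf (normalizerIn S R)).equivMapOfInjective ι hr.1)
      have h9 := h8.map e.symm.toMonoidHom e.symm.injective
      exact hna (h9.map (Subgroup.inclusion inf_le_left) (Subgroup.inclusion_injective _))
  refine le_of_normalizer_le hS hn.1 hP.1 (le_trans hn.1 (sc_normalizer hP)) ?_
  intro q hq hqN
  have h1 : q ∈ normalizerIn S R := ⟨hP.1 hq, hqN⟩
  rw [← hpre]
  exact mem_preimageAlong.2 ⟨h1, hcore (mem_imageAlong.2 ⟨q, h1, ⟨hq, h1⟩, rfl⟩)⟩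


end

end Cfsg.Agent.H28
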