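import Mathlib
import Cfsg.Agent.H28.Metac6
import Cfsg.Agent.H28.FusInner
import Cfsg.Agent.S3116

/-!
Automorphism groups of metacyclic `2`-groups: applications.
-/

set_option autoImplicit false

namespace Cfsg.Agent.H28

open Subgroup Cfsg.FusionSystem

universe u v

theorem inn_of_autGroup {Ω : Type u} [Group Ω] {S : Subgroup Ω} [Finite S] {p : ℕ} [Fact p.Prime]
    (hS : IsPGroup p S) {F : FusionSystem S} (hF : F.IsSaturated p) (haut : IsPGroup p (MulAut S)) :
    F.autGroup S = Cfsg.Inn S := by
  apply le_antisymm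
  · have h2 := (fullyAutomized_iff hS).1 (FN.fa hS hF fullyNormalized_top)
    have h3 := h2.2 (F.autGroup S) le_rfl (haut.to_subgroup _) (autInducedBy_le le_rfl le_rfl)
    intro α hα
    obtain ⟨s, hs, h4⟩ := mem_autInducedBy'.1 (h3 hα)
    exact mem_Inn.2 ⟨s, hs, h4⟩
  · exact Inn_le_autGroup le_rfl

theorem inner_of_top_normal {Ω : Type u} [Group Ω] {S : Subgroup Ω} {F : FusionSystem S}
    (hn : F.IsNormal S) (hA : F.autGroup S ≤ Cfsg.Inn S) (P : Subgroup Ω) :
    F.Hom P = (innerFusionSystem S).Hom P := by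
  have h1 : F = innerFusionSystem S := by
    apply fs_le_antisymm _ inner_le
    rw [le_iff_mor]
    intro P f hf
    obtain ⟨g, hg, h2, h3⟩ := (isNormal_iff.1 hn).2 P f hf
    have hgS : Mor F S g := hg.mono le_sup_right
    obtain ⟨β, hβ, h4⟩ := hgS.exists_aut h3
    obtain ⟨s, hs, h5⟩ := mem_Inn.1 (hA hβ)
    refine mor_inner.2 ⟨hf.le, s, hs, fun x hx => ?_⟩
    rw [← h2 x hx, ← h4 x (hf.le hx), h5 x (hf.le hx)]
  rw [h1]

/-- The pairs as functions on two elements. -/
def finTwoEquiv (A : Type v) [AddCommGroup A] : Multiplicative A × Multiplicative A ≃* Multiplicative (Fin 2 → A) where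
  toFun x := Multiplicative.ofAdd ![Multiplicative.toAdd x.1, Multiplicative.toAdd x.2]
  invFun y := (Multiplicative.ofAdd (Multiplicative.toAdd y 0), Multiplicative.ofAdd (Multiplicative.toAdd y 1))
  left_inv x := rfl
  right_inv y := by
    apply Multiplicative.toAdd.injective
    funext i
    fin_cases i <;> rfl
  map_mul' x y := by
    apply Multiplicative.toAdd.injective
    funext i
    fin_cases i <;> rfl

theorem aut_quaternion {X : Type u} [Group X] [Finite X] (hX : IsPGroup 2 X) {m : ℕ} (hm : 3 ≤ m)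
    (e : X ≃* QuaternionGroup m) : IsPGroup 2 (MulAut X) := by
  by_contra hA
  haveI : NeZero m := ⟨by omega⟩
  have hmeta : Cfsg.IsMetacyclic (QuaternionGroup m) := by
    have hidx : (zpowers (QuaternionGroup.a 1 : QuaternionGroup m)).index = 2 := by
      have h1 := Subgroup.card_mul_index (zpowers (QuaternionGroup.a 1 : QuaternionGroup m))
      rw [Nat.card_zpowers, QuaternionGroup.orderOf_a_one, Nat.card_eq_fintype_card, QuaternionGroup.card] at h1
      have h2 : 0 < 2 * m := by omega
      have h3 : 2 * m * (zpowers (QuaternionGroup.a 1 : QuaternionGroup m)).index = 2 * m * 2 := by rw [h1]; ring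
      exact Nat.eq_of_mul_eq_mul_left h2 h3
    have hn : (zpowers (QuaternionGroup.a 1 : QuaternionGroup m)).Normal := Subgroup.normal_of_index_eq_two hidx
    refine ⟨_, hn, inferInstance, ?_⟩
    haveI : Fact (Nat.Prime 2) := ⟨Nat.prime_two⟩
    exact isCyclic_of_prime_card (p := 2) (by rw [← Subgroup.index_eq_card]; exact hidx)
  have hmX := isMetacyclic_equiv e.symm hmeta
  rcases Cfsg.Agent.S1896.result hX hmX hA with ⟨⟨f⟩⟩ | ⟨n, ⟨f⟩⟩
  · have h1 : Nat.card (QuaternionGroup m) = Nat.card (QuaternionGroup 2) := Nat.card_congr (e.symm.trans f).toEquiv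
    rw [Nat.card_eq_fintype_card, QuaternionGroup.card, Nat.card_eq_fintype_card, QuaternionGroup.card] at h1
    omega
  · have h1 : ∀ a b : QuaternionGroup m, a * b = b * a := by
      intro a b
      apply (e.symm.trans f).injective
      rw [map_mul, map_mul, mul_comm]
    have h2 := h1 (QuaternionGroup.a 1) (QuaternionGroup.xa 0)
    rw [QuaternionGroup.a_mul_xa, QuaternionGroup.xa_mul_a] at h2
    have h3 : (0 - 1 : ZMod (2 * m)) = 0 + 1 := by
      injection h2
    have h4 : ((2 : ℕ) : ZMod (2 * m)) = 0 := by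
      have h5 : (1 + 1 : ZMod (2 * m)) = 0 := by
        have h6 : (0 + 1 : ZMod (2 * m)) + 1 = 0 := by rw [← h3]; ring
        rwa [zero_add] at h6
      calc ((2 : ℕ) : ZMod (2 * m)) = 1 + 1 := by push_cast; norm_num
        _ = 0 := h5
    rw [ZMod.natCast_eq_zero_iff] at h4
    have h5 := Nat.le_of_dvd (by norm_num) h4
    omega

end Cfsg.Agent.H28
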