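import Mathlib
import Cfsg.Agent.H28.PermCert

/-!
An explicit Sylow 2-subgroup of M24.
-/

set_option autoImplicit false
open Cfsg Cfsg.FusionSystem Cfsg.Agent.H7

namespace Cfsg.Agent.H28

def sag0 : ℕ := 0xbc0ea332364b892451ebaccad18820

def sag1 : ℕ := 0xbb4c93ae2453ac893e8c9d4b018820

def sag2 : ℕ := 0xb9e086be3593a6952d94b10a618820

def sag3 : ℕ := 0xbc92655a2c3b9706cea47d0a818820

def sag4 : ℕ := 0xbd8cf3b1d0a45b24254b9d46428820

def sag5 : ℕ := 0xbda6aaacb048da8951ec31e2470820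

def sag6 : ℕ := 0xbc2954c9d6345ac41e6b53ca418440

def sag7 : ℕ := 0x4133a31d63c5b259aa87a8a418837

def sag8 : ℕ := 0x158ca3a2304b9ab651f29d4a41dc01

def sag9 : ℕ := 0x2c0ea9c856785ac4512ba9ae4045c3

def sagens : List ℕ := [sag9, sag8, sag7, sag6, sag5, sag4, sag3, sag2, sag1, sag0]

def saL0 : List ℕ := [idc]

def saL1 : List ℕ := extL saL0 sag0

def saL2 : List ℕ := extL saL1 sag1

def saL3 : List ℕ := extL saL2 sag2

def saL4 : List ℕ := extL saL3 sag3

def saL5 : List ℕ := extL saL4 sag4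

def saL6 : List ℕ := extL saL5 sag5

def saL7 : List ℕ := extL saL6 sag6

def saL8 : List ℕ := extL saL7 sag7

def saL9 : List ℕ := extL saL8 sag8

def saL10 : List ℕ := extL saL9 sag9

theorem sastep0 : stepOK [] saL0 sag0 [] 0 = true := by decide +kernel

theorem sastep1 : stepOK [sag0] saL1 sag1 [1] 0 = true := by decide +kernel

theorem sastep2 : stepOK [sag1, sag0] saL2 sag2 [2, 1] 0 = true := by decide +kernel

theorem sastep3 : stepOK [sag2, sag1, sag0] saL3 sag3 [4, 2, 1] 0 = true := by decide +kernel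

theorem sastep4 : stepOK [sag3, sag2, sag1, sag0] saL4 sag4 [9, 6, 2, 1] 0 = true := by decide +kernel

theorem sastep5 : stepOK [sag4, sag3, sag2, sag1, sag0] saL5 sag5 [16, 10, 7, 2, 1] 0 = true := by decide +kernel

theorem sastep6 : stepOK [sag5, sag4, sag3, sag2, sag1, sag0] saL6 sag6 [48, 16, 9, 15, 3, 1] 0 = true := by decide +kernel

theorem sastep7 : stepOK [sag6, sag5, sag4, sag3, sag2, sag1, sag0] saL7 sag7 [64, 48, 16, 8, 13, 3, 1] 0 = true := by decide +kernel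

theorem sastep8 : stepOK [sag7, sag6, sag5, sag4, sag3, sag2, sag1, sag0] saL8 sag8 [64, 128, 32, 16, 11, 6, 2, 1] 0 = true := by decide +kernel

theorem sastep9 : stepOK [sag8, sag7, sag6, sag5, sag4, sag3, sag2, sag1, sag0] saL9 sag9 [32, 80, 64, 256, 192, 9, 4, 3, 1] 0 = true := by decide +kernel

theorem saenum : ∃ K, Enum K sagens saL10 := by

  obtain ⟨K0, h0⟩ : ∃ K, Enum K [] saL0 := ⟨_, Enum.base⟩

  obtain ⟨K1, h1⟩ := h0.step _ _ _ sastep0

  obtain ⟨K2, h2⟩ := h1.step _ _ _ sastep1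

  obtain ⟨K3, h3⟩ := h2.step _ _ _ sastep2

  obtain ⟨K4, h4⟩ := h3.step _ _ _ sastep3

  obtain ⟨K5, h5⟩ := h4.step _ _ _ sastep4

  obtain ⟨K6, h6⟩ := h5.step _ _ _ sastep5

  obtain ⟨K7, h7⟩ := h6.step _ _ _ sastep6

  obtain ⟨K8, h8⟩ := h7.step _ _ _ sastep7

  obtain ⟨K9, h9⟩ := h8.step _ _ _ sastep8

  obtain ⟨K10, h10⟩ := h9.step _ _ _ sastep9

  exact ⟨_, h10⟩

def saT : List TStep := [TStep.conj 2 0 0x7264654c74801876d4965bc282de22,
  TStep.conj 4 0 0x9d75334b690133441f4512ec13a23,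
  TStep.conj 8 0 0x4aac51af6695143c16f4cdc414461,
  TStep.conj 16 0 0x22aac396e9586838c90e34c4f041b6,
  TStep.conj 32 0 0xb94cf1a85194274625683b9b509016,
  TStep.conj 64 0 0x1a2d5989ab894c13d1ca826ef93004,
  TStep.conj 128 0 0x29eb1341af60a76bba404a83422c68,
  TStep.conj 256 0 0x2b0173d20b3112a90aa80cdcf8b6c3,
  TStep.conj 512 0 0x6a9c08a274298eb80ef6089f54b244]

def sachain : List (ℕ × List ℕ) := [(23, []), (0, [23]), (1, [23, 0]), (2, [23, 0, 1]), (3, [23, 0, 1, 2]), (4, [23, 0, 1, 2, 3]), (5, [23, 0, 3])]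

def saF : List ℕ := []

def sam : ℕ := 0

theorem salen : saL10.length = 2 ^ 10 := by decide +kernel

theorem sactr : ctrOK sagens saL10 sag0 = true := by decide +kernel

theorem sanc : nChain saL10 sam sachain saF = true := by decide +kernel

end Cfsg.Agent.H28
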