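import Mathlib
import Cfsg.Prelude.Def_FusionSystem
import Cfsg.Prelude.Def_FusionComponents
import Cfsg.Agent.H28.FusProd

/-!
Tate's theorem for fusion systems.
-/

set_option autoImplicit false
open Cfsg Cfsg.FusionSystem
open scoped commutatorElement

namespace Cfsg.Agent.H28

universe u v w

section

variable {Ω : Type u} [Group Ω] {S T : Subgroup Ω} {F H : FusionSystem S} {P Q R : Subgroup Ω}
  {f g k : Ω → Ω} {x y s t z : Ω} {p : ℕ}

/-- In a nilpotent group a normal subgroup cannot be generated by its commutators modulo a smaller one. -/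
theorem le_of_le_sup_commutator {G : Type*} [Group G] [Group.IsNilpotent G] {K L : Subgroup G} [L.Normal]
    (h : K ≤ L ⊔ ⁅K, (⊤ : Subgroup G)⁆) : K ≤ L := by
  have h1 : K.map (QuotientGroup.mk' L) ≤ ⁅K.map (QuotientGroup.mk' L), (⊤ : Subgroup (G ⧸ L))⁆ := by
    have h2 := Subgroup.map_mono (f := QuotientGroup.mk' L) h
    rw [Subgroup.map_sup, Subgroup.map_commutator, Subgroup.map_top_of_surjective _ (QuotientGroup.mk'_surjective L)] at h2
    have h3 : L.map (QuotientGroup.mk' L) = ⊥ := by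
      rw [Subgroup.map_eq_bot_iff, QuotientGroup.ker_mk']
    rwa [h3, bot_sup_eq] at h2
  have h2 : ∀ n, K.map (QuotientGroup.mk' L) ≤ Subgroup.lowerCentralSeries (⊤ : Subgroup (G ⧸ L)) n := by
    intro n
    induction n with
    | zero => exact le_top
    | succ n ih => exact h1.trans (Subgroup.commutator_mono ih le_rfl)
  haveI : Group.IsNilpotent (G ⧸ L) := inferInstance
  obtain ⟨n, hn⟩ := Subgroup.nilpotent_iff_lowerCentralSeries.1 this
  have h3 := h2 n
  rw [hn, le_bot_iff, Subgroup.map_eq_bot_iff, QuotientGroup.ker_mk'] at h3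
  exact h3

/-- The second half of Tate's theorem. -/
theorem tate_b [Fact p.Prime] [Finite S] (hS : IsPGroup p S) (hF : F.IsSaturated p) {L : Subgroup Ω}
    (hLS : L ≤ S) (hLn : (L.subgroupOf S).Normal) (hLK : L ≤ F.hyperfocalSubgroup p)
    (hle : F.hyperfocalSubgroup p ≤ L ⊔ ⁅S, S⁆) : F.hyperfocalSubgroup p ≤ L := by
  classical
  by_contra hcon
  have hKS : F.hyperfocalSubgroup p ≤ S := hyp_le
  set K' : Subgroup S := (F.hyperfocalSubgroup p).subgroupOf S with hK'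
  set L' : Subgroup S := L.subgroupOf S with hL'
  haveI : L'.Normal := hLn
  haveI hKn : K'.Normal := by
    constructor
    intro n hn g
    rw [hK', Subgroup.mem_subgroupOf] at hn ⊢
    exact hyp_conj g.2 hn
  haveI : Group.IsNilpotent S := IsPGroup.isNilpotent hS
  set M' : Subgroup S := L' ⊔ ⁅K', (⊤ : Subgroup S)⁆ with hM'
  have hKM : ¬ K' ≤ M' := by
    intro h
    apply hcon
    have h1 := le_of_le_sup_commutator h
    intro x hx
    exact Subgroup.mem_subgroupOf.1 (h1 (x := ⟨x, hKS hx⟩) (Subgroup.mem_subgroupOf.2 hx))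
  haveI hMn : M'.Normal := by
    haveI : (⁅K', (⊤ : Subgroup S)⁆).Normal := Subgroup.commutator_normal _ _
    exact Subgroup.sup_normal _ _
  let q : S →* S ⧸ M' := QuotientGroup.mk' M'
  have hq1 : ∀ s : S, q s = 1 ↔ s ∈ M' := fun s => QuotientGroup.eq_one_iff s
  have hqs : Function.Surjective q := QuotientGroup.mk'_surjective M'
  have hKc : ∀ k ∈ K', ∀ a : S ⧸ M', q k * a = a * q k := by
    intro k hk a
    obtain ⟨s, rfl⟩ := hqs a
    have h1 : q ⁅k, s⁆ = 1 := by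
      rw [hq1]
      exact Subgroup.mem_sup_right (Subgroup.commutator_mem_commutator hk (Subgroup.mem_top s))
    rw [map_commutatorElement] at h1
    exact commutatorElement_eq_one_iff_mul_comm.1 h1
  have hXp : IsPGroup p (S ⧸ M') := hS.to_quotient M'
  haveI : Finite (S ⧸ M') := inferInstance
  -- the product with the inner system of the quotient
  let X₁ : Subgroup (S ⧸ M') := ⊤
  have hX₁p : IsPGroup p X₁ := hXp.to_subgroup _
  let F₂ := innerFusionSystem X₁
  have hF₂ : F₂.IsSaturated p := inner_saturated hX₁p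
  obtain ⟨E, hE⟩ := S5136.result p hS hX₁p F F₂
  have hEs : E.IsSaturated p := prod_saturated hS hX₁p hF hF₂ hE
  haveI hfin : Finite (S.prod X₁) := Finite.of_equiv _ (S.prodEquiv X₁).symm.toEquiv
  have hSp : IsPGroup p (S.prod X₁) := by
    rintro ⟨⟨a, b⟩, ha, hb⟩
    obtain ⟨m, hm⟩ := hS ⟨a, ha⟩
    obtain ⟨n, hn⟩ := hXp b
    refine ⟨m + n, ?_⟩
    apply Subtype.ext
    have e1 : a ^ p ^ m = 1 := congrArg Subtype.val hm
    apply Prod.ext
    · show a ^ p ^ (m + n) = 1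
      rw [pow_add, pow_mul, e1, one_pow]
    · show b ^ p ^ (m + n) = 1
      rw [add_comm, pow_add, pow_mul, hn, one_pow]
  -- the hyperfocal subgroup of the product
  have hyp1 : E.hyperfocalSubgroup p ≤ (F.hyperfocalSubgroup p).prod ⊥ := by
    apply hyp_le_of_coprime
    intro P hP γ hγ hc x hx
    obtain ⟨-, f₁, f₂, hf₁, hf₂, h1⟩ := (mor_prod hE).1 (mor_autFun hP hγ)
    have him1 : img (pr1 P) f₁ = pr1 P := by
      haveI : Finite (pr1 P) := finite_of_le (pr1_le hP)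
      apply eq_of_le_of_card
      · rw [img_le_iff]
        rintro _ ⟨x, hx, rfl⟩
        have := mem_pr1 (autFun_mem γ hx)
        rwa [h1 x hx] at this
      · rw [hf₁.card_img]
    obtain ⟨α₁, hα₁, e1⟩ := hf₁.exists_aut him1
    have hit := fun n => iterate_prod (P := P) (f := autFun γ) (fun x hx => autFun_mem _ hx) h1 n
    have hpow := pPow_autFun (α := γ) (f := autFun γ) (fun _ _ => rfl)
    have hα₁c : (orderOf α₁).Coprime p := by
      refine Nat.Coprime.coprime_dvd_left ?_ hc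
      apply orderOf_dvd_of_pow_eq_one
      apply mulAut_ext
      rintro _ ⟨x, hx, rfl⟩
      show autFun (α₁ ^ orderOf γ) x.1 = autFun 1 x.1
      rw [pPow_autFun e1 _ _ (mem_pr1 hx), autFun_one (mem_pr1 hx)]
      have h2 := hpow (orderOf γ) x hx
      rw [pow_orderOf_eq_one, autFun_one hx, (hit _ x hx).1] at h2
      exact (congrArg Prod.fst h2).symm
    have h3 := hyp_coprime (pr1_le hP) hα₁ hα₁c (mem_pr1 hx)
    rw [e1 _ (mem_pr1 hx)] at h3
    refine Subgroup.mem_prod.2 ⟨?_, ?_⟩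
    · show x.1⁻¹ * (autFun γ x).1 ∈ _
      rw [h1 x hx]; exact h3
    · show x.2⁻¹ * (autFun γ x).2 ∈ _
      rw [h1 x hx, Subgroup.mem_bot]
      show x.2⁻¹ * f₂ x.2 = 1
      -- the second component is trivial
      obtain ⟨-, a, -, ha⟩ := mor_inner.1 hf₂
      have hconj : ∀ n : ℕ, ∀ y ∈ pr2 P, f₂^[n] y = a ^ n * y * (a ^ n)⁻¹ ∧ f₂^[n] y ∈ pr2 P := by
        intro n y hy
        obtain ⟨w, hw, rfl⟩ := hy
        refine ⟨?_, ?_⟩
        · show f₂^[n] w.2 = _
          clear hα₁c h3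
          induction n with
          | zero => simp
          | succ n ih =>
            rw [Function.iterate_succ', Function.comp_apply, ha _ ?_, ih, pow_succ']
            · show a * (a ^ n * w.2 * (a ^ n)⁻¹) * a⁻¹ = a * a ^ n * w.2 * (a * a ^ n)⁻¹
              group
            · have := (hit n w hw).2
              have h4 := mem_pr2 this
              rwa [(hit n w hw).1] at h4
        · have := (hit n w hw).2
          have h4 := mem_pr2 this
          rwa [(hit n w hw).1] at h4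
      obtain ⟨j, hj⟩ := hXp a
      obtain ⟨m, hm1, hm2⟩ := Nat.chineseRemainder (n := p ^ j) (m := orderOf γ)
        (Nat.Coprime.pow_left j hc.symm) 1 0
      -- `a ^ m` acts trivially and `a ^ m = a`
      have h4 : a ^ m = a := by
        have h5 : a ^ m = a ^ 1 := by
          rw [pow_eq_pow_iff_modEq]
          exact Nat.ModEq.of_dvd (orderOf_dvd_of_pow_eq_one hj) hm1
        rwa [pow_one] at h5
      obtain ⟨c, hcm⟩ := (Nat.modEq_zero_iff_dvd.1 hm2)
      have h5 : f₂^[m] x.2 = x.2 := by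
        have h6 := hpow m x hx
        have h7 : γ ^ m = 1 := by rw [hcm, pow_mul, pow_orderOf_eq_one, one_pow]
        rw [h7, autFun_one hx, (hit m x hx).1] at h6
        exact (congrArg Prod.snd h6).symm
      rw [(hconj m x.2 (mem_pr2 hx)).1, h4] at h5
      rw [ha x.2 (mem_pr2 hx), h5, inv_mul_cancel]
  have hyp2 : ∀ k ∈ F.hyperfocalSubgroup p, ((k, 1) : Ω × (S ⧸ M')) ∈ E.hyperfocalSubgroup p := by
    have h0 : F.hyperfocalSubgroup p ≤ (E.hyperfocalSubgroup p).comap (MonoidHom.inl Ω (S ⧸ M')) := by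
      apply hyp_le_of_coprime
      intro P hP γ hγ hc x hx
      have hPle : P.prod (⊥ : Subgroup (S ⧸ M')) ≤ S.prod X₁ := Subgroup.prod_mono hP bot_le
      have hp1 : pr1 (P.prod (⊥ : Subgroup (S ⧸ M'))) = P := by
        ext a
        constructor
        · rintro ⟨y, hy, rfl⟩; exact hy.1
        · intro ha; exact ⟨(a, 1), ⟨ha, one_mem _⟩, rfl⟩
      have hp2 : pr2 (P.prod (⊥ : Subgroup (S ⧸ M'))) = ⊥ := by
        rw [eq_bot_iff]
        rintro _ ⟨y, hy, rfl⟩; exact hy.2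
      have hm : Mor E (P.prod (⊥ : Subgroup (S ⧸ M'))) (fun y => (autFun γ y.1, y.2)) := by
        refine (mor_prod hE).2 ⟨hPle, autFun γ, id, ?_, ?_, fun y _ => rfl⟩
        · rw [hp1]; exact mor_autFun hP hγ
        · rw [hp2]; exact mor_id bot_le
      have him : img (P.prod (⊥ : Subgroup (S ⧸ M'))) (fun y => (autFun γ y.1, y.2)) = P.prod (⊥ : Subgroup (S ⧸ M')) := by
        haveI : Finite (P.prod (⊥ : Subgroup (S ⧸ M')) : Subgroup (Ω × (S ⧸ M'))) := finite_of_le hPle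
        apply eq_of_le_of_card
        · rw [img_le_iff]
          intro y hy
          exact ⟨autFun_mem _ hy.1, hy.2⟩
        · rw [hm.card_img]
      obtain ⟨α, hα, hαf⟩ := hm.exists_aut him
      have hαc : (orderOf α).Coprime p := by
        refine Nat.Coprime.coprime_dvd_left ?_ hc
        apply orderOf_dvd_of_pow_eq_one
        apply mulAut_ext
        intro y hy
        rw [pPow_autFun hαf _ y hy, autFun_one hy]
        have h5 : ∀ n : ℕ, (fun y : Ω × (S ⧸ M') => (autFun γ y.1, y.2))^[n] y = ((autFun γ)^[n] y.1, y.2) := by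
          intro n
          induction n with
          | zero => rfl
          | succ n ih => rw [Function.iterate_succ', Function.comp_apply, ih, Function.iterate_succ']; rfl
        rw [h5, ← pPow_autFun (α := γ) (f := autFun γ) (fun _ _ => rfl) _ y.1 hy.1, pow_orderOf_eq_one,
          autFun_one hy.1]
      have hxm : ((x, 1) : Ω × (S ⧸ M')) ∈ P.prod (⊥ : Subgroup (S ⧸ M')) := ⟨hx, one_mem _⟩
      have h6 := hyp_coprime hPle hα hαc hxm
      rw [hαf _ hxm] at h6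
      have h7 : ((x, 1) : Ω × (S ⧸ M'))⁻¹ * (autFun γ x, 1) = MonoidHom.inl Ω (S ⧸ M') (x⁻¹ * autFun γ x) := by
        apply Prod.ext
        · rfl
        · show (1 : S ⧸ M')⁻¹ * 1 = 1
          simp
      rw [Subgroup.mem_comap, ← h7]
      exact h6
    exact fun k hk => h0 hk
  -- the pullback
  let St : Subgroup (Ω × (S ⧸ M')) :=
    { carrier := {z | ∃ (h : z.1 ∈ S) (k : S), k ∈ K' ∧ z.2 = q ⟨z.1, h⟩ * q k}
      one_mem' := ⟨one_mem _, 1, one_mem _, by
        have : (⟨(1 : Ω × (S ⧸ M')).1, one_mem S⟩ : S) = 1 := rfl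
        rw [this, map_one, one_mul]; rfl⟩
      mul_mem' := by
        rintro a b ⟨h1, k1, hk1, e1⟩ ⟨h2, k2, hk2, e2⟩
        refine ⟨mul_mem h1 h2, k1 * k2, mul_mem hk1 hk2, ?_⟩
        have : (⟨(a * b).1, mul_mem h1 h2⟩ : S) = ⟨a.1, h1⟩ * ⟨b.1, h2⟩ := rfl
        rw [this, map_mul, map_mul]
        show a.2 * b.2 = _
        rw [e1, e2]
        have h3 := hKc k1 hk1 (q ⟨b.1, h2⟩)
        calc q ⟨a.1, h1⟩ * q k1 * (q ⟨b.1, h2⟩ * q k2) = q ⟨a.1, h1⟩ * (q k1 * q ⟨b.1, h2⟩) * q k2 := by group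
          _ = _ := by rw [h3]; group
      inv_mem' := by
        rintro a ⟨h1, k1, hk1, e1⟩
        refine ⟨inv_mem h1, k1⁻¹, inv_mem hk1, ?_⟩
        have : (⟨(a⁻¹).1, inv_mem h1⟩ : S) = ⟨a.1, h1⟩⁻¹ := rfl
        rw [this, map_inv]
        show a.2⁻¹ = _
        rw [e1, mul_inv_rev, ← map_inv q k1]
        exact hKc _ (inv_mem hk1) _ }
  have hStmem : ∀ z, z ∈ St ↔ ∃ (h : z.1 ∈ S) (k : S), k ∈ K' ∧ z.2 = q ⟨z.1, h⟩ * q k := fun _ => Iff.rfl
  have hStle : St ≤ S.prod X₁ := by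
    rintro z ⟨h, -⟩
    exact ⟨h, Subgroup.mem_top _⟩
  have hypSt : E.hyperfocalSubgroup p ≤ St := by
    intro z hz
    obtain ⟨h1, h2⟩ := hyp1 hz
    have h3 : z.2 = 1 := h2
    refine ⟨hKS h1, (⟨z.1, hKS h1⟩ : S)⁻¹, inv_mem (Subgroup.mem_subgroupOf.2 h1), ?_⟩
    rw [h3, map_inv, mul_inv_cancel]
  obtain ⟨D, hD, hDi⟩ := ppi_exists (p := p) (Nat.card (S.prod X₁)) (S.prod X₁) St hSp E hEs hStle hypSt le_rfl
  have hypD : D.hyperfocalSubgroup p = E.hyperfocalSubgroup p := hyp_ppi hSp hEs hStle hDi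
  have hDsub := (ppi_iff.1 hDi).1
  haveI : Finite St := finite_of_le hStle
  have hStp : IsPGroup p St := isPGroup_of_le hSp hStle
  obtain ⟨n, hn, htr⟩ := transfer_exists.{u, u} hStp hD
  -- the labelling homomorphism
  letI cgc : CommGroup (Subgroup.center (S ⧸ M')) :=
    { (inferInstance : Group (Subgroup.center (S ⧸ M'))) with
      mul_comm := fun a b => Subtype.ext (Subgroup.mem_center_iff.1 b.2 a) }
  let l : St →* Subgroup.center (S ⧸ M') :=
    { toFun := fun z => ⟨(q ⟨z.1.1, z.2.1⟩)⁻¹ * z.1.2, by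
        obtain ⟨h, k, hk, e⟩ := z.2
        have h3 : (q ⟨z.1.1, z.2.1⟩)⁻¹ * z.1.2 = q k := inv_mul_eq_iff_eq_mul.2 e
        rw [h3, Subgroup.mem_center_iff]
        exact fun a => (hKc k hk a).symm⟩
      map_one' := by
        apply Subtype.ext
        show (q 1)⁻¹ * 1 = 1
        rw [map_one]; simp
      map_mul' := by
        intro a b
        apply Subtype.ext
        obtain ⟨h1, k1, hk1, e1⟩ := a.2
        obtain ⟨h2, k2, hk2, e2⟩ := b.2
        show (q (⟨a.1.1, h1⟩ * ⟨b.1.1, h2⟩))⁻¹ * (a.1.2 * b.1.2) = (q ⟨a.1.1, h1⟩)⁻¹ * a.1.2 * ((q ⟨b.1.1, h2⟩)⁻¹ * b.1.2)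
        rw [e1, e2, map_mul, inv_mul_cancel_left, inv_mul_cancel_left]
        have h3 := hKc k1 hk1 (q ⟨b.1.1, h2⟩)
        calc (q ⟨a.1.1, h1⟩ * q ⟨b.1.1, h2⟩)⁻¹ * (q ⟨a.1.1, h1⟩ * q k1 * (q ⟨b.1.1, h2⟩ * q k2))
            = (q ⟨b.1.1, h2⟩)⁻¹ * (q k1 * q ⟨b.1.1, h2⟩) * q k2 := by group
          _ = q k1 * q k2 := by rw [h3]; group }
  have hl : ∀ z : St, ((l z : Subgroup.center (S ⧸ M')) : S ⧸ M') = (q ⟨z.1.1, z.2.1⟩)⁻¹ * z.1.2 := fun _ => rfl
  obtain ⟨τ, hτ1, hτ2, -⟩ := htr (Subgroup.center (S ⧸ M')) l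
  let H₁ : Subgroup St := ((MonoidHom.fst Ω (S ⧸ M')).comp St.subtype).ker
  have hτ3 := hτ2 H₁ (l.comp H₁.subtype) (by
    rintro ⟨h, hh⟩ t ⟨P, f, hf, ht, hft⟩
    have hh1 : (h : Ω × (S ⧸ M')).1 = 1 := hh
    obtain ⟨-, f₁, f₂, hf₁, hf₂, h1⟩ := (mor_prod hE).1 (hDsub P f hf)
    rw [h1 _ ht] at hft
    have h2 : f₁ (t : Ω × (S ⧸ M')).1 = 1 := (congrArg Prod.fst hft).trans hh1
    have h3 : (t : Ω × (S ⧸ M')).1 = 1 := hf₁.eq_one (mem_pr1 ht) h2
    obtain ⟨-, a, -, ha⟩ := mor_inner.1 hf₂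
    have h4 : f₂ (t : Ω × (S ⧸ M')).2 = (h : Ω × (S ⧸ M')).2 := congrArg Prod.snd hft
    rw [ha _ (mem_pr2 ht)] at h4
    obtain ⟨h5, k, hk, h6⟩ := h.2
    have h7 : (h : Ω × (S ⧸ M')).2 = q k := by
      rw [h6]
      have : (⟨(h : Ω × (S ⧸ M')).1, h5⟩ : S) = 1 := Subtype.ext hh1
      rw [this, map_one, one_mul]
    have h8 : (t : Ω × (S ⧸ M')).2 = (h : Ω × (S ⧸ M')).2 := by
      have h9 : (t : Ω × (S ⧸ M')).2 = a⁻¹ * (a * (t : Ω × (S ⧸ M')).2 * a⁻¹) * a := by group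
      rw [h9, h4, h7]
      have := hKc k hk a
      rw [mul_assoc, this]; group
    have h10 : t = h := Subtype.ext (Prod.ext (h3.trans hh1.symm) h8)
    rw [h10]; rfl)
  -- the chosen element
  obtain ⟨k, hk, hkM⟩ : ∃ k ∈ K', k ∉ M' := Set.not_subset.1 hKM
  have hkF : (k : Ω) ∈ F.hyperfocalSubgroup p := Subgroup.mem_subgroupOf.1 hk
  have hkL : k ∈ L' ⊔ commutator S := by
    have h1 := hle hkF
    have h2 : L ⊔ ⁅S, S⁆ = (L' ⊔ commutator S).map S.subtype := by
      rw [Subgroup.map_sup, hL', Subgroup.subgroupOf_map_subtype, inf_eq_left.2 hLS, Subgroup.map_subtype_commutator]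
    rw [h2] at h1
    obtain ⟨k', hk', h3⟩ := h1
    have : k' = k := Subtype.ext h3
    rwa [← this]
  rw [Subgroup.mem_sup_of_normal_left] at hkL
  obtain ⟨l₀, hl₀, s', hs', hprod⟩ := hkL
  have hl₀K : l₀ ∈ K' := Subgroup.mem_subgroupOf.2 (hLK (Subgroup.mem_subgroupOf.1 hl₀))
  have hmem1 : ∀ a ∈ K', ((((a : S) : Ω), (1 : S ⧸ M')) : Ω × (S ⧸ M')) ∈ St := by
    intro a ha
    refine ⟨a.2, a⁻¹, inv_mem ha, ?_⟩
    show 1 = q a * q a⁻¹
    rw [map_inv, mul_inv_cancel]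
  have hτK : ∀ a (ha : a ∈ K'), τ ⟨_, hmem1 a ha⟩ = 1 := by
    intro a ha
    apply stable_kills hτ1
    apply hyp_le_foc (p := p)
    rw [hypD]
    exact hyp2 _ (Subgroup.mem_subgroupOf.1 ha)
  let δ : S →* St :=
    { toFun := fun s => ⟨((s : Ω), q s), s.2, 1, one_mem _, by show q s = q s * q 1; rw [map_one, mul_one]⟩
      map_one' := by
        apply Subtype.ext
        apply Prod.ext
        · rfl
        · exact map_one q
      map_mul' := fun a b => by
        apply Subtype.ext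
        apply Prod.ext
        · rfl
        · exact map_mul q a b }
  have hτδ : τ (δ s') = 1 := by
    have h1 : commutator S ≤ (τ.comp δ).ker := Abelianization.commutator_subset_ker _
    exact h1 hs'
  -- the final element
  have hqk : q s' = q k := by
    have h1 : q l₀ = 1 := (hq1 _).2 (Subgroup.mem_sup_left hl₀)
    rw [← hprod, map_mul, h1, one_mul]
  let e : St := (⟨_, hmem1 k hk⟩ : St)⁻¹ * ((⟨_, hmem1 l₀ hl₀K⟩ : St) * δ s')
  have he1 : (e : Ω × (S ⧸ M')).1 = 1 := by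
    show ((k : Ω))⁻¹ * ((l₀ : Ω) * (s' : Ω)) = 1
    rw [← Subgroup.coe_mul, hprod, inv_mul_cancel]
  have he2 : (e : Ω × (S ⧸ M')).2 = q k := by
    show (1 : S ⧸ M')⁻¹ * (1 * q s') = q k
    rw [hqk]; simp
  have hτe : τ e = 1 := by
    show τ ((⟨_, hmem1 k hk⟩ : St)⁻¹ * ((⟨_, hmem1 l₀ hl₀K⟩ : St) * δ s')) = 1
    rw [map_mul, map_inv, map_mul, hτK k hk, hτK l₀ hl₀K, hτδ]; simp
  have hτe' := hτ3 ⟨e, he1⟩
  have h10 : l e ^ n = 1 := by
    rw [← hτe]; exact hτe'.symm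
  have h11 : (q k) ^ n = 1 := by
    have h12 : ((l e : Subgroup.center (S ⧸ M')) : S ⧸ M') = q k := by
      rw [hl, he2]
      have : (⟨(e : Ω × (S ⧸ M')).1, e.2.1⟩ : S) = 1 := Subtype.ext he1
      rw [this, map_one, inv_one, one_mul]
    rw [← h12, ← Subgroup.coe_pow, h10]; rfl
  have h12 : q k = 1 := eq_one_of_pow_pgroup hS q hn h11
  exact hkM ((hq1 k).1 h12)

end

end Cfsg.Agent.H28
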