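import Mathlib
import Cfsg.Prelude.Def_FusionSystem
import Cfsg.Prelude.Def_FusionComponents
import Cfsg.Agent.H28.Tate
import Cfsg.Agent.S5132

/-!
Corollaries of Tate's theorem for fusion systems.
-/

set_option autoImplicit false
open Cfsg Cfsg.FusionSystem
open scoped commutatorElement

namespace Cfsg.Agent.H28

universe u v w

section

variable {Ω : Type u} [Group Ω] {S T : Subgroup Ω} {F H : FusionSystem S} {P Q R : Subgroup Ω}
  {f g k : Ω → Ω} {x y s t z : Ω} {p : ℕ}

theorem hyp_normal : ((F.hyperfocalSubgroup p).subgroupOf S).Normal := by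
  constructor
  intro n hn g
  rw [Subgroup.mem_subgroupOf] at hn ⊢
  exact hyp_conj g.2 hn

theorem hyp_mono' (h : ∀ P f, Mor H P f → Mor F P f) : H.hyperfocalSubgroup p ≤ F.hyperfocalSubgroup p := by
  apply hyp_le_of_coprime
  intro P hP γ hγ hc x hx
  exact hyp_coprime hP (sub_autGroup h le_rfl hP hγ) hc hx

/-- Tate: equal focal subgroups have equal hyperfocal subgroups. -/
theorem tate_hyp [Fact p.Prime] [Finite S] (hS : IsPGroup p S) (hF : F.IsSaturated p) (hH : H.IsSaturated p)
    (hHF : ∀ P f, Mor H P f → Mor F P f) (h : F.focalSubgroup ≤ H.focalSubgroup) :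
    F.hyperfocalSubgroup p = H.hyperfocalSubgroup p := by
  apply le_antisymm
  · refine tate_b hS hF hyp_le hyp_normal (hyp_mono' hHF) ?_
    rw [← foc_eq hS hH]
    exact hyp_le_foc.trans h
  · exact hyp_mono' hHF

theorem foc_inner [Fact p.Prime] [Finite S] (hS : IsPGroup p S) : (innerFusionSystem S).focalSubgroup = ⁅S, S⁆ := by
  apply le_antisymm _ derived_le_foc
  rw [foc_le_iff]
  intro P f hf x hx
  obtain ⟨hP, g, hg, h⟩ := mor_inner.1 hf
  rw [h x hx]
  have : x⁻¹ * (g * x * g⁻¹) = ⁅x⁻¹, g⁆ := by group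
  rw [this]
  exact Subgroup.commutator_mem_commutator (inv_mem (hP hx)) hg

/-- A saturated fusion system whose focal subgroup lies in the Frattini subgroup is inner. -/
theorem inner_of_frattini [Fact p.Prime] [Finite S] (hS : IsPGroup p S) (hF : F.IsSaturated p)
    (h : F.focalSubgroup ≤ (frattini ↥S).map S.subtype) : F = innerFusionSystem S := by
  have hle : ∀ P f, Mor (innerFusionSystem S) P f → Mor F P f := le_iff_mor.1 inner_le
  have h1 : F.focalSubgroup ≤ (innerFusionSystem S).focalSubgroup :=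
    tate_a hS hF hle (h.trans le_sup_left)
  have h2 := tate_b hS hF (L := ⊥) bot_le (by
    have : (⊥ : Subgroup Ω).subgroupOf S = ⊥ := by simp
    rw [this]; infer_instance) bot_le (by
      rw [bot_sup_eq, ← foc_inner hS]
      exact hyp_le_foc.trans h1)
  exact eq_inner_of_hyp hS hF (le_bot_iff.1 h2)

/-- Over an abelian group all maps extend to the whole group. -/
theorem abelian_extends {Ω' : Type v} [Group Ω'] {S' : Subgroup Ω'} {E : FusionSystem S'} {P' : Subgroup Ω'}
    {f' : Ω' → Ω'} [Fact p.Prime] [Finite S'] (hS' : IsPGroup p S') (hE : E.IsSaturated p)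
    (hab : ∀ x ∈ S', ∀ y ∈ S', x * y = y * x) (hf : Mor E P' f') : ∃ g', Mor E S' g' ∧ ∀ x ∈ P', g' x = f' x := by
  have hNS : ∀ Q ≤ S', normalizerIn S' Q = S' := by
    intro Q hQ
    apply le_antisymm normalizerIn_le
    intro s hs
    rw [mem_normalizerIn]
    refine ⟨hs, fun y => ⟨fun hy => ?_, fun hy => ?_⟩⟩
    · rw [hab s hs y (hQ hy), mul_inv_cancel_right]; exact hy
    · have h1 : s * y * s⁻¹ ∈ S' := hQ hy
      have h2 : y ∈ S' := by
        have : y = s⁻¹ * (s * y * s⁻¹) * s := by group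
        rw [this]; exact mul_mem (mul_mem (inv_mem hs) h1) hs
      rw [hab s hs y h2, mul_inv_cancel_right] at hy
      exact hy
  have hfn : E.IsFullyNormalized (img P' f') := by
    rw [fullyNormalized_iff]
    refine ⟨hf.img_le, fun g hg => ?_⟩
    rw [hNS _ hg.img_le, hNS _ hf.img_le]
  obtain ⟨g', hg', h1⟩ := receptive_extend (FN.rec hS' hE hfn) hf
  refine ⟨g', hg'.mono ?_, h1⟩
  intro s hs
  rw [mem_Nf]
  have h2 : s ∈ normalizerIn S' P' := by rw [hNS _ hf.le]; exact hs
  refine ⟨hs, h2.2, 1, one_mem _, fun x hx => ?_⟩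
  rw [hab s hs x (hf.le hx), mul_inv_cancel_right]; simp

/-- If a strongly closed subgroup contains the derived group and the automizer of `S` acts trivially
modulo it, then it contains the focal subgroup. -/
theorem foc_le_of_quotient [Fact p.Prime] [Finite S] (hS : IsPGroup p S) (hF : F.IsSaturated p)
    (hT : F.StronglyClosed T) (hTd : ⁅S, S⁆ ≤ T) (htriv : ∀ α ∈ F.autGroup S, ∀ x ∈ S, x⁻¹ * autFun α x ∈ T) :
    F.focalSubgroup ≤ T := by
  have hcomm : commutator S ≤ T.subgroupOf S := by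
    intro c hc
    rw [Subgroup.mem_subgroupOf]
    refine hTd ?_
    rw [← Subgroup.map_subtype_commutator]
    exact Subgroup.mem_map_of_mem _ hc
  haveI hn : (T.subgroupOf S).Normal := by
    constructor
    intro n hn g
    have h1 : g * n * g⁻¹ = ⁅g, n⁆ * n := by group
    rw [h1]
    exact mul_mem (hcomm (Subgroup.commutator_mem_commutator (Subgroup.mem_top _) (Subgroup.mem_top _))) hn
  obtain ⟨E, hE⟩ := S5132.result p hS F T hT
  have hEs : E.IsSaturated p := surj_saturated hS hF (factor_surj hS hF hT hE)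
  have hsurj := factor_surj hS hF hT hE
  set θ := QuotientGroup.mk' (T.subgroupOf S) with hθ
  have hab : ∀ x ∈ (⊤ : Subgroup (S ⧸ T.subgroupOf S)), ∀ y ∈ (⊤ : Subgroup (S ⧸ T.subgroupOf S)), x * y = y * x := by
    haveI hAc : IsMulCommutative (S ⧸ T.subgroupOf S) :=
      Subgroup.Normal.quotient_commutative_iff_commutator_le.2 hcomm
    exact fun x _ y _ => hAc.is_comm.comm x y
  have hXp : IsPGroup p (⊤ : Subgroup (S ⧸ T.subgroupOf S)) := (hS.to_quotient _).to_subgroup _
  rw [foc_le_iff]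
  intro P f hf x hx
  obtain ⟨f', hf', h1⟩ := morphism_apply hsurj.1 hf
  obtain ⟨g', hg', h2⟩ := abelian_extends hXp hEs hab hf'
  obtain ⟨g, hg, h3⟩ := surj_apply hsurj hg'
  have hpre : preimageAlong θ (⊤ : Subgroup (S ⧸ T.subgroupOf S)) = S := by
    ext x
    rw [mem_preimageAlong]
    exact ⟨fun h => h.1, fun h => ⟨h, Subgroup.mem_top _⟩⟩
  rw [hpre] at hg h3
  have him : img S g = S := isConj_top hg.isConj
  obtain ⟨α, hα, h4⟩ := hg.exists_aut him
  have hxS := hf.le hx
  have h5 : tf θ (f x) = tf θ (g x) := by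
    rw [← h1 x hx, ← h2 _ (tf_mem_imageAlong hf.le hx), h3 x hxS]
  rw [factor_eq hE (hf.mem hx) (hg.mem hxS)] at h5
  have h6 := htriv α hα x hxS
  rw [h4 x hxS] at h6
  have h7 : x⁻¹ * f x = x⁻¹ * g x * ((f x)⁻¹ * g x)⁻¹ := by group
  rw [h7]
  exact mul_mem h6 (inv_mem h5)

theorem derived_le_frattini [Fact p.Prime] [Finite S] (hS : IsPGroup p S) :
    ⁅S, S⁆ ≤ (frattini ↥S).map S.subtype := by
  rw [← Subgroup.map_subtype_commutator]
  exact Subgroup.map_mono (H2.commutator_le_frattini hS)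

theorem inner_foc_triv {α : MulAut S} (hα : α ∈ Inn S) (hx : x ∈ S) : x⁻¹ * autFun α x ∈ ⁅S, S⁆ := by
  obtain ⟨g, hg, h⟩ := mem_Inn.1 hα
  rw [h x hx]
  have : x⁻¹ * (g * x * g⁻¹) = ⁅x⁻¹, g⁆ := by group
  rw [this]
  exact Subgroup.commutator_mem_commutator (inv_mem hx) hg

end

end Cfsg.Agent.H28
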