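import Mathlib
import Cfsg.Prelude.Def_FusionSystem
import Cfsg.Prelude.Def_FusionComponents
import Cfsg.Agent.H28.Tate2
import Cfsg.Agent.H28.Mach3

/-!
Inner normalizer systems.
-/

set_option autoImplicit false
open Cfsg Cfsg.FusionSystem
open scoped commutatorElement

namespace Cfsg.Agent.H28

universe u v w

section

variable {Ω : Type u} [Group Ω] {S T : Subgroup Ω} {F H : FusionSystem S} {P Q R : Subgroup Ω}
  {f g k : Ω → Ω} {x y s t z : Ω} {p : ℕ}

theorem hom_eq_of_mor {E : FusionSystem T} (h : ∀ f, Mor F P f ↔ Mor E P f) : F.Hom P = E.Hom P := by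
  ext φ
  rw [← mor_toFun_iff, ← mor_toFun_iff, h]

theorem mor_of_hom_eq {E : FusionSystem T} (h : F.Hom P = E.Hom P) : Mor F P f ↔ Mor E P f := by
  constructor
  · rintro ⟨φ, hφ, h1⟩; rw [h] at hφ; exact ⟨φ, hφ, h1⟩
  · rintro ⟨φ, hφ, h1⟩; rw [← h] at hφ; exact ⟨φ, hφ, h1⟩

/-- The normalizer system of `S` itself is inner. -/
def TopInner (F : FusionSystem S) : Prop :=
  ∀ N : FusionSystem (normalizerIn S S), F.IsNormalizerSystem S N →
    ∀ P : Subgroup Ω, N.Hom P = (innerFusionSystem (normalizerIn S S)).Hom P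

theorem TopInner.aut (h : TopInner F) : F.autGroup S ≤ Inn S := by
  intro α hα
  have h1 := h _ (normSys_isNormalizerSystem le_rfl) S
  have hNS : normalizerIn S S = S := normalizerIn_eq Subgroup.le_normalizer
  have hm := mor_autFun (F := F) le_rfl hα
  have h2 : Mor (normSys F S le_rfl) S (autFun α) := by
    refine mor_normSys.2 ⟨by rw [hNS], fun x hx => by rw [hNS]; exact autFun_mem _ hx,
      autFun α, by rw [sup_idem]; exact hm, fun _ _ => rfl, img_autFun α⟩
  rw [mor_of_hom_eq h1, mor_inner, hNS] at h2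
  obtain ⟨-, g, hg, h3⟩ := h2
  exact mem_Inn.2 ⟨g, hg, h3⟩

theorem hom_inner_of_normS (hQ : Q ≤ S) (hn : S ≤ Subgroup.normalizer (Q : Set Ω))
    (h : normS F Q hQ hn = innerFusionSystem S) (N : FusionSystem (normalizerIn S Q))
    (hN : F.IsNormalizerSystem Q N) (P : Subgroup Ω) :
    N.Hom P = (innerFusionSystem (normalizerIn S Q)).Hom P := by
  have hNS := normalizerIn_eq hn
  apply hom_eq_of_mor
  intro f
  have h1 : Mor (normS F Q hQ hn) P f ↔ Mor (innerFusionSystem S) P f := by rw [h]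
  unfold normS at h1
  rw [mor_castSys] at h1
  rw [eq_normSys hQ hN, h1, mor_inner, mor_inner, hNS]

theorem normalizer_of_derived_le (hQ : Q ≤ S) (hd : ⁅S, S⁆ ≤ Q) : S ≤ Subgroup.normalizer (Q : Set Ω) := by
  intro s hs
  have h0 : ∀ s ∈ S, ∀ x ∈ Q, s * x * s⁻¹ ∈ Q := by
    intro s hs x hx
    have h1 : s * x * s⁻¹ = ⁅s, x⁆ * x := by group
    rw [h1]
    exact Q.mul_mem (hd (Subgroup.commutator_mem_commutator hs (hQ hx))) hx
  rw [Subgroup.mem_normalizer_iff]
  intro x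
  refine ⟨h0 s hs x, fun hx => ?_⟩
  have h1 := h0 s⁻¹ (S.inv_mem hs) _ hx
  have h2 : s⁻¹ * (s * x * s⁻¹) * s⁻¹⁻¹ = x := by group
  rwa [h2] at h1

/-- Control below the Frattini subgroup. -/
theorem norm_inner_between [Fact p.Prime] [Finite S] (hS : IsPGroup p S) (hF : F.IsSaturated p)
    (hI : F.autGroup S ≤ Inn S) (hd : ⁅S, S⁆ ≤ Q) (hΦ : Q ≤ (frattini ↥S).map S.subtype)
    (hQ : Q ≤ S) (hn : S ≤ Subgroup.normalizer (Q : Set Ω)) : normS F Q hQ hn = innerFusionSystem S := by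
  have hEs : (normS F Q hQ hn).IsSaturated p := normS_saturated hS hF
  apply inner_of_frattini hS hEs
  refine le_trans ?_ hΦ
  refine foc_le_of_quotient hS hEs (normal_stronglyClosed normS_normal) hd ?_
  intro α hα x hx
  have h1 : α ∈ F.autGroup S := by
    refine (mor_autFun_iff le_rfl).1 ?_
    exact le_iff_mor.1 normS_le _ _ (mor_autFun le_rfl hα)
  exact hd (inner_foc_triv (hI h1) hx)

theorem frattini_map_normal : ∀ s ∈ S, ∀ x ∈ (frattini ↥S).map S.subtype, s * x * s⁻¹ ∈ (frattini ↥S).map S.subtype := by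
  rintro s hs _ ⟨x, hx, rfl⟩
  refine ⟨(⟨s, hs⟩ : S) * x * (⟨s, hs⟩ : S)⁻¹, ?_, rfl⟩
  exact (inferInstance : (frattini S).Normal).conj_mem x hx _

end

end Cfsg.Agent.H28
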