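import Mathlib
import Cfsg.Prelude.Def_FusionSystem
import Cfsg.Agent.H28.ExtTop
import Cfsg.Agent.H28.StrEmb

/-!
Abelian essential subgroups and transvections.
-/

set_option autoImplicit false
open Cfsg Cfsg.FusionSystem

namespace Cfsg.Agent.H28

universe u

section
variable {X : Type*} [Group X] {p : ℕ}

theorem mem_interGen_of_commute [Fact p.Prime] [Finite X] (T : Sylow p X) {N : Subgroup X} (hN : N = ⊥)
    {t s β : X} (ht : t ∈ (T : Subgroup X)) (ht1 : t ≠ 1) (hs : s ∈ (T : Subgroup X)) (hs1 : s ≠ 1)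
    (hc : t * (β * s * β⁻¹) = (β * s * β⁻¹) * t) : β ∈ interGen (T : Subgroup X) N := by
  subst hN
  have key : ∀ x y : X, y ∈ (T : Subgroup X) → y ≠ 1 → x⁻¹ * y * x ∈ (T : Subgroup X) →
      x ∈ interGen (T : Subgroup X) ⊥ := by
    intro x y hy hy1 hxy
    apply Subgroup.subset_closure
    show (⊥ : Subgroup X) < interConj (T : Subgroup X) x
    rw [bot_lt_iff_ne_bot]
    intro h
    apply hy1
    have : y ∈ interConj (T : Subgroup X) x := mem_interConj.2 ⟨hy, hxy⟩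
    rwa [h, Subgroup.mem_bot] at this
  set t₂ := β * s * β⁻¹ with ht₂
  have hTp := T.2
  have hz1 : IsPGroup p (Subgroup.zpowers t) := hTp.to_le (by rwa [Subgroup.zpowers_le])
  obtain ⟨k, hk⟩ := isPGroup_pow_one hTp hs
  have hz2 : IsPGroup p (Subgroup.zpowers t₂) := by
    apply isPGroup_zpowers_of_pow (n := k)
    rw [ht₂, conj_pow, hk]; group
  have hle : Subgroup.zpowers t ≤ Subgroup.normalizer ((Subgroup.zpowers t₂ : Subgroup X) : Set X) := by
    rw [Subgroup.zpowers_le]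
    rw [Subgroup.mem_normalizer_iff]
    have hcc : ∀ h ∈ Subgroup.zpowers t₂, t * h * t⁻¹ = h := by
      rintro h ⟨m, rfl⟩
      have h1 : Commute t t₂ := hc
      have h2 : t * t₂ ^ m = t₂ ^ m * t := (h1.zpow_right m).eq
      show t * t₂ ^ m * t⁻¹ = t₂ ^ m
      rw [h2]; group
    intro h
    constructor
    · intro hh; rw [hcc h hh]; exact hh
    · intro hh
      have h3 : t⁻¹ * (t * h * t⁻¹) * t ∈ Subgroup.zpowers t₂ := by
        have h4 := hcc _ hh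
        have h5 : t⁻¹ * (t * h * t⁻¹) * t = t * h * t⁻¹ := by
          calc t⁻¹ * (t * h * t⁻¹) * t = t⁻¹ * (t * (t * h * t⁻¹) * t⁻¹) * t := by rw [h4]
            _ = t * h * t⁻¹ := by group
        rw [h5]; exact hh
      have h6 : t⁻¹ * (t * h * t⁻¹) * t = h := by group
      rwa [h6] at h3
  have hp := IsPGroup.to_sup_of_normal_right' hz1 hz2 hle
  obtain ⟨T', hT'⟩ := hp.exists_le_sylow
  obtain ⟨g, hg⟩ := MulAction.exists_smul_eq X T T'
  have h1 : t ∈ (T' : Subgroup X) := hT' (Subgroup.mem_sup_left (Subgroup.mem_zpowers t))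
  have h2 : t₂ ∈ (T' : Subgroup X) := hT' (Subgroup.mem_sup_right (Subgroup.mem_zpowers t₂))
  rw [sylow_conj_mem hg] at h1 h2
  have hgM := key g t ht ht1 h1
  have h3 : g⁻¹ * t₂ * g ≠ 1 := by
    intro h
    apply hs1
    have h4 : t₂ = 1 := by
      have : t₂ = g * (g⁻¹ * t₂ * g) * g⁻¹ := by group
      rw [this, h]; group
    have h5 : s = β⁻¹ * t₂ * β := by rw [ht₂]; group
    rw [h5, h4]; group
  have h4 := key (g⁻¹ * β) _ h2 h3 (by
    have : (g⁻¹ * β)⁻¹ * (g⁻¹ * t₂ * g) * (g⁻¹ * β) = s := by rw [ht₂]; group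
    rw [this]; exact hs)
  have h5 : β = g * (g⁻¹ * β) := by group
  rw [h5]
  exact mul_mem hgM h4

/-- Commutators with a fixed element. -/
theorem card_le_comm {A Z : Subgroup X} [Finite A] [Finite Z] {y : X}
    (h1 : ∀ a ∈ A, a * y * a⁻¹ * y⁻¹ ∈ Z) (h2 : ∀ a ∈ A, ∀ z ∈ Z, a * z = z * a)
    (h3 : ∀ u ∈ Z, ∀ v ∈ Z, u * v = v * u) :
    Nat.card A ≤ Nat.card Z * Nat.card ↥(A ⊓ Subgroup.centralizer ({y} : Set X)) := by
  let κ : A →* Z := MonoidHom.mk' (fun a => ⟨(a : X) * y * (a : X)⁻¹ * y⁻¹, h1 a a.2⟩) (by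
    intro a b
    apply Subtype.ext
    show ((a : X) * b) * y * ((a : X) * b)⁻¹ * y⁻¹ =
      ((a : X) * y * (a : X)⁻¹ * y⁻¹) * ((b : X) * y * (b : X)⁻¹ * y⁻¹)
    have h6 : ((a : X) * b) * y * ((a : X) * b)⁻¹ * y⁻¹ =
        ((a : X) * ((b : X) * y * (b : X)⁻¹ * y⁻¹)) * y * (a : X)⁻¹ * y⁻¹ := by group
    rw [h6, h2 a a.2 _ (h1 b b.2), h3 _ (h1 a a.2) _ (h1 b b.2)]
    group)
  have hk : κ.ker.map A.subtype = A ⊓ Subgroup.centralizer ({y} : Set X) := by
    ext x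
    constructor
    · rintro ⟨a, ha, rfl⟩
      refine ⟨a.2, ?_⟩
      refine Subgroup.mem_centralizer_singleton_iff.2 ?_
      have h4 : (a : X) * y * (a : X)⁻¹ * y⁻¹ = 1 := congrArg Subtype.val (MonoidHom.mem_ker.1 ha)
      show (a : X) * y = y * a
      calc (a : X) * y = ((a : X) * y * (a : X)⁻¹ * y⁻¹) * (y * a) := by group
        _ = y * a := by rw [h4, one_mul]
    · rintro ⟨hxA, hx'⟩
      have hx := Subgroup.mem_centralizer_singleton_iff.1 hx'
      refine ⟨⟨x, hxA⟩, MonoidHom.mem_ker.2 (Subtype.ext ?_), rfl⟩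
      show x * y * x⁻¹ * y⁻¹ = 1
      rw [hx]; group
  rw [← hk, Subgroup.card_map_of_injective A.subtype_injective, ← Subgroup.card_mul_index κ.ker,
    Subgroup.index_ker, mul_comm]
  exact Nat.mul_le_mul_right _ (Subgroup.card_le_card_group _)

end

section
variable {Ω : Type u} [Group Ω] {S : Subgroup Ω} {F : FusionSystem S} {P Q : Subgroup Ω} {p : ℕ}

theorem tvec [Fact p.Prime] [Finite S] (hS : IsPGroup p S) (hF : F.IsSaturated p)
    (hP : F.IsEssential p P) (hab : ∀ x ∈ P, ∀ y ∈ P, x * y = y * x) (hPQ : P ≤ Q) (hQS : Q ≤ S)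
    {z : Ω} (hz : z ∈ P) (hzp : Nat.card (Subgroup.zpowers z) ≤ p) (hQz : ∀ q ∈ Q, q * z = z * q)
    (hc : ∀ q ∈ Q, ∀ x ∈ P, q * x * q⁻¹ * x⁻¹ ∈ Subgroup.zpowers z)
    (hcard : p ^ 2 * Nat.card P ≤ Nat.card Q) : False := by
  obtain ⟨hPc, hPn, hnorm, E', hE'⟩ := hP
  have hPS := hPc.1
  haveI : Finite P := finite_of_le hPS
  haveI : Finite Q := finite_of_le hQS
  haveI : Finite (MulAut P) := finite_mulAut
  have hzP : Subgroup.zpowers z ≤ P := by rwa [Subgroup.zpowers_le]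
  haveI : Finite (Subgroup.zpowers z) := finite_of_le hzP
  obtain ⟨-, T, hT⟩ := FN.fa hS hF hPn
  have hp1 := (Fact.out : p.Prime).one_lt
  have hcent : ∀ q ∈ S, (∀ x ∈ P, q * x * q⁻¹ = x) → q ∈ P := by
    intro q hq h
    refine centric_centralizer hPc (mem_centralizerIn.2 ⟨hq, fun x hx => ?_⟩)
    calc q * x = (q * x * q⁻¹) * q := by group
      _ = x * q := by rw [h x hx]
  have hInn : (Inn P).subgroupOf (F.autGroup P) = ⊥ := by
    rw [eq_bot_iff]
    intro α hα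
    rw [Subgroup.mem_subgroupOf, mem_Inn] at hα
    obtain ⟨x, hx, h1⟩ := hα
    rw [Subgroup.mem_bot]
    apply Subtype.ext
    apply mulAut_ext
    intro y hy
    rw [h1 y hy, Subgroup.coe_one, autFun_one hy, hab x hx y hy]
    group
  have hN : ∀ q ∈ Q, q ∈ Subgroup.normalizer (P : Set Ω) := by
    intro q hq
    refine mem_normalizer_of_finite fun x hx => ?_
    have h1 := mul_mem (hzP (hc q hq x hx)) hx
    rwa [inv_mul_cancel_right] at h1
  have hQzz : ∀ q ∈ Q, ∀ w ∈ Subgroup.zpowers z, q * w = w * q := by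
    rintro q hq _ ⟨k, rfl⟩
    have : Commute q z := hQz q hq
    exact (this.zpow_right k).eq
  -- large centralizers
  have hbig : ∀ y ∈ P, ∃ q ∈ Q, q ∉ P ∧ q * y = y * q := by
    intro y hy
    by_contra hcon
    push Not at hcon
    have h1 : Q ⊓ Subgroup.centralizer ({y} : Set Ω) ≤ P := by
      rintro q ⟨hq, hqy⟩
      by_contra hqP
      exact hcon q hq hqP (Subgroup.mem_centralizer_singleton_iff.1 hqy)
    have h2 := card_le_comm (A := Q) (Z := Subgroup.zpowers z) (y := y)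
      (fun a ha => hc a ha y hy) hQzz (fun u hu v hv => hab u (hzP hu) v (hzP hv))
    have h3 := card_le_of_le h1
    have h4 : Nat.card Q ≤ p * Nat.card P := h2.trans (Nat.mul_le_mul hzp h3)
    have h5 : 0 < Nat.card P := Nat.card_pos
    have h6 : p ^ 2 * Nat.card P ≤ p * Nat.card P := hcard.trans h4
    have h7 : p ^ 2 ≤ p := Nat.le_of_mul_le_mul_right h6 h5
    nlinarith
  have hmk : ∀ q ∈ Q, q ∉ P → ∃ t : F.autGroup P, t ∈ (T : Subgroup (F.autGroup P)) ∧ t ≠ 1 ∧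
      ∀ x ∈ P, autFun (t : MulAut P) x = q * x * q⁻¹ := by
    intro q hq hqP
    have h1 := conjAut_mem (K := S) (hN q hq) (hQS hq)
    refine ⟨⟨conjAut P q (hN q hq), autInducedBy_le hPS le_rfl h1⟩, ?_, ?_, ?_⟩
    · rw [hT]; exact h1
    · intro h
      apply hqP
      apply hcent q (hQS hq)
      intro x hx
      have h2 := congrArg Subtype.val h
      rw [← autFun_conjAut (hN q hq) hx]
      show autFun (conjAut P q (hN q hq)) x = x
      rw [show conjAut P q (hN q hq) = 1 from h2, autFun_one hx]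
    · intro x hx
      exact autFun_conjAut (hN q hq) hx
  have hne := interGen_ne_top_of_stronglyPEmbedded T _ hE'
  apply hne
  rw [eq_top_iff]
  intro β _
  have hβ := mor_autFun hPS β.2
  set b : Ω → Ω := autFun (β : MulAut P) with hb
  have hβi := mor_autFun hPS (inv_mem β.2)
  obtain ⟨q₁, hq₁, hq₁P, hq₁c⟩ := hbig (b z) (autFun_mem _ hz)
  obtain ⟨q₂, hq₂, hq₂P, hq₂c⟩ := hbig (autFun (β : MulAut P)⁻¹ z) (autFun_mem _ hz)
  obtain ⟨t, htT, ht1, ht⟩ := hmk q₁ hq₁ hq₁P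
  obtain ⟨s, hsT, hs1, hs⟩ := hmk q₂ hq₂ hq₂P
  refine mem_interGen_of_commute T hInn htT ht1 hsT hs1 ?_
  apply Subtype.ext
  apply mulAut_ext
  intro x hx
  -- `w₁ = λ₁(x)`, `w₂ = λ₂(β⁻¹ x)`
  have hz1 : ∀ y ∈ P, ∃ k : ℤ, q₁ * y * q₁⁻¹ = z ^ k * y := by
    intro y hy
    obtain ⟨k, hk⟩ := hc q₁ hq₁ y hy
    refine ⟨k, ?_⟩
    have hk' : z ^ k = q₁ * y * q₁⁻¹ * y⁻¹ := hk
    rw [hk']; group
  have hz2 : ∀ y ∈ P, ∃ k : ℤ, q₂ * y * q₂⁻¹ = z ^ k * y := by
    intro y hy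
    obtain ⟨k, hk⟩ := hc q₂ hq₂ y hy
    refine ⟨k, ?_⟩
    have hk' : z ^ k = q₂ * y * q₂⁻¹ * y⁻¹ := hk
    rw [hk']; group
  have hbx := autFun_mem (β : MulAut P)⁻¹ hx
  obtain ⟨k, hk⟩ := hz1 x hx
  obtain ⟨m, hm⟩ := hz2 _ hbx
  have hzk : z ^ k ∈ P := zpow_mem hz k
  -- t₂(x) = (b z)^m * x
  have ht2 : autFun ((β : MulAut P) * (s : MulAut P) * (β : MulAut P)⁻¹) x = (b z) ^ m * x := by
    rw [autFun_mul _ _ hx, autFun_mul _ _ hbx, hs _ hbx, hm]
    show b (z ^ m * _) = _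
    rw [hβ.mul (zpow_mem hz m) hbx, hβ.zpow hz, hb, autFun_apply_inv _ hx]
  have ht2z : autFun ((β : MulAut P) * (s : MulAut P) * (β : MulAut P)⁻¹) z = z := by
    have hbz := autFun_mem (β : MulAut P)⁻¹ hz
    rw [autFun_mul _ _ hz, autFun_mul _ _ hbz, hs _ hbz]
    have : q₂ * autFun (β : MulAut P)⁻¹ z * q₂⁻¹ = autFun (β : MulAut P)⁻¹ z := by
      rw [hq₂c]; group
    rw [this, autFun_apply_inv _ hz]
  have ht2m : Mor F P (autFun ((β : MulAut P) * (s : MulAut P) * (β : MulAut P)⁻¹)) :=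
    mor_autFun hPS (mul_mem (mul_mem β.2 s.2) (inv_mem β.2))
  have ht1m : Mor F P (autFun (t : MulAut P)) := mor_autFun hPS t.2
  have hbz : b z ∈ P := autFun_mem _ hz
  have ht1b : autFun (t : MulAut P) (b z) = b z := by
    rw [ht _ hbz, hq₁c]; group
  have e1 : autFun (((t * (β * s * β⁻¹) : F.autGroup P)) : MulAut P) x = (b z) ^ m * (z ^ k * x) := by
    show autFun ((t : MulAut P) * ((β : MulAut P) * (s : MulAut P) * (β : MulAut P)⁻¹)) x = _
    rw [autFun_mul _ _ hx, ht2, ht1m.mul (zpow_mem hbz m) hx, ht1m.zpow hbz, ht1b, ht x hx, hk]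
  have e2 : autFun (((β * s * β⁻¹ * t : F.autGroup P)) : MulAut P) x = z ^ k * ((b z) ^ m * x) := by
    show autFun (((β : MulAut P) * (s : MulAut P) * (β : MulAut P)⁻¹) * (t : MulAut P)) x = _
    rw [autFun_mul _ _ hx, ht x hx, hk, ht2m.mul hzk hx, ht2m.zpow hz, ht2z, ht2]
  rw [e1, e2, ← mul_assoc, ← mul_assoc, hab _ (zpow_mem hbz m) _ hzk]

end

end Cfsg.Agent.H28
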