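import Mathlib
import Cfsg.Prelude.Def_FusionSystem
import Cfsg.Agent.H28.Tvec
import Cfsg.Agent.H28.FusInner

/-!
`p`-groups with central derived subgroup of order `p`, `p` odd.
-/

set_option autoImplicit false
open Cfsg Cfsg.FusionSystem

namespace Cfsg.Agent.H28

universe u

section
variable {V : Type*} [Group V] {p : ℕ}

theorem zpow_mod {z : V} (hz : z ^ p = 1) {m n : ℤ} (h : (p : ℤ) ∣ m - n) : z ^ m = z ^ n := by
  obtain ⟨k, hk⟩ := h
  have h1 : m = n + p * k := by omega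
  rw [h1, zpow_add, zpow_mul, zpow_natCast, hz, one_zpow, mul_one]

theorem solve_mod [hp : Fact p.Prime] {a : ℤ} (ha : ¬ (p : ℤ) ∣ a) (e : ℤ) :
    ∃ k : ℕ, (p : ℤ) ∣ a * k - e := by
  have hcop : IsCoprime (p : ℤ) a :=
    ((Nat.prime_iff_prime_int.1 hp.out).irreducible.coprime_iff_not_dvd).2 ha
  obtain ⟨u, v, huv⟩ := hcop
  refine ⟨((v * e) % p).toNat, ?_⟩
  have hp0 : (p : ℤ) ≠ 0 := by exact_mod_cast hp.out.ne_zero
  rw [Int.toNat_of_nonneg (Int.emod_nonneg _ hp0)]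
  have h1 : (v * e) % p = v * e - p * ((v * e) / p) := by
    have := Int.emod_add_mul_ediv (v * e) p
    omega
  rw [h1]
  refine ⟨-(u * e) - a * (v * e / p), ?_⟩
  linear_combination e * huv

/-- Two transvections generating `SL₂(p)`. -/
theorem sl2 [hp : Fact p.Prime] (hab : ∀ x y : V, x * y = y * x) {A : Subgroup (MulAut V)}
    {t t' : MulAut V} (ht : t ∈ A) (ht' : t' ∈ A) {z z' : V} (hz : z ^ p = 1) (hz' : z' ^ p = 1)
    (htz : t z = z) (htz' : t' z' = z') {a b : ℤ} (h1 : t z' = z' * z ^ a) (h2 : t' z = z * z' ^ b)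
    (ha : ¬ (p : ℤ) ∣ a) (hb : ¬ (p : ℤ) ∣ b) :
    ∃ j ∈ A, j z = z⁻¹ ∧ j z' = z'⁻¹ ∧ ∀ x, t x = x → t' x = x → j x = x := by
  have hab' : ¬ (p : ℤ) ∣ b * a := fun h => by
    rcases (Nat.prime_iff_prime_int.1 hp.out).dvd_or_dvd h with h | h
    · exact hb h
    · exact ha h
  obtain ⟨k, hk⟩ := solve_mod hab' (-1)
  have hcz : Commute z z' := hab _ _
  -- powers of `t'`
  have hpow : ∀ n : ℕ, (t' ^ n) z = z * z' ^ (b * n) := by
    intro n
    induction n with
    | zero => simp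
    | succ n ih =>
      rw [pow_succ', MulAut.mul_apply, ih, map_mul, map_zpow, htz', h2, mul_assoc, ← zpow_add]
      congr 2
      push_cast; ring
  have hpz' : ∀ n : ℕ, (t' ^ n) z' = z' := by
    intro n
    induction n with
    | zero => simp
    | succ n ih => rw [pow_succ', MulAut.mul_apply, ih, htz']
  have hpx : ∀ x, t' x = x → ∀ n : ℕ, (t' ^ n) x = x := by
    intro x hx n
    induction n with
    | zero => simp
    | succ n ih => rw [pow_succ', MulAut.mul_apply, ih, hx]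
  set w : MulAut V := t * t' ^ k * t with hw
  have hwA : w ∈ A := mul_mem (mul_mem ht (pow_mem ht' k)) ht
  have e1 : z ^ (a * (b * k)) = z⁻¹ := by
    rw [← zpow_neg_one]
    apply zpow_mod hz
    obtain ⟨c, hc⟩ := hk
    exact ⟨c, by linear_combination hc⟩
  have e1' : z' ^ (b * k * a) = z'⁻¹ := by
    rw [← zpow_neg_one]
    apply zpow_mod hz'
    obtain ⟨c, hc⟩ := hk
    exact ⟨c, by linear_combination hc⟩
  have wz : w z = z' ^ (b * k) := by
    rw [hw, MulAut.mul_apply, MulAut.mul_apply, htz, hpow, map_mul, map_zpow, htz, h1,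
      (hcz.symm.zpow_right a).mul_zpow, ← zpow_mul, e1, hab (z' ^ (b * (k : ℤ))) z⁻¹, mul_inv_cancel_left]
  have wz' : w z' = z ^ a := by
    have hc2 : Commute z (z' ^ (b * (k : ℤ))) := hab _ _
    rw [hw, MulAut.mul_apply, MulAut.mul_apply, h1, map_mul, map_zpow, hpow, hpz', hc2.mul_zpow,
      ← zpow_mul, e1', hab (z ^ a) z'⁻¹, mul_inv_cancel_left, map_zpow, htz]
  refine ⟨w * w, mul_mem hwA hwA, ?_, ?_, ?_⟩
  · rw [MulAut.mul_apply, wz, map_zpow, wz', ← zpow_mul, e1]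
  · rw [MulAut.mul_apply, wz', map_zpow, wz, ← zpow_mul, e1']
  · intro x hx hx'
    have : w x = x := by
      rw [hw, MulAut.mul_apply, MulAut.mul_apply, hx, hpx x hx', hx]
    rw [MulAut.mul_apply, this, this]

end

section
variable {Ω : Type u} [Group Ω] {S : Subgroup Ω} {F : FusionSystem S} {P Q C : Subgroup Ω} {p : ℕ}
  {z : Ω} {f : Ω → Ω}

/-- the centre of `S` inside the ambient group -/
def ZS (S : Subgroup Ω) : Subgroup Ω := S ⊓ Subgroup.centralizer (S : Set Ω)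

theorem mem_ZS {x : Ω} : x ∈ ZS S ↔ x ∈ S ∧ ∀ s ∈ S, s * x = x * s := by
  constructor
  · rintro ⟨h1, h2⟩
    exact ⟨h1, fun s hs => Subgroup.mem_centralizer_iff.1 h2 s hs⟩
  · rintro ⟨h1, h2⟩
    exact ⟨h1, Subgroup.mem_centralizer_iff.2 fun s hs => h2 s hs⟩

/-- Central derived subgroup of order `p`. -/
structure CT (S : Subgroup Ω) (p : ℕ) (z : Ω) : Prop where
  zS : z ∈ S
  zc : ∀ s ∈ S, s * z = z * s
  zp : z ^ p = 1
  z1 : z ≠ 1
  comm : ∀ s ∈ S, ∀ t ∈ S, s * t * s⁻¹ * t⁻¹ ∈ Subgroup.zpowers z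

theorem CT.mem (h : CT S p z) : z ∈ ZS S := mem_ZS.2 ⟨h.zS, h.zc⟩

theorem CT.zpow_le (h : CT S p z) : Subgroup.zpowers z ≤ ZS S := by
  rw [Subgroup.zpowers_le]; exact h.mem

theorem CT.conj (h : CT S p z) {s x : Ω} (hs : s ∈ S) (hx : x ∈ S) : ∃ a : ℤ, s * x * s⁻¹ = x * z ^ a := by
  obtain ⟨a, ha⟩ := h.comm s hs x hx
  refine ⟨a, ?_⟩
  have ha' : z ^ a = s * x * s⁻¹ * x⁻¹ := ha
  have h1 : Commute x z := h.zc x hx
  rw [(h1.zpow_right a).eq, ha']; group

variable [hp : Fact p.Prime]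

theorem CT.card (h : CT S p z) : Nat.card (Subgroup.zpowers z) = p := by
  rw [Nat.card_zpowers]
  exact orderOf_eq_prime h.zp h.z1

theorem CT.zpow_iff (h : CT S p z) {m : ℤ} : z ^ m = 1 ↔ (p : ℤ) ∣ m := by
  rw [← orderOf_dvd_iff_zpow_eq_one, orderOf_eq_prime h.zp h.z1]

/-- `[S, S]` is generated by any nontrivial commutator -/
theorem CT.inv (h : CT S p z) [Finite S] {P : Subgroup Ω} (hP : P ≤ S)
    (hna : ∃ x ∈ P, ∃ y ∈ P, x * y ≠ y * x) (hf : Mor F P f) {w : Ω} (hw : w ∈ Subgroup.zpowers z) :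
    w ∈ P ∧ f w ∈ Subgroup.zpowers z := by
  obtain ⟨x₀, hx₀, y₀, hy₀, hxy⟩ := hna
  set c : Ω := x₀ * y₀ * x₀⁻¹ * y₀⁻¹ with hc
  have hcP : c ∈ P := mul_mem (mul_mem (mul_mem hx₀ hy₀) (inv_mem hx₀)) (inv_mem hy₀)
  have hcz : c ∈ Subgroup.zpowers z := h.comm _ (hP hx₀) _ (hP hy₀)
  have hc1 : c ≠ 1 := by
    intro h
    apply hxy
    calc x₀ * y₀ = c * (y₀ * x₀) := by rw [hc]; group
      _ = y₀ * x₀ := by rw [h, one_mul]
  have hzS : Subgroup.zpowers z ≤ S := by rw [Subgroup.zpowers_le]; exact h.zS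
  haveI : Finite (Subgroup.zpowers z) := finite_of_le hzS
  have hcgen : Subgroup.zpowers c = Subgroup.zpowers z := by
    have h1 : Subgroup.zpowers c ≤ Subgroup.zpowers z := by rwa [Subgroup.zpowers_le]
    apply eq_of_le_of_card h1
    rw [h.card]
    have h2 := Subgroup.card_dvd_of_le h1
    rw [h.card] at h2
    rcases (Nat.dvd_prime hp.out).1 h2 with h3 | h3
    · exfalso; apply hc1
      have h4 : Subgroup.zpowers c = ⊥ := Subgroup.card_eq_one.1 h3
      rwa [Subgroup.zpowers_eq_bot] at h4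
    · exact h3.ge
  rw [← hcgen] at hw
  obtain ⟨k, rfl⟩ := hw
  refine ⟨zpow_mem hcP k, ?_⟩
  show f (c ^ k) ∈ _
  rw [hf.zpow hcP]
  apply zpow_mem
  have h1 : f c = f x₀ * f y₀ * (f x₀)⁻¹ * (f y₀)⁻¹ := by
    rw [hc, hf.mul (mul_mem (mul_mem hx₀ hy₀) (inv_mem hx₀)) (inv_mem hy₀),
      hf.mul (mul_mem hx₀ hy₀) (inv_mem hx₀), hf.mul hx₀ hy₀, hf.inv hx₀, hf.inv hy₀]
  rw [h1]
  exact h.comm _ (hf.mem hx₀) _ (hf.mem hy₀)

variable [Finite S] (hS : IsPGroup p S) (hF : F.IsSaturated p) (h : CT S p z)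
include hS hF h

omit hS hF hp in
theorem CT.zs_le (hc : F.IsCentric P) : ZS S ≤ P := by
  intro x hx
  obtain ⟨h1, h2⟩ := mem_ZS.1 hx
  exact centric_centralizer hc (mem_centralizerIn.2 ⟨h1, fun y hy => (h2 y (hc.1 hy)).symm⟩)

omit hS hF in
theorem CT.normalizer (hc : F.IsCentric P) {s : Ω} (hs : s ∈ S) : s ∈ Subgroup.normalizer (P : Set Ω) := by
  haveI : Finite P := finite_of_le hc.1
  refine mem_normalizer_of_finite fun x hx => ?_
  obtain ⟨a, ha⟩ := h.conj hs (hc.1 hx)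
  rw [ha]
  exact mul_mem hx (h.zs_le hc (zpow_mem h.mem a))

/-- Essential subgroups do not leave `z` invariant. -/
theorem CT.ess_abelian (hP : F.IsEssential p P) : ∀ x ∈ P, ∀ y ∈ P, x * y = y * x := by
  by_contra hna
  push Not at hna
  have hPS := hP.1.1
  have hlt := essential_lt hS hF hP
  obtain ⟨s, hs, hsP⟩ := SetLike.exists_of_lt hlt
  apply hsP
  have hzP : Subgroup.zpowers z ≤ P := h.zpow_le.trans (h.zs_le hP.1)
  refine radical_chain hS hF (essential_radical hS hP) hP.1 hzP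
    (fun δ hδ w hw => (h.inv hPS hna (mor_autFun hPS hδ) hw).2) hs (h.normalizer hP.1 hs) ?_ ?_
  · rintro _ ⟨k, rfl⟩
    show s * z ^ k * s⁻¹ = z ^ k
    have h1 : Commute s z := h.zc s hs
    rw [(h1.zpow_right k).eq]; group
  · intro x hx
    obtain ⟨a, ha⟩ := h.conj hs (hPS hx)
    rw [ha, inv_mul_cancel_left]
    exact ⟨a, rfl⟩

theorem CT.ess_card (hP : F.IsEssential p P) : Nat.card S < p ^ 2 * Nat.card P := by
  by_contra hcon
  push Not at hcon
  exact tvec hS hF hP (h.ess_abelian hS hF hP) hP.1.1 le_rfl (h.zs_le hP.1 h.mem) h.card.le h.zc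
    (fun q hq x hx => h.comm q hq x (hP.1.1 hx)) hcon

/-- elements of `P` commuting with one element outside are central -/
theorem CT.central_of (hP : F.IsEssential p P) {s x : Ω} (hs : s ∈ S) (hsP : s ∉ P) (hx : x ∈ P)
    (hc : s * x = x * s) : x ∈ ZS S := by
  have hPS := hP.1.1
  haveI : Finite P := finite_of_le hPS
  set D : Subgroup Ω := S ⊓ Subgroup.centralizer ({x} : Set Ω) with hD
  haveI : Finite D := finite_of_le inf_le_left
  have hPD : P ≤ D := fun y hy =>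
    ⟨hPS hy, Subgroup.mem_centralizer_singleton_iff.2 (h.ess_abelian hS hF hP y hy x hx)⟩
  have hsD : s ∈ D := ⟨hs, Subgroup.mem_centralizer_singleton_iff.2 hc⟩
  have hlt : P < D := lt_of_le_of_ne hPD fun h => hsP (by rw [h]; exact hsD)
  obtain ⟨a, ha⟩ := IsPGroup.iff_card.1 (isPGroup_of_le hS hPS)
  obtain ⟨b, hb⟩ := IsPGroup.iff_card.1 hS
  obtain ⟨c, hc'⟩ := IsPGroup.iff_card.1 (isPGroup_of_le hS (inf_le_left : D ≤ S))
  have h1 := card_lt_of_lt' hlt
  have h2 := h.ess_card hS hF hP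
  rw [ha, hb, ← pow_add] at h2
  rw [ha, hc'] at h1
  have h3 := (Nat.pow_lt_pow_iff_right hp.out.one_lt).1 h1
  have h4 := (Nat.pow_lt_pow_iff_right hp.out.one_lt).1 h2
  have h5 : D = S := eq_of_le_of_card inf_le_left (by
    rw [hb, hc']; exact Nat.pow_le_pow_right hp.out.pos (by omega))
  refine mem_ZS.2 ⟨hPS hx, fun t ht => ?_⟩
  rw [← h5] at ht
  exact Subgroup.mem_centralizer_singleton_iff.1 ht.2

/-- Automorphisms of essential subgroups keeping `z` central extend. -/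
theorem CT.extend (hP : F.IsEssential p P) {α : MulAut P} (hα : α ∈ F.autGroup P)
    (hz : autFun α z ∈ ZS S) : ∃ γ ∈ F.autGroup S, ∀ x ∈ P, autFun γ x = autFun α x := by
  have hPS := hP.1.1
  haveI : Finite P := finite_of_le hPS
  have hab := h.ess_abelian hS hF hP
  have hZP : ZS S ≤ P := h.zs_le hP.1
  have hzP : z ∈ P := hZP h.mem
  have hαm := mor_autFun hPS hα
  set z' := autFun α z with hz'
  have hz'P : z' ∈ P := hZP hz
  have hz'Z : Subgroup.zpowers z' ≤ ZS S := by rwa [Subgroup.zpowers_le]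
  obtain ⟨n, hn⟩ := IsPGroup.iff_card.1 (isPGroup_of_le hS hPS)
  have hexp : ∀ x ∈ P, x ^ p ^ n = 1 := by
    intro x hx
    have : (⟨x, hx⟩ : P) ^ Nat.card P = 1 := pow_card_eq_one'
    rw [hn] at this
    exact congrArg Subtype.val this
  let B : Subgroup (MulAut P) :=
    { carrier := {γ | γ ∈ F.autGroup P ∧ autFun γ z' = z' ∧
        (∀ x ∈ ZS S, x⁻¹ * autFun γ x ∈ Subgroup.zpowers z') ∧ ∀ x ∈ P, x⁻¹ * autFun γ x ∈ ZS S}
      one_mem' := ⟨one_mem _, autFun_one hz'P, fun x hx => by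
          rw [autFun_one (hZP hx), inv_mul_cancel]; exact one_mem _, fun x hx => by
          rw [autFun_one hx, inv_mul_cancel]; exact one_mem _⟩
      mul_mem' := by
        rintro a b ⟨a0, a1, a2, a3⟩ ⟨b0, b1, b2, b3⟩
        refine ⟨mul_mem a0 b0, by rw [autFun_mul _ _ hz'P, b1, a1], fun x hx => ?_, fun x hx => ?_⟩
        · have hbx : autFun b x ∈ ZS S := by
            have := mul_mem hx (hz'Z (b2 x hx))
            rwa [mul_inv_cancel_left] at this
          have := mul_mem (b2 x hx) (a2 _ hbx)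
          rw [autFun_mul _ _ (hZP hx)]
          rwa [mul_assoc, mul_inv_cancel_left] at this
        · have := mul_mem (b3 x hx) (a3 _ (autFun_mem b hx))
          rw [autFun_mul _ _ hx]
          rwa [mul_assoc, mul_inv_cancel_left] at this
      inv_mem' := by
        rintro a ⟨a0, a1, a2, a3⟩
        refine ⟨inv_mem a0, ?_, fun x hx => ?_, fun x hx => ?_⟩
        · conv_lhs => rw [← a1]
          exact autFun_inv_apply a hz'P
        · have hxP := hZP hx
          have hy : autFun a⁻¹ x ∈ ZS S := by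
            have h1 := a3 _ (autFun_mem a⁻¹ hxP)
            rw [autFun_apply_inv a hxP] at h1
            have h2 := mul_mem hx (inv_mem h1)
            have h3 : x * ((autFun a⁻¹ x)⁻¹ * x)⁻¹ = autFun a⁻¹ x := by group
            rwa [h3] at h2
          have h1 := a2 _ hy
          rw [autFun_apply_inv a hxP] at h1
          have h2 := inv_mem h1
          have h3 : ((autFun a⁻¹ x)⁻¹ * x)⁻¹ = x⁻¹ * autFun a⁻¹ x := by group
          rwa [h3] at h2
        · have h1 := a3 _ (autFun_mem a⁻¹ hx)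
          rw [autFun_apply_inv a hx] at h1
          have h2 := inv_mem h1
          have h3 : ((autFun a⁻¹ x)⁻¹ * x)⁻¹ = x⁻¹ * autFun a⁻¹ x := by group
          rwa [h3] at h2 }
  have hBp : IsPGroup p B := by
    rintro ⟨γ, γ0, γ1, γ2, γ3⟩
    refine ⟨n + n, Subtype.ext (mulAut_ext fun x hx => ?_)⟩
    show autFun (γ ^ p ^ (n + n)) x = autFun 1 x
    rw [autFun_one hx]
    -- first `γ ^ p ^ n` is trivial on `ZS S`
    have e1 : ∀ y ∈ ZS S, autFun (γ ^ p ^ n) y = y := by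
      intro y hy
      have hc := γ2 y hy
      have hcP : y⁻¹ * autFun γ y ∈ P := hZP (hz'Z hc)
      have hfix : autFun γ (y⁻¹ * autFun γ y) = y⁻¹ * autFun γ y := by
        obtain ⟨k, hk⟩ := hc
        have hk' : z' ^ k = y⁻¹ * autFun γ y := hk
        rw [← hk', (mor_autFun hPS γ0).zpow hz'P, γ1]
      rw [autFun_pow_of_fix (hZP hy) hcP (by rw [mul_inv_cancel_left]) hfix, hexp _ hcP, mul_one]
    have hc := γ3 x hx
    have e2 : autFun (γ ^ p ^ n) (x⁻¹ * autFun (γ ^ p ^ n) x) = x⁻¹ * autFun (γ ^ p ^ n) x := by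
      apply e1
      have hmem : γ ^ p ^ n ∈ B := pow_mem (⟨γ0, γ1, γ2, γ3⟩ : γ ∈ B) _
      exact hmem.2.2.2 x hx
    have hcP : x⁻¹ * autFun (γ ^ p ^ n) x ∈ P := mul_mem (inv_mem hx) (autFun_mem _ hx)
    rw [pow_add, pow_mul, autFun_pow_of_fix hx hcP (by rw [mul_inv_cancel_left]) e2, hexp _ hcP, mul_one]
  have hBF : B ≤ F.autGroup P := fun γ hγ => hγ.1
  have hSB : autInducedBy S P ≤ B := by
    intro γ hγ
    obtain ⟨s, hs, h1⟩ := mem_autInducedBy'.1 hγ
    have hcen : ∀ x ∈ ZS S, autFun γ x = x := by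
      intro x hx
      rw [h1 x (hZP hx), (mem_ZS.1 hx).2 s hs]; group
    refine ⟨autInducedBy_le hPS le_rfl hγ, hcen _ hz, fun x hx => ?_, fun x hx => ?_⟩
    · rw [hcen x hx, inv_mul_cancel]; exact one_mem _
    · obtain ⟨a, ha⟩ := h.conj hs (hPS hx)
      rw [h1 x hx, ha, inv_mul_cancel_left]
      exact zpow_mem h.mem a
  have hle := ((fullyAutomized_iff hS).1 (FN.fa hS hF hP.2.1)).2 B hBF hBp hSB
  have hrec : F.IsReceptive (img P (autFun α)) := by rw [img_autFun]; exact FN.rec hS hF hP.2.1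
  obtain ⟨g, hg, hgα⟩ := receptive_extend hrec hαm
  have hNf : Nf S P (autFun α) = S := by
    apply le_antisymm Nf_le
    intro s hs
    have hsN := h.normalizer hP.1 hs
    set c := conjAut P s hsN with hc
    have hcF : c ∈ F.autGroup P := autInducedBy_le hPS le_rfl (conjAut_mem hsN hs)
    have hmem : α * c * α⁻¹ ∈ B := by
      have key : ∀ x ∈ P, ∃ k : ℤ, autFun (α * c * α⁻¹) x = x * z' ^ k := by
        intro x hx
        have hx' := autFun_mem α⁻¹ hx
        obtain ⟨k, hk⟩ := h.conj hs (hPS hx')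
        refine ⟨k, ?_⟩
        rw [autFun_mul _ _ hx, autFun_mul _ _ hx', hc, autFun_conjAut hsN hx', hk,
          hαm.mul hx' (zpow_mem hzP k), hαm.zpow hzP, autFun_apply_inv _ hx]
      refine ⟨mul_mem (mul_mem hα hcF) (inv_mem hα), ?_, fun x hx => ?_, fun x hx => ?_⟩
      · rw [autFun_mul _ _ hz'P, hz', autFun_inv_apply _ hzP, autFun_mul _ _ hzP, hc,
          autFun_conjAut hsN hzP, h.zc s hs]
        congr 1; group
      · obtain ⟨k, hk⟩ := key x (hZP hx)
        rw [hk, inv_mul_cancel_left]; exact ⟨k, rfl⟩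
      · obtain ⟨k, hk⟩ := key x hx
        rw [hk, inv_mul_cancel_left]; exact zpow_mem hz k
    obtain ⟨t, ht, h1⟩ := mem_autInducedBy'.1 (hle hmem)
    refine mem_Nf.2 ⟨hs, hsN, t, ht, fun x hx => ?_⟩
    have h2 := h1 _ (autFun_mem α hx)
    rw [autFun_mul _ _ (autFun_mem α hx), autFun_inv_apply _ hx, autFun_mul _ _ hx, hc,
      autFun_conjAut hsN hx] at h2
    exact h2
  rw [hNf] at hg
  obtain ⟨γ, hγ, hγg⟩ := hg.exists_aut (isConj_top hg.isConj)
  exact ⟨γ, hγ, fun x hx => (hγg x (hPS hx)).trans (hgα x hx)⟩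

end

end Cfsg.Agent.H28
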