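import Mathlib
import Cfsg.Prelude.Def_FusionSystem
import Cfsg.Agent.H28.Tvec2

/-!
`p`-groups with central derived subgroup of order `p`, `p` odd: the conclusion.
-/

set_option autoImplicit false
open Cfsg Cfsg.FusionSystem

namespace Cfsg.Agent.H28

universe u

theorem aut_top_inner' {Ω : Type*} [Group Ω] {S : Subgroup Ω} {F : FusionSystem S} {p : ℕ} [Fact p.Prime] [Finite S]
    (hS : IsPGroup p S) (hF : F.IsSaturated p)
    {α : MulAut S} (hα : α ∈ F.autGroup S) {n : ℕ} (hn : α ^ p ^ n = 1) : α ∈ autInducedBy S S := by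
  have hfa : F.IsFullyAutomized p S := FN.fa hS hF fullyNormalized_top
  have h1 : IsPGroup p (Subgroup.zpowers α) := isPGroup_zpowers_of_pow hn
  obtain ⟨β, hβ, h2⟩ := exists_conj_le_autInduced hfa (T := Subgroup.zpowers α)
    (by rw [Subgroup.zpowers_le]; exact hα) h1
  have h3 := h2 α (Subgroup.mem_zpowers α)
  obtain ⟨s, hs, h4⟩ := mem_autInducedBy'.1 h3
  rw [mem_autInducedBy']
  refine ⟨autFun β⁻¹ s, autFun_mem _ hs, fun x hx => ?_⟩
  have h5 := h4 _ (autFun_mem β hx)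
  rw [autFun_mul _ _ (autFun_mem _ hx), autFun_mul _ _ (autFun_mem _ (autFun_mem _ hx)), autFun_inv_apply _ hx] at h5
  have h6 : autFun α x = autFun β⁻¹ (autFun β (autFun α x)) := (autFun_inv_apply _ (autFun_mem _ hx)).symm
  rw [h6, h5]
  have hm : Mor F S (autFun β⁻¹) := mor_autFun le_rfl (inv_mem hβ)
  rw [hm.conj hs (autFun_mem _ hx), autFun_inv_apply _ hx]

section
variable {Ω : Type u} [Group Ω] {S : Subgroup Ω} {F : FusionSystem S} {P Q C : Subgroup Ω} {p : ℕ}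
  {z : Ω} {f : Ω → Ω} [hp : Fact p.Prime] [Finite S] (hS : IsPGroup p S) (hF : F.IsSaturated p)
  (h : CT S p z)
include hS hF h

theorem CT.getJ (hP : F.IsEssential p P) {β : MulAut P} (hβ : β ∈ F.autGroup P) {s₀ : Ω} (hs₀ : s₀ ∈ S)
    (hs₀P : s₀ ∉ P) (h1 : autFun β z ∉ ZS S) (h2 : autFun β⁻¹ z ∉ ZS S) :
    ∃ γ ∈ F.autGroup S, autFun γ z = z⁻¹ ∧ (∀ x ∈ ZS S, autFun β⁻¹ x ∈ ZS S → autFun γ x = x) ∧
      ∀ x ∈ ZS S, ∃ i : ℤ, autFun β⁻¹ (x * z ^ i) ∈ ZS S := by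
  have hPS := hP.1.1
  have hab := h.ess_abelian hS hF hP
  have hZP : ZS S ≤ P := h.zs_le hP.1
  have hzP : z ∈ P := hZP h.mem
  have hsN := h.normalizer hP.1 hs₀
  have hβm := mor_autFun hPS hβ
  have hβim := mor_autFun hPS (inv_mem hβ)
  set t := conjAut P s₀ hsN with ht
  have htF : t ∈ F.autGroup P := autInducedBy_le hPS le_rfl (conjAut_mem hsN hs₀)
  have htc : ∀ x (hx : x ∈ P), t ⟨x, hx⟩ = ⟨s₀ * x * s₀⁻¹, by
      have := (t ⟨x, hx⟩).2
      rwa [conjAut_apply hsN ⟨x, hx⟩] at this⟩ := fun x hx => Subtype.ext (conjAut_apply hsN ⟨x, hx⟩)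
  set zP : P := ⟨z, hzP⟩ with hzPd
  have hz'P : autFun β z ∈ P := autFun_mem β hzP
  have hziP : autFun β⁻¹ z ∈ P := autFun_mem β⁻¹ hzP
  obtain ⟨a, ha⟩ := h.conj hs₀ (hPS hz'P)
  obtain ⟨b, hb⟩ := h.conj hs₀ (hPS hziP)
  have hca : ¬ (p : ℤ) ∣ a := by
    intro hd
    apply h1
    rw [h.zpow_iff.2 hd, mul_one] at ha
    apply h.central_of hS hF hP hs₀ hs₀P hz'P
    calc s₀ * autFun β z = (s₀ * autFun β z * s₀⁻¹) * s₀ := by group
      _ = _ := by rw [ha]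
  have hcb : ¬ (p : ℤ) ∣ b := by
    intro hd
    apply h2
    rw [h.zpow_iff.2 hd, mul_one] at hb
    apply h.central_of hS hF hP hs₀ hs₀P hziP
    calc s₀ * autFun β⁻¹ z = (s₀ * autFun β⁻¹ z * s₀⁻¹) * s₀ := by group
      _ = _ := by rw [hb]
  have e0 : zP ^ p = 1 := Subtype.ext h.zp
  have etz : t zP = zP := by
    rw [hzPd, htc]
    apply Subtype.ext
    show s₀ * z * s₀⁻¹ = z
    rw [h.zc s₀ hs₀]; group
  have eβz : ((β zP : P) : Ω) = autFun β z := (autFun_apply β hzP).symm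
  have eβiz : ((β⁻¹ zP : P) : Ω) = autFun β⁻¹ z := (autFun_apply β⁻¹ hzP).symm
  have k1 : t (β zP) = β zP * zP ^ a := by
    have e : β zP = ⟨autFun β z, hz'P⟩ := Subtype.ext eβz
    rw [e, htc]
    exact Subtype.ext ha
  have k2 : (β * t * β⁻¹) zP = zP * (β zP) ^ b := by
    have e : β⁻¹ zP = ⟨autFun β⁻¹ z, hziP⟩ := Subtype.ext eβiz
    have e2 : t (β⁻¹ zP) = β⁻¹ zP * zP ^ b := by
      rw [e, htc]
      exact Subtype.ext hb
    rw [MulAut.mul_apply, MulAut.mul_apply, e2, map_mul, map_zpow, MulAut.apply_inv_self]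
  obtain ⟨j, hj, j1, j2, j3⟩ := sl2 (p := p) (fun x y : P => Subtype.ext (hab x x.2 y y.2)) htF
    (mul_mem (mul_mem hβ htF) (inv_mem hβ)) e0 (by rw [← map_pow, e0, map_one]) etz
    (by rw [MulAut.mul_apply, MulAut.mul_apply, MulAut.inv_apply_self, etz]) k1 k2 hca hcb
  have jz : autFun j z = z⁻¹ := by
    rw [autFun_apply j hzP]
    exact congrArg Subtype.val j1
  obtain ⟨γ, hγ, hγj⟩ := h.extend hS hF hP hj (by rw [jz]; exact inv_mem h.mem)
  refine ⟨γ, hγ, by rw [hγj z hzP, jz], fun x hx hx' => ?_, fun x hx => ?_⟩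
  · have hxP := hZP hx
    rw [hγj x hxP, autFun_apply j hxP]
    have e1 : t ⟨x, hxP⟩ = ⟨x, hxP⟩ := by
      rw [htc]
      apply Subtype.ext
      show s₀ * x * s₀⁻¹ = x
      rw [(mem_ZS.1 hx).2 s₀ hs₀]; group
    have e3 : (β * t * β⁻¹) ⟨x, hxP⟩ = ⟨x, hxP⟩ := by
      have e4 : β⁻¹ ⟨x, hxP⟩ = ⟨autFun β⁻¹ x, autFun_mem β⁻¹ hxP⟩ :=
        Subtype.ext (autFun_apply β⁻¹ hxP).symm
      have e5 : t (β⁻¹ ⟨x, hxP⟩) = β⁻¹ ⟨x, hxP⟩ := by
        rw [e4, htc]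
        apply Subtype.ext
        show s₀ * autFun β⁻¹ x * s₀⁻¹ = autFun β⁻¹ x
        rw [(mem_ZS.1 hx').2 s₀ hs₀]; group
      rw [MulAut.mul_apply, MulAut.mul_apply, e5, MulAut.apply_inv_self]
    exact congrArg Subtype.val (j3 _ e1 e3)
  · have hxP := hZP hx
    have hxi := autFun_mem β⁻¹ hxP
    obtain ⟨e, he⟩ := h.conj hs₀ (hPS hxi)
    obtain ⟨k, hk⟩ := solve_mod hcb (-e)
    refine ⟨k, ?_⟩
    have hzk : z ^ (k : ℤ) ∈ P := zpow_mem hzP _
    have e1 : autFun β⁻¹ (x * z ^ (k : ℤ)) = autFun β⁻¹ x * (autFun β⁻¹ z) ^ (k : ℤ) := by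
      rw [hβim.mul hxP hzk, hβim.zpow hzP]
    have hmem : autFun β⁻¹ (x * z ^ (k : ℤ)) ∈ P := autFun_mem β⁻¹ (mul_mem hxP hzk)
    apply h.central_of hS hF hP hs₀ hs₀P hmem
    rw [e1]
    have hcz : Commute (autFun β⁻¹ z) z := h.zc _ (hPS hziP)
    have e2 : s₀ * (autFun β⁻¹ x * (autFun β⁻¹ z) ^ (k : ℤ)) * s₀⁻¹ =
        autFun β⁻¹ x * (autFun β⁻¹ z) ^ (k : ℤ) := by
      have e3 : s₀ * (autFun β⁻¹ x * (autFun β⁻¹ z) ^ (k : ℤ)) * s₀⁻¹ =
          (s₀ * autFun β⁻¹ x * s₀⁻¹) * (s₀ * autFun β⁻¹ z * s₀⁻¹) ^ (k : ℤ) := by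
        rw [conj_zpow]; group
      have hcz2 : Commute (autFun β⁻¹ z ^ (k : ℤ)) (z ^ e) := (hcz.zpow_left _).zpow_right _
      rw [e3, he, hb, (hcz.zpow_right b).mul_zpow, ← zpow_mul]
      calc autFun β⁻¹ x * z ^ e * (autFun β⁻¹ z ^ (k : ℤ) * z ^ (b * (k : ℤ)))
          = autFun β⁻¹ x * (z ^ e * autFun β⁻¹ z ^ (k : ℤ)) * z ^ (b * (k : ℤ)) := by group
        _ = autFun β⁻¹ x * (autFun β⁻¹ z ^ (k : ℤ) * z ^ e) * z ^ (b * (k : ℤ)) := by rw [hcz2.eq]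
        _ = autFun β⁻¹ x * autFun β⁻¹ z ^ (k : ℤ) * z ^ (e + b * (k : ℤ)) := by
            rw [zpow_add]; group
        _ = autFun β⁻¹ x * autFun β⁻¹ z ^ (k : ℤ) := by
            have : z ^ (e + b * (k : ℤ)) = 1 := by
              rw [h.zpow_iff]
              obtain ⟨c, hc⟩ := hk
              exact ⟨c, by linear_combination hc⟩
            rw [this, mul_one]
    calc s₀ * (autFun β⁻¹ x * (autFun β⁻¹ z) ^ (k : ℤ))
        = (s₀ * (autFun β⁻¹ x * (autFun β⁻¹ z) ^ (k : ℤ)) * s₀⁻¹) * s₀ := by group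
      _ = _ := by rw [e2]

omit hp in
theorem CT.zs_inv {γ : MulAut S} (hγ : γ ∈ F.autGroup S) {x : Ω} (hx : x ∈ ZS S) : autFun γ x ∈ ZS S := by
  obtain ⟨h1, h2⟩ := mem_ZS.1 hx
  have hγm := mor_autFun le_rfl hγ
  refine mem_ZS.2 ⟨autFun_mem γ h1, fun s hs => ?_⟩
  have h3 : s = autFun γ (autFun γ⁻¹ s) := (autFun_apply_inv γ hs).symm
  rw [h3, ← hγm.mul (autFun_mem _ hs) h1, h2 _ (autFun_mem _ hs), hγm.mul h1 (autFun_mem _ hs)]

theorem CT.ptriv {γ : MulAut S} (hγ : γ ∈ F.autGroup S) (hz : autFun γ z = z) {x : Ω} (hx : x ∈ ZS S)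
    (hc : x⁻¹ * autFun γ x ∈ Subgroup.zpowers z) : autFun γ x = x := by
  haveI : Finite (MulAut S) := finite_mulAut
  have hxS := (mem_ZS.1 hx).1
  obtain ⟨a, b, hab, hpb⟩ : ∃ a b : ℕ, orderOf γ = p ^ a * b ∧ ¬ p ∣ b := by
    have : orderOf γ ≠ 0 := (orderOf_pos γ).ne'
    obtain ⟨a, b, h1, h2⟩ := Nat.exists_eq_pow_mul_and_not_dvd this p hp.out.ne_one
    exact ⟨a, b, h2, h1⟩
  have hcop : Nat.Coprime b p := ((Nat.Prime.coprime_iff_not_dvd hp.out).2 hpb).symm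
  obtain ⟨c, hc0, hc1⟩ := Nat.chineseRemainder hcop 0 1
  obtain ⟨d, hd⟩ := (Nat.modEq_zero_iff_dvd).1 hc0
  have h1 : (γ ^ c) ^ p ^ a = 1 := by
    rw [hd, ← pow_mul]
    have : b * d * p ^ a = (p ^ a * b) * d := by ring
    rw [this, ← hab, pow_mul, pow_orderOf_eq_one, one_pow]
  obtain ⟨s, hs, h2⟩ := mem_autInducedBy'.1 (aut_top_inner' hS hF (pow_mem hγ c) h1)
  have h3 := h2 x hxS
  obtain ⟨k, hk⟩ := hc
  have hk' : z ^ k = x⁻¹ * autFun γ x := hk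
  have hγm := mor_autFun le_rfl hγ
  have hzk : z ^ k ∈ S := zpow_mem h.zS k
  have h4 : autFun γ x = x * z ^ k := by rw [hk', mul_inv_cancel_left]
  have h5 : autFun γ (z ^ k) = z ^ k := by rw [hγm.zpow h.zS, hz]
  rw [autFun_pow_of_fix hxS hzk h4 h5, (mem_ZS.1 hx).2 s hs] at h3
  have h6 : z ^ (k * c) = 1 := by
    rw [zpow_mul, zpow_natCast]
    have h7 : x * (z ^ k) ^ c = x := by rw [h3]; group
    exact mul_eq_left.1 h7
  rw [h.zpow_iff] at h6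
  have h8 : ¬ (p : ℤ) ∣ (c : ℤ) := by
    intro hd
    have h9 : p ∣ c := by exact_mod_cast hd
    have h10 : c % p = 1 % p := hc1
    rw [Nat.mod_eq_zero_of_dvd h9, Nat.mod_eq_of_lt hp.out.one_lt] at h10
    omega
  have h9 := ((Nat.prime_iff_prime_int.1 hp.out).dvd_or_dvd h6).resolve_right h8
  rw [h4, h.zpow_iff.2 h9, mul_one]

/-- `Aut_F(S)` commutes with `j` on the centre. -/
theorem CT.jcomm (hna : ∃ x ∈ S, ∃ y ∈ S, x * y ≠ y * x) {γ α : MulAut S} (hγ : γ ∈ F.autGroup S)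
    (hα : α ∈ F.autGroup S) (hz : autFun γ z = z⁻¹)
    (hγc : ∀ x ∈ ZS S, x⁻¹ * autFun γ x ∈ Subgroup.zpowers z) {x : Ω} (hx : x ∈ ZS S)
    (hfx : autFun γ x = x) : autFun γ (autFun α x) = autFun α x := by
  have hxS := (mem_ZS.1 hx).1
  have hαm := mor_autFun le_rfl hα
  have hγm := mor_autFun le_rfl hγ
  have hαz := (h.inv le_rfl hna hαm (Subgroup.mem_zpowers z)).2
  obtain ⟨m, hm⟩ := hαz
  have hm' : z ^ m = autFun α z := hm
  set δ := (α * γ)⁻¹ * (γ * α) with hδ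
  have hαγ : α * γ ∈ F.autGroup S := mul_mem hα hγ
  have hδF : δ ∈ F.autGroup S := mul_mem (inv_mem hαγ) (mul_mem hγ hα)
  have h1 : ∀ y ∈ S, autFun δ y = autFun (α * γ)⁻¹ (autFun γ (autFun α y)) := by
    intro y hy
    rw [hδ, autFun_mul _ _ hy, autFun_mul _ _ hy]
  have h2 : ∀ y ∈ S, autFun (α * γ)⁻¹ (autFun α (autFun γ y)) = y := by
    intro y hy
    rw [← autFun_mul _ _ hy, autFun_inv_apply _ hy]
  have hδz : autFun δ z = z := by
    rw [h1 z h.zS, ← hm', hγm.zpow h.zS, hz]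
    have h3 : (z⁻¹) ^ m = autFun α (autFun γ z) := by
      rw [hz, hαm.inv h.zS, ← hm', inv_zpow]
    rw [h3, h2 z h.zS]
  have hδx : x⁻¹ * autFun δ x ∈ Subgroup.zpowers z := by
    obtain ⟨i, hi⟩ := hγc _ (h.zs_inv hS hF hα hx)
    have hi' : z ^ i = (autFun α x)⁻¹ * autFun γ (autFun α x) := hi
    have h3 : autFun γ (autFun α x) = autFun α (autFun γ x) * z ^ i := by
      rw [hi', hfx, mul_inv_cancel_left]
    have hm1 := mor_autFun (F := F) le_rfl (inv_mem hαγ)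
    rw [h1 x hxS, h3, hm1.mul (autFun_mem _ (autFun_mem _ hxS)) (zpow_mem h.zS i), h2 x hxS,
      inv_mul_cancel_left]
    exact (h.inv le_rfl hna hm1 ⟨i, rfl⟩).2
  have h4 := h.ptriv hS hF hδF hδz hx hδx
  rw [h1 x hxS] at h4
  have h5 := congrArg (autFun (α * γ)) h4
  rw [autFun_apply_inv _ (autFun_mem _ (autFun_mem _ hxS)), autFun_mul _ _ hxS, hfx] at h5
  exact h5

omit hS hF in
theorem CT.sq (hp2 : Odd p) {i : ℤ} (hi : z ^ (2 * i) = 1) : z ^ i = 1 := by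
  rw [h.zpow_iff] at hi ⊢
  refine ((Nat.prime_iff_prime_int.1 hp.out).dvd_or_dvd hi).resolve_left fun hd => ?_
  have h1 : p ∣ 2 := by exact_mod_cast hd
  have h2 := (Nat.prime_dvd_prime_iff_eq hp.out Nat.prime_two).1 h1
  rw [h2] at hp2
  exact absurd hp2 (by decide)

omit hS hF hp in
theorem img_of_maps (hPS : P ≤ S) (hQP : Q ≤ P) {α : MulAut P} (hα : α ∈ F.autGroup P)
    (hm : ∀ w ∈ Q, autFun α w ∈ Q) : img Q (autFun α) = Q := by
  haveI : Finite Q := finite_of_le (hQP.trans hPS)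
  apply eq_of_le_of_card (img_le_iff.2 hm)
  rw [((mor_autFun hPS hα).mono hQP).card_img]

/-- The main contradiction. -/
theorem CT.false (hp2 : Odd p) (hna : ∃ x ∈ S, ∃ y ∈ S, x * y ≠ y * x) {w : Ω} (hw : w ∈ ZS S)
    (hwz : w ∉ Subgroup.zpowers z) (hO : F.core = ⊥) : False := by
  have hzS : Subgroup.zpowers z ≤ S := by rw [Subgroup.zpowers_le]; exact h.zS
  have hinvS : ∀ α ∈ F.autGroup S, ∀ u ∈ Subgroup.zpowers z, autFun α u ∈ Subgroup.zpowers z :=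
    fun α hα u hu => (h.inv le_rfl hna (mor_autFun le_rfl hα) hu).2
  -- existence of `j`
  have hJ : ∃ γ ∈ F.autGroup S, autFun γ z = z⁻¹ ∧ ∀ x ∈ ZS S, x⁻¹ * autFun γ x ∈ Subgroup.zpowers z := by
    by_contra hcon
    have hess : ∀ P, F.IsEssential p P → ∀ β ∈ F.autGroup P, autFun β z ∈ ZS S ∨ autFun β⁻¹ z ∈ ZS S := by
      intro P hP β hβ
      by_contra h12
      push Not at h12
      obtain ⟨s₀, hs₀, hs₀P⟩ := SetLike.exists_of_lt (essential_lt hS hF hP)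
      obtain ⟨γ, hγ, g1, g2, g3⟩ := h.getJ hS hF hP hβ hs₀ hs₀P h12.1 h12.2
      apply hcon
      refine ⟨γ, hγ, g1, fun x hx => ?_⟩
      obtain ⟨i, hi⟩ := g3 x hx
      have hγm := mor_autFun le_rfl hγ
      have hzi : z ^ i ∈ ZS S := zpow_mem h.mem i
      have h1 := g2 _ (mul_mem hx hzi) hi
      rw [hγm.mul (mem_ZS.1 hx).1 (zpow_mem h.zS i), hγm.zpow h.zS, g1] at h1
      refine ⟨2 * i, ?_⟩
      show z ^ (2 * i) = _
      rw [inv_zpow'] at h1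
      have h2 : autFun γ x = x * z ^ (2 * i) := by
        calc autFun γ x = (autFun γ x * z ^ (-i)) * z ^ i := by group
          _ = x * z ^ (2 * i) := by rw [h1, mul_assoc, ← zpow_add]; congr 2; ring
      rw [h2, inv_mul_cancel_left]
    apply h.z1
    have hn : F.IsNormal (Subgroup.zpowers z) := by
      apply normal_of_essential hS hF
      rintro P (rfl | hP)
      · exact ⟨hzS, fun α hα => img_of_maps h le_rfl hzS hα (hinvS α hα)⟩
      · have hzP : Subgroup.zpowers z ≤ P := h.zpow_le.trans (h.zs_le hP.1)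
        refine ⟨hzP, fun α hα => img_of_maps h hP.1.1 hzP hα fun u hu => ?_⟩
        rcases hess P hP α hα with h1 | h1
        · obtain ⟨γ, hγ, hγα⟩ := h.extend hS hF hP hα h1
          rw [← hγα u (hzP hu)]
          exact hinvS γ hγ u hu
        · obtain ⟨γ, hγ, hγα⟩ := h.extend hS hF hP (inv_mem hα) h1
          have h2 := hinvS _ (inv_mem hγ) u hu
          have h3 := hγα _ (hzP h2)
          rw [autFun_apply_inv _ (hzS hu)] at h3
          rw [h3, autFun_apply_inv _ (hzP h2)]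
          exact h2
    have h1 := le_core hn (Subgroup.mem_zpowers z)
    rw [hO, Subgroup.mem_bot] at h1
    exact h1
  obtain ⟨γ₀, hγ₀, j1, j2⟩ := hJ
  have hγ₀m := mor_autFun le_rfl hγ₀
  -- the complement
  let C : Subgroup Ω :=
    { carrier := {x | x ∈ ZS S ∧ autFun γ₀ x = x}
      one_mem' := ⟨one_mem _, hγ₀m.one⟩
      mul_mem' := by
        rintro a b ⟨a1, a2⟩ ⟨b1, b2⟩
        exact ⟨mul_mem a1 b1, by rw [hγ₀m.mul (mem_ZS.1 a1).1 (mem_ZS.1 b1).1, a2, b2]⟩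
      inv_mem' := by
        rintro a ⟨a1, a2⟩
        exact ⟨inv_mem a1, by rw [hγ₀m.inv (mem_ZS.1 a1).1, a2]⟩ }
  have hCZ : C ≤ ZS S := fun x hx => hx.1
  have hZSS : ZS S ≤ S := fun x hx => (mem_ZS.1 hx).1
  have hCinv : ∀ α ∈ F.autGroup S, ∀ x ∈ C, autFun α x ∈ C := fun α hα x hx =>
    ⟨h.zs_inv hS hF hα hx.1, h.jcomm hS hF hna hγ₀ hα j1 j2 hx.1 hx.2⟩
  have hC1 : ∀ i : ℤ, z ^ i ∈ C → z ^ i = 1 := by
    rintro i ⟨-, h1⟩
    rw [hγ₀m.zpow h.zS, j1, inv_zpow'] at h1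
    apply h.sq hp2
    have h2 : 2 * i = i - -i := by ring
    rw [h2, zpow_sub, h1, mul_inv_cancel]
  have hC2 : ∀ x ∈ ZS S, ∃ i : ℤ, x * z ^ i ∈ C := by
    intro x hx
    obtain ⟨e, he⟩ := j2 x hx
    have he' : z ^ e = x⁻¹ * autFun γ₀ x := he
    have h2 : ¬ (p : ℤ) ∣ 2 := by
      intro hd
      have h1 : p ∣ 2 := by exact_mod_cast hd
      have h2 := (Nat.prime_dvd_prime_iff_eq hp.out Nat.prime_two).1 h1
      rw [h2] at hp2
      exact absurd hp2 (by decide)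
    obtain ⟨k, hk⟩ := solve_mod h2 e
    refine ⟨k, mul_mem hx (zpow_mem h.mem _), ?_⟩
    rw [hγ₀m.mul (hZSS hx) (zpow_mem h.zS _), hγ₀m.zpow h.zS, j1]
    have h3 : autFun γ₀ x = x * z ^ e := by rw [he', mul_inv_cancel_left]
    rw [h3, inv_zpow', mul_assoc, ← zpow_add]
    congr 1
    apply zpow_mod h.zp
    obtain ⟨c, hc⟩ := hk
    exact ⟨-c, by linear_combination -hc⟩
  have hJ2 : ∀ P, F.IsEssential p P → ∀ β ∈ F.autGroup P, autFun β z ∉ ZS S → autFun β⁻¹ z ∉ ZS S →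
      ∀ x ∈ C, autFun β⁻¹ x ∈ ZS S := by
    intro P hP β hβ h1 h2 x hx
    obtain ⟨s₀, hs₀, hs₀P⟩ := SetLike.exists_of_lt (essential_lt hS hF hP)
    obtain ⟨γ, hγ, g1, g2, g3⟩ := h.getJ hS hF hP hβ hs₀ hs₀P h1 h2
    have hγm := mor_autFun le_rfl hγ
    obtain ⟨i, hi⟩ := g3 x hx.1
    have hzi : z ^ i ∈ ZS S := zpow_mem h.mem i
    have h3 := g2 _ (mul_mem hx.1 hzi) hi
    rw [hγm.mul (hZSS hx.1) (zpow_mem h.zS i), hγm.zpow h.zS, g1, inv_zpow'] at h3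
    have h4 : autFun γ x = x * z ^ (2 * i) := by
      calc autFun γ x = (autFun γ x * z ^ (-i)) * z ^ i := by group
        _ = x * z ^ (2 * i) := by rw [h3, mul_assoc, ← zpow_add]; congr 2; ring
    have h5 : z ^ (2 * i) ∈ C := by
      have := mul_mem (inv_mem hx) (hCinv γ hγ x hx)
      rwa [h4, inv_mul_cancel_left] at this
    have h6 := h.sq hp2 (hC1 _ h5)
    rw [h6, mul_one] at hi
    exact hi
  have hCn : F.IsNormal C := by
    apply normal_of_essential hS hF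
    rintro P (rfl | hP)
    · exact ⟨hCZ.trans hZSS, fun α hα => img_of_maps h le_rfl (hCZ.trans hZSS) hα (hCinv α hα)⟩
    · have hPS := hP.1.1
      have hZP : ZS S ≤ P := h.zs_le hP.1
      have hCP : C ≤ P := hCZ.trans hZP
      refine ⟨hCP, fun β hβ => img_of_maps h hPS hCP hβ fun c hc => ?_⟩
      by_cases h1 : autFun β z ∈ ZS S
      · obtain ⟨γ, hγ, hγα⟩ := h.extend hS hF hP hβ h1
        rw [← hγα c (hCP hc)]
        exact hCinv γ hγ c hc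
      by_cases h2 : autFun β⁻¹ z ∈ ZS S
      · obtain ⟨γ, hγ, hγα⟩ := h.extend hS hF hP (inv_mem hβ) h2
        have h3 := hCinv _ (inv_mem hγ) c hc
        have h4 := hγα _ (hCP h3)
        rw [autFun_apply_inv _ (hZSS (hCZ hc))] at h4
        rw [h4, autFun_apply_inv _ (hCP h3)]
        exact h3
      -- the general case
      have hc1 : autFun β c ∈ ZS S := by
        have := hJ2 P hP β⁻¹ (inv_mem hβ) h2 (by rwa [inv_inv]) c hc
        rwa [inv_inv] at this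
      obtain ⟨s₀, hs₀, hs₀P⟩ := SetLike.exists_of_lt (essential_lt hS hF hP)
      obtain ⟨γ, hγ, g1, g2, g3⟩ := h.getJ hS hF hP hβ hs₀ hs₀P h1 h2
      have hγm := mor_autFun le_rfl hγ
      have h3 : autFun γ (autFun β c) = autFun β c := by
        apply g2 _ hc1
        rw [autFun_inv_apply _ (hCP hc)]
        exact hc.1
      obtain ⟨i, hi⟩ := hC2 _ hc1
      have h4 : autFun γ (autFun β c * z ^ i) = autFun β c * z ^ i :=
        g2 _ hi.1 (hJ2 P hP β hβ h1 h2 _ hi)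
      rw [hγm.mul (hZSS hc1) (zpow_mem h.zS i), h3, hγm.zpow h.zS, g1, inv_zpow'] at h4
      have h5 := mul_left_cancel h4
      have h6 : z ^ (2 * i) = 1 := by
        have h7 : 2 * i = i - -i := by ring
        rw [h7, zpow_sub, h5, mul_inv_cancel]
      rw [h.sq hp2 h6, mul_one] at hi
      exact hi
  apply hwz
  obtain ⟨i, hi⟩ := hC2 w hw
  have h1 := le_core hCn hi
  rw [hO, Subgroup.mem_bot] at h1
  refine ⟨-i, ?_⟩
  show z ^ (-i) = w
  rw [zpow_neg]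
  exact (eq_inv_of_mul_eq_one_left h1).symm

end

end Cfsg.Agent.H28
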