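import Mathlib
import Cfsg.Prelude.Def_FusionSystem
import Cfsg.Prelude.Def_FusionReduction
import Cfsg.Agent.H28.GMach2
import Cfsg.Agent.H28.Tate2
import Cfsg.Agent.H28.HypSub
import Cfsg.Agent.H13.FusMore

/-!
Weakly embedded subgroups of one order.
-/

set_option autoImplicit false
open Cfsg Cfsg.FusionSystem

namespace Cfsg.Agent.H28

universe u

section
variable {Ω : Type u} [Group Ω] {S T : Subgroup Ω} {F : FusionSystem S} {P Q R H : Subgroup Ω}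
  {f g : Ω → Ω} {p d : ℕ}

theorem mem_sup_n {A B : Subgroup Ω} (h : ∀ b ∈ B, ∀ a ∈ A, b * a * b⁻¹ ∈ A) {x : Ω} (hx : x ∈ A ⊔ B) :
    ∃ a ∈ A, ∃ b ∈ B, a * b = x := by
  let K : Subgroup Ω :=
    { carrier := {x | ∃ a ∈ A, ∃ b ∈ B, a * b = x}
      mul_mem' := by
        rintro _ _ ⟨a, ha, b, hb, rfl⟩ ⟨a', ha', b', hb', rfl⟩
        exact ⟨a * (b * a' * b⁻¹), A.mul_mem ha (h b hb a' ha'), b * b', B.mul_mem hb hb', by
          simp [mul_assoc]⟩
      one_mem' := ⟨1, A.one_mem, 1, B.one_mem, by simp⟩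
      inv_mem' := by
        rintro _ ⟨a, ha, b, hb, rfl⟩
        refine ⟨b⁻¹ * a⁻¹ * b⁻¹⁻¹, h _ (B.inv_mem hb) _ (A.inv_mem ha), b⁻¹, B.inv_mem hb, ?_⟩
        simp [mul_assoc] }
  have : A ⊔ B ≤ K := sup_le (fun a ha => ⟨a, ha, 1, B.one_mem, by simp⟩)
    (fun b hb => ⟨1, A.one_mem, b, hb, by simp⟩)
  exact this hx

/-- A member of largest order. -/
theorem exists_max [Finite S] {Pr : Subgroup Ω → Prop} (hle : ∀ U, Pr U → U ≤ S) {U₀ : Subgroup Ω}
    (h₀ : Pr U₀) : ∃ U, Pr U ∧ ∀ V, Pr V → Nat.card V ≤ Nat.card U := by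
  classical
  have hex : ∃ n, ∃ U, Pr U ∧ Nat.card S - Nat.card U = n := ⟨_, U₀, h₀, rfl⟩
  obtain ⟨U, hU, hn⟩ := Nat.find_spec hex
  refine ⟨U, hU, fun V hV => ?_⟩
  have h1 := Nat.find_min' hex ⟨V, hV, rfl⟩
  rw [← hn] at h1
  have h2 := card_le_of_le (hle U hU)
  have h3 := card_le_of_le (hle V hV)
  omega

/-- A member of smallest order. -/
theorem exists_min {Pr : Subgroup Ω → Prop} {U₀ : Subgroup Ω}
    (h₀ : Pr U₀) : ∃ U, Pr U ∧ ∀ V, Pr V → Nat.card U ≤ Nat.card V := by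
  classical
  have hex : ∃ n, ∃ U, Pr U ∧ Nat.card U = n := ⟨_, U₀, h₀, rfl⟩
  obtain ⟨U, hU, hn⟩ := Nat.find_spec hex
  refine ⟨U, hU, fun V hV => ?_⟩
  have h1 := Nat.find_min' hex ⟨V, hV, rfl⟩
  rwa [← hn] at h1

/-- Subgroups of intermediate order. -/
theorem exists_between [Fact p.Prime] [Finite S] (hS : IsPGroup p S) {U V : Subgroup Ω} (hUV : U ≤ V)
    (hVS : V ≤ S) (h1 : Nat.card U ≤ p ^ d) (h2 : p ^ d ≤ Nat.card V) :
    ∃ Q, U ≤ Q ∧ Q ≤ V ∧ Nat.card Q = p ^ d := by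
  have hp1 := (Fact.out : p.Prime).one_lt
  haveI : Finite V := finite_of_le hVS
  haveI : Finite U := finite_of_le hUV
  obtain ⟨a, ha⟩ := IsPGroup.iff_card.1 (isPGroup_of_le hS (hUV.trans hVS))
  obtain ⟨b, hb⟩ := IsPGroup.iff_card.1 (isPGroup_of_le hS hVS)
  rw [ha] at h1
  rw [hb] at h2
  have h3 := (Nat.pow_le_pow_iff_right hp1).1 h1
  have h4 := (Nat.pow_le_pow_iff_right hp1).1 h2
  have hUc : Nat.card (U.subgroupOf V) = p ^ a := by
    rw [Nat.card_congr (Subgroup.subgroupOfEquivOfLe hUV).toEquiv, ha]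
  obtain ⟨K, hK, hUK⟩ := Sylow.exists_subgroup_card_pow_prime_le (p := p) (n := a) (m := d)
    (by rw [hb]; exact pow_dvd_pow p h4) (U.subgroupOf V) hUc h3
  refine ⟨K.map V.subtype, ?_, Subgroup.map_subtype_le _, ?_⟩
  · intro u hu
    exact ⟨⟨u, hUV hu⟩, hUK hu, rfl⟩
  · rw [Subgroup.card_map_of_injective V.subtype_injective, hK]

/-- The chain lemma. -/
theorem lemA [Fact p.Prime] [Finite S] (hS : IsPGroup p S) {L : Subgroup Ω → Prop}
    (hle : ∀ U, L U → U ≤ S) (hn : ∀ U, L U → ∀ s ∈ S, ∀ u ∈ U, s * u * s⁻¹ ∈ U)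
    (hsup : ∀ U V, L U → L V → L (U ⊔ V)) (hinf : ∀ U V, L U → L V → L (U ⊓ V)) {U₀ : Subgroup Ω}
    (hU₀ : L U₀)
    (hW : ∀ Q ≤ S, Nat.card Q = p ^ d → ∃ A, L A ∧ L (Q ⊔ A) ∧ L (Q ⊓ A)) {T' : Subgroup Ω}
    (hT' : L T') (hU₀T : U₀ ≤ T') (hc₀ : Nat.card U₀ ≤ p ^ d) (hc : p ^ d ≤ Nat.card T') :
    ∃ H, L H ∧ U₀ ≤ H ∧ H ≤ T' ∧ Nat.card H = p ^ d := by
  haveI : Finite T' := finite_of_le (hle _ hT')
  obtain ⟨U, ⟨hU, hUT, hUc, hU₀U⟩, hUmax⟩ := exists_max (S := S)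
    (Pr := fun U => L U ∧ U ≤ T' ∧ Nat.card U ≤ p ^ d ∧ U₀ ≤ U) (fun U hU => hle U hU.1)
    ⟨hU₀, hU₀T, hc₀, le_rfl⟩
  rcases eq_or_lt_of_le hUc with h1 | h1
  · exact ⟨U, hU, hU₀U, hUT, h1⟩
  exfalso
  have hUT' : U < T' := lt_of_le_of_ne hUT fun h => by rw [h] at h1; omega
  obtain ⟨V, ⟨hV, hUV, hVT⟩, hVmin⟩ := exists_min (Pr := fun V => L V ∧ U < V ∧ V ≤ T')
    ⟨hT', hUT', le_rfl⟩
  have hVS := hle V hV
  haveI : Finite V := finite_of_le hVS
  have hVc : p ^ d < Nat.card V := by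
    by_contra hcon
    push Not at hcon
    have h2 := hUmax V ⟨hV, hVT, hcon, hU₀U.trans hUV.le⟩
    exact absurd (card_lt_of_lt' hUV) (not_lt.2 h2)
  have hVm : ∀ W, L W → U ≤ W → W ≤ V → W ≠ V → W = U := by
    intro W hW hUW hWV hne
    by_contra hne'
    have h2 := hVmin W ⟨hW, lt_of_le_of_ne hUW (Ne.symm hne'), hWV.trans hVT⟩
    have h3 := card_lt_of_lt' (lt_of_le_of_ne hWV hne)
    omega
  obtain ⟨Q, hUQ, hQV, hQc⟩ := exists_between (d := d) hS hUV.le hVS h1.le hVc.le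
  have hQS := hQV.trans hVS
  haveI : Finite Q := finite_of_le hQS
  have hQV' : Q ≠ V := fun h => by rw [h] at hQc; omega
  obtain ⟨A, hA, hQA, hQiA⟩ := hW Q hQS hQc
  -- `Q ∩ A ≤ U`
  have h2 : Q ⊓ A ≤ U := by
    have h3 := hVm _ (hsup _ _ hQiA hU) le_sup_right
      (sup_le (inf_le_left.trans hQV) hUV.le) (fun h => hQV' (le_antisymm hQV (by
        rw [← h]; exact sup_le inf_le_left hUQ)))
    rw [← h3]; exact le_sup_left
  -- `V ≤ Q A`
  have h3 : V ≤ Q ⊔ A := by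
    by_contra hcon
    have h4 := hVm _ (hinf _ _ hQA hV) (le_inf (hUQ.trans le_sup_left) hUV.le) inf_le_right
      (fun h => hcon (by rw [← h]; exact inf_le_left))
    have h5 : Q ≤ U := by
      rw [← h4]; exact le_inf le_sup_left hQV
    have h6 : Q = U := le_antisymm h5 hUQ
    rw [h6] at hQc; omega
  -- `V = (A ∩ V) U`
  by_cases h4 : (A ⊓ V) ⊔ U = V
  · apply h1.ne
    have h5 : Q ≤ U := by
      intro q hq
      have h6 : q ∈ (A ⊓ V) ⊔ U := by rw [h4]; exact hQV hq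
      obtain ⟨a, ha, u, hu, e⟩ := mem_sup_n (A := A ⊓ V) (B := U)
        (fun b hb a ha => ⟨hn A hA b (hle U hU hb) a ha.1, hn V hV b (hle U hU hb) a ha.2⟩) h6
      have h7 : a ∈ Q := by
        have : a = q * u⁻¹ := by rw [← e]; group
        rw [this]; exact mul_mem hq (inv_mem (hUQ hu))
      rw [← e]
      exact mul_mem (h2 ⟨h7, ha.1⟩) hu
    rw [← hQc, le_antisymm h5 hUQ]
  · have h5 := hVm _ (hsup _ _ (hinf _ _ hA hV) hU) le_sup_right (sup_le inf_le_right hUV.le) h4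
    have h6 : A ⊓ V ≤ Q := by
      have : A ⊓ V ≤ U := by rw [← h5]; exact le_sup_left
      exact this.trans hUQ
    apply hQV'
    apply le_antisymm hQV
    intro v hv
    have hv' := h3 hv
    rw [sup_comm] at hv'
    obtain ⟨a, ha, q, hq, e⟩ := mem_sup_n (fun b hb a ha => hn A hA b (hQS hb) a ha) hv'
    have h7 : a ∈ V := by
      have : a = v * q⁻¹ := by rw [← e]; group
      rw [this]; exact mul_mem hv (inv_mem (hQV hq))
    rw [← e]
    exact mul_mem (h6 ⟨ha, h7⟩) hq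

theorem coprime_pow_eq {G : Type*} [Group G] [Finite G] {a : G} (ha : (orderOf a).Coprime p) (m : ℕ) :
    ∃ l : ℕ, (a ^ p ^ m) ^ l = a := by
  obtain ⟨l, hl⟩ := exists_pow_eq_self_of_coprime (n := p ^ m) (x := a)
    (Nat.Coprime.pow_left m ha.symm)
  exact ⟨l, hl⟩

/-- The main local input: automorphisms congruent to conjugations. -/
theorem pprime_triv_mod [Fact p.Prime] [Finite S] (hS : IsPGroup p S) (hH : F.StronglyClosed H)
    (hP : P ≤ S) {γ : MulAut P} (hγ : γ ∈ F.autGroup P) (hc : (orderOf γ).Coprime p) {s : Ω}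
    (hs : s ∈ S) (h : ∀ x ∈ P, ∃ t ∈ H, autFun γ x = s * x * s⁻¹ * t) :
    ∀ x ∈ P, x⁻¹ * autFun γ x ∈ H := by
  haveI : Finite P := finite_of_le hP
  haveI : Finite (MulAut P) := finite_mulAut
  have hHn : ∀ s ∈ S, ∀ u ∈ H, s * u * s⁻¹ ∈ H := fun s hs u hu => sc_conj hH hs hu
  have hpow : ∀ k : ℕ, ∀ x ∈ P, ∃ t ∈ H, autFun (γ ^ k) x = s ^ k * x * (s ^ k)⁻¹ * t := by
    intro k
    induction k with
    | zero => intro x hx; exact ⟨1, one_mem _, by simp [autFun_one hx]⟩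
    | succ k ih =>
      intro x hx
      obtain ⟨t, ht, e⟩ := ih x hx
      obtain ⟨u, hu, e2⟩ := h _ (autFun_mem (γ ^ k) hx)
      refine ⟨s * t * s⁻¹ * u, mul_mem (hHn s hs t ht) hu, ?_⟩
      rw [pow_succ' γ, autFun_mul _ _ hx, e2, e, pow_succ' s]
      group
  obtain ⟨m, hm⟩ := isPGroup_pow_one hS hs
  have h1 : γ ^ p ^ m ∈ trivMod F H P hH hP := by
    refine mem_trivMod.2 ⟨pow_mem hγ _, fun x hx => ?_⟩
    obtain ⟨t, ht, e⟩ := hpow (p ^ m) x hx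
    rw [e, hm]
    have : x⁻¹ * (1 * x * 1⁻¹ * t) = t := by group
    rw [this]; exact ht
  obtain ⟨l, hl⟩ := coprime_pow_eq hc m
  have h2 : γ ∈ trivMod F H P hH hP := by
    rw [← hl]; exact pow_mem h1 l
  exact (mem_trivMod.1 h2).2

/-- reduction of `hyp ≤ H` to `p'`-elements -/
theorem hyp_le_of_pprime (hH : F.StronglyClosed H)
    (h : ∀ P ≤ S, ∀ γ ∈ F.autGroup P, (orderOf γ).Coprime p → ∀ x ∈ P, x⁻¹ * autFun γ x ∈ H) :
    F.hyperfocalSubgroup p ≤ H := by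
  rw [hyp_le_iff]
  intro P hP γ hγ
  have h1 : pResidual p (F.autGroup P) ≤ (trivMod F H P hH hP).subgroupOf (F.autGroup P) := by
    unfold pResidual
    rw [Subgroup.closure_le]
    intro a ha
    have ha' : (orderOf (a : MulAut P)).Coprime p := by
      rw [Subgroup.orderOf_coe]; exact ha
    exact (mem_trivMod (hT := hH) (hP := hP)).2 ⟨a.2, h P hP _ a.2 ha'⟩
  exact (mem_trivMod (hT := hH) (hP := hP)).1 (h1 hγ) |>.2

/-- Lemma B. -/
theorem lemB [Fact p.Prime] [Finite S] (hS : IsPGroup p S) (hF : F.IsSaturated p)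
    (hH : F.StronglyClosed H)
    (hN : ∀ P f, Mor (normSys F H hH.1) P f → ∃ s ∈ S, ∀ x ∈ P, f x = s * x * s⁻¹) :
    F.hyperfocalSubgroup p ≤ H := by
  apply hyp_le_of_pprime hH
  intro P hP γ hγ hc
  obtain ⟨g, hg, h1⟩ := mod_extend hS hF hH (mor_autFun hP hγ)
  have hgH : img H g = H := img_sc_eq hH hg le_sup_right
  have hHS : normalizerIn S H = S := le_antisymm normalizerIn_le fun s hs => ⟨hs, sc_normalizer hH hs⟩
  have hgN : Mor (normSys F H hH.1) (P ⊔ H) g := by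
    rw [mor_normSys]
    refine ⟨by rw [hHS]; exact hg.le, fun x hx => by rw [hHS]; exact hg.mem hx, g, ?_, fun x _ => rfl, hgH⟩
    rw [sup_assoc, sup_idem]; exact hg
  obtain ⟨s, hs, h2⟩ := hN _ g hgN
  refine pprime_triv_mod hS hH hP hγ hc hs fun x hx => ?_
  obtain ⟨t, ht, e⟩ := h1 x hx
  refine ⟨t⁻¹, inv_mem ht, ?_⟩
  rw [← h2 x (Subgroup.mem_sup_left hx), e]; group

theorem sc_bot [Finite S] : F.StronglyClosed ⊥ := normal_stronglyClosed isNormal_bot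

/-- `Aut_F(S)` is a `p`-group. -/
theorem top_inner [Fact p.Prime] [Finite S] (hS : IsPGroup p S) (hF : F.IsSaturated p)
    (hd : p ^ d ≤ Nat.card S)
    (hW : ∀ Q ≤ S, Nat.card Q = p ^ d → ∃ A, F.StronglyClosed A ∧ F.StronglyClosed (Q ⊔ A) ∧
      F.StronglyClosed (Q ⊓ A))
    (hN : ∀ H (hHS : H ≤ S), S ≤ Subgroup.normalizer (H : Set Ω) → Nat.card H = p ^ d →
      ∀ P f, Mor (normSys F H hHS) P f → ∃ s ∈ S, ∀ x ∈ P, f x = s * x * s⁻¹) :
    F.autGroup S ≤ Inn S := by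
  haveI : Finite (MulAut S) := finite_mulAut
  refine (autGroup_top_eq_Inn hS hF (isPGroup_of_coprime_trivial fun a ha => ?_)).le
  set α : MulAut S := (a : MulAut S) with hα
  have hαF : α ∈ F.autGroup S := a.2
  have hαm := mor_autFun le_rfl hαF
  have hc : (orderOf α).Coprime p := by rw [hα, Subgroup.orderOf_coe]; exact ha
  have hsc : ∀ A, F.StronglyClosed A → A ≤ S ∧ (∀ s ∈ S, ∀ u ∈ A, s * u * s⁻¹ ∈ A) ∧
      ∀ u ∈ A, autFun α u ∈ A := fun A hA =>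
    ⟨hA.1, fun s hs u hu => sc_conj hA hs hu, fun u hu => sc_apply hA hαm (hA.1 hu) hu⟩
  obtain ⟨H, ⟨hHS, hHn, hHα⟩, -, -, hHc⟩ := lemA (d := d) hS
    (L := fun U => U ≤ S ∧ (∀ s ∈ S, ∀ u ∈ U, s * u * s⁻¹ ∈ U) ∧ ∀ u ∈ U, autFun α u ∈ U)
    (fun U hU => hU.1) (fun U hU => hU.2.1) (by
      rintro U V ⟨u1, u2, u3⟩ ⟨v1, v2, v3⟩
      refine ⟨sup_le u1 v1, fun s hs x hx => ?_, fun x hx => ?_⟩
      · obtain ⟨u, hu, v, hv, rfl⟩ := mem_sup_n (fun b hb a ha => u2 b (v1 hb) a ha) hx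
        have : s * (u * v) * s⁻¹ = (s * u * s⁻¹) * (s * v * s⁻¹) := by group
        rw [this]
        exact mul_mem (Subgroup.mem_sup_left (u2 s hs u hu)) (Subgroup.mem_sup_right (v2 s hs v hv))
      · obtain ⟨u, hu, v, hv, rfl⟩ := mem_sup_n (fun b hb a ha => u2 b (v1 hb) a ha) hx
        rw [hαm.mul (u1 hu) (v1 hv)]
        exact mul_mem (Subgroup.mem_sup_left (u3 u hu)) (Subgroup.mem_sup_right (v3 v hv)))
    (by
      rintro U V ⟨u1, u2, u3⟩ ⟨v1, v2, v3⟩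
      exact ⟨inf_le_left.trans u1, fun s hs x hx => ⟨u2 s hs x hx.1, v2 s hs x hx.2⟩,
        fun x hx => ⟨u3 x hx.1, v3 x hx.2⟩⟩)
    (U₀ := ⊥) (hsc _ sc_bot)
    (fun Q hQ hQc => by
      obtain ⟨A, h1, h2, h3⟩ := hW Q hQ hQc
      exact ⟨A, hsc _ h1, hsc _ h2, hsc _ h3⟩)
    (T' := S) ⟨le_rfl, fun s hs u hu => mul_mem (mul_mem hs hu) (inv_mem hs), fun u hu => autFun_mem _ hu⟩
    bot_le (by rw [Subgroup.card_bot]; exact Nat.one_le_pow _ _ (Fact.out : p.Prime).pos) hd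
  haveI : Finite H := finite_of_le hHS
  have hHnn : S ≤ Subgroup.normalizer (H : Set Ω) := fun s hs =>
    mem_normalizer_of_finite fun x hx => hHn s hs x hx
  have hHim : img H (autFun α) = H := by
    apply eq_of_le_of_card (img_le_iff.2 hHα)
    rw [(hαm.mono hHS).card_img]
  have hHS' : normalizerIn S H = S := le_antisymm normalizerIn_le fun s hs => ⟨hs, hHnn hs⟩
  obtain ⟨s, hs, h1⟩ := hN H hHS hHnn hHc S (autFun α) (by
    rw [mor_normSys]
    refine ⟨by rw [hHS'], fun x hx => by rw [hHS']; exact autFun_mem _ hx, autFun α, ?_,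
      fun x _ => rfl, hHim⟩
    rw [sup_eq_left.2 hHS]; exact hαm)
  have h2 := pprime_triv_mod (p := p) hS (sc_bot (F := F)) le_rfl hαF hc hs fun x hx =>
    ⟨1, one_mem _, by rw [h1 x hx, mul_one]⟩
  apply Subtype.ext
  apply mulAut_ext
  intro x hx
  have h3 := h2 x hx
  rw [Subgroup.mem_bot, inv_mul_eq_one] at h3
  rw [Subgroup.coe_one, autFun_one hx]
  exact h3.symm

/-- Small normal subgroups are central. -/
theorem central_small [Fact p.Prime] [Finite S] (hS : IsPGroup p S) {N : Subgroup Ω} (hNS : N ≤ S)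
    (hNn : ∀ s ∈ S, ∀ u ∈ N, s * u * s⁻¹ ∈ N) (hc : Nat.card N ≤ p) :
    ∀ s ∈ S, ∀ u ∈ N, s * u = u * s := by
  intro s hs u hu
  set K : Subgroup ↥S := N.subgroupOf S with hK
  haveI : K.Normal := ⟨fun n hn g => hNn g g.2 n hn⟩
  haveI := hS.isNilpotent
  have hle : ⁅K, (⊤ : Subgroup ↥S)⁆ ≤ K := Subgroup.commutator_le_left _ _
  have hKc : Nat.card K = Nat.card N := Nat.card_congr (Subgroup.subgroupOfEquivOfLe hNS).toEquiv
  rcases eq_or_lt_of_le hle with h1 | h1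
  · have h2 : K ≤ (⊥ : Subgroup ↥S) := le_of_le_sup_commutator (by rw [h1]; exact le_sup_right)
    have h3 : (⟨u, hNS hu⟩ : ↥S) ∈ K := hu
    have h4 := h2 h3
    rw [Subgroup.mem_bot] at h4
    have h5 : u = 1 := congrArg Subtype.val h4
    rw [h5]; group
  · have h2 : Nat.card ↥⁅K, (⊤ : Subgroup ↥S)⁆ < Nat.card K := by
      by_contra hcon
      exact h1.ne (Subgroup.eq_of_le_of_card_ge h1.le (not_lt.1 hcon))
    obtain ⟨n, hn⟩ := IsPGroup.iff_card.1 (hS.to_subgroup ⁅K, (⊤ : Subgroup ↥S)⁆)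
    rw [hn, hKc] at h2
    have hp1 := (Fact.out : p.Prime).one_lt
    have h3 : p ^ n < p ^ 1 := by rw [pow_one]; exact h2.trans_le hc
    have h4 := (Nat.pow_lt_pow_iff_right hp1).1 h3
    have h5 : n = 0 := by omega
    rw [h5, pow_zero] at hn
    have h6 := Subgroup.card_eq_one.1 hn
    have h7 := Subgroup.commutator_mem_commutator (H₁ := K) (H₂ := ⊤) (g₁ := ⟨u, hNS hu⟩) hu
      (Subgroup.mem_top (⟨s, hs⟩ : ↥S))
    rw [h6, Subgroup.mem_bot, commutatorElement_eq_one_iff_mul_comm] at h7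
    exact (congrArg Subtype.val h7).symm

/-- Lemma Z. -/
theorem lemZ [Fact p.Prime] [Finite S] (hS : IsPGroup p S) (hF : F.IsSaturated p)
    (hI : F.autGroup S ≤ Inn S) (hc : Nat.card (F.hyperfocalSubgroup p) ≤ p) :
    F.hyperfocalSubgroup p = ⊥ := by
  set L := F.hyperfocalSubgroup p with hL
  have hLsc : F.StronglyClosed L := hyp_stronglyClosed hS hF
  have hLS := hLsc.1
  haveI : Finite L := finite_of_le hLS
  have hcen := central_small hS hLS (fun s hs u hu => sc_conj hLsc hs hu) hc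
  have hLn : F.IsNormal L := normal_of_sc_abelian hS hF hLsc
    ⟨⟨fun a b => Subtype.ext (hcen a (hLS a.2) b b.2)⟩⟩
  rw [eq_bot_iff]
  apply hyp_le_of_pprime sc_bot
  intro P hP γ hγ hcop x hx
  haveI : Finite P := finite_of_le hP
  haveI : Finite (MulAut P) := finite_mulAut
  -- `γ` fixes `L ∩ P`
  have hfix : ∀ c ∈ L, c ∈ P → autFun γ c = c := by
    intro c hcL hcP
    obtain ⟨g, hg, h1, h2⟩ := (isNormal_iff.1 hLn).2 P _ (mor_autFun hP hγ)
    have hgL := hg.mono (le_sup_right : L ≤ P ⊔ L)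
    have hfn : F.IsFullyNormalized L := by
      rw [fullyNormalized_iff]
      haveI : Finite (normalizerIn S L) := finite_of_le normalizerIn_le
      exact ⟨hLS, fun f hf => card_le_of_le fun x hx => ⟨hx.1, sc_normalizer hLsc hx.1⟩⟩
    have hrec : F.IsReceptive (img L g) := by rw [h2]; exact FN.rec hS hF hfn
    obtain ⟨k, hk, h3⟩ := receptive_extend hrec hgL
    have hSN : S ≤ Nf S L g := by
      refine le_trans ?_ hgL.centralizer_le_Nf
      exact fun s hs => mem_centralizerIn.2 ⟨hs, fun y hy => hcen s hs y hy⟩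
    have hkS := hk.mono hSN
    obtain ⟨δ, hδ, h4⟩ := hkS.exists_aut (isConj_top hkS.isConj)
    obtain ⟨s, hs, h5⟩ := mem_Inn.1 (hI hδ)
    rw [← h1 c hcP, ← h3 c hcL, ← h4 c (hLS hcL), h5 c (hLS hcL), hcen s hs c hcL]
    group
  have hγr : (⟨γ, hγ⟩ : F.autGroup P) ∈ pResidual p (F.autGroup P) :=
    Subgroup.subset_closure (by
      show (orderOf (⟨γ, hγ⟩ : F.autGroup P)).Coprime p
      rw [← Subgroup.orderOf_coe]; exact hcop)
  have hcL := hyp_mem hP hγr hx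
  have hcP : x⁻¹ * autFun γ x ∈ P := mul_mem (inv_mem hx) (autFun_mem _ hx)
  obtain ⟨m, hm⟩ := isPGroup_pow_one hS (hP hcP)
  have h1 : autFun (γ ^ p ^ m) x = x := by
    rw [autFun_pow_of_fix hx hcP (by rw [mul_inv_cancel_left]) (hfix _ hcL hcP), hm, mul_one]
  obtain ⟨l, hl⟩ := coprime_pow_eq hcop m
  have h2 : ∀ n : ℕ, autFun ((γ ^ p ^ m) ^ n) x = x := by
    intro n
    induction n with
    | zero => rw [pow_zero, autFun_one hx]
    | succ n ih => rw [pow_succ', autFun_mul _ _ hx, ih, h1]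
  have h3 := h2 l
  rw [hl] at h3
  rw [h3, inv_mul_cancel]; exact one_mem _

end

end Cfsg.Agent.H28
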