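import Mathlib
import Cfsg.Prelude.Def_FusionSystem
import Cfsg.Prelude.Def_FusionReduction
import Cfsg.Agent.H28.WEmb

/-!
Weakly embedded subgroups of one order: the conclusion.
-/

set_option autoImplicit false
open Cfsg Cfsg.FusionSystem

namespace Cfsg.Agent.H28

universe u

section
variable {Ω : Type u} [Group Ω] {S T : Subgroup Ω} {F : FusionSystem S} {P Q R H : Subgroup Ω}
  {f g : Ω → Ω} {p d : ℕ}

theorem exists_factor_sc [Fact p.Prime] [Finite S] (hS : IsPGroup p S) (hF : F.IsSaturated p)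
    (hsc : F.StronglyClosed Q) : ∃ (Ω' : Type u) (_ : Group Ω') (S' : Subgroup Ω') (θ : S →* Ω')
      (E : FusionSystem S'), F.IsFactorSystem Q θ E ∧ E.IsSaturated p ∧ IsPGroup p S' ∧ Finite S' := by
  have hQS := hsc.1
  have hN := sc_normalizer hsc
  haveI hQn : (Q.subgroupOf S).Normal := ⟨fun q hq s =>
    (Subgroup.mem_normalizer_iff.1 (hN s.2) (q : Ω)).1 hq⟩
  have hk : ∀ x ∈ S, tf (QuotientGroup.mk' (Q.subgroupOf S)) x = 1 ↔ x ∈ Q := by
    intro x hx
    rw [tf_apply _ hx]
    exact (QuotientGroup.eq_one_iff _)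
  have hE := factorSys_isFactor (F := F) hsc hk
  set θ := QuotientGroup.mk' (Q.subgroupOf S) with hθdef
  set E := factorSys F Q hsc θ hk with hEdef
  haveI : Finite θ.range := Finite.of_surjective θ.rangeRestrict θ.rangeRestrict_surjective
  have hS' : IsPGroup p θ.range := hS.of_surjective θ.rangeRestrict θ.rangeRestrict_surjective
  have hE' : E.IsSaturated p := surj_saturated hS hF (factor_surj hS hF hsc hE)
  exact ⟨_, inferInstance, θ.range, θ, E, hE, hE', hS', inferInstance⟩

theorem sc_inter {A B : Subgroup Ω} (hA : F.StronglyClosed A) (hB : F.StronglyClosed B) :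
    F.StronglyClosed (A ⊓ B) := by
  rw [stronglyClosed_iff]
  exact ⟨inf_le_left.trans hA.1, fun R f hR hf x hx =>
    ⟨sc_apply hA hf hx (hR hx).1, sc_apply hB hf hx (hR hx).2⟩⟩

theorem hyp_inner [Fact p.Prime] [Finite S] (hS : IsPGroup p S) :
    (innerFusionSystem S).hyperfocalSubgroup p = ⊥ := by
  rw [eq_bot_iff]
  apply hyp_le_of_pprime sc_bot
  intro P hP γ hγ hc
  obtain ⟨-, s, hs, h1⟩ := mor_inner.1 (mor_autFun hP hγ)
  exact pprime_triv_mod hS sc_bot hP hγ hc hs fun x hx => ⟨1, one_mem _, by rw [h1 x hx, mul_one]⟩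

/-- The main theorem. -/
theorem wemb_main [Fact p.Prime] [Finite S] (hS : IsPGroup p S) (hF : F.IsSaturated p)
    (hd1 : 1 ≤ d) (hd : p ^ d < Nat.card S)
    (hW : ∀ Q ≤ S, Nat.card Q = p ^ d → ∃ A, F.StronglyClosed A ∧ F.StronglyClosed (Q ⊔ A) ∧
      F.StronglyClosed (Q ⊓ A))
    (hN : ∀ H (hHS : H ≤ S), S ≤ Subgroup.normalizer (H : Set Ω) → Nat.card H = p ^ d →
      ∀ P f, Mor (normSys F H hHS) P f → ∃ s ∈ S, ∀ x ∈ P, f x = s * x * s⁻¹) :
    F.hyperfocalSubgroup p = ⊥ := by
  classical
  by_contra hne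
  have hp1 := (Fact.out : p.Prime).one_lt
  have hppos := (Fact.out : p.Prime).pos
  set K := F.hyperfocalSubgroup p with hK
  have hKsc : F.StronglyClosed K := hyp_stronglyClosed hS hF
  have hKS := hKsc.1
  haveI : Finite K := finite_of_le hKS
  obtain ⟨T, ⟨hT, hTK⟩, hTmax⟩ := exists_max (S := S) (Pr := fun U => F.StronglyClosed U ∧ ¬ K ≤ U)
    (fun U hU => hU.1.1) (U₀ := ⊥) ⟨sc_bot, fun h => hne (le_bot_iff.1 h)⟩
  have hTS := hT.1
  haveI : Finite T := finite_of_le hTS
  have hTn : ∀ s ∈ S, ∀ u ∈ T, s * u * s⁻¹ ∈ T := fun s hs u hu => sc_conj hT hs hu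
  -- `|T| < p ^ d`
  have hTc : Nat.card T < p ^ d := by
    by_contra hcon
    push Not at hcon
    obtain ⟨H, hH, -, hHT, hHc⟩ := lemA (d := d) hS (L := fun U => F.StronglyClosed U)
      (fun U hU => hU.1) (fun U hU s hs u hu => sc_conj hU hs hu) (fun U V hU hV => sc_sup hS hF hU hV)
      (fun U V hU hV => sc_inter hU hV) (U₀ := ⊥) sc_bot hW hT bot_le
      (by rw [Subgroup.card_bot]; exact Nat.one_le_pow _ _ hppos) hcon
    exact hTK ((lemB hS hF hH (hN H hH.1 (sc_normalizer hH) hHc)).trans hHT)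
  have hTm : ∀ U, F.StronglyClosed U → T ≤ U → ¬ K ≤ U → U = T := by
    intro U hU hTU hKU
    haveI : Finite U := finite_of_le hU.1
    exact (eq_of_le_of_card hTU (hTmax U ⟨hU, hKU⟩)).symm
  -- the key property
  have hstar : ∀ Q ≤ S, T ≤ Q → Nat.card Q = p ^ d → ¬ K ≤ Q → Q ⊓ K ≤ T := by
    intro Q hQS hTQ hQc hKQ
    obtain ⟨A, hA, hQA, hQiA⟩ := hW Q hQS hQc
    have h1 : Q ⊓ A ≤ T := by
      have h2 := hTm _ (sc_sup hS hF hQiA hT) le_sup_right
        (fun h => hKQ (h.trans (sup_le inf_le_left hTQ)))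
      rw [← h2]; exact le_sup_left
    by_cases h2 : K ≤ A ⊔ T
    · rintro x ⟨hxQ, hxK⟩
      obtain ⟨a, ha, t, ht, e⟩ := mem_sup_n (A := A) (B := T)
        (fun b hb a ha => sc_conj hA (hTS hb) ha) (h2 hxK)
      have h3 : a ∈ Q := by
        have : a = x * t⁻¹ := by rw [← e]; group
        rw [this]; exact mul_mem hxQ (inv_mem (hTQ ht))
      rw [← e]
      exact mul_mem (h1 ⟨h3, ha⟩) ht
    · exfalso
      have h3 := hTm _ (sc_sup hS hF hA hT) le_sup_right h2
      have h4 : A ≤ T := by rw [← h3]; exact le_sup_left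
      have h5 : Q ⊔ A = Q := sup_eq_left.2 (h4.trans hTQ)
      rw [h5] at hQA
      have h6 := hTm Q hQA hTQ hKQ
      rw [h6] at hQc
      omega
  -- the factor system
  obtain ⟨Ω', _, S', θ, E, hE, hEs, hS', _⟩ := exists_factor_sc hS hF hT
  have hr := hE.2.2.1
  have hEhyp := H13.hyp_factor (F := F) (E' := E) hS (factor_surj hS hF hT hE) hr
  have hne' : E.hyperfocalSubgroup p ≠ ⊥ := by
    intro h
    apply hTK
    intro k hk
    rw [hEhyp] at h
    have h1 : tf θ k ∈ ((F.hyperfocalSubgroup p).subgroupOf S).map θ := by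
      rw [tf_apply θ (hKS hk)]
      exact ⟨⟨k, hKS hk⟩, hk, rfl⟩
    rw [h, Subgroup.mem_bot] at h1
    exact (factor_ker hE (hKS hk)).1 h1
  by_cases hM : ∃ M ≤ S, T ≤ M ∧ M < S ∧ (∀ L, M < L → L ≤ S → L = S) ∧ ¬ K ≤ M
  · obtain ⟨M, hMS, hTM, hMlt, hMmax, hKM⟩ := hM
    haveI : Finite M := finite_of_le hMS
    obtain ⟨m, hm⟩ := IsPGroup.iff_card.1 (isPGroup_of_le hS hMS)
    obtain ⟨n, hn⟩ := IsPGroup.iff_card.1 hS
    obtain ⟨t, ht⟩ := IsPGroup.iff_card.1 (isPGroup_of_le hS hTS)
    have hmn : m < n := by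
      have := card_lt_of_lt' hMlt
      rw [hm, hn] at this
      exact (Nat.pow_lt_pow_iff_right hp1).1 this
    -- the index of `M` is `p`
    have hMn : n = m + 1 := by
      obtain ⟨L, hML, hLS, hLc⟩ := exists_between (d := m + 1) hS hMS le_rfl
        (by rw [hm]; exact Nat.pow_le_pow_right hppos (by omega))
        (by rw [hn]; exact Nat.pow_le_pow_right hppos (by omega))
      have h1 : M ≠ L := by
        intro h
        rw [← h, hm] at hLc
        have := Nat.pow_right_injective (Fact.out : p.Prime).two_le hLc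
        omega
      have h2 := hMmax L (lt_of_le_of_ne hML h1) hLS
      rw [h2, hn] at hLc
      exact Nat.pow_right_injective (Fact.out : p.Prime).two_le hLc
    have hdn : d < n := by
      rw [hn] at hd; exact (Nat.pow_lt_pow_iff_right hp1).1 hd
    have htd : t < d := by
      rw [ht] at hTc; exact (Nat.pow_lt_pow_iff_right hp1).1 hTc
    have hMK : M ⊓ K ≤ T := by
      by_contra hcon
      set J : Subgroup Ω := (M ⊓ K) ⊔ T with hJ
      have hJM : J ≤ M := sup_le inf_le_left hTM
      have hTJ : T < J := by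
        refine lt_of_le_of_ne le_sup_right fun h => hcon ?_
        rw [h]; exact le_sup_left
      haveI : Finite J := finite_of_le (hJM.trans hMS)
      have h1 := card_lt_of_lt' hTJ
      obtain ⟨j, hj⟩ := IsPGroup.iff_card.1 (isPGroup_of_le hS (hJM.trans hMS))
      rw [hj, ht] at h1
      have h2 := (Nat.pow_lt_pow_iff_right hp1).1 h1
      obtain ⟨Q₁, hTQ₁, hQ₁J, hQ₁c⟩ := exists_between (d := t + 1) hS hTJ.le (hJM.trans hMS)
        (by rw [ht]; exact Nat.pow_le_pow_right hppos (by omega))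
        (by rw [hj]; exact Nat.pow_le_pow_right hppos (by omega))
      obtain ⟨Q, hQ₁Q, hQM, hQc⟩ := exists_between (d := d) hS (hQ₁J.trans hJM) hMS
        (by rw [hQ₁c]; exact Nat.pow_le_pow_right hppos (by omega))
        (by rw [hm]; exact Nat.pow_le_pow_right hppos (by omega))
      have h3 := hstar Q (hQM.trans hMS) (hTQ₁.trans hQ₁Q) hQc (fun h => hKM (h.trans hQM))
      have h4 : ¬ Q₁ ≤ T := by
        intro h
        have h5 : Q₁ = T := le_antisymm h hTQ₁
        rw [h5, ht] at hQ₁c
        have := Nat.pow_right_injective (Fact.out : p.Prime).two_le hQ₁c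
        omega
      apply h4
      intro y hy
      obtain ⟨k, hk, u, hu, e⟩ := mem_sup_n (A := M ⊓ K) (B := T)
        (fun b hb a ha => ⟨mul_mem (mul_mem (hTM hb) ha.1) (M.inv_mem (hTM hb)), sc_conj hKsc (hTS hb) ha.2⟩)
        (hQ₁J hy)
      have h5 : k ∈ Q := by
        have : k = y * u⁻¹ := by rw [← e]; group
        rw [this]; exact mul_mem (hQ₁Q hy) (inv_mem (hQ₁Q (hTQ₁ hu)))
      rw [← e]
      exact mul_mem (h3 ⟨h5, hk.2⟩) hu
    -- `|hyp(E)| ≤ p`
    have hcard : Nat.card (E.hyperfocalSubgroup p) ≤ p := by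
      let κ : K →* Ω' := θ.comp (Subgroup.inclusion hKS)
      have h1 : κ.range = E.hyperfocalSubgroup p := by
        rw [hEhyp]
        ext y
        constructor
        · rintro ⟨k, rfl⟩
          exact ⟨⟨k, hKS k.2⟩, k.2, rfl⟩
        · rintro ⟨x, hx, rfl⟩
          exact ⟨⟨x, hx⟩, rfl⟩
      have h2 : M.subgroupOf K ≤ κ.ker := by
        intro k hk
        rw [MonoidHom.mem_ker]
        show θ ⟨k, hKS k.2⟩ = 1
        rw [← tf_apply θ (hKS k.2)]
        exact (factor_ker hE (hKS k.2)).2 (hMK ⟨hk, k.2⟩)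
      rw [← h1, ← Subgroup.index_ker]
      have h3 : κ.ker.index ≤ (M.subgroupOf K).index := by
        apply Nat.le_of_dvd (Nat.pos_of_ne_zero Subgroup.index_ne_zero_of_finite)
        exact Subgroup.index_dvd_of_le h2
      refine h3.trans ?_
      have h4 : (M.subgroupOf K).index ≤ (M.subgroupOf S).index :=
        Finite.card_le_of_embedding (Subgroup.quotientSubgroupOfEmbeddingOfLE M hKS)
      refine h4.trans ?_
      have h5 := Subgroup.card_mul_index (M.subgroupOf S)
      rw [Nat.card_congr (Subgroup.subgroupOfEquivOfLe hMS).toEquiv, hm, hn, hMn, pow_succ] at h5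
      exact (Nat.eq_of_mul_eq_mul_left (pow_pos hppos m) h5).le
    apply hne'
    apply lemZ hS' hEs ?_ hcard
    -- `Aut_E(S') ≤ Inn(S')`
    have hI := top_inner hS hF hd.le hW hN
    intro δ hδ
    obtain ⟨-, f, hf, h1⟩ := (factor_mor_iff hE).1 (mor_autFun le_rfl hδ)
    have hpre : preimageAlong θ S' = S := by
      apply le_antisymm preimageAlong_le
      intro x hx
      exact mem_preimageAlong.2 ⟨hx, by rw [← hr]; exact tf_mem_range hx⟩
    rw [hpre] at hf h1
    obtain ⟨γ, hγ, h2⟩ := hf.exists_aut (isConj_top hf.isConj)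
    obtain ⟨s, hs, h3⟩ := mem_Inn.1 (hI hγ)
    refine mem_Inn.2 ⟨tf θ s, by rw [← hr]; exact tf_mem_range hs, fun y hy => ?_⟩
    rw [← hr] at hy
    obtain ⟨⟨x, hx⟩, rfl⟩ := hy
    have h4 : θ ⟨x, hx⟩ = tf θ x := (tf_apply θ hx).symm
    rw [h4, h1 x hx, ← h2 x hx, h3 x hx, tf_conj hs hx]
  · push Not at hM
    apply hne'
    have hin : E = innerFusionSystem S' := by
      apply inner_of_frattini hS' hEs
      rw [foc_eq hS' hEs]
      refine sup_le ?_ (derived_le_frattini hS')
      intro y hy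
      have hyS : y ∈ S' := hyp_le hy
      refine ⟨⟨y, hyS⟩, ?_, rfl⟩
      show (⟨y, hyS⟩ : S') ∈ frattini ↥S'
      unfold frattini Order.radical
      simp only [Subgroup.mem_iInf]
      intro M' hM'
      have hM'c : IsCoatom M' := hM'
      set MM : Subgroup Ω' := M'.map S'.subtype with hMM
      have hMMS : MM ≤ S' := Subgroup.map_subtype_le _
      have hTpre : T ≤ preimageAlong θ MM := factor_le_preimage hE
      have himp : imageAlong θ (preimageAlong θ MM) = MM := imageAlong_preimageAlong hr hMMS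
      have hMMne : MM ≠ S' := by
        intro h
        apply hM'c.1
        rw [eq_top_iff]
        intro z _
        have h1 : (z : Ω') ∈ MM := by rw [h]; exact z.2
        obtain ⟨w, hw, e⟩ := h1
        have h2 : w = z := Subtype.ext e
        rw [← h2]; exact hw
      have hpre : preimageAlong θ S' = S := by
        apply le_antisymm preimageAlong_le
        intro x hx
        exact mem_preimageAlong.2 ⟨hx, by rw [← hr]; exact tf_mem_range hx⟩
      have himS : imageAlong θ S = S' := by
        have h0 : imageAlong θ (preimageAlong θ S') = S' := imageAlong_preimageAlong hr le_rfl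
        rw [hpre] at h0
        exact h0
      have hlt : preimageAlong θ MM < S := by
        refine lt_of_le_of_ne preimageAlong_le fun h => hMMne ?_
        rw [← himp, h, himS]
      have hKle := hM (preimageAlong θ MM) preimageAlong_le hTpre hlt (by
        intro L hL hLS
        have hTL : T ≤ L := hTpre.trans hL.le
        have h1 : preimageAlong θ (imageAlong θ L) = L := factor_preimage_image hE hLS hTL
        have himLS : imageAlong θ L ≤ S' := by rw [← hr]; exact imageAlong_le_range
        have h2 : M' < (imageAlong θ L).subgroupOf S' := by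
          refine lt_of_le_of_ne ?_ ?_
          · intro z hz
            have h3 : (z : Ω') ∈ MM := ⟨z, hz, rfl⟩
            rw [← himp] at h3
            obtain ⟨x, hxS, hx, e⟩ := mem_imageAlong.1 h3
            show (z : Ω') ∈ imageAlong θ L
            rw [← e]
            exact tf_mem_imageAlong hLS (hL.le hx)
          · intro h
            apply hL.ne
            rw [← h1]
            congr 1
            rw [hMM, h, Subgroup.subgroupOf_map_subtype]
            exact inf_eq_left.2 himLS
        have h3 := hM'c.2 _ h2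
        rw [Subgroup.subgroupOf_eq_top] at h3
        rw [← h1, le_antisymm himLS h3, hpre])
      rw [hEhyp] at hy
      obtain ⟨x, hx, rfl⟩ := hy
      have h1 := (mem_preimageAlong.1 (hKle hx)).2
      obtain ⟨w, hw, e⟩ := h1
      have h2 : w = ⟨θ x, hyS⟩ := by
        apply Subtype.ext
        have h3 : tf θ (x : Ω) = θ x := tf_coe θ x
        exact (e : (w : Ω') = tf θ (x : Ω)).trans h3
      rw [← h2]; exact hw
    rw [hin]
    exact hyp_inner hS'

end

end Cfsg.Agent.H28
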